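import Groth.Agent.Lib.Regular.Serre
import Mathlib.Algebra.Category.ModuleCat.EnoughInjectives
import Mathlib.Algebra.Category.ModuleCat.Injective
import Mathlib.CategoryTheory.Abelian.Injective.Dimension
import Mathlib.Algebra.Homology.ShortComplex.ModuleCat
import Mathlib.Algebra.Category.ModuleCat.Ext.DimensionShifting

/-! Auslander: projective dimension is bounded by that of the cyclic modules. -/

open CategoryTheory Abelian

namespace Groth.Agent.H22.GlobalDim

universe u

variable {R : Type u} [CommRing R]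

theorem injective_of_ext_one (N : ModuleCat.{u} R)
    (h : ∀ J : Ideal R, Subsingleton (Ext (ModuleCat.of R (R ⧸ J)) N 1)) : Injective N := by
  rw [← Module.injective_iff_injective_object]
  refine Module.Baer.injective fun J f => ?_
  let S : ShortComplex (ModuleCat.{u} R) :=
    ModuleCat.shortComplexOfCompEqZero (Submodule.subtype J) (Submodule.mkQ J)
      (LinearMap.exact_subtype_mkQ J).linearMap_comp_eq_zero
  have hS : S.ShortExact := ModuleCat.shortComplex_shortExact S
    (LinearMap.exact_subtype_mkQ J) (Submodule.subtype_injective J) (Submodule.mkQ_surjective J)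
  have := h J
  obtain ⟨x₂, hx⟩ := Ext.contravariant_sequence_exact₁ hS N
    (Ext.mk₀ (ModuleCat.ofHom f : S.X₁ ⟶ N)) (n₁ := 1) rfl (Subsingleton.elim (α := Ext (ModuleCat.of R (R ⧸ J)) N 1) _ _)
  obtain ⟨g, rfl⟩ := (Ext.mk₀_bijective _ _).2 x₂
  rw [Ext.mk₀_comp_mk₀] at hx
  have := (Ext.mk₀_bijective _ _).1 hx
  exact ⟨g.hom, fun x hx => LinearMap.congr_fun (congrArg ModuleCat.Hom.hom this) ⟨x, hx⟩⟩

theorem hasInjectiveDimensionLT_of_cyclic : ∀ (d : ℕ) (N : ModuleCat.{u} R),
    (∀ J : Ideal R, Subsingleton (Ext (ModuleCat.of R (R ⧸ J)) N (d + 1))) →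
      HasInjectiveDimensionLT N (d + 1)
  | 0, N, h => by
    have := injective_of_ext_one N h
    infer_instance
  | d + 1, N, h => by
    obtain ⟨p⟩ := EnoughInjectives.presentation N
    have hS : (ShortComplex.mk p.f (Limits.cokernel.π p.f) (Limits.cokernel.condition p.f)).ShortExact :=
      { exact := ShortComplex.exact_cokernel p.f }
    refine hS.hasInjectiveDimensionLT_X₁ (d + 1)
      (hasInjectiveDimensionLT_of_cyclic d _ fun J => ?_) inferInstance
    refine subsingleton_of_forall_eq 0 fun x => ?_
    have := h J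
    obtain ⟨x₂, rfl⟩ := Ext.covariant_sequence_exact₃ _ hS x (n₁ := d + 2) rfl
      (Subsingleton.elim (α := Ext (ModuleCat.of R (R ⧸ J)) N (d + 1 + 1)) _ _)
    rw [Ext.eq_zero_of_injective x₂, Ext.zero_comp]

theorem hasProjectiveDimensionLT_of_cyclic (d : ℕ)
    (h : ∀ J : Ideal R, HasProjectiveDimensionLT (ModuleCat.of R (R ⧸ J)) (d + 1))
    (M : ModuleCat.{u} R) : HasProjectiveDimensionLT M (d + 1) := by
  rw [hasProjectiveDimensionLT_iff]
  intro i hi Y e
  have := hasInjectiveDimensionLT_of_cyclic d Y fun J => by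
    have := h J
    exact HasProjectiveDimensionLT.subsingleton _ (d + 1) (d + 1) le_rfl Y
  exact e.eq_zero_of_hasInjectiveDimensionLT (d + 1) hi

theorem hasProjectiveDimensionLT_regular [IsRegularLocalRing R] (d : ℕ)
    (hd : ringKrullDim R = d) (M : Type u) [AddCommGroup M] [Module R M] :
    HasProjectiveDimensionLT (ModuleCat.of R M) (d + 1) := by
  have he : (IsLocalRing.maximalIdeal R).spanFinrank = d := by
    have := IsRegularLocalRing.spanFinrank_maximalIdeal (R := R)
    rw [hd] at this
    exact_mod_cast this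
  refine hasProjectiveDimensionLT_of_cyclic d (fun J => ?_) _
  have := Lib.Regular.Serre.pdle_all (R := R) (R ⧸ J)
  rw [he] at this
  exact this

end Groth.Agent.H22.GlobalDim
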