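import Mathlib.RingTheory.Spectrum.Prime.Module
import Mathlib.RingTheory.Spectrum.Prime.Topology
import Mathlib.RingTheory.LocalRing.Module
import Mathlib.RingTheory.LocalRing.ResidueField.Ideal
import Mathlib.Algebra.Module.FinitePresentation
import Mathlib.RingTheory.Flat.FaithfullyFlat.Basic
import Mathlib.Algebra.MvPolynomial.Basic

/-! Support of base changes; quasi-compactness of the complement of the support of an fp module. -/

open TensorProduct Module

namespace Groth.Agent.H22.SupportBC

universe u v

variable {R : Type u} [CommRing R] {R' : Type v} [CommRing R'] [Algebra R R']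

theorem nontrivial_tensor_fields (K L : Type*) [Field K] [Field L] [Algebra R K] [Algebra R L]
    [Algebra K L] [IsScalarTower R K L] (M : Type*) [AddCommGroup M] [Module R M] :
    Nontrivial (L ⊗[R] M) ↔ Nontrivial (K ⊗[R] M) := by
  rw [← (AlgebraTensorModule.cancelBaseChange R K K L M).nontrivial_congr]
  exact Module.FaithfullyFlat.nontrivial_tensorProduct_iff_right K L

theorem mem_support_iff_field (M : Type*) [AddCommGroup M] [Module R M] [Module.Finite R M]
    (L : Type*) [Field L] [Algebra R L] (p : PrimeSpectrum R)
    (hp : RingHom.ker (algebraMap R L) = p.asIdeal) :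
    p ∈ Module.support R M ↔ Nontrivial (L ⊗[R] M) := by
  rw [Module.mem_support_iff_nontrivial_residueField_tensorProduct]
  let φ := Ideal.ResidueField.lift p.asIdeal (algebraMap R L) (le_of_eq hp.symm) (fun r hr => by
    refine Ne.isUnit fun h => ?_
    exact hr (hp ▸ h : r ∈ p.asIdeal))
  let _ := φ.toAlgebra
  have : IsScalarTower R p.asIdeal.ResidueField L := IsScalarTower.of_algebraMap_eq fun r =>
    (Ideal.ResidueField.lift_algebraMap _ _ _ _ r).symm
  exact (nontrivial_tensor_fields p.asIdeal.ResidueField L M).symm

theorem support_baseChange (M : Type*) [AddCommGroup M] [Module R M] [Module.Finite R M] :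
    Module.support R' (R' ⊗[R] M) =
      PrimeSpectrum.comap (algebraMap R R') ⁻¹' Module.support R M := by
  ext q
  rw [Set.mem_preimage, Module.mem_support_iff_nontrivial_residueField_tensorProduct,
    (AlgebraTensorModule.cancelBaseChange R R' R' q.asIdeal.ResidueField M).nontrivial_congr]
  refine (mem_support_iff_field M q.asIdeal.ResidueField _ ?_).symm
  rw [IsScalarTower.algebraMap_eq R R' q.asIdeal.ResidueField, RingHom.ker_eq_comap_bot,
    ← Ideal.comap_comap, ← RingHom.ker_eq_comap_bot, Ideal.ker_algebraMap_residueField]
  rfl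

theorem isCompact_compl_support (M : Type*) [AddCommGroup M] [Module R M]
    [Module.FinitePresentation R M] : IsCompact (Module.support R M)ᶜ := by
  classical
  obtain ⟨n, m, f, g, hf, hex⟩ := Module.FinitePresentation.exists_fin' R M
  let k : Fin m → Fin n → R := fun l => g (Pi.single l 1)
  let J : Ideal (MvPolynomial (Fin m × Fin n) R) := Ideal.span (Set.range fun ij : Fin n × Fin n =>
    (∑ l : Fin m, MvPolynomial.C (k l ij.1) * MvPolynomial.X (l, ij.2)) - if ij.1 = ij.2 then 1 else 0)
  suffices (Module.support R M)ᶜ =
      Set.range (PrimeSpectrum.comap (algebraMap R (MvPolynomial (Fin m × Fin n) R ⧸ J))) by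
    rw [this]
    exact isCompact_range (PrimeSpectrum.continuous_comap _)
  -- over a field, vanishing of the base change is solvability of the equations
  have key : ∀ (L : Type u) [Field L] [Algebra R L],
      ¬ Nontrivial (L ⊗[R] M) ↔ ∃ x : Fin m → Fin n → L,
        ∀ i j, ∑ l, algebraMap R L (k l i) * x l j = if i = j then 1 else 0 := by
    intro L _ _
    have hg : g = Fintype.linearCombination R k := by
      refine LinearMap.pi_ext' fun l => LinearMap.ext_ring ?_
      simp [k, Fintype.linearCombination_apply, Pi.single_apply]
    let e := TensorProduct.piScalarRight R L L (Fin n)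
    let gL : (Fin m → L) →ₗ[L] (Fin n → L) :=
      Fintype.linearCombination L fun l i => algebraMap R L (k l i)
    have hgL : ∀ y, e ((g.baseChange L) y) =
        gL (TensorProduct.piScalarRight R L L (Fin m) y) := by
      intro y
      induction y with
      | zero => simp
      | add a b ha hb => simp only [map_add, ha, hb]
      | tmul a v =>
        ext i
        simp [e, hg, gL, Fintype.linearCombination_apply, Algebra.smul_def, map_sum,
          Finset.mul_sum, mul_assoc, mul_comm]
    have : ¬ Nontrivial (L ⊗[R] M) ↔ Function.Surjective gL := by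
      rw [not_nontrivial_iff_subsingleton]
      constructor
      · intro h y
        obtain ⟨z, hz⟩ := (lTensor_exact L hex hf (e.symm y)).1 (Subsingleton.elim _ _)
        refine ⟨TensorProduct.piScalarRight R L L (Fin m) z, ?_⟩
        rw [← hgL, show (g.baseChange L) z = e.symm y from hz, LinearEquiv.apply_symm_apply]
      · intro h
        refine subsingleton_of_forall_eq 0 fun x => ?_
        obtain ⟨y, rfl⟩ := LinearMap.lTensor_surjective L hf x
        obtain ⟨z, hz⟩ := h (e y)
        obtain ⟨z', rfl⟩ := (TensorProduct.piScalarRight R L L (Fin m)).surjective z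
        rw [← hgL] at hz
        exact (lTensor_exact L hex hf y).2 ⟨z', e.injective hz⟩
    rw [this]
    constructor
    · intro h
      choose x hx using fun j => h (Pi.single j (1 : L))
      refine ⟨fun l j => x j l, fun i j => ?_⟩
      have := congrFun (hx j) i
      simpa [gL, Fintype.linearCombination_apply, Pi.single_apply, mul_comm] using this
    · rintro ⟨x, hx⟩ y
      refine ⟨fun l => ∑ j, x l j * y j, funext fun i => ?_⟩
      simp only [gL, Fintype.linearCombination_apply, Finset.sum_apply, Pi.smul_apply, smul_eq_mul,
        Finset.sum_mul]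
      rw [Finset.sum_comm]
      have : ∀ j, ∑ l, x l j * y j * algebraMap R L (k l i) = (if i = j then 1 else 0) * y j := by
        intro j
        rw [← hx i j, Finset.sum_mul]
        exact Finset.sum_congr rfl fun l _ => by ring
      simp [this]
  ext p
  constructor
  · intro hp
    let L := p.asIdeal.ResidueField
    have hp' : ¬ Nontrivial (L ⊗[R] M) := fun h =>
      hp ((Module.mem_support_iff_nontrivial_residueField_tensorProduct p).2 h)
    obtain ⟨x, hx⟩ := (key L).1 hp'
    let φ := Ideal.Quotient.lift J (MvPolynomial.eval₂Hom (algebraMap R L) fun lj => x lj.1 lj.2) (by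
      intro a ha
      refine (Ideal.span_le (I := RingHom.ker
        (MvPolynomial.eval₂Hom (algebraMap R L) fun lj => x lj.1 lj.2))).2 ?_ ha
      rintro _ ⟨⟨i, j⟩, rfl⟩
      simp only [SetLike.mem_coe, RingHom.mem_ker, map_sub, map_sum, map_mul,
        MvPolynomial.eval₂Hom_C, MvPolynomial.eval₂Hom_X', sub_eq_zero, hx]
      split_ifs <;> simp)
    refine ⟨⟨RingHom.ker φ, RingHom.ker_isPrime φ⟩, PrimeSpectrum.ext ?_⟩
    have hc : φ.comp (algebraMap R _) = algebraMap R L := by
      ext r
      simp [φ, IsScalarTower.algebraMap_apply R (MvPolynomial (Fin m × Fin n) R) (_ ⧸ J)]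
    simp only [PrimeSpectrum.comap_asIdeal, RingHom.comap_ker, hc]
    exact Ideal.ker_algebraMap_residueField p.asIdeal
  · rintro ⟨q, rfl⟩ hmem
    let L := q.asIdeal.ResidueField
    rw [mem_support_iff_field M L (PrimeSpectrum.comap (algebraMap R _) q) (by
      rw [IsScalarTower.algebraMap_eq R (MvPolynomial (Fin m × Fin n) R ⧸ J) L,
        ← RingHom.comap_ker, Ideal.ker_algebraMap_residueField]
      rfl)] at hmem
    refine (key L).2 ⟨fun l j => algebraMap (MvPolynomial (Fin m × Fin n) R) L
      (MvPolynomial.X (l, j)), fun i j => ?_⟩ hmem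
    have h0 : algebraMap (MvPolynomial (Fin m × Fin n) R) L
        ((∑ l : Fin m, MvPolynomial.C (k l i) * MvPolynomial.X (l, j)) -
          if i = j then 1 else 0) = 0 := by
      rw [IsScalarTower.algebraMap_apply _ (MvPolynomial (Fin m × Fin n) R ⧸ J) L]
      rw [Ideal.Quotient.algebraMap_eq, Ideal.Quotient.eq_zero_iff_mem.2
        (Ideal.subset_span (Set.mem_range_self (i, j))), map_zero]
    rw [map_sub, sub_eq_zero, map_sum] at h0
    have h1 : ∀ l, algebraMap R L (k l i) =
        algebraMap (MvPolynomial (Fin m × Fin n) R) L (MvPolynomial.C (k l i)) := fun l => by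
      rw [← MvPolynomial.algebraMap_eq, ← IsScalarTower.algebraMap_apply]
    simp only [h1, ← map_mul]
    rw [h0]
    split_ifs <;> simp

end Groth.Agent.H22.SupportBC
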