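import Groth.Agent.Lib.QDepth.Sk
import Mathlib.RingTheory.Support
import Mathlib.LinearAlgebra.FreeModule.Finite.Matrix

/-!
Depth and Serre conditions of `Hom(M, N)`.
-/

universe u

open LocCoh IsLocalRing
open Groth.Agent.Lib.Depth

namespace Groth.Agent.H22.HomDepth

variable {R : Type u} [CommRing R] {M N : Type u} [AddCommGroup M] [Module R M]
  [Module.Finite R M] [AddCommGroup N] [Module R N] [IsNoetherianRing R]

/-- `0 → Hom(M,N) → N^b → N^(a+1)` from a presentation of `M`. -/
theorem exists_exact : ∃ (b a : ℕ) (F : (M →ₗ[R] N) →ₗ[R] (Fin b → N))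
    (G : (Fin b → N) →ₗ[R] (Fin (a + 1) → N)), Function.Injective F ∧ Function.Exact F G := by
  classical
  obtain ⟨b, π, hπ⟩ := Module.Finite.exists_fin' R M
  obtain ⟨a, π₀, hπ₀⟩ := Module.Finite.exists_fin' R (LinearMap.ker π)
  let π' : (Fin (a + 1) → R) →ₗ[R] LinearMap.ker π := π₀ ∘ₗ LinearMap.funLeft R R Fin.castSucc
  have hπ' : Function.Surjective π' :=
    hπ₀.comp (LinearMap.funLeft_surjective_of_injective R R _ (Fin.castSucc_injective a))
  let F : (M →ₗ[R] N) →ₗ[R] (Fin b → N) :=
    LinearMap.pi fun k => LinearMap.applyₗ (π (Pi.single k 1))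
  let rel : Fin (a + 1) → (Fin b → R) := fun i => (π' (Pi.single i 1) : Fin b → R)
  let G : (Fin b → N) →ₗ[R] (Fin (a + 1) → N) :=
    LinearMap.pi fun i => ∑ k, rel i k • LinearMap.proj k
  refine ⟨b, a, F, G, fun φ ψ h => ?_, fun w => ⟨fun hw => ?_, ?_⟩⟩
  · ext z
    obtain ⟨r, rfl⟩ := hπ z
    rw [pi_eq_sum_univ' r]
    simp only [map_sum, map_smul]
    exact Finset.sum_congr rfl fun k _ => congrArg (r k • ·) (congrFun h k)
  · let W : (Fin b → R) →ₗ[R] N := Fintype.linearCombination R w
    have h0 : W ∘ₗ (LinearMap.ker π).subtype ∘ₗ π' = 0 := by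
      ext i
      have h := congrFun hw i
      simpa [G, W, rel, Fintype.linearCombination_apply] using h
    have hker : LinearMap.ker π ≤ LinearMap.ker W := fun r hr => by
      obtain ⟨s, hs⟩ := hπ' ⟨r, hr⟩
      rw [LinearMap.mem_ker]
      have h := LinearMap.congr_fun h0 s
      simpa [hs] using h
    refine ⟨(LinearMap.ker π).liftQ W hker ∘ₗ (π.quotKerEquivOfSurjective hπ).symm.toLinearMap,
      funext fun k => ?_⟩
    have h' : (π.quotKerEquivOfSurjective hπ).symm (π (Pi.single k 1)) =
        Submodule.Quotient.mk (Pi.single k 1) := by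
      rw [LinearEquiv.symm_apply_eq]
      rfl
    simp [F, W, h', Fintype.linearCombination_apply_single]
  · rintro ⟨φ, rfl⟩
    ext i
    have h : π (rel i) = 0 := (π' (Pi.single i 1)).2
    rw [pi_eq_sum_univ' (rel i), map_sum] at h
    simp only [map_smul] at h
    simpa [G, F, map_sum, map_smul] using congrArg φ h

variable [Module.Finite R N]

theorem le_idealDepth_pi (I : Ideal R) {k : ℕ} (h : (k : ℕ∞) ≤ idealDepth I N) (n : ℕ) :
    (k : ℕ∞) ≤ idealDepth I (Fin n → N) := by
  induction n with
  | zero => rw [Basic.idealDepth_subsingleton (M := Fin 0 → N)]; exact le_top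
  | succ n ih =>
    let e : (Fin (n + 1) → N) ≃ₗ[R] N × (Fin n → N) := (Fin.consLinearEquiv R fun _ => N).symm
    rw [Basic.idealDepth_congr I e]
    exact SES.le_idealDepth_middle I (f := LinearMap.inl R N (Fin n → N))
      (g := LinearMap.snd R N (Fin n → N)) LinearMap.inl_injective
      Function.Exact.inl_snd LinearMap.snd_surjective h ih

theorem le_depth_localized_pi (p : Ideal R) [p.IsPrime] {j : ℕ}
    (h : (j : ℕ∞) ≤ depth (Localization.AtPrime p) (LocalizedModule p.primeCompl N)) (n : ℕ) :
    (j : ℕ∞) ≤ depth (Localization.AtPrime p) (LocalizedModule p.primeCompl (Fin n → N)) := by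
  induction n with
  | zero =>
    have : Subsingleton (LocalizedModule p.primeCompl (Fin 0 → N)) :=
      (LocalizedModule.subsingleton_iff (S := p.primeCompl)).mpr fun m =>
        ⟨1, p.primeCompl.one_mem, Subsingleton.elim _ _⟩
    rw [depth, Basic.idealDepth_subsingleton (M := LocalizedModule p.primeCompl (Fin 0 → N))]
    exact le_top
  | succ n ih =>
    let e : (Fin (n + 1) → N) ≃ₗ[R] N × (Fin n → N) := (Fin.consLinearEquiv R fun _ => N).symm
    let f' := e.symm.toLinearMap ∘ₗ LinearMap.inl R N (Fin n → N)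
    let g' := LinearMap.snd R N (Fin n → N) ∘ₗ e.toLinearMap
    have h1 : Function.Injective f' := e.symm.injective.comp LinearMap.inl_injective
    have h2 : Function.Surjective g' :=
      (LinearMap.snd_surjective (R := R) (M := N) (M₂ := Fin n → N)).comp e.surjective
    have h3 : Function.Exact f' g' := by
      intro y
      simp only [f', g', LinearMap.comp_apply, LinearEquiv.coe_coe, Set.mem_range,
        LinearMap.snd_apply, LinearEquiv.symm_apply_eq]
      exact ⟨fun hy => ⟨(e y).1, Prod.ext rfl hy.symm⟩, fun ⟨x, hx⟩ => by rw [← hx]; rfl⟩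
    exact SES.le_idealDepth_middle _ (f := LocalizedModule.map p.primeCompl f')
      (g := LocalizedModule.map p.primeCompl g') (LocalizedModule.map_injective p.primeCompl _ h1)
      (LocalizedModule.map_exact p.primeCompl _ _ h3)
      (LocalizedModule.map_surjective p.primeCompl _ h2) h ih

theorem support_pi_subset (n : ℕ) : Module.support R (Fin n → N) ⊆ Module.support R N := by
  rw [Module.support_eq_zeroLocus, Module.support_eq_zeroLocus]
  exact PrimeSpectrum.zeroLocus_anti_mono fun r hr => Module.mem_annihilator.2 fun x =>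
    funext fun k => Module.mem_annihilator.1 hr (x k)

theorem hasSk_pi {k : ℕ} (h : HasSk k R N) (n : ℕ) : HasSk k R (Fin n → N) := by
  refine Lib.QDepth.hasSk_of_forall fun p _ j hj hd => ?_
  refine le_depth_localized_pi p (Lib.QDepth.le_depth_of_hasSk h p hj (hd.trans ?_)) n
  rw [Module.supportDim, Module.supportDim]
  refine Order.krullDim_le_of_strictMono (fun q => ⟨q.1, ?_⟩) (fun a b h => h)
  exact (Lib.DMod.SupportDim.comap_mem_support_iff ⟨p, inferInstance⟩ N q.1).mpr
    (support_pi_subset n ((Lib.DMod.SupportDim.comap_mem_support_iff ⟨p, inferInstance⟩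
      (Fin n → N) q.1).mp q.2))

theorem depth_ge [IsLocalRing R] :
    (1 ≤ depth R N → 1 ≤ depth R (M →ₗ[R] N)) ∧ (2 ≤ depth R N → 2 ≤ depth R (M →ₗ[R] N)) := by
  obtain ⟨b, a, F, G, hF, hFG⟩ := exists_exact (R := R) (M := M) (N := N)
  refine ⟨fun h => Lib.QDepth.one_le_of_injective _ F hF ?_,
    fun h => Lib.QDepth.two_le_of_exact _ F G hF hFG ?_ ?_⟩
  · simpa using le_idealDepth_pi (k := 1) _ (by simpa [depth] using h) b
  · simpa using le_idealDepth_pi (k := 2) _ (by simpa [depth] using h) b
  · simpa using le_idealDepth_pi (k := 1) _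
      (by simpa [depth] using le_trans (by norm_num) h) (a + 1)

theorem hasSk :
    (HasSk 1 R N → HasSk 1 R (M →ₗ[R] N)) ∧ (HasSk 2 R N → HasSk 2 R (M →ₗ[R] N)) := by
  obtain ⟨b, a, F, G, hF, hFG⟩ := exists_exact (R := R) (M := M) (N := N)
  refine ⟨fun h => Lib.QDepth.hasSk_one_of_injective F hF (hasSk_pi h b), fun h => ?_⟩
  refine Lib.QDepth.hasSk_two_of_exact F G hF hFG ?_ ?_ (hasSk_pi h b)
  · refine (Module.support_subset_of_injective F hF).trans ((support_pi_subset b).trans ?_)
    exact Module.support_subset_of_injective (LinearMap.single R (fun _ : Fin (a + 1) => N) 0)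
      (fun x y h => by simpa using congrFun h 0)
  · refine hasSk_pi (Lib.QDepth.hasSk_of_forall fun p _ j hj hd => ?_) (a + 1)
    exact Lib.QDepth.le_depth_of_hasSk h p (hj.trans (by norm_num)) hd

end Groth.Agent.H22.HomDepth
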