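import Mathlib.RingTheory.AdicCompletion.Exactness
import Mathlib.RingTheory.AdicCompletion.Completeness
import Mathlib.RingTheory.Flat.EquationalCriterion
import Mathlib.RingTheory.Nilpotent.Lemmas

/-!
Elementary exactness and completeness properties of adic completions.
-/

universe u v

open Submodule

namespace Groth.Agent.H22.Completion

variable {R : Type u} [CommRing R] (I : Ideal R)
variable {K M N : Type*} [AddCommGroup K] [Module R K] [AddCommGroup M] [Module R M]
  [AddCommGroup N] [Module R N]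

theorem sub_mem_of_le (y : AdicCompletion I M) {m n : ℕ} (hmn : m ≤ n) {a b : M}
    (ha : Submodule.Quotient.mk a = y.val m) (hb : Submodule.Quotient.mk b = y.val n) :
    b - a ∈ (I ^ m • ⊤ : Submodule R M) := by
  rw [← Submodule.Quotient.eq, ha, ← y.property hmn, ← hb]
  rfl

/-- An Artin–Rees bound makes completion left exact. -/
theorem injective_exact_of_comap_le {i : K →ₗ[R] M} {g : M →ₗ[R] N}
    (hg : Function.Surjective g) (hig : Function.Exact i g) (c : ℕ)
    (hc : ∀ n, (I ^ (n + c) • ⊤ : Submodule R M).comap i ≤ I ^ n • ⊤) :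
    Function.Injective (AdicCompletion.map I i) ∧
      Function.Exact (AdicCompletion.map I i) (AdicCompletion.map I g) := by
  refine ⟨?_, LinearMap.exact_of_comp_eq_zero_of_ker_le_range ?_ fun y hy => ?_⟩
  · rw [← LinearMap.ker_eq_bot, LinearMap.ker_eq_bot']
    intro x hx
    ext n
    obtain ⟨a, ha⟩ := Submodule.mkQ_surjective _ (x.val (n + c))
    have h := congrArg (fun z => z.val (n + c)) hx
    simp only [AdicCompletion.map_val_apply, AdicCompletion.val_zero, Pi.zero_apply] at h
    rw [← ha] at h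
    have h' : i a ∈ (I ^ (n + c) • ⊤ : Submodule R M) := (Submodule.Quotient.mk_eq_zero _).1 h
    rw [← x.property (Nat.le_add_right n c), ← ha]
    exact (Submodule.Quotient.mk_eq_zero _).2 (hc n h')
  · rw [AdicCompletion.map_comp, hig.linearMap_comp_eq_zero, AdicCompletion.map_zero]
  · have hr : ∀ n, ∃ a : K, Submodule.Quotient.mk (i a) = y.val n := by
      intro n
      obtain ⟨b, hb⟩ := Submodule.mkQ_surjective _ (y.val n)
      have h := congrArg (fun z => z.val n) (LinearMap.mem_ker.1 hy)
      simp only [AdicCompletion.map_val_apply, AdicCompletion.val_zero, Pi.zero_apply] at h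
      rw [← hb] at h
      have h' : g b ∈ (I ^ n • ⊤ : Submodule R N) := (Submodule.Quotient.mk_eq_zero _).1 h
      have h'' : g b ∈ Submodule.map g (I ^ n • ⊤ : Submodule R M) := by
        rwa [Submodule.map_smul'', Submodule.map_top, LinearMap.range_eq_top.2 hg]
      obtain ⟨e, he, heb⟩ := h''
      obtain ⟨a, ha⟩ := (hig (b - e)).1 (by rw [map_sub, heb, sub_self])
      refine ⟨a, ?_⟩
      rw [← hb, Submodule.mkQ_apply, Submodule.Quotient.eq, ha, sub_sub_cancel_left]
      exact neg_mem he
    choose a ha using hr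
    have hcomp : ∀ {m n : ℕ}, m ≤ n → a (n + c) - a (m + c) ∈ (I ^ m • ⊤ : Submodule R K) := by
      intro m n hmn
      refine hc m ?_
      rw [Submodule.mem_comap, map_sub]
      exact sub_mem_of_le I y (by omega) (ha _) (ha _)
    refine ⟨⟨fun n => Submodule.Quotient.mk (a (n + c)), fun {m n} hmn => ?_⟩, ?_⟩
    · exact (Submodule.Quotient.eq _).2 (hcomp hmn)
    · ext n
      rw [AdicCompletion.map_val_apply, ← y.property (Nat.le_add_right n c), ← ha (n + c)]
      rfl

theorem comap_le_of_flat {i : K →ₗ[R] M} {g : M →ₗ[R] N} [Module.Flat R N]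
    (hi : Function.Injective i) (hg : Function.Surjective g) (hig : Function.Exact i g) (J : Ideal R) :
    (J • ⊤ : Submodule R M).comap i ≤ J • ⊤ := by
  intro x hx
  obtain ⟨n, a, ha, m, hm⟩ : ∃ (n : ℕ) (a : Fin n → R), (∀ k, a k ∈ J) ∧
      ∃ m : Fin n → M, i x = ∑ k, a k • m k := by
    refine Submodule.smul_induction_on (Submodule.mem_comap.1 hx)
      (fun r hr z _ => ⟨1, fun _ => r, fun _ => hr, fun _ => z, by simp⟩) ?_
    rintro u w ⟨n, a, ha, m, hm⟩ ⟨n', a', ha', m', hm'⟩
    refine ⟨n + n', Fin.append a a', fun k => ?_, Fin.append m m', by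
      simp [Fin.sum_univ_add, hm, hm']⟩
    induction k using Fin.addCases <;> simp [ha, ha']
  have hrel : ∑ k, a k • g (m k) = 0 := by
    simp_rw [← map_smul, ← map_sum, ← hm]
    exact hig.apply_apply_eq_zero x
  obtain ⟨l, b, y, hy, hb⟩ := Module.Flat.isTrivialRelation_of_sum_smul_eq_zero hrel
  choose e he using fun j => hg (y j)
  have hz : ∀ k, ∃ z, i z = m k - ∑ j, b k j • e j := fun k =>
    (hig _).1 (by simp [hy k, he])
  choose z hz using hz
  have hx' : x = ∑ k, a k • z k := hi (by
    simp only [map_sum, map_smul, hz, smul_sub, Finset.sum_sub_distrib, ← hm, Finset.smul_sum,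
      smul_smul]
    rw [Finset.sum_comm, sub_eq_iff_eq_add.2]
    simp [← Finset.sum_smul, hb])
  rw [hx']
  exact Submodule.sum_mem _ fun k _ => smul_mem_smul (ha k) mem_top

theorem bijective_of_of_pow_smul_eq_zero (c : ℕ) (hc : ∀ x ∈ I ^ c, ∀ q : N, x • q = 0) :
    Function.Bijective (AdicCompletion.of I N) := by
  have h0 : ∀ n, c ≤ n → (I ^ n • ⊤ : Submodule R N) = ⊥ := by
    intro n hn
    rw [eq_bot_iff, Submodule.smul_le]
    intro x hx q _
    exact hc x (Ideal.pow_le_pow_right hn hx) q
  refine ⟨fun a b h => ?_, fun y => ?_⟩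
  · have h' := congrArg (fun z => z.val c) h
    simp only [AdicCompletion.of_apply, Submodule.mkQ_apply, Submodule.Quotient.eq, h0 c le_rfl,
      Submodule.mem_bot] at h'
    exact sub_eq_zero.1 h'
  · obtain ⟨a, ha⟩ := Submodule.mkQ_surjective _ (y.val c)
    refine ⟨a, ?_⟩
    ext n
    rw [AdicCompletion.of_apply]
    rcases le_total n c with h | h
    · rw [← y.property h, ← ha]; rfl
    · obtain ⟨b, hb⟩ := Submodule.mkQ_surjective _ (y.val n)
      have h' := sub_mem_of_le I y h ha hb
      rw [h0 c le_rfl, Submodule.mem_bot, sub_eq_zero] at h'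
      rw [← hb, h']

theorem isAdicComplete_transfer {I J : Ideal R} {c d : ℕ} (hc : 0 < c) (hd : 0 < d)
    (hI : I ^ c ≤ J) (hJ : J ^ d ≤ I) [IsAdicComplete I M] : IsAdicComplete J M := by
  have h1 : ∀ n, (J ^ (d * n) • ⊤ : Submodule R M) ≤ I ^ n • ⊤ := fun n => by
    rw [pow_mul]; exact smul_mono (Ideal.pow_right_mono hJ n) le_rfl
  have h2 : ∀ n, (I ^ (c * n) • ⊤ : Submodule R M) ≤ J ^ n • ⊤ := fun n => by
    rw [pow_mul]; exact smul_mono (Ideal.pow_right_mono hI n) le_rfl
  refine { haus' := fun x hx => ?_, prec' := fun f hf => ?_ }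
  · exact IsHausdorff.haus' (I := I) x fun n => SModEq.mono (h1 n) (hx _)
  · obtain ⟨L, hL⟩ := IsPrecomplete.prec (I := I) inferInstance (f := fun n => f (d * n))
      (fun {m n} hmn => SModEq.mono (h1 m) (hf (Nat.mul_le_mul_left _ hmn)))
    refine ⟨L, fun n => (hf ?_).trans (SModEq.mono (h2 n) (hL (c * n)))⟩
    exact (Nat.le_mul_of_pos_left n hc).trans (Nat.le_mul_of_pos_left _ hd)

theorem isAdicComplete_iff_ker_eval :
    IsAdicComplete I (AdicCompletion I M) ↔ ∀ n : ℕ, 1 ≤ n →
      LinearMap.ker (AdicCompletion.eval I M n) = I ^ n • (⊤ : Submodule R (AdicCompletion I M)) := by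
  refine ⟨fun h n _ => le_antisymm ?_ (AdicCompletion.pow_smul_top_le_ker_eval ..), fun h => ?_⟩
  · intro x hx
    choose a ha using fun k => Submodule.mkQ_surjective _ (x.val k)
    have hcauchy : ∀ {m k : ℕ}, m ≤ k → AdicCompletion.of I M (a m) ≡ AdicCompletion.of I M (a k)
        [SMOD (I ^ m • ⊤ : Submodule R (AdicCompletion I M))] := by
      intro m k hmk
      rw [SModEq.sub_mem, ← map_sub]
      have h1 : a m - a k ∈ (I ^ m • ⊤ : Submodule R M) := by
        rw [← neg_sub]; exact neg_mem (sub_mem_of_le I x hmk (ha m) (ha k))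
      have h2 := Submodule.mem_map_of_mem (f := AdicCompletion.of I M) h1
      rw [Submodule.map_smul''] at h2
      exact smul_mono le_rfl le_top h2
    obtain ⟨L, hL⟩ := IsPrecomplete.prec (I := I) inferInstance hcauchy
    have hLx : L = x := by
      ext k
      have h1 := AdicCompletion.pow_smul_top_le_ker_eval (I := I) (M := M) k (SModEq.sub_mem.1 (hL k))
      rw [LinearMap.mem_ker, map_sub, sub_eq_zero, AdicCompletion.eval_of,
        AdicCompletion.eval_apply] at h1
      exact h1.symm.trans (ha k)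
    have h1 : AdicCompletion.of I M (a n) ∈ (I ^ n • ⊤ : Submodule R (AdicCompletion I M)) := by
      rw [LinearMap.mem_ker, AdicCompletion.eval_apply, ← ha n, Submodule.mkQ_apply,
        Submodule.Quotient.mk_eq_zero] at hx
      have h2 := Submodule.mem_map_of_mem (f := AdicCompletion.of I M) hx
      rw [Submodule.map_smul''] at h2
      exact smul_mono le_rfl le_top h2
    have h3 := sub_mem h1 (SModEq.sub_mem.1 (hL n))
    rwa [sub_sub_cancel, hLx] at h3
  · have h' : ∀ n, LinearMap.ker (AdicCompletion.eval I M n) =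
        I ^ n • (⊤ : Submodule R (AdicCompletion I M)) := by
      intro n
      rcases Nat.eq_zero_or_pos n with rfl | hn
      · refine le_antisymm ?_ (AdicCompletion.pow_smul_top_le_ker_eval ..)
        have h0 : (I ^ 0 • ⊤ : Submodule R (AdicCompletion I M)) = ⊤ := by simp
        exact fun z _ => by rw [h0]; exact Submodule.mem_top
      · exact h n hn
    refine { haus' := fun x hx => ?_, prec' := fun x hx => ?_ }
    · ext n
      have h1 := SModEq.zero.1 (hx n)
      rw [← h', LinearMap.mem_ker] at h1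
      simpa using h1
    · let L : AdicCompletion I M := {
        val := fun i => (x i).val i
        property := fun {m n} hmn => by
          simp only [AdicCompletion.transitionMap_comp_eval_apply]
          have hx' := hx hmn
          rwa [SModEq.sub_mem, ← h', LinearMap.mem_ker, _root_.map_sub, sub_eq_zero,
            AdicCompletion.eval_apply, AdicCompletion.eval_apply, eq_comm] at hx' }
      refine ⟨L, fun i => ?_⟩
      rw [SModEq.sub_mem, ← h']
      simp [L]

theorem of_surjective_span {r : ℕ} (f : Fin r → R)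
    (h : ∀ i, Function.Surjective (AdicCompletion.of (Ideal.span {f i}) M)) :
    Function.Surjective (AdicCompletion.of (Ideal.span (Set.range f)) M) := by
  classical
  intro y
  choose a ha using fun k => Submodule.mkQ_surjective _ (y.val k)
  let Jn : ℕ → Ideal R := fun n => Ideal.span (Set.range fun i => f i ^ n)
  have hN : ∀ n, ∃ N, Ideal.span (Set.range f) ^ N ≤ Jn n := by
    intro n
    refine Ideal.exists_pow_le_of_le_radical_of_fg ?_ (Submodule.fg_span (Set.finite_range f))
    rw [Ideal.span_le]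
    rintro _ ⟨i, rfl⟩
    exact ⟨n, Ideal.subset_span ⟨i, rfl⟩⟩
  choose N hN using hN
  let T : ℕ → ℕ := fun n => ∑ k ∈ Finset.range (n + 1), (N k + 1)
  have hT1 : ∀ n, N n ≤ T n := fun n => (Nat.le_succ _).trans
    (Finset.single_le_sum (f := fun k => N k + 1) (fun k _ => Nat.zero_le _)
      (Finset.self_mem_range_succ n))
  have hT2 : ∀ n, n ≤ T n := fun n => by
    have h1 : ∑ _k ∈ Finset.range (n + 1), 1 ≤ T n :=
      Finset.sum_le_sum fun k _ => Nat.le_add_left 1 (N k)
    simp at h1
    omega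
  have hT3 : ∀ n, T n ≤ T (n + 1) := fun n => by
    simp only [T]; rw [Finset.sum_range_succ _ (n + 1)]; omega
  have hdiff : ∀ n, ∃ m : Fin r → M, ∑ i, (f i ^ n) • m i = a (T (n + 1)) - a (T n) := by
    intro n
    have h1 : a (T (n + 1)) - a (T n) ∈ (Jn n • ⊤ : Submodule R M) :=
      smul_mono ((Ideal.pow_le_pow_right (hT1 n)).trans (hN n)) le_rfl
        (sub_mem_of_le _ y (hT3 n) (ha _) (ha _))
    refine Submodule.smul_induction_on h1 (fun x hx z _ => ?_) ?_
    · obtain ⟨e, he⟩ := (Ideal.mem_span_range_iff_exists_fun).1 hx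
      refine ⟨fun i => e i • z, ?_⟩
      rw [← he, Finset.sum_smul]
      exact Finset.sum_congr rfl fun i _ => by rw [smul_smul, mul_comm]
    · rintro u w ⟨p, rfl⟩ ⟨q, rfl⟩
      exact ⟨p + q, by simp [Finset.sum_add_distrib]⟩
  choose m hm using hdiff
  let s : Fin r → ℕ → M := fun i n => ∑ k ∈ Finset.range n, (f i ^ k) • m k i
  have hmem : ∀ (i : Fin r) (k : ℕ) (z : M),
      (f i ^ k) • z ∈ (Ideal.span {f i} ^ k • ⊤ : Submodule R M) := fun i k z =>
    smul_mem_smul (Ideal.pow_mem_pow (Ideal.mem_span_singleton_self _) k) mem_top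
  have hb : ∀ i, ∃ b : M, ∀ n, b - s i n ∈ (Ideal.span {f i} ^ n • ⊤ : Submodule R M) := by
    intro i
    have hc : ∀ {p q : ℕ}, p ≤ q → s i q - s i p ∈ (Ideal.span {f i} ^ p • ⊤ : Submodule R M) := by
      intro p q hpq
      simp only [s]
      rw [← Finset.sum_Ico_eq_sub _ hpq]
      exact Submodule.sum_mem _ fun k hk =>
        smul_mono (Ideal.pow_le_pow_right (Finset.mem_Ico.1 hk).1) le_rfl (hmem i k _)
    obtain ⟨b, hb⟩ := h i ⟨fun n => Submodule.Quotient.mk (s i n),
      fun {p q} hpq => (Submodule.Quotient.eq _).2 (hc hpq)⟩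
    exact ⟨b, fun n => (Submodule.Quotient.eq _).1 (congrArg (fun z => z.val n) hb)⟩
  choose b hb using hb
  refine ⟨a (T 0) + ∑ i, b i, ?_⟩
  ext n
  rw [AdicCompletion.of_apply, ← y.property (hT2 n), ← ha (T n)]
  refine (Submodule.Quotient.eq _).2 ?_
  have hsum : a (T n) = a (T 0) + ∑ i, s i n := by
    have h1 := Finset.sum_range_sub (fun k => a (T k)) n
    have h2 : ∑ i, s i n = ∑ k ∈ Finset.range n, (a (T (k + 1)) - a (T k)) := by
      simp only [s]; rw [Finset.sum_comm]
      exact Finset.sum_congr rfl fun k _ => hm k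
    rw [h2, h1, add_sub_cancel]
  rw [hsum, LinearMap.id_apply, add_sub_add_left_eq_sub, ← Finset.sum_sub_distrib]
  exact Submodule.sum_mem _ fun i _ =>
    smul_mono (Ideal.pow_right_mono (Ideal.span_mono (by simp)) n) le_rfl (hb i n)

theorem isAdicComplete_of_le_of_fg {J : Ideal R} (hIJ : I ≤ J) (hI : I.FG) [IsAdicComplete J M] :
    IsAdicComplete I M := by
  classical
  have hle : ∀ n, (I ^ n • ⊤ : Submodule R M) ≤ J ^ n • ⊤ := fun n =>
    smul_mono (Ideal.pow_right_mono hIJ n) le_rfl
  refine { haus' := fun x hx => IsHausdorff.haus' (I := J) x fun n => SModEq.mono (hle n) (hx n),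
           prec' := fun f hf => ?_ }
  obtain ⟨L, hL⟩ := IsPrecomplete.prec (I := J) inferInstance (f := f)
    (fun {m n} h => SModEq.mono (hle m) (hf h))
  refine ⟨L, fun n => ?_⟩
  obtain ⟨S, hS⟩ := hI.pow (n := n)
  have hd : ∀ k, ∃ m : S → M, (∀ s, m s ∈ (I ^ k • ⊤ : Submodule R M)) ∧
      ∑ s : S, s.1 • m s = f (n + k + 1) - f (n + k) := by
    intro k
    have h1 : f (n + k + 1) - f (n + k) ∈ (I ^ (n + k) • ⊤ : Submodule R M) := by
      rw [← neg_sub]; exact neg_mem (SModEq.sub_mem.1 (hf (Nat.le_succ _)))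
    rw [pow_add, ← smul_eq_mul, Submodule.smul_assoc] at h1
    refine Submodule.smul_induction_on h1 (fun x hx z hz => ?_) ?_
    · rw [← hS] at hx
      obtain ⟨e, he⟩ := (Submodule.mem_span_finset').1 hx
      refine ⟨fun s => e s • z, fun s => Submodule.smul_mem _ _ hz, ?_⟩
      rw [← he, Finset.sum_smul]
      exact Finset.sum_congr rfl fun s _ => by rw [smul_smul, mul_comm, smul_eq_mul]
    · rintro u w ⟨p, hp, rfl⟩ ⟨q, hq, rfl⟩
      exact ⟨p + q, fun s => add_mem (hp s) (hq s), by simp [Finset.sum_add_distrib]⟩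
  choose m hm hms using hd
  let P : S → ℕ → M := fun s k => ∑ j ∈ Finset.range k, m j s
  have hl : ∀ s, ∃ l, ∀ k, P s k - l ∈ (J ^ k • ⊤ : Submodule R M) := by
    intro s
    obtain ⟨l, hl⟩ := IsPrecomplete.prec (I := J) inferInstance (f := P s) (fun {p q} hpq => by
      rw [SModEq.sub_mem, ← neg_sub]
      refine neg_mem ?_
      simp only [P]
      rw [← Finset.sum_Ico_eq_sub _ hpq]
      exact Submodule.sum_mem _ fun k hk =>
        hle p (smul_mono (Ideal.pow_le_pow_right (Finset.mem_Ico.1 hk).1) le_rfl (hm k s)))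
    exact ⟨l, fun k => SModEq.sub_mem.1 (hl k)⟩
  choose l hl using hl
  have key : L - f n - ∑ s : S, s.1 • l s = 0 := by
    refine IsHausdorff.haus' (I := J) _ fun k => SModEq.zero.2 ?_
    have h1 : f (n + k) - f n = ∑ s : S, s.1 • P s k := by
      rw [show f (n + k) - f n = f (n + k) - f (n + 0) from rfl, ← Finset.sum_range_sub (fun j => f (n + j)) k]
      simp only [P, Finset.smul_sum]
      rw [Finset.sum_comm]
      exact Finset.sum_congr rfl fun j _ => (hms j).symm
    have h2 : L - f n - ∑ s : S, s.1 • l s =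
        (L - f (n + k)) + ∑ s : S, s.1 • (P s k - l s) := by
      simp only [smul_sub, Finset.sum_sub_distrib, ← h1]; abel
    rw [h2]
    refine add_mem ?_ (Submodule.sum_mem _ fun s _ => Submodule.smul_mem _ _ (hl s k))
    rw [← neg_sub]
    exact neg_mem (smul_mono (Ideal.pow_le_pow_right (Nat.le_add_left k n)) le_rfl
      (SModEq.sub_mem.1 (hL _)))
  rw [SModEq.sub_mem, ← neg_sub]
  refine neg_mem ?_
  rw [sub_eq_zero] at key
  rw [key]
  exact Submodule.sum_mem _ fun s _ =>
    smul_mem_smul (hS ▸ Ideal.subset_span s.2) mem_top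

theorem isAdicComplete_quotient_iff [IsAdicComplete I M] (K : Submodule R M) :
    IsAdicComplete I (M ⧸ K) ↔ K = ⨅ n : ℕ, K ⊔ I ^ n • (⊤ : Submodule R M) := by
  have hmem : ∀ (n : ℕ) (x : M),
      K.mkQ x ∈ (I ^ n • ⊤ : Submodule R (M ⧸ K)) ↔ x ∈ K ⊔ I ^ n • (⊤ : Submodule R M) := by
    intro n x
    rw [← Submodule.mem_comap, ← K.range_mkQ, ← Submodule.map_top, ← Submodule.map_smul'',
      Submodule.comap_map_eq, Submodule.ker_mkQ, sup_comm]
  constructor
  · intro h
    refine le_antisymm (le_iInf fun n => le_sup_left) fun x hx => ?_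
    rw [← Submodule.Quotient.mk_eq_zero]
    exact IsHausdorff.haus' (I := I) _ fun n => SModEq.zero.2 ((hmem n x).2 (Submodule.mem_iInf _ |>.1 hx n))
  · intro h
    refine { haus' := fun x hx => ?_, prec' := fun f hf => ?_ }
    · obtain ⟨x, rfl⟩ := K.mkQ_surjective x
      rw [Submodule.mkQ_apply, Submodule.Quotient.mk_eq_zero, h, Submodule.mem_iInf]
      exact fun n => (hmem n x).1 (SModEq.zero.1 (hx n))
    · choose a ha using fun n => K.mkQ_surjective (f n)
      have hd : ∀ n, ∃ e ∈ (I ^ n • ⊤ : Submodule R M), K.mkQ e = f (n + 1) - f n := by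
        intro n
        have h1 : f (n + 1) - f n ∈ (I ^ n • ⊤ : Submodule R (M ⧸ K)) := by
          rw [← neg_sub]; exact neg_mem (SModEq.sub_mem.1 (hf (Nat.le_succ n)))
        rw [← K.range_mkQ, ← Submodule.map_top, ← Submodule.map_smul''] at h1
        exact h1
      choose e he hef using hd
      let b : ℕ → M := fun n => a 0 + ∑ k ∈ Finset.range n, e k
      obtain ⟨L, hL⟩ := IsPrecomplete.prec (I := I) inferInstance (f := b) (fun {p q} hpq => by
        rw [SModEq.sub_mem, ← neg_sub]
        refine neg_mem ?_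
        simp only [b, add_sub_add_left_eq_sub]
        rw [← Finset.sum_Ico_eq_sub _ hpq]
        exact Submodule.sum_mem _ fun k hk =>
          smul_mono (Ideal.pow_le_pow_right (Finset.mem_Ico.1 hk).1) le_rfl (he k))
      refine ⟨K.mkQ L, fun n => SModEq.sub_mem.2 ?_⟩
      have hbn : K.mkQ (b n) = f n := by
        simp only [b, map_add, map_sum, hef, ha, Finset.sum_range_sub, add_sub_cancel]
      rw [← hbn, ← map_sub, hmem]
      exact Submodule.mem_sup_right (SModEq.sub_mem.1 (hL n))

end Groth.Agent.H22.Completion
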