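import Groth.Agent.Lib.QDepth.FlatFibre
import Groth.Agent.Lib.RelDiv.ExactFlat
import Mathlib

/-!
An element regular on every fibre of a flat module is regular after any base change.
-/

set_option autoImplicit false
set_option maxHeartbeats 1000000
universe u

open TensorProduct IsLocalRing Pointwise

namespace Groth.Agent.H22.FibreRegular

variable {C S : Type u} [CommRing C] [CommRing S] [Algebra C S]
  {N : Type u} [AddCommGroup N] [Module C N] [Module S N] [IsScalarTower C S N]

omit [Module S N] [IsScalarTower C S N] [CommRing S] [Algebra C S] in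
/-- The kernel of `N → N ⊗ κ(𝔭)`. -/
theorem tmul_one_eq_zero_iff (𝔭 : Ideal C) [𝔭.IsPrime] (x : N) :
    x ⊗ₜ[C] (1 : 𝔭.ResidueField) = 0 ↔ ∃ c ∉ 𝔭, c • x ∈ 𝔭 • (⊤ : Submodule C N) := by
  let h : N →ₗ[C] N ⊗[C] 𝔭.ResidueField :=
    (TensorProduct.mk C N 𝔭.ResidueField).flip 1
  have hh : ∀ c ∈ 𝔭, ∀ y : N, h (c • y) = 0 := fun c hc y => by
    change (c • y) ⊗ₜ[C] (1 : 𝔭.ResidueField) = 0
    rw [TensorProduct.smul_tmul, Algebra.smul_def, mul_one, Ideal.algebraMap_residueField_eq_zero.2 hc,
      TensorProduct.tmul_zero]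
  constructor
  · intro hx
    -- factor through `N ⊗ (C ⧸ 𝔭)`, localized at the complement of `𝔭`
    let g : (C ⧸ 𝔭) →ₗ[C] 𝔭.ResidueField :=
      (IsScalarTower.toAlgHom C (C ⧸ 𝔭) 𝔭.ResidueField).toLinearMap
    haveI : IsLocalizedModule 𝔭.primeCompl g := by
      haveI : IsLocalization (Algebra.algebraMapSubmonoid (C ⧸ 𝔭) 𝔭.primeCompl) 𝔭.ResidueField := by
        have heq : Algebra.algebraMapSubmonoid (C ⧸ 𝔭) 𝔭.primeCompl = nonZeroDivisors (C ⧸ 𝔭) := by
          ext y
          obtain ⟨y, rfl⟩ := Ideal.Quotient.mk_surjective y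
          rw [mem_nonZeroDivisors_iff_ne_zero, ne_eq, Ideal.Quotient.eq_zero_iff_mem]
          refine ⟨fun ⟨c, hc, hcy⟩ hy => hc ?_, fun hy => ⟨y, hy, rfl⟩⟩
          exact (Submodule.Quotient.mk_eq_zero 𝔭).1 (hcy.trans ((Submodule.Quotient.mk_eq_zero 𝔭).2 hy))
        rw [heq]
        infer_instance
      exact isLocalizedModule_iff_isLocalization.2 ‹_›
    have h1 : AlgebraTensorModule.rTensor C N g ((1 : C ⧸ 𝔭) ⊗ₜ[C] x) = AlgebraTensorModule.rTensor C N g 0 := by
      rw [map_zero]
      change algebraMap (C ⧸ 𝔭) 𝔭.ResidueField 1 ⊗ₜ[C] x = 0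
      rw [map_one]
      have := congrArg (TensorProduct.comm C N 𝔭.ResidueField) hx
      simpa using this
    obtain ⟨⟨c, hc⟩, hcx⟩ := IsLocalizedModule.exists_of_eq (S := 𝔭.primeCompl) h1
    rw [smul_zero, Submonoid.mk_smul, ← TensorProduct.tmul_smul] at hcx
    refine ⟨c, hc, ?_⟩
    have h2 := congrArg (TensorProduct.quotTensorEquivQuotSMul N 𝔭) hcx
    rw [map_zero, ← map_one (Ideal.Quotient.mk 𝔭), TensorProduct.quotTensorEquivQuotSMul_mk_tmul, one_smul,
      Submodule.Quotient.mk_eq_zero] at h2
    exact h2
  · rintro ⟨c, hc, hcx⟩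
    have h0 : h (c • x) = 0 := by
      refine Submodule.smul_induction_on hcx (fun r hr y _ => hh r hr y) fun a b ha hb => ?_
      rw [map_add, ha, hb, add_zero]
    change (c • x) ⊗ₜ[C] (1 : 𝔭.ResidueField) = 0 at h0
    rw [TensorProduct.smul_tmul, Algebra.smul_def, mul_one] at h0
    have hu : IsUnit (algebraMap C 𝔭.ResidueField c) :=
      (Ne.isUnit fun h => hc (Ideal.algebraMap_residueField_eq_zero.1 h))
    obtain ⟨v, hv⟩ := hu.exists_left_inv
    have := congrArg (LinearMap.lTensor N (LinearMap.mulLeft C v)) h0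
    simpa [hv] using this

variable (f : S)

/-- The fibre condition at a prime of the base. -/
def RegAt (𝔭 : Ideal C) [𝔭.IsPrime] : Prop :=
  ∀ z : N ⊗[C] 𝔭.ResidueField, f • z = 0 → z = 0

variable (N) in
theorem local_regular [IsNoetherianRing C] [IsNoetherianRing S] [Module.Finite S N] [Module.Flat C N]
    (q : Ideal S) [q.IsPrime] (h : RegAt (N := N) f (q.comap (algebraMap C S))) :
    ∀ z : (LocalizedModule q.primeCompl N) →ₗ[C] (LocalizedModule q.primeCompl N),
      (∀ x, z x = f • x) → Function.Injective z ∧ Module.Flat C ((LocalizedModule q.primeCompl N) ⧸ LinearMap.range z) := by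
  intro z hz
  set 𝔭 := q.comap (algebraMap C S)
  let C' := Localization.AtPrime 𝔭
  let S' := Localization.AtPrime q
  let N' := LocalizedModule q.primeCompl N
  letI : Algebra C' S' := (Localization.localRingHom 𝔭 q (algebraMap C S) rfl).toAlgebra
  haveI : IsLocalHom (algebraMap C' S') := Localization.isLocalHom_localRingHom _ _ _ _
  haveI : IsScalarTower C C' S' := IsScalarTower.of_algebraMap_eq fun c => by
    change algebraMap C S' c = Localization.localRingHom 𝔭 q (algebraMap C S) rfl (algebraMap C C' c)
    rw [Localization.localRingHom_to_map, ← IsScalarTower.algebraMap_apply]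
  letI : Module C' N' := Module.compHom N' (algebraMap C' S')
  haveI : IsScalarTower C' S' N' := IsScalarTower.of_algebraMap_smul fun r y => rfl
  haveI : IsScalarTower C S' N' := IsScalarTower.of_algebraMap_smul fun r y => by
    rw [IsScalarTower.algebraMap_apply C S S', algebraMap_smul, algebraMap_smul]
  haveI : IsScalarTower C C' N' := IsScalarTower.of_algebraMap_smul fun r y => by
    change algebraMap C' S' (algebraMap C C' r) • y = r • y
    rw [← IsScalarTower.algebraMap_apply, algebraMap_smul]
  haveI : Module.Finite S' N' :=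
    Module.Finite.of_isLocalizedModule q.primeCompl (LocalizedModule.mkLinearMap q.primeCompl N)
  haveI : Module.Flat C N' :=
    Groth.Agent.Lib.QDepth.flat_localized q.primeCompl N
  haveI : Module.Flat C' N' := (Module.flat_iff_of_isLocalization C' 𝔭.primeCompl N').2 ‹_›
  have key := Groth.Agent.Lib.QDepth.regular_of_fibre (A := C') (M := N') (algebraMap S S' f) (by
    intro m hm
    obtain ⟨⟨n, s⟩, rfl⟩ := IsLocalizedModule.mk'_surjective q.primeCompl (LocalizedModule.mkLinearMap q.primeCompl N) m
    -- the extended maximal ideal is generated by `𝔭`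
    have hI : (maximalIdeal C').map (algebraMap C' S') = (𝔭.map (algebraMap C S)).map (algebraMap S S') := by
      rw [← IsLocalization.AtPrime.map_eq_maximalIdeal 𝔭 C', Ideal.map_map, Ideal.map_map,
        ← IsScalarTower.algebraMap_eq, ← IsScalarTower.algebraMap_eq]
    set I := 𝔭.map (algebraMap C S)
    have hloc : Submodule.localized' S' q.primeCompl (LocalizedModule.mkLinearMap q.primeCompl N) (I • (⊤ : Submodule S N)) =
        (maximalIdeal C').map (algebraMap C' S') • (⊤ : Submodule S' N') := by
      rw [hI, Submodule.localized'_smul, Submodule.localized'_top, Ideal.localized'_eq_map]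
    rw [← hloc] at hm ⊢
    simp only [Function.uncurry_apply_pair] at hm ⊢
    rw [algebraMap_smul, ← IsLocalizedModule.mk'_smul, Submodule.mem_localized'] at hm
    obtain ⟨w, hw, t, ht⟩ := hm
    obtain ⟨⟨e, he⟩, hew⟩ := (IsLocalizedModule.mk'_eq_mk'_iff _ _ _ _ _).1 ht
    simp only [Submonoid.smul_def] at hew
    have hmem : f • ((e * (t : S)) • n) ∈ (I • (⊤ : Submodule S N)) := by
      have : f • ((e * (t : S)) • n) = e • ((t : S) • (f • n)) := by
        rw [smul_smul, smul_smul, smul_smul]; ring_nf
      rw [this, hew]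
      exact Submodule.smul_mem _ _ (Submodule.smul_mem _ _ hw)
    have hres : ∀ y : N, y ∈ I • (⊤ : Submodule S N) ↔ y ∈ 𝔭 • (⊤ : Submodule C N) := by
      intro y
      rw [← Submodule.restrictScalars_mem C, Ideal.smul_restrictScalars, Submodule.restrictScalars_top]
    have h0 : ((e * (t : S)) • n) ⊗ₜ[C] (1 : 𝔭.ResidueField) = 0 := h _ (by
      rw [TensorProduct.smul_tmul', tmul_one_eq_zero_iff 𝔭]
      exact ⟨1, fun h1 => Ideal.IsPrime.ne_top inferInstance ((Ideal.eq_top_iff_one _).2 h1),
        by rw [one_smul]; exact (hres _).1 hmem⟩)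
    obtain ⟨c, hc, hcmem⟩ := (tmul_one_eq_zero_iff 𝔭 _).1 h0
    rw [← hres, ← algebraMap_smul S c, smul_smul] at hcmem
    refine (Submodule.mem_localized' _ _ _ _ _).2 ⟨_, hcmem, ⟨algebraMap C S c * (e * t),
      q.primeCompl.mul_mem hc (q.primeCompl.mul_mem he t.2)⟩ * s, ?_⟩
    exact IsLocalizedModule.mk'_cancel_left _ n ⟨algebraMap C S c * (e * t), _⟩ s)
  have hzf : ∀ x : N', z x = algebraMap S S' f • x := fun x => by rw [algebraMap_smul]; exact hz x
  refine ⟨fun x y hxy => key.1 (by simpa [hzf] using hxy), ?_⟩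
  haveI := key.2
  haveI : Module.Flat C (QuotSMulTop (algebraMap S S' f) N') :=
    (Module.flat_iff_of_isLocalization C' 𝔭.primeCompl _).1 ‹_›
  refine Module.Flat.of_linearEquiv (M := QuotSMulTop (algebraMap S S' f) N')
    ((Submodule.quotEquivOfEq _ _ ?_).trans (Submodule.Quotient.restrictScalarsEquiv C _))
  ext x
  simp only [LinearMap.mem_range, Submodule.restrictScalars_mem, Submodule.mem_smul_pointwise_iff_exists,
    Submodule.mem_top, true_and, hzf]

variable {A : Type u} [CommRing A] [Algebra C A]

/-- The map to the localization, after tensoring. -/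
theorem exists_of_rTensor_eq_zero (q : Ideal S) [q.IsPrime] (z : N ⊗[C] A)
    (h : ((LocalizedModule.mkLinearMap q.primeCompl N).restrictScalars C).rTensor A z = 0) :
    ∃ s ∉ q, s • z = 0 := by
  let X := N ⊗[C] A
  let Xq := LocalizedModule q.primeCompl X
  let mkX := LocalizedModule.mkLinearMap q.primeCompl X
  let b : A → (N →ₗ[S] Xq) := fun a =>
    mkX ∘ₗ { toFun := fun n => n ⊗ₜ[C] a
             map_add' := fun x y => TensorProduct.add_tmul x y a
             map_smul' := fun s x => rfl }
  let g : A → (LocalizedModule q.primeCompl N →ₗ[S] Xq) := fun a =>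
    IsLocalizedModule.lift q.primeCompl (LocalizedModule.mkLinearMap q.primeCompl N) (b a)
      fun x => IsLocalizedModule.map_units mkX x
  have hg : ∀ a n, g a (LocalizedModule.mkLinearMap q.primeCompl N n) = mkX (n ⊗ₜ a) := fun a n =>
    IsLocalizedModule.lift_apply _ _ _ _ n
  have hadd : ∀ a a', g (a + a') = g a + g a' := fun a a' =>
    IsLocalizedModule.ext q.primeCompl (LocalizedModule.mkLinearMap q.primeCompl N)
      (fun x => IsLocalizedModule.map_units mkX x) (LinearMap.ext fun n => by
        simp only [LinearMap.comp_apply, LinearMap.add_apply, hg, TensorProduct.tmul_add, map_add])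
  have hsmul : ∀ (c : C) a, g (c • a) = algebraMap C S c • g a := fun c a =>
    IsLocalizedModule.ext q.primeCompl (LocalizedModule.mkLinearMap q.primeCompl N)
      (fun x => IsLocalizedModule.map_units mkX x) (LinearMap.ext fun n => by
        simp only [LinearMap.comp_apply, LinearMap.smul_apply, hg, TensorProduct.tmul_smul]
        rw [← map_smul, algebraMap_smul])
  let G : (LocalizedModule q.primeCompl N) ⊗[C] A →ₗ[C] Xq := TensorProduct.lift
    (LinearMap.flip
      { toFun := fun a => (g a).restrictScalars C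
        map_add' := fun a a' => by rw [hadd]; rfl
        map_smul' := fun c a => by
          refine LinearMap.ext fun x => ?_
          rw [hsmul]
          exact algebraMap_smul S c (g a x) })
  have hG : ∀ w : N ⊗[C] A,
      G (((LocalizedModule.mkLinearMap q.primeCompl N).restrictScalars C).rTensor A w) = mkX w := by
    intro w
    induction w using TensorProduct.induction_on with
    | zero => simp
    | add y y' hy hy' => simp only [map_add, hy, hy']
    | tmul n a => exact hg a n
  have h0 : mkX z = 0 := by rw [← hG, h, map_zero]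
  obtain ⟨⟨s, hs⟩, hsz⟩ := (IsLocalizedModule.eq_zero_iff q.primeCompl mkX).1 h0
  exact ⟨s, hs, hsz⟩

/-- An element regular on the fibres over `A` is regular on the base change to `A`. -/
theorem regular [IsNoetherianRing C] [IsNoetherianRing S] [Module.Finite S N] [Module.Flat C N]
    (h : ∀ (p : Ideal A) [p.IsPrime], RegAt (N := N) f (p.comap (algebraMap C A)))
    (z : N ⊗[C] A) (hz : f • z = 0) : z = 0 := by
  let Λ : S ⊗[C] A →ₐ[C] Module.End C (N ⊗[C] A) :=
    Algebra.TensorProduct.lift
      ((Algebra.lsmul C C (N ⊗[C] A)) : S →ₐ[C] _)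
      ((Module.End.lTensorAlgHom C A N).comp (Algebra.lmul C A))
      (fun s a => LinearMap.ext fun w => by
        induction w using TensorProduct.induction_on with
        | zero => simp
        | add y y' hy hy' => simp only [map_add, hy, hy']
        | tmul n b => rfl)
  let J : Ideal (S ⊗[C] A) :=
    { carrier := {w | Λ w z = 0}
      add_mem' := fun {x y} hx hy => by
        simp only [Set.mem_setOf_eq] at hx hy ⊢
        rw [map_add, LinearMap.add_apply, hx, hy, add_zero]
      zero_mem' := by simp
      smul_mem' := fun x y hy => by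
        simp only [Set.mem_setOf_eq, smul_eq_mul] at hy ⊢
        rw [map_mul, Module.End.mul_apply, hy, map_zero] }
  by_contra hne
  have hJ : J ≠ ⊤ := fun ht => hne (by
    have h1 : (1 : S ⊗[C] A) ∈ J := ht ▸ Submodule.mem_top
    have h2 : Λ 1 z = 0 := h1
    simpa using h2)
  obtain ⟨Q, hQ, hJQ⟩ := Ideal.exists_le_maximal J hJ
  let q : Ideal S := Q.comap Algebra.TensorProduct.includeLeftRingHom
  let p : Ideal A := Q.comap Algebra.TensorProduct.includeRight.toRingHom
  haveI : q.IsPrime := Ideal.IsPrime.comap _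
  haveI : p.IsPrime := Ideal.IsPrime.comap _
  have hcomap : p.comap (algebraMap C A) = q.comap (algebraMap C S) := by
    ext c
    simp only [p, q, Ideal.mem_comap]
    rw [show Algebra.TensorProduct.includeLeftRingHom (algebraMap C S c) =
      (Algebra.TensorProduct.includeRight.toRingHom (algebraMap C A c) : S ⊗[C] A) from ?_]
    change algebraMap C S c ⊗ₜ[C] (1 : A) = (1 : S) ⊗ₜ[C] algebraMap C A c
    rw [Algebra.algebraMap_eq_smul_one, Algebra.algebraMap_eq_smul_one, TensorProduct.smul_tmul]
  have hreg : RegAt (N := N) f (q.comap (algebraMap C S)) := by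
    have key : ∀ (I J : Ideal C) [I.IsPrime] [J.IsPrime], I = J → RegAt (N := N) f I → RegAt (N := N) f J := by
      intro I J _ _ e
      subst e
      exact fun h => h
    exact key _ _ hcomap (h p)
  obtain ⟨hinj, hflat⟩ := local_regular N f q hreg
    ((LinearMap.lsmul S (LocalizedModule q.primeCompl N) f).restrictScalars C) (fun x => rfl)
  set u := (LinearMap.lsmul S (LocalizedModule q.primeCompl N) f).restrictScalars C
  have hu : Function.Injective (u.rTensor A) := by
    haveI := hflat
    have h1 : Function.Injective (u.lTensor A) := Groth.Agent.Lib.RelDiv.ExactFlat.lTensor_injective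
      (p := (LinearMap.range u).mkQ) hinj (LinearMap.exact_map_mkQ_range u) (Submodule.mkQ_surjective _) A
    intro x y hxy
    refine (TensorProduct.comm C _ A).injective (h1 ?_)
    have hc : ∀ w, u.lTensor A (TensorProduct.comm C _ A w) = TensorProduct.comm C _ A (u.rTensor A w) := by
      intro w
      induction w using TensorProduct.induction_on with
      | zero => simp
      | add a b ha hb => simp only [map_add, ha, hb]
      | tmul a b => simp
    rw [hc, hc, hxy]
  have hw : u.rTensor A (((LocalizedModule.mkLinearMap q.primeCompl N).restrictScalars C).rTensor A z) = 0 := by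
    rw [← LinearMap.comp_apply, ← LinearMap.rTensor_comp]
    have : u ∘ₗ (LocalizedModule.mkLinearMap q.primeCompl N).restrictScalars C =
        (LocalizedModule.mkLinearMap q.primeCompl N).restrictScalars C ∘ₗ
          (LinearMap.lsmul S N f).restrictScalars C :=
      LinearMap.ext fun n => ((LocalizedModule.mkLinearMap q.primeCompl N).map_smul f n).symm
    rw [this, LinearMap.rTensor_comp, LinearMap.comp_apply]
    have h2 : ((LinearMap.lsmul S N f).restrictScalars C).rTensor A z = f • z := rfl
    rw [h2, hz, map_zero]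
  obtain ⟨s, hs, hsz⟩ := exists_of_rTensor_eq_zero q z ((injective_iff_map_eq_zero _).1 hu _ hw)
  refine hs (hJQ ?_)
  change Λ (s ⊗ₜ[C] (1 : A)) z = 0
  simp only [Λ, Algebra.TensorProduct.lift_tmul, map_one, mul_one, Algebra.lsmul_coe]
  exact hsz

end Groth.Agent.H22.FibreRegular
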