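import Groth.Agent.H22.FerrandAux
import Mathlib.RingTheory.Noetherian.Basic
import Mathlib.RingTheory.Ideal.MinimalPrime.Noetherian
import Mathlib.RingTheory.Ideal.GoingUp
import Mathlib.RingTheory.IntegralClosure.IntegralRestrict
import Mathlib.RingTheory.Noetherian.Nilpotent
import Mathlib.RingTheory.Flat.Equalizer

/-! Descent of flatness along finite injective ring maps (Ferrand). -/

open TensorProduct LinearMap

namespace Groth.Agent.H22.Ferrand

universe u

/-- `M` is flat over `R` as soon as it is flat after a finite injective extension. -/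
def Descends (R : Type u) [CommRing R] : Prop :=
  ∀ (S : Type u) [CommRing S] [Algebra R S] [Module.Finite R S],
    Function.Injective (algebraMap R S) → ∀ (M : Type u) [AddCommGroup M] [Module R M],
      Module.Flat S (S ⊗[R] M) → Module.Flat R M

variable {R : Type u} [CommRing R] [IsNoetherianRing R]

/-- Apply descent to a quotient ring. -/
theorem flatAt_of_descends {S : Type u} [CommRing S] [Algebra R S] [Module.Finite R S]
    {M : Type u} [AddCommGroup M] [Module R M] (hfl : Module.Flat S (S ⊗[R] M))
    (J : Ideal R) (L : Ideal S) (hJ : L.comap (algebraMap R S) = J) (h : Descends (R ⧸ J)) :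
    FlatMod.FlatAt M J := by
  subst hJ
  have : Module.Finite (R ⧸ L.comap (algebraMap R S)) (S ⧸ L) :=
    Module.Finite.of_restrictScalars_finite R _ _
  refine FlatMod.flatAt (h (S ⧸ L) Ideal.algebraMap_quotient_injective _ ?_)
  let J := L.comap (algebraMap R S)
  exact Module.Flat.of_linearEquiv
    ((AlgebraTensorModule.cancelBaseChange R (R ⧸ J) (S ⧸ L) (S ⧸ L) M) ≪≫ₗ
      (AlgebraTensorModule.cancelBaseChange R S (S ⧸ L) (S ⧸ L) M).symm)

theorem flatAt_mono {M : Type u} [AddCommGroup M] [Module R M] {I J : Ideal R} (hIJ : I ≤ J)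
    (h : FlatMod.FlatAt M I) : FlatMod.FlatAt M J := by
  have := FlatMod.flat_quotient h
  intro p
  refine Lib.LocalFlat.Basic.lTensor_injective_of_smul_eq_zero (I := I) p.subtype
    p.subtype_injective fun r hr x => ?_
  obtain ⟨a, rfl⟩ := Submodule.mkQ_surjective _ x
  rw [← map_smul, Submodule.mkQ_apply, Submodule.Quotient.mk_eq_zero]
  exact J.mul_mem_right _ (hIJ hr)

theorem flatAt_inf_finset {M : Type u} [AddCommGroup M] [Module R M] {ι : Type*} (s : Finset ι)
    (I : ι → Ideal R) (h : ∀ i ∈ s, FlatMod.FlatAt M (I i)) : FlatMod.FlatAt M (s.inf I) := by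
  classical
  induction s using Finset.induction with
  | empty =>
    intro p
    have : Subsingleton (R ⧸ (∅ : Finset ι).inf I) := by
      rw [Finset.inf_empty]; exact Ideal.Quotient.subsingleton_iff.2 rfl
    have : Subsingleton (M ⊗[R] p) := subsingleton_of_forall_eq 0 fun x => by
      induction x using TensorProduct.induction_on with
      | zero => rfl
      | add a b ha hb => rw [ha, hb, add_zero]
      | tmul m q => rw [Subsingleton.elim q 0, tmul_zero]
    exact Function.injective_of_subsingleton _
  | insert a s _ ih =>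
    rw [Finset.inf_insert]
    exact FlatMod.flatAt_inf (h a (Finset.mem_insert_self _ _))
      (ih fun i hi => h i (Finset.mem_insert_of_mem hi))

theorem descends_domain [IsDomain R] (IH : ∀ J : Ideal R, J ≠ ⊥ → Descends (R ⧸ J))
    (T : Type u) [CommRing T] [IsDomain T] [Algebra R T] [Module.Finite R T]
    (hinj : Function.Injective (algebraMap R T)) (M : Type u) [AddCommGroup M] [Module R M]
    [Module.Flat T (T ⊗[R] M)] : Module.Flat R M := by
  obtain ⟨c, hc0, hloc⟩ := FerrandAux.exists_flat_away (M := M) hinj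
  obtain ⟨k, hk⟩ := AdicIso.exists_comap_le (Ideal.span {c}) (Algebra.linearMap R T)
  -- the ideals `c ^ n T ∩ R`
  let J : ℕ → Ideal R := fun n => ((Ideal.span {c} ^ n).map (algebraMap R T)).comap (algebraMap R T)
  have hJle : ∀ n, J (n + k) ≤ Ideal.span {c} ^ n := by
    intro n x hx
    have hx' : algebraMap R T x ∈ (Ideal.span {c} ^ (n + k) • ⊤ : Submodule R T) := by
      rw [Ideal.smul_top_eq_map]; exact hx
    have := hk n hx'
    rw [show LinearMap.ker (Algebra.linearMap R T) = ⊥ from ker_eq_bot.2 hinj, bot_sup_eq] at this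
    simpa using this
  have hJ : ∀ n, FlatMod.FlatAt M (J n) := by
    intro n
    refine flatAt_of_descends (S := T) inferInstance (J n) _ rfl (IH _ ?_)
    intro h0
    have hmem : c ^ n ∈ J n :=
      Ideal.mem_map_of_mem _ (Ideal.pow_mem_pow (Ideal.mem_span_singleton_self c) n)
    rw [h0, Ideal.mem_bot] at hmem
    exact pow_ne_zero n hc0 hmem
  -- the `c`-power torsion
  let L := Localization.Away c
  let T₀ : Submodule R M := LinearMap.ker (TensorProduct.mk R L M 1)
  have hT₀ : ∀ x : T₀, ∃ n, c ^ n • (x : M) = 0 := by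
    intro x
    obtain ⟨⟨_, n, rfl⟩, hn⟩ := (IsLocalizedModule.eq_zero_iff (Submonoid.powers c)
      (TensorProduct.mk R L M 1)).1 x.2
    exact ⟨n, hn⟩
  have hone : ∀ x : T₀, (1 : T) ⊗ₜ[R] (x : M) = 0 := by
    intro x
    obtain ⟨n, hn⟩ := hT₀ x
    have hreg : IsSMulRegular (T ⊗[R] M) (algebraMap R T (c ^ n)) :=
      Module.Flat.isSMulRegular_of_isRegular (IsRegular.of_ne_zero
        ((map_ne_zero_iff _ hinj).2 (pow_ne_zero n hc0)))
    refine hreg ?_
    simp only [algebraMap_smul, smul_zero, ← tmul_smul, hn, tmul_zero]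
  have hdiv : ∀ x : T₀, ∀ n, (x : M) ∈ (Ideal.span {c} ^ n • ⊤ : Submodule R M) := by
    intro x n
    refine Submodule.smul_mono (hJle n) le_rfl ?_
    -- `R / J → T / c ^ n T` stays injective after tensoring with `M`
    have := FlatMod.flat_quotient (hJ (n + k))
    let Lt : Ideal T := (Ideal.span {c} ^ (n + k)).map (algebraMap R T)
    let f : (R ⧸ J (n + k)) →ₗ[R] (T ⧸ Lt) :=
      Submodule.mapQ (J (n + k)) (Lt.restrictScalars R) (Algebra.linearMap R T) fun y hy => hy
    have hf : Function.Injective f := by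
      rw [injective_iff_map_eq_zero]
      intro y hy
      obtain ⟨y, rfl⟩ := Submodule.mkQ_surjective _ y
      exact (Submodule.Quotient.mk_eq_zero _).2
        ((Submodule.Quotient.mk_eq_zero (Lt.restrictScalars R)).1 hy)
    have hfM : Function.Injective (f.lTensor M) := by
      refine Lib.LocalFlat.Basic.lTensor_injective_of_smul_eq_zero (I := J (n + k)) f hf ?_
      intro r hr y
      obtain ⟨y, rfl⟩ := Ideal.Quotient.mk_surjective y
      rw [Algebra.smul_def, IsScalarTower.algebraMap_apply R T (T ⧸ Lt),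
        Ideal.Quotient.algebraMap_eq, ← map_mul, Ideal.Quotient.eq_zero_iff_mem]
      exact Lt.mul_mem_right _ hr
    have h0 : f.lTensor M ((x : M) ⊗ₜ[R] (1 : R ⧸ J (n + k))) = 0 := by
      have := congrArg (fun z => (TensorProduct.comm R (T ⧸ Lt) M)
        ((Ideal.Quotient.mkₐ R Lt).toLinearMap.rTensor M z)) (hone x)
      simp only [rTensor_tmul, AlgHom.toLinearMap_apply, map_one, comm_tmul, map_zero] at this
      rw [lTensor_tmul]
      convert this using 2
      show f (Submodule.Quotient.mk (1 : R)) = 1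
      exact congrArg Submodule.Quotient.mk (map_one (algebraMap R T))
    have h1 := hfM (h0.trans (map_zero _).symm)
    have h2 := congrArg (TensorProduct.tensorQuotEquivQuotSMul M (J (n + k))) h1
    rw [map_zero] at h2
    have : TensorProduct.tensorQuotEquivQuotSMul M (J (n + k))
        ((x : M) ⊗ₜ[R] (Ideal.Quotient.mk (J (n + k)) 1)) = Submodule.Quotient.mk (x : M) := by
      rw [TensorProduct.tensorQuotEquivQuotSMul_tmul_mk, one_smul]
    exact (Submodule.Quotient.mk_eq_zero _).1 (this.symm.trans h2)
  have hdiv' : ∀ x : T₀, ∃ y : T₀, c • y = x := by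
    intro x
    have := hdiv x 1
    rw [pow_one, Submodule.ideal_span_singleton_smul] at this
    obtain ⟨y, -, hy⟩ := this
    obtain ⟨n, hn⟩ := hT₀ x
    refine ⟨⟨y, ?_⟩, Subtype.ext hy⟩
    refine (IsLocalizedModule.eq_zero_iff (Submonoid.powers c)
      (TensorProduct.mk R L M 1)).2 ⟨⟨c ^ (n + 1), n + 1, rfl⟩, ?_⟩
    show c ^ (n + 1) • y = 0
    rw [pow_succ, mul_smul, ← hn, ← hy]
    rfl
  let M' := M ⧸ T₀
  have hM'reg : Function.Injective (fun m : M' => c • m) := by
    intro a b hab
    obtain ⟨a, rfl⟩ := Submodule.mkQ_surjective _ a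
    obtain ⟨b, rfl⟩ := Submodule.mkQ_surjective _ b
    have h1 : c • (a - b) ∈ T₀ := by
      rw [← Submodule.Quotient.mk_eq_zero T₀, smul_sub]
      simp only [← Submodule.mkQ_apply, map_sub, map_smul]
      exact sub_eq_zero.2 hab
    obtain ⟨n, hn⟩ := hT₀ ⟨_, h1⟩
    refine (Submodule.Quotient.eq _).2 ((IsLocalizedModule.eq_zero_iff (Submonoid.powers c)
      (TensorProduct.mk R L M 1)).2 ⟨⟨c ^ (n + 1), n + 1, rfl⟩, ?_⟩)
    show c ^ (n + 1) • (a - b) = 0
    rw [pow_succ, mul_smul]
    exact hn
  have hcM : FlatMod.FlatAt M (Ideal.span {c}) := by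
    have := flatAt_mono (hJle 1) (hJ (1 + k))
    rwa [pow_one] at this
  have hcM' : FlatMod.FlatAt M' (Ideal.span {c}) := by
    intro p
    have hz : ∀ w : T₀ ⊗[R] p, w = 0 := by
      intro w
      induction w using TensorProduct.induction_on with
      | zero => rfl
      | add a b ha hb => rw [ha, hb, add_zero]
      | tmul x q =>
        obtain ⟨y, rfl⟩ := hdiv' x
        rw [smul_tmul]
        have : c • q = 0 := by
          refine Subtype.ext ?_
          obtain ⟨z, hz⟩ := Submodule.mkQ_surjective _ (q : R ⧸ Ideal.span {c})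
          show c • (q : R ⧸ Ideal.span {c}) = 0
          rw [← hz, ← map_smul, Submodule.mkQ_apply, Submodule.Quotient.mk_eq_zero]
          exact Ideal.mul_mem_right _ _ (Ideal.mem_span_singleton_self c)
        rw [this, tmul_zero]
    have hz2 : ∀ w : T₀ ⊗[R] (R ⧸ Ideal.span {c}), w = 0 := by
      intro w
      induction w using TensorProduct.induction_on with
      | zero => rfl
      | add a b ha hb => rw [ha, hb, add_zero]
      | tmul x q =>
        obtain ⟨y, rfl⟩ := hdiv' x
        obtain ⟨z, rfl⟩ := Submodule.mkQ_surjective _ q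
        rw [smul_tmul, ← map_smul, show (Submodule.mkQ (Ideal.span {c})) (c • z) = 0 from
          (Submodule.Quotient.mk_eq_zero _).2
            (Ideal.mul_mem_right _ _ (Ideal.mem_span_singleton_self c)), tmul_zero]
    rw [injective_iff_map_eq_zero]
    intro x hx
    obtain ⟨y, rfl⟩ := rTensor_surjective p T₀.mkQ_surjective x
    have h1 : T₀.mkQ.rTensor (R ⧸ Ideal.span {c}) (p.subtype.lTensor M y) = 0 := by
      rw [← LinearMap.comp_apply, rTensor_comp_lTensor, ← lTensor_comp_rTensor,
        LinearMap.comp_apply, hx]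
    obtain ⟨z, hz'⟩ := (rTensor_exact _ (LinearMap.exact_subtype_mkQ T₀) T₀.mkQ_surjective _).1 h1
    rw [hz2 z, map_zero] at hz'
    rw [hcM p (hz'.symm.trans (map_zero _).symm), map_zero]
  have hM'loc : Module.Flat L (L ⊗[R] M') := by
    have := hloc
    let e : L ⊗[R] M →ₗ[L] L ⊗[R] M' := T₀.mkQ.baseChange L
    have he : Function.Bijective e := by
      refine ⟨?_, lTensor_surjective L T₀.mkQ_surjective⟩
      rw [injective_iff_map_eq_zero]
      intro x hx
      obtain ⟨y, rfl⟩ := (lTensor_exact L (LinearMap.exact_subtype_mkQ T₀) T₀.mkQ_surjective x).1 hx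
      induction y using TensorProduct.induction_on with
      | zero => simp
      | add a b ha hb => rw [map_add, ha (lTensor_exact L (LinearMap.exact_subtype_mkQ T₀) T₀.mkQ_surjective _ |>.2 ⟨a, rfl⟩), hb (lTensor_exact L (LinearMap.exact_subtype_mkQ T₀) T₀.mkQ_surjective _ |>.2 ⟨b, rfl⟩), add_zero]
      | tmul l w =>
        rw [lTensor_tmul, show T₀.subtype w = (w : M) from rfl, show l ⊗ₜ[R] (w : M) = l • ((1 : L) ⊗ₜ[R] (w : M)) by simp [smul_tmul']]
        have : (1 : L) ⊗ₜ[R] (w : M) = 0 := w.2
        rw [this, smul_zero]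
    exact Module.Flat.of_linearEquiv (LinearEquiv.ofBijective e he).symm
  have hM' : Module.Flat R M' := FerrandAux.flat_of_regular_of_flatAt c hM'reg hcM'
    (IsSMulRegular.of_ne_zero hc0) hM'loc
  have hT₀0 : Subsingleton T₀ := by
    have : Subsingleton (T ⊗[R] T₀) := by
      refine subsingleton_of_forall_eq 0 fun w => ?_
      apply LinearMap.lTensor_injective_of_exact_of_flat T₀.mkQ T₀.mkQ_surjective T₀.subtype
        T₀.injective_subtype (LinearMap.exact_subtype_mkQ T₀) T
      rw [map_zero]
      induction w using TensorProduct.induction_on with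
      | zero => simp
      | add a b ha hb => rw [map_add, ha, hb, add_zero]
      | tmul t x =>
        rw [lTensor_tmul, show T₀.subtype x = (x : M) from rfl,
          show t ⊗ₜ[R] (x : M) = t • ((1 : T) ⊗ₜ[R] (x : M)) by simp [smul_tmul'], hone,
          smul_zero]
    refine FaithfulTensor.subsingleton_of_tensor (R := R) (T := T) ?_ T₀
    refine eq_bot_iff.2 fun r hr => ?_
    have := Module.mem_annihilator.1 hr (1 : T)
    rw [Algebra.smul_def, mul_one, map_eq_zero_iff _ hinj] at this
    exact this
  have : T₀ = ⊥ := Submodule.eq_bot_of_subsingleton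
  exact Module.Flat.of_linearEquiv (Submodule.quotEquivOfEqBot T₀ this).symm

/-- Descent of flatness along finite injective maps. -/
theorem descends_of_surjective (I : Ideal R) : ∀ (D : Type u) [CommRing D] [Algebra R D],
    Function.Surjective (algebraMap R D) → RingHom.ker (algebraMap R D) = I → Descends D := by
  induction I using WellFoundedGT.induction with
  | _ I IH =>
  intro D _ _ hsurj hker
  have : IsNoetherianRing D := isNoetherianRing_of_surjective R D _ hsurj
  have IH' : ∀ J : Ideal D, J ≠ ⊥ → Descends (D ⧸ J) := by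
    intro J hJ
    refine IH (J.comap (algebraMap R D)) ?_ (D ⧸ J) ?_ ?_
    · rw [← hker, RingHom.ker_eq_comap_bot]
      refine lt_of_le_of_ne (Ideal.comap_mono bot_le) fun h => hJ ?_
      exact (Ideal.comap_injective_of_surjective _ hsurj h).symm
    · rw [IsScalarTower.algebraMap_eq R D (D ⧸ J), RingHom.coe_comp]
      exact Ideal.Quotient.mk_surjective.comp hsurj
    · rw [IsScalarTower.algebraMap_eq R D (D ⧸ J), ← RingHom.comap_ker,
        Ideal.Quotient.algebraMap_eq, Ideal.mk_ker]
  intro S _ _ _ hS M _ _ hM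
  classical
  rcases subsingleton_or_nontrivial D with hD | hD
  · have := Module.subsingleton D M
    infer_instance
  by_cases hdom : (⊥ : Ideal D).IsPrime
  · have : IsDomain D := by
      have := (Ideal.Quotient.isDomain_iff_prime (⊥ : Ideal D)).2 hdom
      exact (RingEquiv.quotientBot D).symm.toMulEquiv.isDomain
    have : Algebra.IsIntegral D S := Algebra.IsIntegral.of_finite _ _
    obtain ⟨q, -, hq, hqc⟩ := Ideal.exists_ideal_over_prime_of_isIntegral (⊥ : Ideal D)
      (⊥ : Ideal S) (by rw [← RingHom.ker_eq_comap_bot, (RingHom.injective_iff_ker_eq_bot _).1 hS])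
    have hinj : Function.Injective (algebraMap D (S ⧸ q)) := by
      rw [RingHom.injective_iff_ker_eq_bot, ← hqc, IsScalarTower.algebraMap_eq D S (S ⧸ q),
        ← RingHom.comap_ker, Ideal.Quotient.algebraMap_eq, Ideal.mk_ker]
    have : Module.Flat (S ⧸ q) ((S ⧸ q) ⊗[D] M) := Module.Flat.of_linearEquiv
      (AlgebraTensorModule.cancelBaseChange D S (S ⧸ q) (S ⧸ q) M).symm
    exact descends_domain IH' (S ⧸ q) hinj M
  · have hfin := minimalPrimes.finite_of_isNoetherianRing D
    have h1 : ∀ P ∈ hfin.toFinset, FlatMod.FlatAt M P := by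
      intro P hP
      have hP' : P ∈ minimalPrimes D := hfin.mem_toFinset.1 hP
      have hPprime : P.IsPrime := hP'.1.1
      have : Algebra.IsIntegral D S := Algebra.IsIntegral.of_finite _ _
      obtain ⟨q, -, hq, hqc⟩ := Ideal.exists_ideal_over_prime_of_isIntegral P
        (⊥ : Ideal S) (by
          rw [← RingHom.ker_eq_comap_bot, (RingHom.injective_iff_ker_eq_bot _).1 hS]; exact bot_le)
      exact flatAt_of_descends hM P q hqc (IH' P fun h => hdom (h ▸ inferInstance))
    have h2 := flatAt_inf_finset _ _root_.id h1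
    refine FlatMod.flat_of_nilpotent (R' := S) hS ?_ h2
    refine (Ideal.FG.isNilpotent_iff_le_nilradical (IsNoetherian.noetherian _)).2 fun x hx => ?_
    rw [nilradical_eq_sInf, Submodule.mem_sInf]
    intro P hP
    have hPprime : Ideal.IsPrime (α := D) P := hP
    obtain ⟨P', hP', hle⟩ := Ideal.exists_minimalPrimes_le (bot_le : ⊥ ≤ P)
    exact hle (Submodule.mem_finsetInf.1 hx P' (hfin.mem_toFinset.2 hP'))

theorem flat_of_finite_injective (S : Type u) [CommRing S] [Algebra R S] [Module.Finite R S]
    (hinj : Function.Injective (algebraMap R S)) (M : Type u) [AddCommGroup M] [Module R M]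
    [Module.Flat S (S ⊗[R] M)] : Module.Flat R M :=
  descends_of_surjective _ R Function.surjective_id rfl S hinj M inferInstance

end Groth.Agent.H22.Ferrand
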