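import Mathlib.RingTheory.AdicCompletion.Functoriality
import Mathlib.RingTheory.Filtration
import Mathlib.RingTheory.Noetherian.Orzech
import Mathlib.RingTheory.Artinian.Module
import Mathlib.Algebra.Module.FinitePresentation

/-! Artin-Rees for maps and consequences for adic completions. -/

open LinearMap

namespace Groth.Agent.H22.AdicIso

universe u

variable {A : Type u} [CommRing A] [IsNoetherianRing A] (I : Ideal A)

/-- Artin–Rees for a linear map. -/
theorem exists_comap_le {L M : Type*} [AddCommGroup L] [Module A L] [AddCommGroup M] [Module A M]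
    [Module.Finite A M] (φ : L →ₗ[A] M) :
    ∃ k : ℕ, ∀ n, (I ^ (n + k) • ⊤ : Submodule A M).comap φ ≤
      ker φ ⊔ (I ^ n • ⊤ : Submodule A L) := by
  obtain ⟨k, hk⟩ := Ideal.exists_pow_inf_eq_pow_smul I (range φ)
  refine ⟨k, fun n x hx => ?_⟩
  have : φ x ∈ I ^ (n + k) • ⊤ ⊓ range φ := ⟨hx, ⟨x, rfl⟩⟩
  rw [hk _ (Nat.le_add_left k n), Nat.add_sub_cancel] at this
  have : φ x ∈ (I ^ n • ⊤ : Submodule A L).map φ := by
    rw [Submodule.map_smul'', Submodule.map_top]
    exact Submodule.smul_mono le_rfl inf_le_right this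
  obtain ⟨y, hy, hyx⟩ := this
  exact Submodule.mem_sup.2 ⟨x - y, by simp [LinearMap.mem_ker, hyx], y, hy, by simp⟩

theorem artinRees_homology (K L M : Type u) [AddCommGroup K] [Module A K]
    [AddCommGroup L] [Module A L] [Module.Finite A L] [AddCommGroup M] [Module A M]
    [Module.Finite A M] (α : K →ₗ[A] L) (β : L →ₗ[A] M) (hαβ : β ∘ₗ α = 0) :
    ∃ c : ℕ, 0 < c ∧ ∀ n : ℕ,
      (∀ y ∈ (I ^ (n + c) • ⊤ : Submodule A M).comap β,
        ∃ z ∈ LinearMap.ker β, y - z ∈ LinearMap.range α ⊔ (I ^ n • ⊤ : Submodule A L)) ∧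
      (∀ z ∈ LinearMap.ker β, z ∈ LinearMap.range α ⊔ (I ^ n • ⊤ : Submodule A L) →
        ∀ a ∈ I ^ c, a • z ∈ LinearMap.range α ⊔ I ^ n • LinearMap.ker β) ∧
      (∀ y ∈ (I ^ n • ⊤ : Submodule A M).comap β, ∀ a ∈ I ^ c,
        ∃ z ∈ LinearMap.ker β, a • y - z ∈ LinearMap.range α ⊔ (I ^ n • ⊤ : Submodule A L)) := by
  obtain ⟨k₁, hk₁⟩ := exists_comap_le I β
  obtain ⟨k₂, hk₂⟩ := Ideal.exists_pow_inf_eq_pow_smul I (LinearMap.ker β)
  have hR : LinearMap.range α ≤ LinearMap.ker β := by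
    rintro _ ⟨x, rfl⟩
    exact LinearMap.congr_fun hαβ x
  refine ⟨k₁ + k₂ + 1, Nat.succ_pos _, fun n => ?_⟩
  have key : ∀ y ∈ (I ^ (n + (k₁ + k₂ + 1)) • ⊤ : Submodule A M).comap β,
      ∃ z ∈ LinearMap.ker β, y - z ∈ LinearMap.range α ⊔ (I ^ n • ⊤ : Submodule A L) := by
    intro y hy
    obtain ⟨z, hz, w, hw, rfl⟩ := Submodule.mem_sup.1 (hk₁ n (Submodule.comap_mono
      (Submodule.smul_mono (Ideal.pow_le_pow_right (by omega)) le_rfl) hy))
    exact ⟨z, hz, Submodule.mem_sup_right (by simpa using hw)⟩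
  refine ⟨key, fun z hz hz' a ha => ?_, fun y hy a ha => key (a • y) ?_⟩
  · obtain ⟨r, hr, w, hw, rfl⟩ := Submodule.mem_sup.1 hz'
    have hwk : w ∈ LinearMap.ker β := (Submodule.add_mem_iff_right _ (hR hr)).1 hz
    have : a • w ∈ I ^ (n + k₂) • (⊤ : Submodule A L) ⊓ LinearMap.ker β := by
      refine ⟨?_, Submodule.smul_mem _ _ hwk⟩
      refine Submodule.smul_mono (Ideal.pow_le_pow_right (?_ : n + k₂ ≤ (k₁ + k₂ + 1) + n)) le_rfl ?_
      · omega
      · rw [pow_add, Submodule.mul_smul]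
        exact Submodule.smul_mem_smul ha hw
    rw [hk₂ _ (Nat.le_add_left _ _), Nat.add_sub_cancel] at this
    rw [smul_add]
    exact add_mem (Submodule.mem_sup_left (Submodule.smul_mem _ _ hr))
      (Submodule.mem_sup_right (Submodule.smul_mono le_rfl inf_le_right this))
  · simp only [Submodule.mem_comap, map_smul]
    rw [add_comm n, pow_add, Submodule.mul_smul]
    exact Submodule.smul_mem_smul ha hy

variable {M N : Type u} [AddCommGroup M] [Module A M] [Module.Finite A M] [AddCommGroup N]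
  [Module A N] [Module.Finite A N]

/-- A map modulo a high power of `I` agrees modulo `I` with a map. -/
theorem exists_hom_congr : ∃ c : ℕ, ∀ g : M →ₗ[A] N ⧸ (I ^ (1 + c) • ⊤ : Submodule A N),
    ∃ h : M →ₗ[A] N, ∀ x, ∀ y, Submodule.Quotient.mk y = g x →
      h x - y ∈ (I • ⊤ : Submodule A N) := by
  classical
  have := Module.finitePresentation_of_finite A M
  obtain ⟨q, p, π, r, hπ, hex⟩ := Module.FinitePresentation.exists_fin' A M
  let Φ : (Fin q → N) →ₗ[A] (Fin p → N) :=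
    LinearMap.pi fun j => ∑ i, (r (Pi.single j 1) i) • LinearMap.proj i
  obtain ⟨c, hc⟩ := exists_comap_le I Φ
  refine ⟨c, fun g => ?_⟩
  choose y hy using fun i => Submodule.mkQ_surjective (I ^ (1 + c) • ⊤ : Submodule A N) (g (π (Pi.single i 1)))
  have hrel : ∀ j, ∑ i, r (Pi.single j 1) i • g (π (Pi.single i 1)) = 0 := by
    intro j
    have h0 : π (r (Pi.single j 1)) = 0 := hex.apply_apply_eq_zero _
    rw [pi_eq_sum_univ' (r (Pi.single j 1)), map_sum] at h0
    simp only [map_smul] at h0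
    have := congrArg g h0
    simpa [map_sum] using this
  have hΦ : Φ y ∈ (I ^ (1 + c) • ⊤ : Submodule A (Fin p → N)) := by
    have hj : ∀ j, Φ y j ∈ (I ^ (1 + c) • ⊤ : Submodule A N) := by
      intro j
      rw [← Submodule.Quotient.mk_eq_zero, ← hrel j]
      simp [Φ, ← Submodule.mkQ_apply, hy]
    rw [← Finset.univ_sum_single (Φ y)]
    refine Submodule.sum_mem _ fun j _ => ?_
    have := Submodule.mem_map_of_mem (f := LinearMap.single A (fun _ : Fin p => N) j) (hj j)
    rw [Submodule.map_smul''] at this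
    exact Submodule.smul_mono le_rfl le_top this
  obtain ⟨y', hy', w, hw, hyw⟩ := Submodule.mem_sup.1 (hc 1 hΦ)
  rw [pow_one] at hw
  let H₀ : (Fin q → A) →ₗ[A] N := Fintype.linearCombination A y'
  have hH₀ : ker π ≤ ker H₀ := by
    rw [LinearMap.exact_iff.1 hex]
    rintro _ ⟨z, rfl⟩
    rw [LinearMap.mem_ker, pi_eq_sum_univ' z, map_sum, map_sum]
    refine Finset.sum_eq_zero fun j _ => ?_
    rw [map_smul, map_smul]
    have := congrFun (LinearMap.mem_ker.1 hy') j
    simp only [Φ, LinearMap.pi_apply, LinearMap.sum_apply, LinearMap.smul_apply,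
      LinearMap.proj_apply, Pi.zero_apply] at this
    rw [show H₀ (r (Pi.single j 1)) = ∑ i, r (Pi.single j 1) i • y' i from rfl, this, smul_zero]
  let h : M →ₗ[A] N := (ker π).liftQ H₀ hH₀ ∘ₗ (π.quotKerEquivOfSurjective hπ).symm.toLinearMap
  refine ⟨h, fun x z hz => ?_⟩
  obtain ⟨v, rfl⟩ := hπ x
  have e : h (π v) = H₀ v := by
    have : (π.quotKerEquivOfSurjective hπ).symm (π v) = Submodule.Quotient.mk v :=
      (LinearEquiv.symm_apply_eq _).2 rfl
    simp [h, this]
  have hle : (I ^ (1 + c) • ⊤ : Submodule A N) ≤ I • ⊤ := by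
    refine Submodule.smul_mono ?_ le_rfl
    exact Ideal.pow_le_self (by omega)
  have h1 : z - ∑ i, v i • y i ∈ (I • ⊤ : Submodule A N) := by
    refine hle ((Submodule.Quotient.eq _).1 ?_)
    conv_lhs => rw [hz, pi_eq_sum_univ' v]
    simp [map_sum, ← Submodule.mkQ_apply, hy]
  have h2 : H₀ v - ∑ i, v i • y i ∈ (I • ⊤ : Submodule A N) := by
    have : H₀ v - ∑ i, v i • y i = - ∑ i, v i • w i := by
      rw [← hyw, show H₀ v = ∑ i, v i • y' i from rfl]
      simp [smul_add, Finset.sum_add_distrib]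
    rw [this]
    refine neg_mem (sum_mem fun i _ => Submodule.smul_mem _ _ ?_)
    have := Submodule.mem_map_of_mem (f := (LinearMap.proj i : (Fin q → N) →ₗ[A] N)) hw
    rw [Submodule.map_smul''] at this
    exact Submodule.smul_mono le_rfl le_top this
  have := sub_mem h2 h1
  rwa [sub_sub_sub_cancel_right, ← e] at this

omit [IsNoetherianRing A] [Module.Finite A M] [Module.Finite A N] in
theorem range_sup_pow_eq_top (h : M →ₗ[A] N) (hs : range h ⊔ (I • ⊤ : Submodule A N) = ⊤) (n : ℕ) :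
    range h ⊔ (I ^ n • ⊤ : Submodule A N) = ⊤ := by
  induction n with
  | zero => simp
  | succ n ih =>
    refine eq_top_iff.2 ?_
    calc (⊤ : Submodule A N) = range h ⊔ I • (⊤ : Submodule A N) := hs.symm
      _ = range h ⊔ I • (range h ⊔ I ^ n • ⊤) := by rw [ih]
      _ ≤ range h ⊔ I ^ (n + 1) • ⊤ := by
        rw [Submodule.smul_sup, pow_succ', Submodule.mul_smul]
        exact sup_le le_sup_left (sup_le (le_sup_of_le_left Submodule.smul_le_right) le_sup_right)

theorem nonempty_completion_equiv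
    (h : ∀ n : ℕ, Nonempty ((M ⧸ (I ^ n • ⊤ : Submodule A M)) ≃ₗ[A] (N ⧸ (I ^ n • ⊤ : Submodule A N)))) :
    Nonempty (AdicCompletion I M ≃ₗ[AdicCompletion I A] AdicCompletion I N) := by
  obtain ⟨c, hc⟩ := exists_hom_congr I (M := M) (N := N)
  obtain ⟨c', hc'⟩ := exists_hom_congr I (M := N) (N := M)
  -- maps which are surjective modulo `I`
  obtain ⟨e⟩ := h (1 + c)
  obtain ⟨f, hf⟩ := hc (e.toLinearMap ∘ₗ Submodule.mkQ _)
  obtain ⟨e'⟩ := h (1 + c')
  obtain ⟨g, hg⟩ := hc' (e'.symm.toLinearMap ∘ₗ Submodule.mkQ _)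
  have hfs : range f ⊔ (I • ⊤ : Submodule A N) = ⊤ := by
    refine eq_top_iff.2 fun y _ => ?_
    obtain ⟨x, hx⟩ := Submodule.mkQ_surjective _ (e.symm (Submodule.Quotient.mk y))
    refine Submodule.mem_sup.2 ⟨f x, ⟨x, rfl⟩, y - f x, ?_, by simp⟩
    rw [← neg_sub]
    exact neg_mem (hf x y (by simp [hx]))
  have hgs : range g ⊔ (I • ⊤ : Submodule A M) = ⊤ := by
    refine eq_top_iff.2 fun y _ => ?_
    obtain ⟨x, hx⟩ := Submodule.mkQ_surjective _ (e' (Submodule.Quotient.mk y))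
    refine Submodule.mem_sup.2 ⟨g x, ⟨x, rfl⟩, y - g x, ?_, by simp⟩
    rw [← neg_sub]
    exact neg_mem (hg x y (by simp [hx]))
  have hsurj : ∀ n, Function.Surjective (f.reduceModIdeal (I ^ n)) ∧
      Function.Surjective (g.reduceModIdeal (I ^ n)) := by
    intro n
    constructor
    · intro y
      obtain ⟨y, rfl⟩ := Submodule.mkQ_surjective _ y
      obtain ⟨_, ⟨x, rfl⟩, w, hw, rfl⟩ := Submodule.mem_sup.1
        ((range_sup_pow_eq_top I f hfs n).ge (Submodule.mem_top (x := y)))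
      refine ⟨Submodule.Quotient.mk x, ?_⟩
      simp [(Submodule.Quotient.mk_eq_zero _).2 hw]
    · intro y
      obtain ⟨y, rfl⟩ := Submodule.mkQ_surjective _ y
      obtain ⟨_, ⟨x, rfl⟩, w, hw, rfl⟩ := Submodule.mem_sup.1
        ((range_sup_pow_eq_top I g hgs n).ge (Submodule.mem_top (x := y)))
      refine ⟨Submodule.Quotient.mk x, ?_⟩
      simp [(Submodule.Quotient.mk_eq_zero _).2 hw]
  have hbij : ∀ n, Function.Bijective (f.reduceModIdeal (I ^ n)) := by
    intro n
    have := IsNoetherian.injective_of_surjective_endomorphism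
      (((g.reduceModIdeal (I ^ n)).restrictScalars A) ∘ₗ ((f.reduceModIdeal (I ^ n)).restrictScalars A))
      ((hsurj n).2.comp (hsurj n).1)
    exact ⟨Function.Injective.of_comp this, (hsurj n).1⟩
  refine ⟨LinearEquiv.ofBijective (AdicCompletion.map I f) ⟨?_, ?_⟩⟩
  · intro x y hxy
    refine AdicCompletion.ext fun {n} => (hbij n).1 ?_
    rw [← AdicCompletion.map_val_apply, ← AdicCompletion.map_val_apply, hxy]
  · intro z
    choose v hv using fun n => (hsurj n).1 (z.val n)
    refine ⟨⟨v, fun {m n} hmn => ?_⟩, AdicCompletion.ext fun {n} => hv n⟩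
    apply (hbij m).1
    rw [hv m, ← z.2 hmn, ← hv n]
    exact (LinearMap.congr_fun (AdicCompletion.transitionMap_comp_reduceModIdeal (I := I) f hmn) (v n)).symm

end Groth.Agent.H22.AdicIso
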