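import Groth.Agent.H22.CDCover
import Groth.Agent.Lib.Flat55.GenericStrataScheme
import Mathlib.AlgebraicGeometry.Limits

/-!
# An admissible blow-up with an ample family
-/

set_option autoImplicit false
set_option maxHeartbeats 1000000

noncomputable section

universe u

open CategoryTheory CategoryTheory.Limits AlgebraicGeometry Opposite TopologicalSpace

namespace Groth.Agent.H22.AdmissibleAmple

open Groth.Agent.Lib Groth.Agent.Lib.BlowUpExists

variable {X : Scheme.{u}}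

/-- A finite cover by affine opens which all contain a fixed dense quasi-compact open. -/
theorem exists_dense_cover [CompactSpace X] (hirr : (irreducibleComponents ↥X).Finite) :
    ∃ (U : X.Opens) (m : ℕ) (V : Fin m → X.Opens), IsCompact (U : Set X) ∧ Dense (U : Set X) ∧
      (∀ i, IsAffineOpen (V i)) ∧ (∀ x : X, ∃ i, x ∈ V i) ∧ ∀ i, U ≤ V i := by
  classical
  obtain ⟨t, ht⟩ := isCompact_univ.elim_finite_subcover (fun U : X.affineOpens => (U.1 : Set X))
    (fun U => U.1.2) (fun x _ => by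
      obtain ⟨W, hW, hxW, -⟩ := exists_isAffineOpen_mem_and_subset (X := X)
        (TopologicalSpace.Opens.mem_top x)
      exact Set.mem_iUnion.mpr ⟨⟨W, hW⟩, hxW⟩)
  haveI : Finite (irreducibleComponents ↥X) := hirr.to_subtype
  have hcl : ∀ Z : irreducibleComponents ↥X, IsClosed (Z.1 : Set X) :=
    fun Z => isClosed_of_mem_irreducibleComponents _ Z.2
  choose η hη using fun Z : irreducibleComponents ↥X =>
    QuasiSober.sober (S := (Z.1 : Set X)) Z.2.1 (hcl Z)
  have hmem : ∀ x : X, ∃ Z : irreducibleComponents ↥X, x ∈ Z.1 := fun x =>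
    ⟨⟨_, irreducibleComponent_mem_irreducibleComponents x⟩, mem_irreducibleComponent⟩
  have hW : ∀ Z : irreducibleComponents ↥X, ∃ W : X.Opens, IsAffineOpen W ∧ η Z ∈ W ∧
      (∀ x ∈ W, ∀ Z' : irreducibleComponents ↥X, x ∈ Z'.1 → Z' = Z) ∧
      ∀ U ∈ t, η Z ∈ U.1 → W ≤ U.1 := by
    intro Z
    have hη' : η Z ∈ (⋃ Z' : {Z' : irreducibleComponents ↥X // Z' ≠ Z}, (Z'.1.1 : Set X))ᶜ ∩
        ⋂ U ∈ {U : X.affineOpens | U ∈ t ∧ η Z ∈ U.1}, (U.1 : Set X) := by
      refine ⟨fun h => ?_, Set.mem_iInter₂.2 fun U hU => hU.2⟩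
      obtain ⟨Z', hZ'⟩ := Set.mem_iUnion.1 h
      have hle : (Z.1 : Set X) ⊆ Z'.1.1 := by
        rw [← (hη Z).def]
        exact (hcl Z'.1).closure_subset_iff.2 (Set.singleton_subset_iff.2 hZ')
      exact Z'.2 (Subtype.ext ((Z.2.eq_of_subset Z'.1.2.1 hle).symm))
    have ho : IsOpen ((⋃ Z' : {Z' : irreducibleComponents ↥X // Z' ≠ Z}, (Z'.1.1 : Set X))ᶜ ∩
        ⋂ U ∈ {U : X.affineOpens | U ∈ t ∧ η Z ∈ U.1}, (U.1 : Set X)) :=
      (isClosed_iUnion_of_finite
        (s := fun Z' : {Z' : irreducibleComponents ↥X // Z' ≠ Z} => (Z'.1.1 : Set X))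
        fun Z' => hcl Z'.1).isOpen_compl.inter
        ((t.finite_toSet.subset (fun U hU => hU.1 :
          {U : X.affineOpens | U ∈ t ∧ η Z ∈ U.1} ⊆ (t : Set X.affineOpens))).isOpen_biInter
            fun U _ => U.1.2)
    obtain ⟨W, hWa, hηW, hle⟩ := exists_isAffineOpen_mem_and_subset (X := X) (U := ⟨_, ho⟩) hη'
    refine ⟨W, hWa, hηW, fun x hx Z' hxZ' => by_contra fun hne => ?_, fun U hU hηU x hx => ?_⟩
    · exact (hle hx).1 (Set.mem_iUnion.2 ⟨⟨Z', hne⟩, hxZ'⟩)
    · exact Set.mem_iInter₂.1 (hle hx).2 U ⟨hU, hηU⟩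
  choose W hWa hηW hWZ hWU using hW
  let e := Fintype.equivFin t
  let S : Fin (Fintype.card t) → Option (irreducibleComponents ↥X) → X.Opens := fun i o =>
    o.elim (e.symm i).1.1 fun Z => if η Z ∈ (e.symm i).1.1 then ⊥ else W Z
  refine ⟨⨆ Z, W Z, Fintype.card t, fun i => ⨆ o, S i o, ?_, ?_, fun i => ?_, fun x => ?_, fun i => ?_⟩
  · rw [Opens.coe_iSup]
    exact isCompact_iUnion fun Z => (hWa Z).isCompact
  · intro x
    obtain ⟨Z, hxZ⟩ := hmem x
    refine closure_mono (Set.singleton_subset_iff.2 ?_) ((hη Z).def.ge hxZ)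
    exact Opens.mem_iSup.2 ⟨Z, hηW Z⟩
  · refine IsAffineOpen.iSup_of_disjoint (fun o => ?_) ?_
    · rcases o with _ | Z
      · exact (e.symm i).1.2
      · show IsAffineOpen (if η Z ∈ (e.symm i).1.1 then ⊥ else W Z)
        split_ifs
        exacts [isAffineOpen_bot X, hWa Z]
    · have key : ∀ Z, Disjoint (e.symm i).1.1 (S i (some Z)) := by
        intro Z
        show Disjoint _ (if η Z ∈ (e.symm i).1.1 then ⊥ else W Z)
        split_ifs with h
        · exact disjoint_bot_right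
        refine disjoint_iff_inf_le.2 ?_
        rintro x ⟨hxU, hxW⟩
        obtain ⟨Z', hxZ'⟩ := hmem x
        obtain rfl := hWZ Z x hxW Z' hxZ'
        exact h (((hη Z').specializes hxZ').mem_open (e.symm i).1.1.2 hxU)
      rintro (_ | Z) (_ | Z') hne
      · exact absurd rfl hne
      · exact key Z'
      · exact (key Z).symm
      · have hle : ∀ Z, S i (some Z) ≤ W Z := fun Z => by
          show (if η Z ∈ (e.symm i).1.1 then ⊥ else W Z) ≤ W Z
          split_ifs
          exacts [bot_le, le_rfl]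
        refine Disjoint.mono (hle Z) (hle Z') (disjoint_iff_inf_le.2 ?_)
        rintro x ⟨hx, hx'⟩
        obtain ⟨Z'', hx''⟩ := hmem x
        exact hne (congrArg some ((hWZ Z x hx Z'' hx'').symm.trans (hWZ Z' x hx' Z'' hx'')))
  · obtain ⟨U, hU, hxU⟩ := Set.mem_iUnion₂.1 (ht (Set.mem_univ x))
    refine ⟨e ⟨U, hU⟩, Opens.mem_iSup.2 ⟨none, ?_⟩⟩
    show x ∈ (e.symm (e ⟨U, hU⟩)).1.1
    rw [Equiv.symm_apply_apply]
    exact hxU
  · refine iSup_le fun Z => ?_
    by_cases h : η Z ∈ (e.symm i).1.1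
    · exact (hWU Z _ (e.symm i).2 h).trans (le_iSup (S i) none)
    · refine le_trans ?_ (le_iSup (S i) (some Z))
      show W Z ≤ if η Z ∈ (e.symm i).1.1 then ⊥ else W Z
      rw [if_neg h]

theorem exists_admissible_blowUp [CompactSpace X] [QuasiSeparatedSpace X]
    (hirr : (irreducibleComponents ↥X).Finite) :
    ∃ (U : X.Opens) (𝓘 : X.IdealSheafData) (X' : Scheme.{u}) (b : X' ⟶ X),
      IsCompact (U : Set X) ∧ Dense (U : Set X) ∧ BlowUp.IsAdmissibleFor U 𝓘 ∧
      BlowUp.IsBlowUp b 𝓘 ∧ MoreMor.HasAmpleFamily X' := by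
  obtain ⟨U, m, V, hUc, hUd, hVa, hcov, hUV⟩ := exists_dense_cover hirr
  choose J hJf hJs using fun i =>
    Flat55.GenericStrataScheme.exists_isFG_support (V i) (hVa i).isCompact
  obtain ⟨I, hIs, hIf, hIc⟩ := CDCover.isEffCartier_factor m J
  have hfg := hIf hJf
  have hb := BlowUpAmple.isBlowUp_blProj I
  refine ⟨U, I, bl I, blProj I, hUc, hUd, ⟨hfg, ?_⟩, hb,
    CDCover.hasAmpleFamily_bl I hfg V hVa hcov J hJs fun i => hIc _ _ hb.1 i⟩
  rw [Set.disjoint_left]
  intro x hx hxU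
  obtain ⟨i, hi⟩ := Set.mem_iUnion.1 (hIs hx)
  rw [hJs] at hi
  exact hi (hUV i hxU)

end Groth.Agent.H22.AdmissibleAmple
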