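import Groth.Agent.Lib.BlowUpExists.Proper
import Groth.Agent.H4.CartierSection
import Groth.Agent.Lib.Ample.Restrict

/-!
# The exceptional ideal of a blow-up is ample over every affine open of the base
-/

set_option autoImplicit false
set_option maxHeartbeats 1000000

noncomputable section

universe u

open CategoryTheory CategoryTheory.Limits AlgebraicGeometry Opposite TopologicalSpace

namespace Groth.Agent.H22.BlowUpAmple

open Groth.Agent.Lib
open TensorMod TensorMod.Dual TensorMod.Gen Ample Ample.GenLocus Ample.Pow BlowUpExists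

variable {X : Scheme.{u}} {I : X.IdealSheafData}

theorem isBlowUp_blProj (I : X.IdealSheafData) : BlowUp.IsBlowUp (blProj I) I := by
  refine ⟨(localData I).Q_proj, fun Y g hg => ?_⟩
  obtain ⟨h, hh⟩ := (localData I).exists_hom g hg
  exact ⟨h, hh, fun h' hh' => (localData I).hom_ext g hg hh' hh⟩

theorem genAt_blProj_iff (i : Idx I) (x : bl I) :
    GenAt I (blProj I) i.1 i.2.1 x ↔ x ∈ Set.range (incl i) := by
  obtain ⟨j, z, rfl⟩ := incl_jointly_surjective x
  rw [mem_range_incl_iff j i z]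
  constructor
  · intro h
    have := genAt_comp (incl j) h
    rwa [incl_proj] at this
  · intro h
    rw [← incl_proj j] at h
    obtain ⟨W, e, hzW, hW⟩ := h
    let W' : (bl I).affineOpens := ⟨incl j ''ᵁ W.1, W.2.image_of_isOpenImmersion (incl j)⟩
    have e' : W'.1 ≤ blProj I ⁻¹ᵁ i.1.1 := by
      rintro _ ⟨w, hw, rfl⟩
      exact e hw
    have ew : W.1 ≤ incl j ⁻¹ᵁ W'.1 := ((incl j).preimage_image_eq W.1).ge
    refine ⟨W', e', ⟨z, hzW, rfl⟩, ?_⟩
    have hb : Function.Bijective ((incl j).appLE W'.1 W.1 ew) := by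
      haveI := (incl j).isIso_app W'.1 ((incl j).image_le_opensRange W.1)
      have : IsIso ((incl j).appLE W'.1 W.1 ew) := by
        rw [Scheme.Hom.appLE,
          show (homOfLE ew).op = (eqToHom ((incl j).preimage_image_eq W.1).symm).op from rfl]
        infer_instance
      exact ConcreteCategory.bijective_of_isIso _
    have h1 : Ideal.map ((incl j).appLE W'.1 W.1 ew).hom ((I.comap (blProj I)).ideal W') =
        Ideal.map ((incl j).appLE W'.1 W.1 ew).hom
          (Ideal.span {(blProj I).appLE i.1.1 W'.1 e' i.2.1}) := by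
      rw [← Lib.Ideal.Comap.ideal_comap (incl j) _ W' W ew, ← Scheme.IdealSheafData.comap_comp, hW,
        Ideal.map_span, Set.image_singleton]
      congr 1
      rw [Set.singleton_eq_singleton_iff,
        ← Scheme.Hom.appLE_comp_appLE (incl j) (blProj I) i.1.1 W'.1 W.1 e' ew]
      rfl
    have h2 := congrArg (Ideal.comap ((incl j).appLE W'.1 W.1 ew).hom) h1
    rwa [Ideal.comap_map_of_bijective _ hb, Ideal.comap_map_of_bijective _ hb] at h2

/-- The ideal module of the exceptional divisor. -/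
abbrev excMod (I : X.IdealSheafData) : (bl I).Modules :=
  _root_.ClSub.idealMod (I.comap (blProj I))

theorem exists_sec (i : Idx I) :
    ∃ m : Γ(excMod I, blProj I ⁻¹ᵁ i.1.1),
      (_root_.ClSub.idealModι (I.comap (blProj I))).app (blProj I ⁻¹ᵁ i.1.1) m =
        (blProj I).appLE i.1.1 (blProj I ⁻¹ᵁ i.1.1) le_rfl i.2.1 := by
  set O := blProj I ⁻¹ᵁ i.1.1
  rw [ClSub.Sections.mem_range_idealModι_app_iff]
  refine ((I.comap (blProj I)).subscheme.sheaf.eq_of_locally_eq'
    (fun W : {W : (bl I).affineOpens // W.1 ≤ O} => (I.comap (blProj I)).subschemeι ⁻¹ᵁ W.1.1)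
    ((I.comap (blProj I)).subschemeι ⁻¹ᵁ O)
    (fun W => homOfLE ((I.comap (blProj I)).subschemeι.preimage_mono W.2)) ?_ _ 0 ?_)
  · intro z hz
    obtain ⟨W, hW, hzW, hle⟩ := exists_isAffineOpen_mem_and_subset
      (show (I.comap (blProj I)).subschemeι z ∈ O from hz)
    exact Opens.mem_iSup.2 ⟨⟨⟨W, hW⟩, hle⟩, hzW⟩
  · intro W
    have hmem : (blProj I).appLE i.1.1 W.1.1 W.2 i.2.1 ∈ (I.comap (blProj I)).ideal W.1 := by
      rw [Lib.Ideal.Comap.ideal_comap (blProj I) I i.1 W.1 W.2]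
      exact Ideal.mem_map_of_mem _ i.2.2
    rw [← (I.comap (blProj I)).ker_subschemeι_app W.1, RingHom.mem_ker] at hmem
    refine Eq.trans ?_ (hmem.trans (map_zero _).symm)
    rw [← appLE_res (blProj I) W.2 le_rfl]
    exact (ConcreteCategory.congr_hom
      ((I.comap (blProj I)).subschemeι.naturality (homOfLE W.2).op)
      ((blProj I).appLE i.1.1 O le_rfl i.2.1)).symm

/-- The locus where the section given by a local generator generates. -/
theorem mem_range_incl_of_isGen (i : Idx I) {m : Γ(excMod I, blProj I ⁻¹ᵁ i.1.1)}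
    (hm : (_root_.ClSub.idealModι (I.comap (blProj I))).app (blProj I ⁻¹ᵁ i.1.1) m =
        (blProj I).appLE i.1.1 (blProj I ⁻¹ᵁ i.1.1) le_rfl i.2.1)
    {U : (bl I).Opens} (hU : U ≤ blProj I ⁻¹ᵁ i.1.1) (hg : IsGen (excMod I) U (rs _ hU m))
    {x : bl I} (hx : x ∈ U) : x ∈ Set.range (incl i) := by
  rw [← genAt_blProj_iff]
  obtain ⟨W, hW, hxW, hle⟩ := exists_isAffineOpen_mem_and_subset hx
  have e : W ≤ blProj I ⁻¹ᵁ i.1.1 := fun z hz => hU (hle hz)
  refine ⟨⟨W, hW⟩, e, hxW, le_antisymm (fun y hy => ?_) ?_⟩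
  · obtain ⟨y', rfl⟩ := (ClSub.Sections.mem_range_idealModι_app_affine_iff _ ⟨W, hW⟩ y).2 hy
    obtain ⟨c, rfl⟩ := (hg W hle).2 y'
    refine Ideal.mem_span_singleton'.2 ⟨c, ?_⟩
    rw [Scheme.Modules.Hom.app_smul, rs_rs]
    erw [ClSub.Basis.map_app]
    rw [hm]
    show c * _ = c * _
    exact congrArg (c * ·) (appLE_res (blProj I) e le_rfl i.2.1).symm
  · rw [Ideal.span_singleton_le_iff_mem, Lib.Ideal.Comap.ideal_comap (blProj I) I i.1 ⟨W, hW⟩ e]
    exact Ideal.mem_map_of_mem _ i.2.2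

theorem isGen_of_range_incl (i : Idx I) {m : Γ(excMod I, blProj I ⁻¹ᵁ i.1.1)}
    (hm : (_root_.ClSub.idealModι (I.comap (blProj I))).app (blProj I ⁻¹ᵁ i.1.1) m =
        (blProj I).appLE i.1.1 (blProj I ⁻¹ᵁ i.1.1) le_rfl i.2.1)
    {x : bl I} (hx : x ∈ Set.range (incl i)) :
    ∃ (W : (bl I).Opens) (hW : W ≤ blProj I ⁻¹ᵁ i.1.1), x ∈ W ∧
      IsGen (excMod I) W (rs _ hW m) := by
  obtain ⟨W, e, hxW, hW⟩ := (genAt_blProj_iff i x).2 hx
  refine ⟨W.1, e, hxW, H4.CartierSection.isGen_idealMod _ W _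
    (gen_mem_nonZeroDivisors (localData I).Q_proj hW) hW _ ?_⟩
  erw [ClSub.Basis.map_app]
  rw [hm]
  exact appLE_res (blProj I) e le_rfl i.2.1

/-- The exceptional ideal is ample over the affine opens of the base. -/
theorem isAmple_excMod (hI : ∀ U, (I.ideal U).FG) (U : X.affineOpens) :
    CohB1.IsAmple ((excMod I).restrict (blProj I ⁻¹ᵁ U.1).ι) := by
  have hinv := ClSub.Cartier.isInvertible_idealMod (localData I).Q_proj
  set O := blProj I ⁻¹ᵁ U.1
  haveI := quasiCompact_blProj hI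
  haveI : CompactSpace (O : Scheme.{u}) :=
    isCompact_iff_compactSpace.1 ((blProj I).isCompact_preimage U.2.isCompact)
  have hinv' : PicF.IsInvertible ((excMod I).restrict O.ι) :=
    Invertible.isInvertible_of_iso ((Scheme.Modules.restrictFunctorIsoPullback O.ι).app _).symm
      (PicLoc.isInvertible_pullback O.ι hinv)
  refine isAmple_iff.2 ⟨hinv', inferInstance, fun y => ?_⟩
  obtain ⟨a, ha, hy⟩ := exists_mem_range_incl (O.ι y) y.2 (Ideal.span_eq (I.ideal U))
  let i : Idx I := ⟨U, a, ha⟩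
  obtain ⟨m, hm⟩ := exists_sec i
  obtain ⟨s, hs⟩ := exists_hom_of_sec (L := (excMod I).restrict O.ι)
    (((excMod I).restrictAppIso O.ι ⊤).inv (rs _ O.ι_image_top.le m))
  have hval : ∀ V : (O : Scheme.{u}).Opens, sv s V =
      ((excMod I).restrictAppIso O.ι V).inv (rs _ (O.ι_image_le V) m) := by
    intro V
    rw [← rs_sv s (le_top : V ≤ ⊤), hs]
    exact rs_rs (excMod I) O.ι_image_top.le (O.ι.image_mono le_top) m
  have hloc : CohB1.genLocus _ s = O.ι ⁻¹ᵁ (incl i).opensRange := by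
    refine le_antisymm (fun z hz => ?_) (fun z hz => ?_)
    · obtain ⟨V, hzV, hV⟩ := (mem_genLocus_iff s).1 hz
      refine mem_range_incl_of_isGen i hm (O.ι_image_le V) ?_ ⟨z, hzV, rfl⟩
      intro T hT
      obtain ⟨T', hT', rfl⟩ : ∃ T', T' ≤ V ∧ O.ι ''ᵁ T' = T :=
        ⟨O.ι ⁻¹ᵁ T, fun w hw => by
          obtain ⟨v, hv, hvw⟩ := hT hw
          exact O.ι.injective hvw ▸ hv, by
          rw [Scheme.Hom.image_preimage_eq_opensRange_inf, Scheme.Opens.opensRange_ι,
            inf_eq_right.2 (hT.trans (O.ι_image_le V))]⟩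
      have hb := (hV T' hT').comp (ConcreteCategory.bijective_of_isIso (O.ι.appIso T').hom)
      have heq : ∀ c : Γ(bl I, O.ι ''ᵁ T'),
          (O.ι.appIso T').hom c • rs ((excMod I).restrict O.ι) hT' (sv s V) =
            ((excMod I).restrictAppIso O.ι T').inv
              (c • rs (excMod I) hT (rs (excMod I) (O.ι_image_le V) m)) := fun c => by
        rw [rs_sv s hT', hval T', rs_rs]
        apply (ConcreteCategory.bijective_of_isIso ((excMod I).restrictAppIso O.ι T').hom).1
        erw [restrict_smul]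
        simp only [Iso.hom_inv_id_apply, Iso.inv_hom_id_apply]
      refine (Function.Bijective.of_comp_iff' (ConcreteCategory.bijective_of_isIso
        ((excMod I).restrictAppIso O.ι T').inv) _).1 ?_
      exact (funext heq) ▸ hb
    · obtain ⟨W, hW, hzW, hg⟩ := isGen_of_range_incl i hm
        (show O.ι z ∈ Set.range (incl i) from hz)
      refine (mem_genLocus_iff s).2 ⟨O.ι ⁻¹ᵁ W, hzW, ?_⟩
      have := Ample.Restrict.isGen_restrict hg O
      rw [hval]
      rw [rs_rs] at this
      exact this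
  refine AffineAt.mk Nat.one_pos (powOne _).symm s ?_ ?_
  · rw [hloc]; exact hy
  · rw [hloc]
    refine (O.ι.isAffineOpen_iff_of_isOpenImmersion).1 ?_
    rw [Scheme.Hom.image_preimage_eq_opensRange_inf, Scheme.Opens.opensRange_ι, inf_eq_right.2]
    · exact isAffineOpen_opensRange (incl i)
    · rintro _ ⟨z, rfl⟩
      exact blProj_incl_mem i z

end Groth.Agent.H22.BlowUpAmple
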