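import Groth.Agent.Lib.Ample.Restrict
import Groth.Agent.Lib.Ample.Coprod
import Groth.Agent.Lib.Ample.RelAmple
import Groth.Prelude.Def_MoreMor

/-!
# Ample families: quasi-affine morphisms and disjoint unions
-/

set_option autoImplicit false
set_option maxHeartbeats 1000000

noncomputable section

universe u

open CategoryTheory CategoryTheory.Limits AlgebraicGeometry Opposite TopologicalSpace

namespace Groth.Agent.H22.AmpleFamily

open Groth.Agent.Lib
open TensorMod TensorMod.Dual TensorMod.Gen TensorMod.Pullback Ample Ample.GenLocus Ample.Pow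
  Ample.Basis Ample.Pullback

variable {X Y : Scheme.{u}}

/-- Quasi-affine loci suffice for an ample family. -/
theorem hasAmpleFamily_of_qAffAt [CompactSpace X]
    (h : ∀ x : X, ∃ L : X.Modules, PicF.IsInvertible L ∧ QAffAt L x) :
    MoreMor.HasAmpleFamily X := by
  choose L hL n hn s hx hs using h
  haveI : QuasiSeparatedSpace X := by
    refine QuasiSeparatedSpace.of_isOpenCover (U := fun x => CohB1.genLocus _ (s x))
      (top_le_iff.1 fun x _ => Opens.mem_iSup.2 ⟨x, hx x⟩) (fun x => ?_) fun x => ?_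
    · haveI := isAffineHom_genLocus (Invertible.isInvertible_tensorPow (hL x) (n x)) (s x)
      exact IsRetrocompact_iff_isSpectralMap_subtypeVal.mpr (CohB1.genLocus _ (s x)).ι.isSpectralMap
    · haveI := hs x
      refine (isQuasiSeparated_iff_quasiSeparatedSpace _ (CohB1.genLocus _ (s x)).isOpen).2 ?_
      exact inferInstanceAs (QuasiSeparatedSpace (CohB1.genLocus _ (s x) : Scheme.{u}))
  refine ⟨inferInstance, fun x => ?_⟩
  let G := CohB1.genLocus _ (s x)
  haveI : Scheme.IsQuasiAffine (G : Scheme.{u}) := hs x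
  obtain ⟨_, ⟨_, ⟨r, hr, rfl⟩, rfl⟩, hxr, -⟩ := (Scheme.IsQuasiAffine.isBasis_basicOpen
    (G : Scheme.{u})).exists_subset_of_mem_open (Set.mem_univ (⟨x, hx x⟩ : G)) isOpen_univ
  have himg : G.ι ''ᵁ (G : Scheme.{u}).basicOpen r = X.basicOpen (G.topIso.hom r) := by
    refine Eq.trans ?_ (Scheme.Opens.ι_image_basicOpen_topIso_inv G (G.topIso.hom r))
    rw [Iso.hom_inv_id_apply]
  obtain ⟨m, hm, t, ht⟩ := exists_sec_basicOpen
    (Invertible.isInvertible_tensorPow (hL x) (n x)) (s x) (G.topIso.hom r)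
  refine ⟨L x, n x * m, t ≫ (powMul (L x) (n x) m).hom, hL x, Nat.mul_pos (hn x) hm, ?_, ?_⟩
  · rw [genLocus_comp_iso, ht, ← himg]
    exact ⟨⟨x, hx x⟩, hxr, rfl⟩
  · rw [genLocus_comp_iso, ht, ← himg]
    exact hr.image_of_isOpenImmersion G.ι

/-- Ample families pull back along quasi-affine morphisms. -/
theorem hasAmpleFamily_pullback (g : Y ⟶ X) (hg : Mor2.IsQuasiAffine g)
    (hX : MoreMor.HasAmpleFamily X) : MoreMor.HasAmpleFamily Y := by
  haveI := hg.1
  haveI := hX.1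
  haveI : CompactSpace Y := QuasiCompact.compactSpace_of_compactSpace g
  refine hasAmpleFamily_of_qAffAt fun y => ?_
  obtain ⟨L, n, s, hL, hn, hx, hs⟩ := hX.2 (g y)
  exact ⟨(pb g).obj L, PicLoc.isInvertible_pullback g hL,
    qAffAt_pullback g hg hL ⟨n, hn, s, hx, hs⟩⟩

/-- An affine scheme has an ample family. -/
theorem hasAmpleFamily_of_isAffine (X : Scheme.{u}) [IsAffine X] : MoreMor.HasAmpleFamily X := by
  have h := Ample.RelAmple.isAmple_of_isAffine (L := Coh.structureModule X)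
    (PicLoc.isInvertible_structureModule X)
  refine ⟨inferInstance, fun x => ?_⟩
  obtain ⟨n, s, hx, hs⟩ := h.2.2 x
  exact ⟨_, n + 1, s, h.1, Nat.succ_pos n, hx, hs⟩

section Coproduct

variable {A B Z : Scheme.{u}}

theorem isGen_pushforward_iff (i : A ⟶ Z) [IsOpenImmersion i] (N : A.Modules) {U : Z.Opens}
    (hU : U ≤ i.opensRange) (e : Γ(N, i ⁻¹ᵁ U)) :
    IsGen ((Scheme.Modules.pushforward i).obj N) U e ↔ IsGen N (i ⁻¹ᵁ U) e := by
  constructor
  · intro h W hW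
    obtain ⟨V, hV, rfl⟩ : ∃ V : Z.Opens, V ≤ U ∧ i ⁻¹ᵁ V = W :=
      ⟨i ''ᵁ W, (i.image_mono hW).trans (i.image_preimage_le U), i.preimage_image_eq W⟩
    haveI := i.isIso_app V (hV.trans hU)
    exact (Function.Bijective.of_comp_iff _
      (ConcreteCategory.bijective_of_isIso (i.app V))).1 (h V hV)
  · intro h V hV
    haveI := i.isIso_app V (hV.trans hU)
    exact (h (i ⁻¹ᵁ V) (i.preimage_mono hV)).comp
      (ConcreteCategory.bijective_of_isIso (i.app V))

theorem subsingleton_pushforward (i' : B ⟶ Z) (M : B.Modules) {U : Z.Opens}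
    (hU : i' ⁻¹ᵁ U = ⊥) : Subsingleton Γ((Scheme.Modules.pushforward i').obj M, U) := by
  show Subsingleton Γ(M, i' ⁻¹ᵁ U)
  rw [hU]
  exact AddCommGrpCat.subsingleton_of_isZero
    (TopCat.Sheaf.isTerminalOfEmpty ⟨M.presheaf, M.isSheaf⟩).isZero

variable {P Q : Z.Modules}

theorem isGen_biprod_iff_fst {U : Z.Opens} (hQ : ∀ V ≤ U, Subsingleton Γ(Q, V)) (m : Γ(P ⊞ Q, U)) :
    IsGen (P ⊞ Q) U m ↔ IsGen P U ((biprod.fst : P ⊞ Q ⟶ P).app U m) := by
  refine forall₂_congr fun V hV => ?_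
  have hb : Function.Bijective ((biprod.fst : P ⊞ Q ⟶ P).app V) := by
    have := hQ V hV
    refine ⟨fun a b hab => ?_, fun p => ⟨(biprod.inl : P ⟶ P ⊞ Q).app V p, ?_⟩⟩
    · have htot : ∀ c : Γ(P ⊞ Q, V), c = (biprod.inl : P ⟶ P ⊞ Q).app V
          ((biprod.fst : P ⊞ Q ⟶ P).app V c) + (biprod.inr : Q ⟶ P ⊞ Q).app V
          ((biprod.snd : P ⊞ Q ⟶ Q).app V c) := fun c => by
        conv_lhs => rw [show c = (𝟙 (P ⊞ Q) : P ⊞ Q ⟶ P ⊞ Q).app V c from rfl, ← biprod.total]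
        rfl
      rw [htot a, htot b, hab, Subsingleton.elim ((biprod.snd : P ⊞ Q ⟶ Q).app V a)]
    · exact congrArg (fun φ : P ⟶ P => φ.app V p) biprod.inl_fst
  rw [← Function.Bijective.of_comp_iff' hb]
  refine iff_of_eq (congrArg _ (funext fun a => ?_))
  rw [Function.comp_apply, Scheme.Modules.Hom.app_smul, ← HomGlue.rs_app]

theorem isGen_biprod_iff_snd {U : Z.Opens} (hP : ∀ V ≤ U, Subsingleton Γ(P, V)) (m : Γ(P ⊞ Q, U)) :
    IsGen (P ⊞ Q) U m ↔ IsGen Q U ((biprod.snd : P ⊞ Q ⟶ Q).app U m) := by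
  refine forall₂_congr fun V hV => ?_
  have hb : Function.Bijective ((biprod.snd : P ⊞ Q ⟶ Q).app V) := by
    have := hP V hV
    refine ⟨fun a b hab => ?_, fun p => ⟨(biprod.inr : Q ⟶ P ⊞ Q).app V p, ?_⟩⟩
    · have htot : ∀ c : Γ(P ⊞ Q, V), c = (biprod.inl : P ⟶ P ⊞ Q).app V
          ((biprod.fst : P ⊞ Q ⟶ P).app V c) + (biprod.inr : Q ⟶ P ⊞ Q).app V
          ((biprod.snd : P ⊞ Q ⟶ Q).app V c) := fun c => by
        conv_lhs => rw [show c = (𝟙 (P ⊞ Q) : P ⊞ Q ⟶ P ⊞ Q).app V c from rfl, ← biprod.total]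
        rfl
      rw [htot a, htot b, hab, Subsingleton.elim ((biprod.fst : P ⊞ Q ⟶ P).app V a)]
    · exact congrArg (fun φ : Q ⟶ Q => φ.app V p) biprod.inr_snd
  rw [← Function.Bijective.of_comp_iff' hb]
  refine iff_of_eq (congrArg _ (funext fun a => ?_))
  rw [Function.comp_apply, Scheme.Modules.Hom.app_smul, ← HomGlue.rs_app]

/-- One member of an ample family on a clopen piece extends to the whole space. -/
theorem exists_sec_of_clopen (i : A ⟶ Z) (i' : B ⟶ Z) [IsOpenImmersion i] [IsOpenImmersion i']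
    (hc : IsCompl (Set.range i) (Set.range i')) (N : A.Modules) (hN : PicF.IsInvertible N)
    (s : Coh.structureModule A ⟶ N) :
    ∃ (M : Z.Modules) (t : Coh.structureModule Z ⟶ M), PicF.IsInvertible M ∧
      CohB1.genLocus M t = i ''ᵁ CohB1.genLocus N s := by
  let P := (Scheme.Modules.pushforward i).obj N
  let Q := (Scheme.Modules.pushforward i').obj (Coh.structureModule B)
  have hP : ∀ {U : Z.Opens}, U ≤ i'.opensRange → ∀ V ≤ U, Subsingleton Γ(P, V) :=
    fun hU V hV => subsingleton_pushforward i N (Opens.ext (Set.eq_empty_iff_forall_notMem.2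
      fun a ha => Set.disjoint_left.1 hc.disjoint ⟨a, rfl⟩ (hU (hV ha))))
  have hQ : ∀ {U : Z.Opens}, U ≤ i.opensRange → ∀ V ≤ U, Subsingleton Γ(Q, V) :=
    fun hU V hV => subsingleton_pushforward i' _ (Opens.ext (Set.eq_empty_iff_forall_notMem.2
      fun a ha => Set.disjoint_left.1 hc.disjoint (hU (hV ha)) ⟨a, rfl⟩))
  have hcov : ∀ z : Z, z ∈ i.opensRange ∨ z ∈ i'.opensRange := fun z =>
    hc.codisjoint.top_le (Set.mem_univ z)
  obtain ⟨t₀, ht₀⟩ := exists_hom_of_sec (L := P) (sv s ⊤ : Γ(N, ⊤))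
  let t : Coh.structureModule Z ⟶ P ⊞ Q := t₀ ≫ biprod.inl
  have hM : PicF.IsInvertible (P ⊞ Q) := by
    refine isInvertible_iff.2 fun z => ?_
    rcases hcov z with ⟨a, rfl⟩ | ⟨b, rfl⟩
    · obtain ⟨W, e, haW, he⟩ := isInvertible_iff.1 hN a
      have hW : i ''ᵁ W ≤ i.opensRange := i.image_le_opensRange W
      refine ⟨i ''ᵁ W, (biprod.inl : P ⟶ P ⊞ Q).app _ (rs N (i.preimage_image_eq W).le e),
        ⟨a, haW, rfl⟩, (isGen_biprod_iff_fst (hQ hW) _).2 ?_⟩
      convert (isGen_pushforward_iff i N hW _).2 (he.res (i.preimage_image_eq W).le) using 1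
      exact congrArg (fun φ : P ⟶ P => φ.app _ (rs N (i.preimage_image_eq W).le e)) biprod.inl_fst
    · obtain ⟨W, e, haW, he⟩ := isInvertible_iff.1 (PicLoc.isInvertible_structureModule B) b
      have hW : i' ''ᵁ W ≤ i'.opensRange := i'.image_le_opensRange W
      refine ⟨i' ''ᵁ W, (biprod.inr : Q ⟶ P ⊞ Q).app _
          (rs (Coh.structureModule B) (i'.preimage_image_eq W).le e),
        ⟨b, haW, rfl⟩, (isGen_biprod_iff_snd (hP hW) _).2 ?_⟩
      convert (isGen_pushforward_iff i' _ hW _).2 (he.res (i'.preimage_image_eq W).le) using 1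
      exact congrArg (fun φ : Q ⟶ Q => φ.app _
        (rs (Coh.structureModule B) (i'.preimage_image_eq W).le e)) biprod.inr_snd
  have hfst : ∀ U : Z.Opens, (biprod.fst : P ⊞ Q ⟶ P).app U (sv t U) = sv s (i ⁻¹ᵁ U) := by
    intro U
    have h1 : (biprod.fst : P ⊞ Q ⟶ P).app U (sv t U) = sv t₀ U :=
      congrArg (fun φ : P ⟶ P => φ.app U (sv t₀ U)) biprod.inl_fst
    rw [h1, ← rs_sv t₀ (le_top : U ≤ ⊤), ht₀, ← rs_sv s (le_top : i ⁻¹ᵁ U ≤ ⊤)]
    rfl
  refine ⟨P ⊞ Q, t, hM, le_antisymm (fun z hz => ?_) ?_⟩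
  · obtain ⟨U, hzU, hU⟩ := (mem_genLocus_iff t).1 hz
    rcases hcov z with ⟨a, rfl⟩ | hz'
    · have h := hU.res (inf_le_left : U ⊓ i.opensRange ≤ U)
      rw [rs_sv] at h
      have h' := (isGen_biprod_iff_fst (hQ inf_le_right) _).1 h
      rw [hfst, isGen_pushforward_iff i N inf_le_right] at h'
      exact ⟨a, (mem_genLocus_iff s).2 ⟨i ⁻¹ᵁ (U ⊓ i.opensRange), ⟨hzU, a, rfl⟩, h'⟩, rfl⟩
    · exfalso
      have h := hU.res (inf_le_left : U ⊓ i'.opensRange ≤ U)
      rw [rs_sv] at h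
      have := hP (le_refl i'.opensRange) (U ⊓ i'.opensRange) inf_le_right
      have h0 : sv t (U ⊓ i'.opensRange) = 0 :=
        (congrArg ((biprod.inl : P ⟶ P ⊞ Q).app _) (Subsingleton.elim (sv t₀ _) 0)).trans (map_zero _)
      rw [h0] at h
      have h2 := (h _ le_rfl).1 (a₁ := 1) (a₂ := 0) (by simp [rs])
      have h3 : IsUnit (Z.presheaf.germ (U ⊓ i'.opensRange) z ⟨hzU, hz'⟩
          (0 : Γ(Z, U ⊓ i'.opensRange))) := by
        rw [← h2, map_one]; exact isUnit_one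
      rw [map_zero] at h3
      exact zero_ne_one (isUnit_zero_iff.1 h3)
  · rintro _ ⟨a, ha, rfl⟩
    obtain ⟨W, haW, hW⟩ := (mem_genLocus_iff s).1 ha
    refine (mem_genLocus_iff t).2 ⟨i ''ᵁ W, ⟨a, haW, rfl⟩,
      (isGen_biprod_iff_fst (hQ (i.image_le_opensRange W)) _).2 ?_⟩
    rw [hfst, isGen_pushforward_iff i N (i.image_le_opensRange W)]
    have h := hW.res (i.preimage_image_eq W).le
    rwa [rs_sv] at h

/-- Ample families glue on disjoint unions. -/
theorem hasAmpleFamily_of_isCompl (i : A ⟶ Z) (i' : B ⟶ Z) [IsOpenImmersion i] [IsOpenImmersion i']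
    (hc : IsCompl (Set.range i) (Set.range i')) (hA : MoreMor.HasAmpleFamily A)
    (hB : MoreMor.HasAmpleFamily B) : MoreMor.HasAmpleFamily Z := by
  haveI := hA.1
  haveI := hB.1
  refine ⟨⟨?_⟩, fun z => ?_⟩
  · rw [← Set.top_eq_univ, ← hc.sup_eq_top]
    exact (isCompact_range i.continuous).union (isCompact_range i'.continuous)
  rcases hc.codisjoint.top_le (Set.mem_univ z) with ⟨a, rfl⟩ | ⟨b, rfl⟩
  · obtain ⟨L, n, s, hL, hn, ha, hs⟩ := hA.2 a
    obtain ⟨M, t, hM, ht⟩ := exists_sec_of_clopen i i' hc _ (Invertible.isInvertible_tensorPow hL n) s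
    refine ⟨M, 1, t ≫ (powOne M).inv, hM, le_rfl, ?_, ?_⟩
    · rw [show (powOne M).inv = (powOne M).symm.hom from rfl, genLocus_comp_iso, ht]
      exact ⟨a, ha, rfl⟩
    · rw [show (powOne M).inv = (powOne M).symm.hom from rfl, genLocus_comp_iso, ht]
      exact hs.image_of_isOpenImmersion i
  · obtain ⟨L, n, s, hL, hn, ha, hs⟩ := hB.2 b
    obtain ⟨M, t, hM, ht⟩ := exists_sec_of_clopen i' i hc.symm _
      (Invertible.isInvertible_tensorPow hL n) s
    refine ⟨M, 1, t ≫ (powOne M).inv, hM, le_rfl, ?_, ?_⟩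
    · rw [show (powOne M).inv = (powOne M).symm.hom from rfl, genLocus_comp_iso, ht]
      exact ⟨b, ha, rfl⟩
    · rw [show (powOne M).inv = (powOne M).symm.hom from rfl, genLocus_comp_iso, ht]
      exact hs.image_of_isOpenImmersion i'

theorem hasAmpleFamily_coprod (hA : MoreMor.HasAmpleFamily A) (hB : MoreMor.HasAmpleFamily B) :
    MoreMor.HasAmpleFamily (A ⨿ B) :=
  hasAmpleFamily_of_isCompl coprod.inl coprod.inr (isCompl_range_inl_inr A B) hA hB

end Coproduct

end Groth.Agent.H22.AmpleFamily
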