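import Mathlib.RingTheory.PrincipalIdealDomain
import Mathlib.RingTheory.Finiteness.Finsupp
import Mathlib.LinearAlgebra.FreeModule.Basic
import Mathlib.LinearAlgebra.Basis.Prod
import Mathlib.LinearAlgebra.Finsupp.Pi

/-!
Finitely generated submodules of free modules over Bézout domains.
-/

universe u

namespace Groth.Agent.H22.Bezout

variable {R : Type u} [CommRing R] [IsDomain R] [IsBezout R]

theorem free_of_fg_pi : ∀ (n : ℕ) (N : Submodule R (Fin n → R)), N.FG → Module.Free R N := by
  classical
  intro n
  induction n with
  | zero => intro N _; exact Module.Free.of_subsingleton R N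
  | succ n ih =>
    intro N hN
    let p : N →ₗ[R] R := LinearMap.proj 0 ∘ₗ N.subtype
    have : Module.Finite R N := Module.Finite.iff_fg.2 hN
    have hI : (LinearMap.range p).FG := by
      rw [LinearMap.range_eq_map]
      exact Module.Finite.fg_top.map p
    obtain ⟨⟨g, hg⟩⟩ := IsBezout.isPrincipal_of_FG (LinearMap.range p) hI
    let q : N →ₗ[R] (Fin n → R) := LinearMap.funLeft R R Fin.succ ∘ₗ N.subtype
    by_cases hg0 : g = 0
    · have hinj : Function.Injective q := by
        intro x y h
        have h0 : ∀ z : N, p z = 0 := fun z => by
          have := LinearMap.mem_range_self p z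
          rw [hg, hg0, Submodule.span_zero_singleton, Submodule.mem_bot] at this
          exact this
        refine Subtype.ext (funext fun i => ?_)
        induction i using Fin.cases with
        | zero => exact (h0 x).trans (h0 y).symm
        | succ i => exact congrFun h i
      have := ih (LinearMap.range q) (by rw [LinearMap.range_eq_map]; exact Module.Finite.fg_top.map q)
      exact Module.Free.of_equiv (LinearEquiv.ofInjective q hinj).symm
    · obtain ⟨v, hv⟩ : g ∈ LinearMap.range p := hg ▸ Submodule.mem_span_singleton_self g
      have hdiv : ∀ z : N, ∃ c : R, c * g = p z := fun z => by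
        have := LinearMap.mem_range_self p z
        rw [hg] at this
        exact Submodule.mem_span_singleton.1 this
      choose c hc using hdiv
      let cl : N →ₗ[R] R :=
        { toFun := c
          map_add' := fun a b => mul_right_cancel₀ hg0 (by rw [add_mul, hc, hc, hc, map_add])
          map_smul' := fun r a => mul_right_cancel₀ hg0 (by
            rw [hc, map_smul, RingHom.id_apply, smul_eq_mul, smul_eq_mul, mul_assoc, hc]) }
      have hcv : cl v = 1 := mul_right_cancel₀ hg0 ((hc v).trans (hv.trans (one_mul g).symm))
      let K := LinearMap.ker cl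
      let pr : N →ₗ[R] K := LinearMap.codRestrict _ (LinearMap.id - cl.smulRight v) fun z => by
        simp [K, hcv]
      have hpr : ∀ k : K, pr k = k := fun k => Subtype.ext (by
        have hk : cl k = 0 := k.2
        simp [pr, hk])
      have hK0 : ∀ k : K, p (k : N) = 0 := fun k => by
        have hk : c k = 0 := k.2
        rw [← hc, hk, zero_mul]
      let qK : K →ₗ[R] (Fin n → R) := q ∘ₗ K.subtype
      have hinj : Function.Injective qK := by
        intro x y h
        refine Subtype.ext (Subtype.ext (funext fun i => ?_))
        induction i using Fin.cases with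
        | zero => exact (hK0 x).trans (hK0 y).symm
        | succ i => exact congrFun h i
      have : Module.Finite R K := Module.Finite.of_surjective pr fun k => ⟨k, hpr k⟩
      have := ih (LinearMap.range qK)
        (by rw [LinearMap.range_eq_map]; exact Module.Finite.fg_top.map qK)
      have hKfree : Module.Free R K := Module.Free.of_equiv (LinearEquiv.ofInjective qK hinj).symm
      let e : (R × K) ≃ₗ[R] N :=
        LinearEquiv.ofLinearMap ((LinearMap.toSpanSingleton R N v).coprod K.subtype) (cl.prod pr)
          (by refine LinearMap.ext fun z => ?_; simp [pr])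
          (by
            refine LinearMap.ext fun ⟨r, k⟩ => ?_
            have hk : cl k = 0 := k.2
            refine Prod.ext ?_ (Subtype.ext ?_) <;> simp [pr, hcv, hk])
      exact Module.Free.of_equiv e

theorem free_of_fg (F : Type u) [AddCommGroup F] [Module R F] [Module.Free R F]
    (N : Submodule R F) (hN : N.FG) : Module.Free R N ∧ Module.Finite R N := by
  classical
  refine ⟨?_, Module.Finite.iff_fg.2 hN⟩
  let b := Module.Free.chooseBasis R F
  obtain ⟨s, hs⟩ := hN
  let S := s.biUnion fun x => (b.repr x).support
  let e : Fin S.card → Module.Free.ChooseBasisIndex R F := fun j => (S.equivFin.symm j : _)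
  let q : N →ₗ[R] (Fin S.card → R) :=
    LinearMap.funLeft R R e ∘ₗ Finsupp.lcoeFun ∘ₗ b.repr.toLinearMap ∘ₗ N.subtype
  have hsupp : ∀ x ∈ N, ((b.repr x).support : Set (Module.Free.ChooseBasisIndex R F)) ⊆ (S : Set (Module.Free.ChooseBasisIndex R F)) := by
    intro x hx
    have h : N ≤ (Finsupp.supported R R (S : Set _)).comap b.repr.toLinearMap := by
      rw [← hs, Submodule.span_le]
      intro y hy
      exact (Finsupp.mem_supported R _).2 (Finset.coe_subset.2
        (Finset.subset_biUnion_of_mem (fun x => (b.repr x).support) hy))
    exact (Finsupp.mem_supported R _).1 (h hx)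
  have hinj : Function.Injective q := by
    intro x y h
    refine Subtype.ext (b.repr.injective (Finsupp.ext fun i => ?_))
    by_cases hi : i ∈ S
    · have h' := congrFun h (S.equivFin ⟨i, hi⟩)
      simpa [q, e] using h'
    · have hz : ∀ z : N, b.repr z i = 0 := fun z =>
        Finsupp.notMem_support_iff.1 fun h' => hi (hsupp z z.2 h')
      rw [hz x, hz y]
  have : Module.Finite R N := Module.Finite.iff_fg.2 ⟨s, hs⟩
  have := free_of_fg_pi S.card (LinearMap.range q)
    (by rw [LinearMap.range_eq_map]; exact Module.Finite.fg_top.map q)
  exact Module.Free.of_equiv (LinearEquiv.ofInjective q hinj).symm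

end Groth.Agent.H22.Bezout
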