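import Groth.Agent.H22.BlowUpAmple
import Groth.Agent.Lib.Flat55.GenericStrataScheme

/-!
# Separating closed sets by admissible blow-ups
-/

set_option autoImplicit false
set_option maxHeartbeats 1000000

noncomputable section

universe u

open CategoryTheory CategoryTheory.Limits AlgebraicGeometry TopologicalSpace

namespace Groth.Agent.H22.BlowUpSeparate

open Groth.Agent.Lib

variable {X : Scheme.{u}}

/-- A finite type subideal whose support still avoids a quasi-compact open. -/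
theorem exists_isFG_le_disjoint [CompactSpace X] [QuasiSeparatedSpace X] (K : X.IdealSheafData)
    (V : Set X) (hV : IsCompact V) (hd : ∀ x ∈ V, x ∉ K.support) :
    ∃ A ≤ K, Lim.IdealExt.IsFG A ∧ ∀ x ∈ V, x ∉ A.support := by
  have hloc : ∀ x : V, ∃ J : Lim.IdealExt.FGSub K, x.1 ∉ J.1.support := by
    intro x
    by_contra! hall
    refine hd x.1 x.2 ?_
    have h : (⨆ J : Lim.IdealExt.FGSub K, J.1).support = ⨅ J : Lim.IdealExt.FGSub K, J.1.support :=
      Scheme.IdealSheafData.gc.l_iSup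
    rw [Lim.IdealExt.eq_iSup_fgSub K, h, ← SetLike.mem_coe, Closeds.coe_iInf]
    exact Set.mem_iInter.2 hall
  classical
  choose J hJ using hloc
  obtain ⟨t, ht⟩ := hV.elim_finite_subcover (fun x : V => ((J x).1.support : Set X)ᶜ)
    (fun x => (J x).1.support.isClosed.isOpen_compl) fun x hx => Set.mem_iUnion.2 ⟨⟨x, hx⟩, hJ ⟨x, hx⟩⟩
  obtain ⟨M, hM⟩ := Finset.exists_le (t.image J)
  refine ⟨M.1, M.2.1, M.2.2, fun x hx h => ?_⟩
  obtain ⟨i, hi, hxi⟩ := Set.mem_iUnion₂.1 (ht hx)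
  exact hxi (Scheme.IdealSheafData.support_antitone (Subtype.coe_le_coe.2 (hM _ (Finset.mem_image_of_mem J hi))) h)

/-- The separation statement. -/
theorem exists_ideal {X₁ X₂ : Scheme.{u}} [CompactSpace X₁] [QuasiSeparatedSpace X₁]
    (q : X₂ ⟶ X₁) [QuasiCompact q]
    (V₁ : X₁.Opens) (hV₁ : IsCompact (V₁ : Set X₁))
    (U : X₂.Opens) (hU : U ≤ q ⁻¹ᵁ V₁)
    (Z₁ : Set X₁) (hZ₁ : IsClosed Z₁) (hZ₁c : IsCompact Z₁ᶜ)
    (Z₂ : Set X₂) (hZ₂ : IsClosed Z₂) (hZ₂c : IsCompact Z₂ᶜ)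
    (hYZ : (fun x => q x) ⁻¹' (Z₁ ∩ (V₁ : Set X₁)) ⊆ Z₂) :
    ∃ 𝓔 : X₁.IdealSheafData, BlowUp.IsFiniteTypeIdeal 𝓔 ∧ (𝓔.support : Set X₁) ⊆ Z₁ \ (V₁ : Set X₁) ∧
      ∀ (X₁' : Scheme.{u}) (c : X₁' ⟶ X₁), BlowUp.IsBlowUp c 𝓔 →
        (fun z => (pullback.snd q c) z) ⁻¹' closure ((fun x => c x) ⁻¹' (Z₁ ∩ (V₁ : Set X₁))) ∩
            closure ((fun z => (pullback.fst q c) z) ⁻¹' (U : Set X₂)) ⊆
          (fun z => (pullback.fst q c) z) ⁻¹' Z₂ := by
  obtain ⟨J, hJ, hJs⟩ := Flat55.GenericStrataScheme.exists_isFG_support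
    (⟨Z₁ᶜ, hZ₁.isOpen_compl⟩ : X₁.Opens) hZ₁c
  have hJs' : (J.support : Set X₁) = Z₁ := by rw [hJs]; exact compl_compl Z₁
  let W : X₂.Opens := ⟨Z₂ᶜ, hZ₂.isOpen_compl⟩
  haveI : CompactSpace (W : Scheme.{u}) := isCompact_iff_compactSpace.1 hZ₂c
  let g : (W : Scheme.{u}) ⟶ X₁ := W.ι ≫ q
  haveI : QuasiCompact g := quasiCompact_iff_compactSpace g |>.2 inferInstance
  let K := (J.comap g).map g
  have hK : ∀ x ∈ V₁, x ∉ K.support := by
    intro x hxV hx
    simp only [K, Scheme.IdealSheafData.support_map] at hx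
    obtain ⟨_, hy, w, hw, rfl⟩ := mem_closure_iff.1 (show x ∈ closure _ from hx) _ V₁.2 hxV
    simp only [Scheme.IdealSheafData.support_comap] at hw
    exact w.2 (hYZ ⟨(Set.ext_iff.1 hJs' _).1 hw, hy⟩)
  obtain ⟨A, hAK, hAfg, hAd⟩ := exists_isFG_le_disjoint K V₁ hV₁ hK
  let E := J ⊔ A
  have hEs : (E.support : Set X₁) ⊆ Z₁ \ (V₁ : Set X₁) := by
    intro x hx
    rw [Flat55.GenericStrataScheme.support_sup, hJs'] at hx
    exact ⟨hx.1, fun h => hAd x h hx.2⟩
  have hEg : E.comap g = J.comap g := by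
    rw [show E.comap g = J.comap g ⊔ A.comap g from (Scheme.IdealSheafData.map_gc g).l_sup]
    exact sup_eq_left.2 (Scheme.IdealSheafData.le_map_iff_comap_le.1 hAK)
  refine ⟨E, fun V => ?_, hEs, fun X₁' c hc => ?_⟩
  · rw [Scheme.IdealSheafData.ideal_sup]; exact Submodule.FG.sup (hJ V) (hAfg V)
  rintro z ⟨hzY, hzU⟩
  by_contra hzW
  obtain ⟨W₁, hyW, f, hf, hEW⟩ := hc.1 ((pullback.snd q c) z)
  set p := (W₁.2.primeIdealOf ⟨(pullback.snd q c) z, hyW⟩).asIdeal
  -- the ideal of `Z₁` on `W₁` lies in `f` times the prime of the point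
  have hJp : (J.comap c).ideal W₁ ≤ p * Ideal.span {f} := by
    intro a ha
    have haE : a ∈ (E.comap c).ideal W₁ :=
      Scheme.IdealSheafData.comap_mono (f := c) (le_sup_left : J ≤ E) W₁ ha
    obtain ⟨b, rfl⟩ := Ideal.mem_span_singleton'.1 (hEW.le haE)
    refine Ideal.mul_mem_mul ?_ (Ideal.mem_span_singleton_self f)
    by_contra hb
    obtain ⟨y', hy'b, hy'Y⟩ := mem_closure_iff.1 hzY _ (X₁'.basicOpen b).2
      ((Lib.Ideal.EffCartier.mem_basicOpen_iff_notMem_prime W₁.2 hyW b).2 hb)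
    have hy'W : y' ∈ W₁.1 := X₁'.basicOpen_le b hy'b
    have hy'J : y' ∈ (J.comap c).support := by
      simp only [Scheme.IdealSheafData.support_comap]
      exact (Set.ext_iff.1 hJs' _).2 hy'Y.1
    have hy'E : y' ∉ (E.comap c).support := by
      simp only [Scheme.IdealSheafData.support_comap]
      exact fun h => (hEs h).2 hy'Y.2
    rw [Lib.Ideal.Prime.mem_support_iff_le_prime _ W₁ hy'W] at hy'J hy'E
    rw [hEW, Ideal.span_singleton_le_iff_mem] at hy'E
    exact ((W₁.2.primeIdealOf ⟨y', hy'W⟩).2.mem_or_mem (hy'J ha)).elim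
      ((Lib.Ideal.EffCartier.mem_basicOpen_iff_notMem_prime W₁.2 hy'W b).1 hy'b) hy'E
  obtain ⟨P, hP, hzP, hPle⟩ := exists_isAffineOpen_mem_and_subset
    (show z ∈ pullback.snd q c ⁻¹ᵁ W₁.1 ⊓ pullback.fst q c ⁻¹ᵁ W from ⟨hyW, hzW⟩)
  have e : P ≤ pullback.snd q c ⁻¹ᵁ W₁.1 := fun w hw => (hPle hw).1
  have hPW : Set.range (P.ι ≫ pullback.fst q c) ⊆ Set.range W.ι := by
    rintro _ ⟨w, rfl⟩
    rw [Scheme.Opens.range_ι]
    exact (hPle w.2).2
  let k := IsOpenImmersion.lift W.ι _ hPW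
  have hcomp : P.ι ≫ pullback.snd q c ≫ c = k ≫ g := by
    simp only [g, ← pullback.condition, k, IsOpenImmersion.lift_fac_assoc, Category.assoc]
  have hJE : ((E.comap c).comap (pullback.snd q c)).ideal ⟨P, hP⟩ =
      ((J.comap c).comap (pullback.snd q c)).ideal ⟨P, hP⟩ := by
    have h1 : ((E.comap c).comap (pullback.snd q c)).comap P.ι =
        ((J.comap c).comap (pullback.snd q c)).comap P.ι := by
      simp only [← Scheme.IdealSheafData.comap_comp, Category.assoc, hcomp]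
      rw [Scheme.IdealSheafData.comap_comp _ k g, hEg, ← Scheme.IdealSheafData.comap_comp _ k g]
    haveI : IsAffine (P : Scheme.{u}) := hP
    have h2 := congrArg (fun I : (P : Scheme.{u}).IdealSheafData => I.ideal ⟨⊤, isAffineOpen_top _⟩) h1
    simp only [Lib.Ideal.Comap.ideal_comap_ι_top ⟨P, hP⟩] at h2
    have hb := ConcreteCategory.bijective_of_isIso P.topIso.inv
    have h3 := congrArg (Ideal.comap P.topIso.inv.hom) h2
    rwa [Ideal.comap_map_of_bijective _ hb, Ideal.comap_map_of_bijective _ hb] at h3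
  rw [Lib.Ideal.Comap.ideal_comap _ _ W₁ ⟨P, hP⟩ e, Lib.Ideal.Comap.ideal_comap _ _ W₁ ⟨P, hP⟩ e,
    hEW] at hJE
  set φ := ((pullback.snd q c).appLE W₁.1 P e).hom
  have hfz : φ f ∈ Ideal.map φ p * Ideal.span {φ f} := by
    have h := hJE.le (Ideal.mem_map_of_mem φ (Ideal.mem_span_singleton_self f))
    have h' := Ideal.map_mono (f := φ) hJp h
    rwa [Ideal.map_mul, Ideal.map_span φ {f}, Set.image_singleton] at h'
  obtain ⟨a, ha, haf⟩ := Ideal.mem_mul_span_singleton.1 hfz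
  have hpz : Ideal.map φ p ≤ (hP.primeIdealOf ⟨z, hzP⟩).asIdeal := by
    rw [Ideal.map_le_iff_le_comap]
    intro b hb
    rw [Ideal.mem_comap]
    by_contra hbz
    have hzb := (Lib.Ideal.EffCartier.mem_basicOpen_iff_notMem_prime hP hzP (φ b)).2 hbz
    rw [show φ b = (pullback.snd q c).appLE W₁.1 P e b from rfl,
      Scheme.basicOpen_appLE] at hzb
    exact (Lib.Ideal.EffCartier.mem_basicOpen_iff_notMem_prime W₁.2 hyW b).1 hzb.2 hb
  have hz1 : z ∈ (pullback q c).basicOpen (1 - a : Γ(pullback q c, P)) := by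
    rw [Lib.Ideal.EffCartier.mem_basicOpen_iff_notMem_prime hP hzP]
    intro h
    exact (hP.primeIdealOf ⟨z, hzP⟩).2.ne_top ((Ideal.eq_top_iff_one _).2 (by
      simpa using add_mem h (hpz ha)))
  obtain ⟨w, hw, hwU⟩ := mem_closure_iff.1 hzU _ ((pullback q c).basicOpen _).2 hz1
  have hwP : w ∈ P := (pullback q c).basicOpen_le _ hw
  have h0 : φ f ∈ (hP.primeIdealOf ⟨w, hwP⟩).asIdeal := by
    refine (((hP.primeIdealOf ⟨w, hwP⟩).2.mem_or_mem
      (show φ f * (1 - a) ∈ _ by rw [mul_sub, mul_one, mul_comm, haf, sub_self]; exact zero_mem _))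
        ).resolve_right ?_
    exact (Lib.Ideal.EffCartier.mem_basicOpen_iff_notMem_prime hP hwP _).1 hw
  have hwE : w ∈ ((E.comap c).comap (pullback.snd q c)).support := by
    rw [Lib.Ideal.Prime.mem_support_iff_le_prime _ ⟨P, hP⟩ hwP,
      Lib.Ideal.Comap.ideal_comap _ _ W₁ ⟨P, hP⟩ e, hEW, Ideal.map_span, Set.image_singleton,
      Ideal.span_singleton_le_iff_mem]
    exact h0
  simp only [Scheme.IdealSheafData.support_comap] at hwE
  refine (hEs hwE).2 ?_
  have := hU hwU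
  rw [← Scheme.Hom.comp_apply, ← pullback.condition, Scheme.Hom.comp_apply]
  exact this

end Groth.Agent.H22.BlowUpSeparate
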