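import Groth.Agent.H22.AmpleFamily
import Groth.Agent.H22.BlowUpAmple
import Groth.Agent.Lib.Ideal.BlowUp
import Groth.Agent.Lib.DvrCrit.MonoLift
import Groth.Agent.Lib.DvrCrit.Sections
import Groth.Agent.Lib.HTopSheaf.PhExtend
import Groth.Agent.Lib.Lim.Approx.Main
import Groth.Agent.S1500

/-!
# Proper completely decomposed covers with an ample family
-/

set_option autoImplicit false
set_option maxHeartbeats 1000000

noncomputable section

universe u

open CategoryTheory CategoryTheory.Limits AlgebraicGeometry Opposite TopologicalSpace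

namespace Groth.Agent.H22.CDCover

open Groth.Agent.Lib Groth.Agent.Lib.BlowUpExists

variable {X Y Z : Scheme.{u}}

/-- The point `x` lifts with trivial residue field extension. -/
def Lifts (f : Y ⟶ X) (x : X) : Prop :=
  ∃ y : Y, f y = x ∧ Function.Bijective (f.residueFieldMap y)

theorem bijective_residueFieldMap_comp_iff (g : Z ⟶ Y) (f : Y ⟶ X) (z : Z)
    (hg : Function.Bijective (g.residueFieldMap z)) :
    Function.Bijective ((g ≫ f).residueFieldMap z) ↔
      Function.Bijective (f.residueFieldMap (g z)) := by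
  rw [Scheme.residueFieldMap_comp]
  exact Function.Bijective.of_comp_iff' hg _

theorem Lifts.comp {g : Z ⟶ Y} {f : Y ⟶ X} {y : Y} (h : Lifts g y)
    (hf : Function.Bijective (f.residueFieldMap y)) : Lifts (g ≫ f) (f y) := by
  obtain ⟨z, rfl, hz⟩ := h
  refine ⟨z, rfl, ?_⟩
  exact (bijective_residueFieldMap_comp_iff g f z hz).2 hf

theorem Lifts.of_mono_left {i : Z ⟶ Y} [Mono i] {f : Y ⟶ X} {z : Z} {x : X}
    (hx : f (i z) = x) (hf : Function.Bijective (f.residueFieldMap (i z))) :
    Lifts (i ≫ f) x := by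
  refine ⟨z, hx, ?_⟩
  exact (bijective_residueFieldMap_comp_iff i f z
    (DvrCrit.residueFieldMap_bijective_of_mono i z)).2 hf

theorem exists_sum {n : ℕ} (Y : Fin (n + 1) → Scheme.{u}) (f : ∀ k, Y k ⟶ X)
    (hp : ∀ k, IsProper (f k)) (ha : ∀ k, MoreMor.HasAmpleFamily (Y k)) :
    ∃ (W : Scheme.{u}) (g : W ⟶ X), IsProper g ∧ MoreMor.HasAmpleFamily W ∧
      ∀ x k, Lifts (f k) x → Lifts g x := by
  induction n with
  | zero =>
    refine ⟨Y 0, f 0, hp 0, ha 0, fun x k h => ?_⟩
    obtain rfl : k = 0 := Fin.ext (by omega)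
    exact h
  | succ n ih =>
    obtain ⟨W, g, hg, hW, hl⟩ := ih (fun k => Y k.succ) (fun k => f k.succ) (fun k => hp _)
      (fun k => ha _)
    haveI := hp 0
    refine ⟨Y 0 ⨿ W, coprod.desc (f 0) g, HTopSheaf.PhExtend.isProper_coprodDesc _ _,
      AmpleFamily.hasAmpleFamily_coprod (ha 0) hW, fun x k h => ?_⟩
    have key : ∀ {V : Scheme.{u}} (i : V ⟶ Y 0 ⨿ W) [IsOpenImmersion i] (q : V ⟶ X)
        (_ : i ≫ coprod.desc (f 0) g = q), Lifts q x → Lifts (coprod.desc (f 0) g) x := by
      intro V i _ q hq h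
      subst hq
      obtain ⟨v, hv, hb⟩ := h
      refine ⟨i v, hv, ?_⟩
      exact (bijective_residueFieldMap_comp_iff i _ v
        (DvrCrit.residueFieldMap_bijective_of_mono i v)).1 hb
    cases k using Fin.cases with
    | zero => exact key coprod.inl _ (coprod.inl_desc _ _) h
    | succ k => exact key coprod.inr _ (coprod.inr_desc _ _) (hl x k h)

theorem isEffCartier_factor (m : ℕ) (J : Fin m → X.IdealSheafData) :
    ∃ I : X.IdealSheafData, ((I.support : Set X) ⊆ ⋃ j, ((J j).support : Set X)) ∧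
      ((∀ j V, ((J j).ideal V).FG) → ∀ V, (I.ideal V).FG) ∧
      ∀ (Y : Scheme.{u}) (g : Y ⟶ X), BlowUp.IsEffCartierIdeal (I.comap g) →
        ∀ j, BlowUp.IsEffCartierIdeal ((J j).comap g) := by
  induction m with
  | zero => exact ⟨⊤, by simp, fun _ V => by simpa using Ideal.fg_top _, fun _ _ _ j => j.elim0⟩
  | succ m ih =>
    obtain ⟨I, hI, hIf, hI'⟩ := ih (fun j => J j.succ)
    refine ⟨J 0 * I, ?_, fun h V => ?_, fun Y g h j => ?_⟩
    · rw [Scheme.IdealSheafData.support_mul, TopologicalSpace.Closeds.coe_sup]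
      exact Set.union_subset (Set.subset_iUnion (fun j => ((J j).support : Set X)) 0)
        (hI.trans (Set.iUnion_subset fun j => Set.subset_iUnion (fun j => ((J j).support : Set X)) j.succ))
    · rw [Scheme.IdealSheafData.ideal_mul]
      exact (h 0 V).mul (hIf (fun j => h j.succ) V)
    · rw [Lib.Ideal.Comap.comap_mul] at h
      cases j using Fin.cases with
      | zero => exact Lib.Ideal.EffCartier.isEffCartier_factor_left h
      | succ j => exact hI' Y g (Lib.Ideal.EffCartier.isEffCartier_factor_right h) j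

/-- If the complements of the members of an affine cover become effective Cartier divisors on the
blow-up, then the blow-up has an ample family. -/
theorem hasAmpleFamily_bl {m : ℕ} (I : X.IdealSheafData) (hfg : ∀ V, (I.ideal V).FG)
    (U : Fin m → X.Opens) (hU : ∀ i, IsAffineOpen (U i)) (hcov : ∀ x : X, ∃ i, x ∈ U i)
    (J : Fin m → X.IdealSheafData) (hJs : ∀ i, ((J i).support : Set X) = ((U i : X.Opens) : Set X)ᶜ)
    (hIc : ∀ i, BlowUp.IsEffCartierIdeal ((J i).comap (blProj I))) :
    MoreMor.HasAmpleFamily (bl I) := by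
  let b := blProj I
  let D : Fin m → (bl I).IdealSheafData := fun i => (J i).comap b
  have hDs : ∀ i, ((D i).support.compl : (bl I).Opens) = b ⁻¹ᵁ U i := fun i => by
    apply Opens.ext
    show (((D i).support : Set (bl I)))ᶜ = b ⁻¹' (U i : Set X)
    rw [show ((D i).support : Set (bl I)) = b ⁻¹' ((J i).support : Set X) from by
      simp only [D, Scheme.IdealSheafData.support_comap]; rfl, hJs, Set.preimage_compl, compl_compl]
  refine Groth.Agent.S1500.result D hIc ?_ (fun _ => BlowUpAmple.excMod I)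
    (fun _ => ClSub.Cartier.isInvertible_idealMod (BlowUpAmple.isBlowUp_blProj I).1) fun i => ?_
  · refine Set.eq_empty_iff_forall_notMem.2 fun y hy => ?_
    obtain ⟨i, hi⟩ := hcov (b y)
    have : y ∈ b ⁻¹ᵁ U i := hi
    rw [← hDs] at this
    exact this (Set.mem_iInter.1 hy i)
  · rw [hDs]
    exact BlowUpAmple.isAmple_excMod hfg ⟨U i, hU i⟩

/-- The covering of a Noetherian scheme. -/
theorem exists_cover_of_noetherian (m : ℕ) : ∀ (X : Scheme.{u}) [IsNoetherian X]
    (U : Fin m → X.Opens), (∀ i, IsAffineOpen (U i)) → (∀ x : X, ∃ i, x ∈ U i) →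
    ∃ (Y : Scheme.{u}) (f : Y ⟶ X), IsProper f ∧ MoreMor.HasAmpleFamily Y ∧ ∀ x, Lifts f x := by
  induction m with
  | zero =>
    intro X _ U _ hcov
    haveI : IsEmpty X := ⟨fun x => (hcov x).choose.elim0⟩
    exact ⟨X, 𝟙 X, inferInstance, AmpleFamily.hasAmpleFamily_of_isAffine X, fun x => isEmptyElim x⟩
  | succ m ih =>
    intro X _ U hU hcov
    let C : Fin (m + 1) → TopologicalSpace.Closeds X := fun i =>
      ⟨((U i : X.Opens) : Set X)ᶜ, (U i).isOpen.isClosed_compl⟩
    let J : Fin (m + 1) → X.IdealSheafData := fun i => Scheme.IdealSheafData.vanishingIdeal (C i)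
    have hJs : ∀ i, ((J i).support : Set X) = ((U i : X.Opens) : Set X)ᶜ := fun i => by
      simp [J, C]
    obtain ⟨I, hIs, -, hIc⟩ := isEffCartier_factor (m + 1) J
    have hfg : ∀ V, (I.ideal V).FG := fun V => by
      haveI := IsLocallyNoetherian.component_noetherian V
      exact IsNoetherian.noetherian _
    -- the blown-up part
    let b := blProj I
    haveI : IsProper b := isProper_blProj hfg
    have hb : BlowUp.IsBlowUp b I := BlowUpAmple.isBlowUp_blProj I
    have hbl : MoreMor.HasAmpleFamily (bl I) :=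
      hasAmpleFamily_bl I hfg U hU hcov J hJs (fun i => hIc _ b hb.1 i)
    have hblLifts : ∀ x, x ∉ I.support → Lifts b x := by
      intro x hx
      haveI := Lib.Ideal.BlowUp.isIso_off_center hb
      let O : X.Opens := I.support.compl
      obtain ⟨y, hy⟩ : ∃ y, (b ∣_ O) y = (⟨x, hx⟩ : O) := (b ∣_ O).surjective _
      have h1 : (b ∣_ O ≫ O.ι) = (b ⁻¹ᵁ O).ι ≫ b := morphismRestrict_ι b O
      have hbx : b ((b ⁻¹ᵁ O).ι y) = x := by
        rw [← Scheme.Hom.comp_apply, ← h1, Scheme.Hom.comp_apply, hy]; rfl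
      refine ⟨(b ⁻¹ᵁ O).ι y, hbx, ?_⟩
      haveI : Mono ((b ⁻¹ᵁ O).ι ≫ b) := h1 ▸ mono_comp _ _
      have h2 := DvrCrit.residueFieldMap_bijective_of_mono ((b ⁻¹ᵁ O).ι ≫ b) y
      exact (bijective_residueFieldMap_comp_iff _ b y
        (DvrCrit.residueFieldMap_bijective_of_mono (b ⁻¹ᵁ O).ι y)).1 h2
    -- the closed parts
    have hcl : ∀ j, ∃ (Y : Scheme.{u}) (g : Y ⟶ X), IsProper g ∧ MoreMor.HasAmpleFamily Y ∧
        ∀ x ∈ (J j).support, Lifts g x := by
      intro j
      let ι := (J j).subschemeι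
      haveI : IsNoetherian (J j).subscheme :=
        { toIsLocallyNoetherian := LocallyOfFiniteType.isLocallyNoetherian ι
          toCompactSpace := QuasiCompact.compactSpace_of_compactSpace ι }
      obtain ⟨Y, g, hg, hY, hl⟩ := ih (J j).subscheme (fun i => ι ⁻¹ᵁ U (j.succAbove i))
        (fun i => (hU _).preimage ι) fun z => by
          obtain ⟨i, hi⟩ := hcov (ι z)
          have hne : i ≠ j := by
            rintro rfl
            have hz : ι z ∈ (J i).support := by
              rw [← SetLike.mem_coe, ← (J i).range_subschemeι]; exact ⟨z, rfl⟩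
            rw [← SetLike.mem_coe, hJs] at hz
            exact hz hi
          obtain ⟨k, rfl⟩ := Fin.exists_succAbove_eq hne
          exact ⟨k, hi⟩
      refine ⟨Y, g ≫ ι, inferInstance, hY, fun x hx => ?_⟩
      rw [← SetLike.mem_coe, ← (J j).range_subschemeι] at hx
      obtain ⟨z, rfl⟩ := hx
      exact (hl z).comp (DvrCrit.residueFieldMap_bijective_of_mono ι z)
    choose Ys gs hgs hYs hls using hcl
    obtain ⟨W, g, hg, hW, hl⟩ := exists_sum (Fin.cases (motive := fun _ => Scheme.{u}) (bl I) Ys)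
      (fun k => Fin.cases (motive := fun k => Fin.cases (motive := fun _ => Scheme.{u}) (bl I) Ys k ⟶ X)
        b gs k)
      (fun k => by cases k using Fin.cases with
        | zero => exact inferInstanceAs (IsProper b)
        | succ k => exact hgs k)
      (fun k => by cases k using Fin.cases with
        | zero => exact hbl
        | succ k => exact hYs k)
    refine ⟨W, g, hg, hW, fun x => ?_⟩
    by_cases hx : x ∈ I.support
    · obtain ⟨j, hj⟩ := Set.mem_iUnion.1 (hIs hx)
      exact hl x j.succ (hls j x hj)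
    · exact hl x 0 (hblLifts x hx)

/-- Liftings survive base change. -/
theorem lifts_pullback {X₀ Y₀ : Scheme.{u}} (g : Y₀ ⟶ X₀) (π : X ⟶ X₀) (x : X)
    (h : Lifts g (π x)) : Lifts (pullback.snd g π) x := by
  obtain ⟨y, hy, hb⟩ := h
  haveI : IsIso (g.residueFieldMap y) := (ConcreteCategory.isIso_iff_bijective _).2 hb
  let ρ : Y₀.residueField y ⟶ X.residueField x :=
    inv (g.residueFieldMap y) ≫ (X₀.residueFieldCongr hy).hom ≫ π.residueFieldMap x
  have hcomp : (Spec.map ρ ≫ Y₀.fromSpecResidueField y) ≫ g = X.fromSpecResidueField x ≫ π := by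
    rw [Category.assoc, ← Scheme.Hom.SpecMap_residueFieldMap_fromSpecResidueField,
      ← Spec.map_comp_assoc, ← Scheme.Hom.SpecMap_residueFieldMap_fromSpecResidueField]
    simp [ρ]
  let σ : Spec (X.residueField x) ⟶ pullback g π := pullback.lift _ _ hcomp
  have hσx : ∀ p, (pullback.snd g π) (σ p) = x := fun p => by
    rw [← Scheme.Hom.comp_apply, pullback.lift_snd, Scheme.fromSpecResidueField_apply]
  refine ⟨σ (IsLocalRing.closedPoint _), hσx _, ?_⟩
  refine DvrCrit.residueFieldMap_bijective (K := X.residueField x) (pullback.snd g π) σ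
    (X.residueFieldCongr (hσx _)).hom
    (ConcreteCategory.bijective_of_isIso (X.residueFieldCongr (hσx _)).hom).2 ?_
  rw [pullback.lift_snd, Scheme.residueFieldCongr_fromSpecResidueField]

theorem exists_cd_cover (X : Scheme.{u}) [CompactSpace X] [QuasiSeparatedSpace X] :
    ∃ (Y : Scheme.{u}) (f : Y ⟶ X), IsProper f ∧ LocallyOfFinitePresentation f ∧
      (∀ x : X, ∃ y : Y, f y = x ∧ Function.Bijective (f.residueFieldMap y)) ∧
      MoreMor.HasAmpleFamily Y := by
  obtain ⟨A⟩ := Lim.Approx.Main.exists_approx (S := X)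
  obtain ⟨i⟩ := A.ne
  let X₀ := A.D.obj (op i)
  haveI : CompactSpace X₀ := A.compact _
  haveI : IsLocallyNoetherian X₀ := Lim.Approx.Basic.Sys.isLocallyNoetherian A.toSys _
  haveI : IsNoetherian X₀ := ⟨⟩
  haveI : IsAffineHom (A.pr i) := isAffineHom_π_app A.D A.cone A.isLimit _
  obtain ⟨s, hs, hcov⟩ : ∃ s : Set X₀.affineOpens, s.Finite ∧
      (Set.univ : Set X₀) ⊆ ⋃ V ∈ s, (V.1 : Set X₀) := by
    obtain ⟨s, -, hs, h⟩ := isCompact_univ.elim_finite_subcover_image (b := Set.univ)
      (c := fun V : X₀.affineOpens => (V.1 : Set X₀)) (fun V _ => V.1.isOpen) (fun x _ => by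
        obtain ⟨V, hV, hxV, -⟩ :=
          exists_isAffineOpen_mem_and_subset (TopologicalSpace.Opens.mem_top x)
        exact Set.mem_iUnion₂.2 ⟨⟨V, hV⟩, trivial, hxV⟩)
    exact ⟨s, hs, h⟩
  haveI := hs.fintype
  obtain ⟨Y₀, g, hg, hY₀, hl⟩ := exists_cover_of_noetherian (Fintype.card s) X₀
    (fun k => ((Fintype.equivFin s).symm k).1.1) (fun k => ((Fintype.equivFin s).symm k).1.2)
    (fun x => by
      obtain ⟨V, hV, hx⟩ := Set.mem_iUnion₂.1 (hcov (Set.mem_univ x))
      exact ⟨Fintype.equivFin s ⟨V, hV⟩, by simpa using hx⟩)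
  haveI : LocallyOfFinitePresentation g :=
    LocallyOfFinitePresentation.iff_locallyOfFiniteType.2 inferInstance
  haveI : IsAffineHom (pullback.fst g (A.pr i)) :=
    MorphismProperty.pullback_fst (P := @IsAffineHom) _ _ inferInstance
  refine ⟨pullback g (A.pr i), pullback.snd _ _, inferInstance,
    MorphismProperty.pullback_snd (P := @LocallyOfFinitePresentation) _ _ inferInstance,
    fun x => lifts_pullback g (A.pr i) x (hl _), ?_⟩
  exact AmpleFamily.hasAmpleFamily_pullback (pullback.fst g (A.pr i))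
    (Ample.Pullback.isQuasiAffine_of_isAffineHom _) hY₀

end Groth.Agent.H22.CDCover
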