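import Groth.Agent.H30.FSch.CohCons
import Groth.Agent.H30.SysLemmas
import Groth.Agent.Lib.CohDelta.IdealMul.FinPush
import Groth.Agent.Lib.Snapper.Twist

/-!
# Direct images of the structure sheaf along finite morphisms of formal schemes (helper22)
-/

set_option autoImplicit false
set_option maxHeartbeats 1000000
set_option linter.style.haveILetI false

universe u

open CategoryTheory CategoryTheory.Limits AlgebraicGeometry TopologicalSpace Opposite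
open Groth.Agent.H30 Groth.Agent.H30.RealLimSec Groth.Agent.Lib

namespace Groth.Agent.H22.FinPushF

variable {𝔛 𝔜 : FSch.Sys.{u}} (h𝔛 : 𝔛.IsLocNoethFormal) (h𝔜 : 𝔜.IsLocNoethFormal) (f : 𝔛 ⟶ 𝔜)

/-- The preimage of an open. -/
abbrev pre (W : (𝔜.X 0).Opens) : (𝔛.X 0).Opens := (f : FSch.Hom 𝔛 𝔜).app 0 ⁻¹ᵁ W

/-- The structure map on sections. -/
noncomputable abbrev sh (W : (𝔜.X 0).Opens) :
    Levels.A 𝔜 h𝔜.1 W →+* Levels.A 𝔛 h𝔛.1 (pre f W) :=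
  ((FSch.Hom.sharp f h𝔛.1 h𝔜.1).hom.app (op W)).hom

/-- The structure map on levels. -/
noncomputable abbrev shk (k : ℕ) (W : (𝔜.X 0).Opens) :
    Levels.B 𝔜 h𝔜.1 k W →+* Levels.B 𝔛 h𝔛.1 k (pre f W) :=
  (((f : FSch.Hom 𝔛 𝔜).app k).appLE (𝔜.lvU h𝔜.1 k W) _
    (FSch.Hom.lvU_preimage f h𝔛.1 h𝔜.1 k W).ge).hom

theorem proj_sh (k : ℕ) (W : (𝔜.X 0).Opens) (a : Levels.A 𝔜 h𝔜.1 W) :
    Levels.proj 𝔛 h𝔛.1 k _ (sh h𝔛 h𝔜 f W a) = shk h𝔛 h𝔜 f k W (Levels.proj 𝔜 h𝔜.1 k W a) :=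
  congrArg (fun ψ => ψ.hom.app (op W) a) (FSch.Hom.sharp_proj f h𝔛.1 h𝔜.1 k)

variable (hf : FSch.IsAdicHom f) [IsFinite ((f : FSch.Hom 𝔛 𝔜).app 0)]

theorem isAffineOpen_pre {W : (𝔜.X 0).Opens} (hW : IsAffineOpen W) : IsAffineOpen (pre f W) :=
  hW.preimage _

include hf in
theorem J_eq {W : (𝔜.X 0).Opens} (hW : IsAffineOpen W) :
    Levels.J (h := h𝔛.1) (pre f W) = (Levels.J (h := h𝔜.1) W).map (sh h𝔛 h𝔜 f W) := by
  have hV := isAffineOpen_pre f hW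
  haveI := (Levels.adic h𝔛 hV).1
  haveI := Levels.isNoetherianRing_A h𝔛 hV
  have hle : (Levels.J (h := h𝔜.1) W).map (sh h𝔛 h𝔜 f W) ≤ Levels.J (h := h𝔛.1) (pre f W) := by
    rw [Ideal.map_le_iff_le_comap]
    intro a ha
    rw [Ideal.mem_comap, RingHom.mem_ker, proj_sh, RingHom.mem_ker.1 ha, map_zero]
  refine le_antisymm ?_ hle
  refine Submodule.le_of_le_smul_of_le_jacobson_bot (I := Levels.J (h := h𝔛.1) (pre f W))
    (Levels.adic h𝔛 hV).2.2 (IsAdicComplete.le_jacobson_bot _) ?_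
  intro x hx
  -- the ideal of level zero inside level one
  let U : (𝔛.X 1).affineOpens := ⟨_, OshBasic.isAffineOpen_lvU 𝔛 h𝔛.1 1 hV⟩
  let U' : (𝔜.X 1).affineOpens := ⟨_, OshBasic.isAffineOpen_lvU 𝔜 h𝔜.1 1 hW⟩
  have hle' : U.1 ≤ (f : FSch.Hom 𝔛 𝔜).app 1 ⁻¹ᵁ U'.1 :=
    (FSch.Hom.lvU_preimage f h𝔛.1 h𝔜.1 1 W).ge
  haveI := FSch.Sys.toX_isClosedImmersion 𝔜 h𝔜.1 1
  haveI := FSch.Sys.toX_isClosedImmersion 𝔛 h𝔛.1 1
  have hk : RingHom.ker (Levels.toZero 𝔛 h𝔛.1 1 (pre f W)).hom =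
      (RingHom.ker (Levels.toZero 𝔜 h𝔜.1 1 W).hom).map (shk h𝔛 h𝔜 f 1 W) := by
    rw [Levels.ker_toZero, Levels.ker_toZero, ← (𝔛.toX 1).ker_apply U, ← (𝔜.toX 1).ker_apply U',
      SysLemmas.ker_toX_of_isAdicHom hf h𝔜.1 1, Groth.Agent.Lib.Ideal.Comap.ideal_comap _ _ U' U hle']
  have hx1 : Levels.proj 𝔛 h𝔛.1 1 _ x ∈ (Levels.J (h := h𝔜.1) W).map
      ((Levels.proj 𝔛 h𝔛.1 1 (pre f W)).hom.comp (sh h𝔛 h𝔜 f W)) := by
    have hcomp : (Levels.proj 𝔛 h𝔛.1 1 (pre f W)).hom.comp (sh h𝔛 h𝔜 f W) =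
        (shk h𝔛 h𝔜 f 1 W).comp (Levels.proj 𝔜 h𝔜.1 1 W).hom :=
      RingHom.ext (proj_sh h𝔛 h𝔜 f 1 W)
    rw [hcomp, ← Ideal.map_map, CohSys.map_proj_J h𝔜 hW, ← hk, RingHom.mem_ker]
    have h0 : Levels.proj 𝔛 h𝔛.1 0 _ x = 0 := hx
    rw [← Levels.proj_toZero] at h0
    exact h0
  rw [← Ideal.map_map] at hx1
  obtain ⟨y, hy, hyx⟩ := (Ideal.mem_map_iff_of_surjective _ ((Levels.adic h𝔛 hV).2.1 1).1).1 hx1
  refine Submodule.mem_sup.2 ⟨y, hy, x - y, ?_, add_sub_cancel y x⟩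
  have h2 : x - y ∈ Levels.J (h := h𝔛.1) (pre f W) ^ 2 := by
    rw [← ((Levels.adic h𝔛 hV).2.1 1).2, RingHom.mem_ker, map_sub, sub_eq_zero]
    exact hyx.symm
  rwa [pow_two, ← smul_eq_mul] at h2

/-- The direct image of the structure sheaf. -/
noncomputable abbrev P : FSch.ModF 𝔜 h𝔜.1 :=
  (FSch.pushF f h𝔛.1 h𝔜.1).obj (FSch.unitF 𝔛 h𝔛.1)

/-- Sections as functions. -/
noncomputable abbrev toA {W : (𝔜.X 0).Opens} (x : sec h𝔜.1 (P h𝔛 h𝔜 f) W) :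
    Levels.A 𝔛 h𝔛.1 (pre f W) := x

theorem toA_smul {W : (𝔜.X 0).Opens} (a : Levels.A 𝔜 h𝔜.1 W) (x : sec h𝔜.1 (P h𝔛 h𝔜 f) W) :
    toA h𝔛 h𝔜 f (a • x) = sh h𝔛 h𝔜 f W a * toA h𝔛 h𝔜 f x := rfl

theorem toA_res {W W' : (𝔜.X 0).Opens} (e : W' ≤ W) (x : sec h𝔜.1 (P h𝔛 h𝔜 f) W) :
    toA h𝔛 h𝔜 f (CohPres.resF h𝔜.1 (P h𝔛 h𝔜 f) e x) =
      CohPres.resA h𝔛.1 (((f : FSch.Hom 𝔛 𝔜).app 0).preimage_mono e) (toA h𝔛 h𝔜 f x) := rfl

include hf in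
theorem mem_smul_of_mem {W : (𝔜.X 0).Opens} (hW : IsAffineOpen W) (t : ℕ)
    (x : sec h𝔜.1 (P h𝔛 h𝔜 f) W) (hx : toA h𝔛 h𝔜 f x ∈ Levels.J (h := h𝔛.1) (pre f W) ^ t) :
    x ∈ Levels.J (h := h𝔜.1) W ^ t •
      (⊤ : Submodule (Levels.A 𝔜 h𝔜.1 W) (sec h𝔜.1 (P h𝔛 h𝔜 f) W)) := by
  rw [J_eq h𝔛 h𝔜 f hf hW, ← Ideal.map_pow, Ideal.map, Submodule.mem_span_set'] at hx
  obtain ⟨n, b, g, hg⟩ := hx
  choose a ha ha' using fun i => (g i).2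
  have h1 : x = ∑ i, a i • (show sec h𝔜.1 (P h𝔛 h𝔜 f) W from b i) := by
    show toA h𝔛 h𝔜 f x = _
    rw [← hg]
    refine Finset.sum_congr rfl fun i _ => ?_
    show b i * _ = sh h𝔛 h𝔜 f W (a i) * b i
    rw [← ha' i, mul_comm]
  rw [h1]
  exact Submodule.sum_mem _ fun i _ => Submodule.smul_mem_smul (ha i) trivial

include hf in
theorem isHausdorff_sec {W : (𝔜.X 0).Opens} (hW : IsAffineOpen W) :
    IsHausdorff (Levels.J (h := h𝔜.1) W) (sec h𝔜.1 (P h𝔛 h𝔜 f) W) := by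
  refine ⟨fun x hx => ?_⟩
  haveI := (Levels.adic h𝔛 (isAffineOpen_pre f hW)).1
  show toA h𝔛 h𝔜 f x = 0
  refine IsHausdorff.haus (I := Levels.J (h := h𝔛.1) (pre f W)) inferInstance _ fun t => ?_
  have h1 := SModEq.zero.1 (hx t)
  rw [SModEq.zero, smul_eq_mul, Ideal.mul_top]
  refine Submodule.smul_induction_on h1 (fun a ha y _ => ?_) fun y z hy hz => add_mem hy hz
  show sh h𝔛 h𝔜 f W a * toA h𝔛 h𝔜 f y ∈ _
  refine Ideal.mul_mem_right _ _ ?_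
  rw [J_eq h𝔛 h𝔜 f hf hW, ← Ideal.map_pow]
  exact Ideal.mem_map_of_mem _ ha

include hf in
theorem proj_sum (k : ℕ) {W : (𝔜.X 0).Opens} {n : ℕ} (a : Fin n → Levels.A 𝔜 h𝔜.1 W)
    (g : Fin n → sec h𝔜.1 (P h𝔛 h𝔜 f) W) :
    Levels.proj 𝔛 h𝔛.1 k _ (toA h𝔛 h𝔜 f (∑ i, a i • g i)) =
      ∑ i, shk h𝔛 h𝔜 f k W (Levels.proj 𝔜 h𝔜.1 k W (a i)) *
        Levels.proj 𝔛 h𝔛.1 k _ (toA h𝔛 h𝔜 f (g i)) := by
  refine (congrArg _ (rfl : toA h𝔛 h𝔜 f (∑ i, a i • g i) =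
    ∑ i, sh h𝔛 h𝔜 f W (a i) * toA h𝔛 h𝔜 f (g i))).trans ?_
  refine (map_sum (Levels.proj 𝔛 h𝔛.1 k (pre f W)).hom _ _).trans (Finset.sum_congr rfl fun i _ => ?_)
  exact (map_mul (Levels.proj 𝔛 h𝔛.1 k (pre f W)).hom _ _).trans
    (congrArg (· * _) (proj_sh h𝔛 h𝔜 f k W (a i)))

include hf in
/-- Generators modulo the ideal of definition generate. -/
theorem gen_of_mod {W : (𝔜.X 0).Opens} (hW : IsAffineOpen W) {n : ℕ}
    (g : Fin n → sec h𝔜.1 (P h𝔛 h𝔜 f) W)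
    (h0 : ∀ y : Levels.B 𝔛 h𝔛.1 0 (pre f W), ∃ c : Fin n → Levels.B 𝔜 h𝔜.1 0 W,
      y = ∑ i, shk h𝔛 h𝔜 f 0 W (c i) * Levels.proj 𝔛 h𝔛.1 0 _ (toA h𝔛 h𝔜 f (g i)))
    (x : sec h𝔜.1 (P h𝔛 h𝔜 f) W) :
    ∃ a : Fin n → Levels.A 𝔜 h𝔜.1 W, x = ∑ i, a i • g i := by
  haveI := (Levels.adic h𝔜 hW).1
  haveI := Adic.Complete.isPrecomplete_pi (I := Levels.J (h := h𝔜.1) W) (Fin n)
  haveI := isHausdorff_sec h𝔛 h𝔜 f hf hW
  let φ : (Fin n → Levels.A 𝔜 h𝔜.1 W) →ₗ[Levels.A 𝔜 h𝔜.1 W] sec h𝔜.1 (P h𝔛 h𝔜 f) W :=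
    Fintype.linearCombination _ g
  obtain ⟨a, ha⟩ := surjective_of_mkQ_comp_surjective (I := Levels.J (h := h𝔜.1) W) (f := φ) (by
    intro q
    obtain ⟨y, rfl⟩ := Submodule.mkQ_surjective _ q
    obtain ⟨c, hc⟩ := h0 (Levels.proj 𝔛 h𝔛.1 0 _ (toA h𝔛 h𝔜 f y))
    choose a ha using fun i => ((Levels.adic h𝔜 hW).2.1 0).1 (c i)
    refine ⟨a, (Submodule.Quotient.eq _).2 ?_⟩
    have h1 : toA h𝔛 h𝔜 f (φ a - y) ∈ Levels.J (h := h𝔛.1) (pre f W) ^ 1 := by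
      rw [pow_one, RingHom.mem_ker]
      refine (map_sub (Levels.proj 𝔛 h𝔛.1 0 (pre f W)).hom (toA h𝔛 h𝔜 f (φ a)) (toA h𝔛 h𝔜 f y)).trans
        (sub_eq_zero.2 ?_)
      refine (congrArg (fun z => Levels.proj 𝔛 h𝔛.1 0 _ (toA h𝔛 h𝔜 f z))
        (Fintype.linearCombination_apply _ _ a)).trans ((proj_sum h𝔛 h𝔜 f hf 0 a g).trans (Eq.trans ?_ hc.symm))
      simp only [ha]
    simpa only [pow_one] using mem_smul_of_mem h𝔛 h𝔜 f hf hW 1 _ h1) x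
  exact ⟨a, ha.symm.trans (Fintype.linearCombination_apply _ _ a)⟩

/-- The direct image at level `k`. -/
noncomputable abbrev M (k : ℕ) : (𝔜.X k).Modules :=
  (Coh.push ((f : FSch.Hom 𝔛 𝔜).app k)).obj (Coh.structureModule (𝔛.X k))

/-- Level sections as sections of the direct image. -/
noncomputable def ρ (k : ℕ) (W : (𝔜.X 0).Opens) (y : Levels.B 𝔛 h𝔛.1 k (pre f W)) :
    Γ(M f k, 𝔜.lvU h𝔜.1 k W) :=
  (𝔛.X k).presheaf.map (homOfLE (FSch.Hom.lvU_preimage f h𝔛.1 h𝔜.1 k W).le).op y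

theorem ρ_bijective (k : ℕ) (W : (𝔜.X 0).Opens) : Function.Bijective (ρ h𝔛 h𝔜 f k W) := by
  haveI : IsIso (homOfLE (FSch.Hom.lvU_preimage f h𝔛.1 h𝔜.1 k W).le).op :=
    ⟨(homOfLE (FSch.Hom.lvU_preimage f h𝔛.1 h𝔜.1 k W).ge).op, Subsingleton.elim _ _,
      Subsingleton.elim _ _⟩
  exact ConcreteCategory.bijective_of_isIso _

theorem ρ_res (k : ℕ) {W W' : (𝔜.X 0).Opens} (e : W' ≤ W) (y : Levels.A 𝔛 h𝔛.1 (pre f W)) :
    ρ h𝔛 h𝔜 f k W' (Levels.proj 𝔛 h𝔛.1 k _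
        (CohPres.resA h𝔛.1 (((f : FSch.Hom 𝔛 𝔜).app 0).preimage_mono e) y)) =
      QCoh.Localizing.res (M f k) (CohPres.lvU_mono h𝔜.1 k e)
        (ρ h𝔛 h𝔜 f k W (Levels.proj 𝔛 h𝔛.1 k _ y)) := by
  rw [CohPres.proj_resA]
  show (𝔛.X k).presheaf.map _ ((𝔛.X k).presheaf.map _ _) =
    (𝔛.X k).presheaf.map _ ((𝔛.X k).presheaf.map _ _)
  refine ((ConcreteCategory.congr_hom ((𝔛.X k).presheaf.map_comp _ _) _).symm.trans ?_).trans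
    (ConcreteCategory.congr_hom ((𝔛.X k).presheaf.map_comp _ _) _)
  rfl

theorem ρ_sum (k : ℕ) (W : (𝔜.X 0).Opens) {n : ℕ} (c : Fin n → Levels.B 𝔜 h𝔜.1 k W)
    (y : Fin n → Levels.B 𝔛 h𝔛.1 k (pre f W)) :
    ρ h𝔛 h𝔜 f k W (∑ i, shk h𝔛 h𝔜 f k W (c i) * y i) =
      ∑ i, c i • ρ h𝔛 h𝔜 f k W (y i) := by
  refine (map_sum ((𝔛.X k).presheaf.map _).hom _ _).trans (Finset.sum_congr rfl fun i _ => ?_)
  refine (map_mul ((𝔛.X k).presheaf.map _).hom _ _).trans ?_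
  refine congrArg (· * _) ?_
  refine (ConcreteCategory.congr_hom (Scheme.Hom.appLE_map ((f : FSch.Hom 𝔛 𝔜).app k) _ _) (c i)).trans ?_
  rw [← Scheme.Hom.app_eq_appLE]
  rfl

include h𝔛 h𝔜 hf in
theorem isCoh_M (k : ℕ) : Coh.IsCoh (M f k) := by
  haveI := SysLemmas.app_isFinite hf h𝔜 k
  haveI := h𝔛.2.2 k
  exact CohDelta.IdealMul.FinPush.isCoh_push _ (Groth.Agent.Lib.Snapper.Twist.isCoh_structureModule _)

include hf in
/-- The direct image of the structure sheaf is coherent. -/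
theorem isCohF : FSch.IsCohF 𝔜 h𝔜.1 (P h𝔛 h𝔜 f) := by
  refine PresSh.isFinitePresentation_of_isPres fun z => ?_
  obtain ⟨W, hW, hzW⟩ := CohCons.exists_affine (𝔛 := 𝔜) z
  haveI : (M f 0).IsQuasicoherent := (isCoh_M h𝔛 h𝔜 f hf 0).1
  haveI : SheafOfModules.IsFiniteType (R := (𝔜.X 0).ringCatSheaf) (M f 0) := (isCoh_M h𝔛 h𝔜 f hf 0).2
  have hfin := CohBasics.Affine.finite_sections (M := M f 0) (OshBasic.isAffineOpen_lvU 𝔜 h𝔜.1 0 hW)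
  obtain ⟨n, φ₀, hφ₀⟩ := @Module.Finite.exists_fin' _ _ _ _ _ hfin
  choose y hy using fun i : Fin n => (ρ_bijective h𝔛 h𝔜 f 0 W).2 (φ₀ (Pi.single i 1))
  choose g hg using fun i : Fin n => ((Levels.adic h𝔛 (isAffineOpen_pre f hW)).2.1 0).1 (y i)
  have hgW : ∀ y : Levels.B 𝔛 h𝔛.1 0 (pre f W), ∃ c : Fin n → Levels.B 𝔜 h𝔜.1 0 W,
      y = ∑ i, shk h𝔛 h𝔜 f 0 W (c i) * Levels.proj 𝔛 h𝔛.1 0 _ (g i) := fun y' => by
    obtain ⟨c, hc⟩ := hφ₀ (ρ h𝔛 h𝔜 f 0 W y')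
    refine ⟨c, (ρ_bijective h𝔛 h𝔜 f 0 W).1 ?_⟩
    rw [ρ_sum, ← hc]
    simp only [hg, hy]
    conv_lhs => rw [pi_eq_sum_univ' c]
    simp only [map_sum, map_smul]
  let g' : Fin n → sec h𝔜.1 (P h𝔛 h𝔜 f) W := g
  have hgen := gen_of_mod h𝔛 h𝔜 f hf hW g' hgW
  haveI := Levels.isNoetherianRing_A h𝔜 hW
  let φ : (Fin n → Levels.A 𝔜 h𝔜.1 W) →ₗ[Levels.A 𝔜 h𝔜.1 W] sec h𝔜.1 (P h𝔛 h𝔜 f) W :=
    Fintype.linearCombination _ g'
  have hφ : ∀ a, φ a = ∑ i, a i • g' i := fun a => Fintype.linearCombination_apply _ _ a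
  obtain ⟨m, r, hr⟩ := Submodule.fg_iff_exists_fin_generating_family.1
    (IsNoetherian.noetherian (LinearMap.ker φ))
  have hrel : ∀ j, ∑ i, r j i • g' i = 0 := fun j => by
    rw [← hφ]
    exact LinearMap.mem_ker.1 (hr ▸ Submodule.subset_span ⟨j, rfl⟩)
  have hlev : ∀ k, PresSh.IsPres (R := (𝔜.X k).ringCatSheaf) (M f k) (𝔜.lvU h𝔜.1 k W)
      (fun i => ρ h𝔛 h𝔜 f k W (Levels.proj 𝔛 h𝔛.1 k _ (toA h𝔛 h𝔜 f (g' i))))
      (fun j i => Levels.proj 𝔜 h𝔜.1 k W (r j i)) := fun k => by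
    haveI : (M f k).IsQuasicoherent := (isCoh_M h𝔛 h𝔜 f hf k).1
    obtain ⟨hp, hpk⟩ := (Levels.adic h𝔜 hW).2.1 k
    obtain ⟨hpX, hpkX⟩ := (Levels.adic h𝔛 (isAffineOpen_pre f hW)).2.1 k
    refine SchPres.isPres_of_affine _ (OshBasic.isAffineOpen_lvU 𝔜 h𝔜.1 k hW) _ _
      (fun s => ?_) (fun j => ?_) fun c hc => ?_
    · obtain ⟨s', rfl⟩ := (ρ_bijective h𝔛 h𝔜 f k W).2 s
      obtain ⟨x, rfl⟩ := hpX s'
      obtain ⟨a, ha⟩ := hgen x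
      refine ⟨fun i => Levels.proj 𝔜 h𝔜.1 k W (a i), ?_⟩
      rw [show Levels.proj 𝔛 h𝔛.1 k _ x = _ from
        (congrArg (fun z => Levels.proj 𝔛 h𝔛.1 k _ (toA h𝔛 h𝔜 f z)) ha).trans
          (proj_sum h𝔛 h𝔜 f hf k a g'), ρ_sum]
    · rw [← ρ_sum, ← proj_sum h𝔛 h𝔜 f hf, hrel]
      exact (congrArg _ (map_zero _)).trans (map_zero ((𝔛.X k).presheaf.map _).hom)
    · choose a ha using fun i => hp (c i)
      have hy0 : toA h𝔛 h𝔜 f (∑ i, a i • g' i) ∈ Levels.J (h := h𝔛.1) (pre f W) ^ (k + 1) := by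
        rw [← hpkX, RingHom.mem_ker]
        refine (proj_sum h𝔛 h𝔜 f hf k a g').trans ((ρ_bijective h𝔛 h𝔜 f k W).1 ?_)
        rw [ρ_sum]
        simp only [ha]
        exact hc.trans (map_zero ((𝔛.X k).presheaf.map _).hom).symm
      have key : ∀ w ∈ Levels.J (h := h𝔜.1) W ^ (k + 1) •
          (⊤ : Submodule (Levels.A 𝔜 h𝔜.1 W) (sec h𝔜.1 (P h𝔛 h𝔜 f) W)),
          ∃ b : Fin n → Levels.A 𝔜 h𝔜.1 W,
            (∀ i, b i ∈ Levels.J (h := h𝔜.1) W ^ (k + 1)) ∧ w = ∑ i, b i • g' i := by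
        intro w hw
        refine Submodule.smul_induction_on hw (fun s hs v _ => ?_) ?_
        · obtain ⟨b, rfl⟩ := hgen v
          exact ⟨fun i => s * b i, fun i => Ideal.mul_mem_right _ _ hs,
            by simp only [Finset.smul_sum, smul_smul]⟩
        · rintro y₁ y₂ ⟨b₁, hb₁, rfl⟩ ⟨b₂, hb₂, rfl⟩
          exact ⟨b₁ + b₂, fun i => add_mem (hb₁ i) (hb₂ i),
            by simp only [Pi.add_apply, add_smul, Finset.sum_add_distrib]⟩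
      obtain ⟨b, hb, hbe⟩ := key _ (mem_smul_of_mem h𝔛 h𝔜 f hf hW (k + 1) _ hy0)
      have h3 : (fun i => a i - b i) ∈ LinearMap.ker φ := by
        rw [LinearMap.mem_ker, hφ]
        simp only [sub_smul, Finset.sum_sub_distrib]
        exact sub_eq_zero.2 hbe
      rw [← hr, Submodule.mem_span_range_iff_exists_fun] at h3
      obtain ⟨d, hd⟩ := h3
      refine ⟨fun j => Levels.proj 𝔜 h𝔜.1 k W (d j), fun i => ?_⟩
      have h2 : Levels.proj 𝔜 h𝔜.1 k W (b i) = 0 := by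
        have := hb i
        rw [← hpk] at this
        exact RingHom.mem_ker.1 this
      have h1 := congrArg (Levels.proj 𝔜 h𝔜.1 k W) (congrFun hd i)
      simp only [Finset.sum_apply, Pi.smul_apply, smul_eq_mul, map_sub, map_sum, map_mul, h2,
        sub_zero] at h1
      exact (ha i).symm.trans h1.symm
  refine ⟨W, n, m, g', r, hzW, PresSh.IsPres.of_basis (M := P h𝔛 h𝔜 f) {V | IsAffineOpen V}
    (CohPres.isBasis_affine (𝔜.X 0)) hrel (fun V hV hVW s z hz => ?_) fun V hV hVW (c : Fin n → Levels.A 𝔜 h𝔜.1 V) hc z hz => ?_⟩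
  · haveI : (M f 0).IsQuasicoherent := (isCoh_M h𝔛 h𝔜 f hf 0).1
    obtain ⟨a, ha⟩ := gen_of_mod h𝔛 h𝔜 f hf hV
      (fun i => CohPres.resF h𝔜.1 (P h𝔛 h𝔜 f) hVW (g' i)) (fun y => by
        obtain ⟨c, hc⟩ := SchPres.gen_of_isPres (hlev 0) (OshBasic.isAffineOpen_lvU 𝔜 h𝔜.1 0 hV)
          (CohPres.lvU_mono h𝔜.1 0 hVW) (ρ h𝔛 h𝔜 f 0 V y)
        refine ⟨c, (ρ_bijective h𝔛 h𝔜 f 0 V).1 (hc.trans ?_)⟩
        rw [ρ_sum]
        exact Finset.sum_congr rfl fun i _ => congrArg (c i • ·) (ρ_res h𝔛 h𝔜 f 0 hVW (g i)).symm) s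
    refine ⟨V, le_rfl, hz, a, Eq.trans ?_ ha⟩
    exact (congrArg (fun g => (P h𝔛 h𝔜 f).val.map g s)
      (Subsingleton.elim (homOfLE (le_refl V)).op (𝟙 _))).trans
      (congrArg (fun φ => φ.hom s) ((P h𝔛 h𝔜 f).val.map_id (op V)))
  · haveI := (Levels.adic h𝔜 hV).1
    haveI := Levels.isNoetherianRing_A h𝔜 hV
    let S : Submodule (Levels.A 𝔜 h𝔜.1 V) (Fin n → Levels.A 𝔜 h𝔜.1 V) :=
      LinearMap.range (Fintype.linearCombination _ fun j i => CohPres.resA h𝔜.1 hVW (r j i))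
    haveI : IsHausdorff (Levels.J (h := h𝔜.1) V) ((Fin n → Levels.A 𝔜 h𝔜.1 V) ⧸ S) :=
      IsHausdorff.of_le_jacobson _ _ (IsAdicComplete.le_jacobson_bot _)
    have hS : S.mkQ c = 0 := by
      refine IsHausdorff.haus ‹_› _ fun k => ?_
      obtain ⟨hp, hpk⟩ := (Levels.adic h𝔜 hV).2.1 k
      haveI : (M f k).IsQuasicoherent := (isCoh_M h𝔛 h𝔜 f hf k).1
      obtain ⟨d', hd'⟩ := SchPres.exact_of_isPres (hlev k)
        (OshBasic.isAffineOpen_lvU 𝔜 h𝔜.1 k hV) (CohPres.lvU_mono h𝔜.1 k hVW)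
        (fun i => Levels.proj 𝔜 h𝔜.1 k V (c i)) (by
          have h1 := congrArg (fun x => ρ h𝔛 h𝔜 f k V (Levels.proj 𝔛 h𝔛.1 k _ (toA h𝔛 h𝔜 f x))) hc
          refine Eq.trans ?_ (h1.trans ((congrArg _ (map_zero _)).trans
            (map_zero ((𝔛.X k).presheaf.map _).hom)))
          refine Eq.trans ?_ (congrArg (ρ h𝔛 h𝔜 f k V) (proj_sum h𝔛 h𝔜 f hf k c
            (fun i => CohPres.resF h𝔜.1 (P h𝔛 h𝔜 f) hVW (g' i)))).symm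
          rw [ρ_sum]
          exact Finset.sum_congr rfl fun i _ =>
            congrArg (Levels.proj 𝔜 h𝔜.1 k V (c i) • ·) (ρ_res h𝔛 h𝔜 f k hVW (g i)).symm)
      choose d hd using fun j => hp (d' j)
      have hmem : ∀ i, c i - ∑ j, d j * CohPres.resA h𝔜.1 hVW (r j i) ∈ Levels.J (h := h𝔜.1) V ^ k := by
        intro i
        refine Ideal.pow_le_pow_right (Nat.le_succ k) (hpk.le ?_)
        rw [RingHom.mem_ker, map_sub, sub_eq_zero]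
        refine (hd' i).trans ?_
        rw [map_sum]
        refine Finset.sum_congr rfl fun j _ => ?_
        rw [map_mul, hd, CohPres.proj_resA]
      have h1 := Submodule.mem_map_of_mem (f := S.mkQ)
        (Adic.Complete.mem_smul_top_pi (x := c - Fintype.linearCombination _
          (fun j i => CohPres.resA h𝔜.1 hVW (r j i)) d) fun i => by
            simpa [Fintype.linearCombination_apply] using hmem i)
      rw [Submodule.map_smul''] at h1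
      have h2 := Submodule.smul_mono le_rfl le_top h1
      rw [map_sub] at h2
      have h3 : S.mkQ (Fintype.linearCombination _ (fun j i => CohPres.resA h𝔜.1 hVW (r j i)) d) = 0 :=
        (Submodule.Quotient.mk_eq_zero S).2 ⟨d, rfl⟩
      rw [h3, sub_zero] at h2
      exact SModEq.zero.2 h2
    obtain ⟨d, hd⟩ := (Submodule.Quotient.mk_eq_zero S).1 hS
    refine ⟨V, le_rfl, hz, d, fun i => ?_⟩
    refine Eq.trans ?_ (Eq.trans (congrFun hd i).symm (by simp [Fintype.linearCombination_apply]; rfl))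
    exact (congrArg (fun g => (ModSite.ringSh (𝔜.Osh h𝔜.1)).obj.map g (c i))
      (Subsingleton.elim (homOfLE (le_refl V)).op (𝟙 _))).trans
      (ConcreteCategory.congr_hom (CategoryTheory.Functor.map_id _ _) _)

end Groth.Agent.H22.FinPushF
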