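import Groth.Agent.H22.CompleteLocalTest
import Mathlib

/-!
A finite module is the limit of its base changes to complete local flat algebras.
-/

set_option autoImplicit false
set_option maxHeartbeats 1000000
universe u

open TensorProduct IsLocalRing

namespace Groth.Agent.H22.CompleteLimit

variable (A : Type u) [CommRing A]

/-- A family of elements over all complete local flat algebras. -/
abbrev Fam (M : Type u) [AddCommGroup M] [Module A M] : Type (u + 1) :=
  ∀ (B : Type u) [CommRing B] [Algebra A B] [IsNoetherianRing B] [IsLocalRing B],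
    IsAdicComplete (maximalIdeal B) B → Module.Flat A B → B ⊗[A] M

variable {A} {M : Type u} [AddCommGroup M] [Module A M]

/-- Compatibility of a family. -/
def Compat (x : Fam A M) : Prop :=
  ∀ (B : Type u) [CommRing B] [Algebra A B] [IsNoetherianRing B] [IsLocalRing B]
    (hB : IsAdicComplete (maximalIdeal B) B) (hBf : Module.Flat A B) (B' : Type u) [CommRing B'] [Algebra A B']
    [IsNoetherianRing B'] [IsLocalRing B'] (hB' : IsAdicComplete (maximalIdeal B') B') (hB'f : Module.Flat A B')
    (g : B →ₐ[A] B'), g.toLinearMap.rTensor M (x B hB hBf) = x B' hB' hB'f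

/-- `m` induces the family `x`. -/
def Rep (m : M) (x : Fam A M) : Prop :=
  ∀ (B : Type u) [CommRing B] [Algebra A B] [IsNoetherianRing B] [IsLocalRing B]
    (hB : IsAdicComplete (maximalIdeal B) B) (hBf : Module.Flat A B), x B hB hBf = (1 : B) ⊗ₜ[A] m

variable (A) (M) in
/-- Every compatible family is induced by an element. -/
def Good : Prop := ∀ x : Fam A M, Compat x → ∃ m : M, Rep m x

theorem good_exact {M' M'' : Type u} [AddCommGroup M'] [Module A M'] [AddCommGroup M''] [Module A M'']
    (f : M' →ₗ[A] M) (g : M →ₗ[A] M'') (hf : Function.Injective f) (hg : Function.Surjective g)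
    (hfg : Function.Exact f g) (h' : Good A M') (h'' : Good A M'') : Good A M := by
  intro x hx
  have hcomm : ∀ {P Q : Type u} [AddCommGroup P] [Module A P] [AddCommGroup Q] [Module A Q] (u : P →ₗ[A] Q)
      {B B' : Type u} [CommRing B] [Algebra A B] [CommRing B'] [Algebra A B'] (φ : B →ₐ[A] B') (z : B ⊗[A] P),
      φ.toLinearMap.rTensor Q (u.lTensor B z) = u.lTensor B' (φ.toLinearMap.rTensor P z) :=
    fun u _ _ _ _ _ _ φ z => by
      rw [← LinearMap.comp_apply, LinearMap.rTensor_comp_lTensor, ← LinearMap.lTensor_comp_rTensor,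
        LinearMap.comp_apply]
  obtain ⟨m'', hm''⟩ := h'' (fun B _ _ _ _ hB hBf => g.lTensor B (x B hB hBf))
    fun B _ _ _ _ hB hBf B' _ _ _ _ hB' hB'f φ => by rw [hcomm, hx B hB hBf B' hB' hB'f]
  obtain ⟨m, rfl⟩ := hg m''
  have hlift : ∀ (B : Type u) [CommRing B] [Algebra A B] [IsNoetherianRing B] [IsLocalRing B]
      (hB : IsAdicComplete (maximalIdeal B) B) (hBf : Module.Flat A B),
      ∃ y, f.lTensor B y = x B hB hBf - (1 : B) ⊗ₜ[A] m := fun B _ _ _ _ hB hBf =>
    (lTensor_exact B hfg hg _).1 (by rw [map_sub, show g.lTensor B (x B hB hBf) = _ from hm'' B hB hBf, LinearMap.lTensor_tmul, sub_self])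
  choose y hy using hlift
  obtain ⟨m', hm'⟩ := h' (fun B _ _ _ _ hB hBf => y B hB hBf) fun B _ _ _ _ hB hBf B' _ _ _ _ hB' hB'f φ => by
    apply Module.Flat.lTensor_preserves_injective_linearMap (M := B') f hf
    rw [← hcomm, hy, hy, map_sub, hx B hB hBf B' hB' hB'f, LinearMap.rTensor_tmul]
    simp
  refine ⟨m + f m', fun B _ _ _ _ hB hBf => ?_⟩
  have := hy B hB hBf
  rw [show y B hB hBf = _ from hm' B hB hBf, LinearMap.lTensor_tmul, eq_sub_iff_add_eq] at this
  rw [← this, tmul_add, add_comm]

section Completion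

variable {L B : Type u} [CommRing L] [IsLocalRing L] [CommRing B] [IsLocalRing B]
  [IsAdicComplete (maximalIdeal B) B]

theorem exists_extend (φ : L →+* B) [IsLocalHom φ] :
    ∃ Φ : AdicCompletion (maximalIdeal L) L →+* B, Φ.comp (algebraMap L _) = φ := by
  have hle : (maximalIdeal L).map φ ≤ maximalIdeal B := ((local_hom_TFAE φ).out 0 2).mp ‹_›
  have hn : ∀ n, maximalIdeal L ^ n ≤ (maximalIdeal B ^ n).comap φ := fun n => by
    rw [← Ideal.map_le_iff_le_comap, Ideal.map_pow]
    exact Ideal.pow_right_mono hle n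
  let f : (n : ℕ) → AdicCompletion (maximalIdeal L) L →+* B ⧸ maximalIdeal B ^ n := fun n =>
    (Ideal.quotientMap _ φ (hn n)).comp (AdicCompletion.evalₐ (maximalIdeal L) n).toRingHom
  have hf : ∀ {m n : ℕ} (hle : m ≤ n), (Ideal.Quotient.factorPow _ hle).comp (f n) = f m := by
    intro m n h
    refine RingHom.ext fun z => ?_
    obtain ⟨a, rfl⟩ := AdicCompletion.mk_surjective _ _ z
    simp only [f, RingHom.comp_apply, AlgHom.toRingHom_eq_coe, RingHom.coe_coe, AdicCompletion.evalₐ_mk,
      Ideal.quotientMap_mk, Ideal.Quotient.factor_mk]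
    rw [Ideal.Quotient.eq, ← map_sub]
    refine hn m ?_
    have := a.2 h
    rw [SModEq.sub_mem, smul_eq_mul, Ideal.mul_top] at this
    simpa using (maximalIdeal L ^ m).neg_mem this
  refine ⟨IsAdicComplete.liftRingHom (maximalIdeal B) f hf, RingHom.ext (congrFun ?_)⟩
  refine IsHausdorff.funext' (maximalIdeal B) fun n => ?_
  intro l
  rw [RingHom.comp_apply, IsAdicComplete.mk_liftRingHom]
  simp only [f, RingHom.comp_apply, AlgHom.toRingHom_eq_coe, RingHom.coe_coe, AlgHom.commutes,
    Ideal.Quotient.algebraMap_eq, Ideal.quotientMap_mk]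

end Completion

variable [IsNoetherianRing A]

/-- The completed local ring at a prime. -/
abbrev Cpl {C : Type u} [CommRing C] (P : Ideal C) [P.IsPrime] : Type u :=
  AdicCompletion (maximalIdeal (Localization.AtPrime P)) (Localization.AtPrime P)

omit [IsNoetherianRing A] in
theorem flat_cpl {C : Type u} [CommRing C] [IsNoetherianRing C] [Algebra A C] [Module.Flat A C]
    (P : Ideal C) [P.IsPrime] [IsNoetherianRing (Localization.AtPrime P)] : Module.Flat A (Cpl P) :=
  haveI : Module.Flat (Localization.AtPrime P) (Cpl P) := AdicCompletion.flat_of_isNoetherian _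
  haveI : Module.Flat C (Localization.AtPrime P) := IsLocalization.flat _ P.primeCompl
  haveI : Module.Flat A (Localization.AtPrime P) := Module.Flat.trans A C _
  Module.Flat.trans A (Localization.AtPrime P) (Cpl P)

omit [IsNoetherianRing A] in
theorem exists_cpl_hom (p : Ideal A) [p.IsPrime] [IsNoetherianRing (Localization.AtPrime p)] {B : Type u}
    [CommRing B] [Algebra A B] [IsLocalRing B] [IsAdicComplete (maximalIdeal B) B]
    (hp : (maximalIdeal B).comap (algebraMap A B) = p) : ∃ _ : Cpl p →ₐ[A] B, True := by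
  have hu : ∀ s : p.primeCompl, IsUnit (algebraMap A B s) := fun s => by
    rw [← notMem_maximalIdeal]
    intro h
    exact s.2 (hp.le h)
  let φ : Localization.AtPrime p →+* B := IsLocalization.lift hu
  haveI : IsLocalHom φ := ⟨fun z hz => by
    obtain ⟨a, s, rfl⟩ := IsLocalization.exists_mk'_eq p.primeCompl z
    rw [IsLocalization.AtPrime.isUnit_mk'_iff]
    intro ha
    have h1 : φ (IsLocalization.mk' _ a s) * algebraMap A B s = algebraMap A B a := by
      rw [← IsLocalization.lift_eq (S := Localization.AtPrime p) hu (s : A), ← map_mul, IsLocalization.mk'_spec,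
        IsLocalization.lift_eq]
    have h2 : algebraMap A B a ∈ maximalIdeal B := by rw [← Ideal.mem_comap, hp]; exact ha
    exact h2 (h1 ▸ hz.mul (hu s))⟩
  obtain ⟨Φ, hΦ⟩ := exists_extend φ
  refine ⟨{ Φ with commutes' := fun a => ?_ }, trivial⟩
  show Φ (algebraMap A (Cpl p) a) = _
  rw [IsScalarTower.algebraMap_apply A (Localization.AtPrime p) (Cpl p), ← RingHom.comp_apply, hΦ,
    IsLocalization.lift_eq]

theorem exists_smul_eq_zero {C : Type u} [CommRing C] [IsNoetherianRing C] {T : Type u} [AddCommGroup T]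
    [Module C T] (P : Ideal C) [P.IsPrime] [IsNoetherianRing (Localization.AtPrime P)] {z : T}
    (h : (1 : Cpl P) ⊗ₜ[C] z = 0) : ∃ c : C, c ∉ P ∧ c • z = 0 := by
  set L := Localization.AtPrime P
  haveI : Module.Flat L (Cpl P) := AdicCompletion.flat_of_isNoetherian _
  haveI : Module.FaithfullyFlat L (Cpl P) := Module.FaithfullyFlat.of_flat_of_isLocalHom
  have h1 : (1 : L) ⊗ₜ[C] z = 0 := by
    rw [← Module.FaithfullyFlat.one_tmul_eq_zero_iff (R := L) (M := L ⊗[C] T) (A := Cpl P)]
    apply (AlgebraTensorModule.cancelBaseChange C L (Cpl P) (Cpl P) T).injective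
    rw [AlgebraTensorModule.cancelBaseChange_tmul, one_smul, h, map_zero]
  obtain ⟨c, hc⟩ := ((isLocalizedModule_iff_isBaseChange P.primeCompl L (TensorProduct.mk C L T 1)).mpr
    (TensorProduct.isBaseChange C T L)) |> fun inst => (IsLocalizedModule.eq_zero_iff (f := TensorProduct.mk C L T 1)
      P.primeCompl).1 h1
  exact ⟨c, c.2, hc⟩

theorem exists_smul_eq_one_tmul (p : Ideal A) [p.IsPrime] [IsNoetherianRing (Localization.AtPrime p)]
    (z : Cpl p ⊗[A] (A ⧸ p)) : ∃ b ∉ p, ∃ c : A ⧸ p, b • z = (1 : Cpl p) ⊗ₜ[A] c := by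
  set L := Localization.AtPrime p
  induction z using TensorProduct.induction_on with
  | zero => exact ⟨1, fun h => Ideal.IsPrime.ne_top ‹_› ((Ideal.eq_top_iff_one _).2 h), 0, by simp⟩
  | add z z' hz hz' =>
    obtain ⟨b, hb, c, hc⟩ := hz
    obtain ⟨b', hb', c', hc'⟩ := hz'
    refine ⟨b * b', fun h => (Ideal.IsPrime.mem_or_mem ‹_› h).elim hb hb', b' • c + b • c', ?_⟩
    rw [smul_add, tmul_add, tmul_smul, tmul_smul, ← hc, ← hc', smul_smul, smul_smul, mul_comm b']
  | tmul β c =>
    obtain ⟨l, hl⟩ := Ideal.Quotient.mk_surjective (AdicCompletion.evalOneₐ (maximalIdeal L) β)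
    have hker : β - algebraMap L (Cpl p) l ∈ p.map (algebraMap A (Cpl p)) := by
      rw [IsScalarTower.algebraMap_eq A L (Cpl p), ← Ideal.map_map, Localization.AtPrime.map_eq_maximalIdeal,
        ← AdicCompletion.ker_evalOneₐ_eq_map _ (IsNoetherian.noetherian _)]
      simp only [AlgHom.toRingHom_eq_coe, RingHom.mem_ker, RingHom.coe_coe, map_sub, AlgHom.commutes,
        Ideal.Quotient.algebraMap_eq]
      rw [hl]
      exact sub_self _
    have hzero : ∀ γ ∈ p.map (algebraMap A (Cpl p)), γ ⊗ₜ[A] c = 0 := by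
      intro γ hγ
      rw [Ideal.map] at hγ
      induction hγ using Submodule.span_induction generalizing c with
      | zero => rw [zero_tmul]
      | add u v _ _ hu hv => rw [add_tmul, hu, hv, add_zero]
      | mem u hu =>
        obtain ⟨a, ha, rfl⟩ := hu
        rw [Algebra.algebraMap_eq_smul_one, smul_tmul]
        obtain ⟨c, rfl⟩ := Ideal.Quotient.mk_surjective c
        rw [Algebra.smul_def, Ideal.Quotient.algebraMap_eq, ← map_mul,
          Ideal.Quotient.eq_zero_iff_mem.2 (Ideal.mul_mem_right c _ ha), tmul_zero]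
      | smul r u _ hu =>
        have : (r • u) ⊗ₜ[A] c = r • (u ⊗ₜ[A] c) := (smul_tmul' r u c).symm
        rw [this, hu, smul_zero]
    have hβ : β ⊗ₜ[A] c = algebraMap L (Cpl p) l ⊗ₜ[A] c := by
      rw [← sub_eq_zero, ← sub_tmul]; exact hzero _ hker
    obtain ⟨a, s, rfl⟩ := IsLocalization.exists_mk'_eq p.primeCompl l
    refine ⟨s, s.2, a • c, ?_⟩
    rw [hβ, smul_tmul', Algebra.smul_def, IsScalarTower.algebraMap_apply A L (Cpl p), ← map_mul,
      IsLocalization.mk'_spec', ← IsScalarTower.algebraMap_apply A L (Cpl p), Algebra.algebraMap_eq_smul_one,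
      smul_tmul]

theorem eq_one_tmul_of_generic (p : Ideal A) [p.IsPrime] [IsNoetherianRing (Localization.AtPrime p)]
    (x : Fam A (A ⧸ p)) (hx : Compat x) {b : A} {c : A ⧸ p}
    (h0 : b • x (Cpl p) inferInstance (flat_cpl p) = (1 : Cpl p) ⊗ₜ[A] c)
    (B : Type u) [CommRing B] [Algebra A B] [IsNoetherianRing B] [IsLocalRing B]
    (hB : IsAdicComplete (maximalIdeal B) B) (hBf : Module.Flat A B) : b • x B hB hBf = (1 : B) ⊗ₜ[A] c := by
  haveI := hBf
  set z := b • x B hB hBf - (1 : B) ⊗ₜ[A] c with hz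
  rw [← sub_eq_zero, ← hz]
  by_contra hne
  haveI : Module.Finite B (B ⊗[A] (A ⧸ p)) := inferInstance
  obtain ⟨P, hP, hzP⟩ := exists_le_isAssociatedPrime_of_isNoetherianRing B z hne
  obtain ⟨hPp, w, hw⟩ := isAssociatedPrime_iff.1 hP
  haveI := hPp
  have hw0 : w ≠ 0 := fun h => hPp.ne_top (hw.trans (by subst h; ext; simp [Submodule.mem_colon_singleton]))
  have hle : P.comap (algebraMap A B) = p := by
    refine le_antisymm (fun a ha => ?_) fun a ha => ?_
    · by_contra hap
      rw [Ideal.mem_comap, hw, Submodule.mem_colon_singleton, Submodule.mem_bot, algebraMap_smul] at ha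
      have hinj : Function.Injective (LinearMap.lsmul A (A ⧸ p) a) := by
        rw [injective_iff_map_eq_zero]
        intro y hy
        obtain ⟨y, rfl⟩ := Ideal.Quotient.mk_surjective y
        rw [LinearMap.lsmul_apply, Algebra.smul_def, Ideal.Quotient.algebraMap_eq, ← map_mul] at hy
        exact Ideal.Quotient.eq_zero_iff_mem.2
          ((Ideal.IsPrime.mem_or_mem ‹_› (Ideal.Quotient.eq_zero_iff_mem.1 hy)).resolve_left hap)
      have hflat := Module.Flat.lTensor_preserves_injective_linearMap (M := B) _ hinj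
      have hkey : ∀ y : B ⊗[A] (A ⧸ p), (LinearMap.lsmul A (A ⧸ p) a).lTensor B y = a • y := fun y => by
        induction y using TensorProduct.induction_on with
        | zero => simp
        | add u v hu hv => rw [map_add, hu, hv, smul_add]
        | tmul u v => rw [LinearMap.lTensor_tmul, LinearMap.lsmul_apply, tmul_smul]
      exact hw0 (hflat (by rw [hkey, map_zero, ha]))
    · rw [Ideal.mem_comap, hw, Submodule.mem_colon_singleton, Submodule.mem_bot, algebraMap_smul]
      clear hw hw0
      induction w using TensorProduct.induction_on with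
      | zero => simp
      | add u v hu hv => rw [smul_add, hu, hv, add_zero]
      | tmul u v =>
        obtain ⟨v, rfl⟩ := Ideal.Quotient.mk_surjective v
        rw [← tmul_smul, Algebra.smul_def, Ideal.Quotient.algebraMap_eq, ← map_mul,
          Ideal.Quotient.eq_zero_iff_mem.2 (Ideal.mul_mem_right v _ ha), tmul_zero]
  haveI : IsNoetherianRing (Localization.AtPrime P) := IsLocalization.isNoetherianRing P.primeCompl _ inferInstance
  haveI hflat : Module.Flat A (Cpl P) := flat_cpl P
  have hp' : (maximalIdeal (Cpl P)).comap (algebraMap A (Cpl P)) = p := by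
    rw [IsScalarTower.algebraMap_eq A B (Cpl P), IsScalarTower.algebraMap_eq B (Localization.AtPrime P) (Cpl P),
      ← Ideal.comap_comap, ← Ideal.comap_comap]
    haveI : IsLocalHom (algebraMap (Localization.AtPrime P) (Cpl P)) := inferInstance
    rw [show (maximalIdeal (Cpl P)).comap (algebraMap (Localization.AtPrime P) (Cpl P)) = maximalIdeal _ from
        Ideal.ext fun y => by simp [mem_maximalIdeal, isUnit_map_iff],
      show (maximalIdeal (Localization.AtPrime P)).comap (algebraMap B (Localization.AtPrime P)) = P from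
        Ideal.ext fun y => IsLocalization.AtPrime.to_map_mem_maximal_iff (Localization.AtPrime P) P y, hle]
  obtain ⟨g0, -⟩ := exists_cpl_hom p hp'
  let g : B →ₐ[A] Cpl P := IsScalarTower.toAlgHom A B (Cpl P)
  have h1 : g.toLinearMap.rTensor (A ⧸ p) z = 0 := by
    rw [hz, map_sub, map_smul, hx B hB hBf (Cpl P) inferInstance hflat g,
      ← hx (Cpl p) inferInstance (flat_cpl p) (Cpl P) inferInstance hflat g0, ← map_smul, h0,
      LinearMap.rTensor_tmul, LinearMap.rTensor_tmul]
    simp [g]
  have h2 : (1 : Cpl P) ⊗ₜ[B] z = 0 := by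
    apply (AlgebraTensorModule.cancelBaseChange A B (Cpl P) (Cpl P) (A ⧸ p)).injective
    rw [map_zero, ← h1]
    generalize z = y
    induction y using TensorProduct.induction_on with
    | zero => simp
    | add u v hu hv => rw [tmul_add, map_add, hu, hv, map_add]
    | tmul u v => simp [g, Algebra.algebraMap_eq_smul_one]
  obtain ⟨e, he, hez⟩ := exists_smul_eq_zero P h2
  exact he (hzP (by rw [Submodule.mem_colon_singleton, Submodule.mem_bot]; exact hez))

theorem good_prime (p : Ideal A) [p.IsPrime] : Good A (A ⧸ p) := by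
  haveI hN : ∀ (q : Ideal A) [q.IsPrime], IsNoetherianRing (Localization.AtPrime q) := fun q _ =>
    IsLocalization.isNoetherianRing q.primeCompl _ inferInstance
  intro x hx
  obtain ⟨b, hb, c, hbc⟩ := exists_smul_eq_one_tmul p (x (Cpl p) inferInstance (flat_cpl p))
  have hall := eq_one_tmul_of_generic p x hx hbc
  obtain ⟨d, hd⟩ : ∃ d, b • d = c := by
    let J : Submodule A (A ⧸ p) := LinearMap.range (LinearMap.lsmul A (A ⧸ p) b)
    suffices hJ : J.mkQ c = 0 by
      rw [Submodule.mkQ_apply, Submodule.Quotient.mk_eq_zero] at hJ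
      exact hJ
    refine CompleteLocalTest.eq_zero A _ _ fun B _ _ _ _ hB hBf => ?_
    have h := congrArg (J.mkQ.lTensor B) (hall B hB hBf)
    rw [LinearMap.lTensor_tmul, map_smul] at h
    rw [← h]
    generalize x B hB hBf = y
    induction y using TensorProduct.induction_on with
    | zero => simp
    | add u v hu hv => rw [map_add, smul_add, hu, hv, add_zero]
    | tmul u v =>
      rw [LinearMap.lTensor_tmul, ← tmul_smul, ← map_smul, Submodule.mkQ_apply,
        (Submodule.Quotient.mk_eq_zero J).2 (show b • v ∈ J from ⟨v, rfl⟩), tmul_zero]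
  refine ⟨d, fun B _ _ _ _ hB hBf => ?_⟩
  let x' : Fam A (A ⧸ p) := fun B _ _ _ _ hB hBf => x B hB hBf - (1 : B) ⊗ₜ[A] d
  have hx' : Compat x' := fun B _ _ _ _ hB hBf B' _ _ _ _ hB' hB'f g => by
    simp only [x', map_sub, hx B hB hBf B' hB' hB'f g, LinearMap.rTensor_tmul, AlgHom.toLinearMap_apply, map_one]
  have h0 : (1 : A) • x' (Cpl p) inferInstance (flat_cpl p) = (1 : Cpl p) ⊗ₜ[A] (0 : A ⧸ p) := by
    have h1 : b • x' (Cpl p) inferInstance (flat_cpl p) = 0 := by
      simp only [x', smul_sub, hbc, ← tmul_smul, hd, sub_self]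
    have hu : IsUnit (algebraMap A (Cpl p) b) := by
      rw [IsScalarTower.algebraMap_apply A (Localization.AtPrime p) (Cpl p)]
      exact (IsLocalization.map_units (Localization.AtPrime p) (⟨b, hb⟩ : p.primeCompl)).map _
    rw [← algebraMap_smul (Cpl p), hu.smul_eq_zero] at h1
    rw [h1, smul_zero, tmul_zero]
  have h := eq_one_tmul_of_generic p x' hx' h0 B hB hBf
  rwa [one_smul, tmul_zero, sub_eq_zero] at h

theorem good_finite [Module.Finite A M] : Good A M := by
  refine IsNoetherianRing.induction_on_isQuotientEquivQuotientPrime A (inferInstance : Module.Finite A M)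
    (motive := fun N _ _ _ => Good A N) ?_ ?_ ?_
  · intro N _ _ _ _ x _
    refine ⟨0, fun B _ _ _ _ hB hBf => ?_⟩
    have h : ∀ y : B ⊗[A] N, y = 0 := fun y => by
      induction y using TensorProduct.induction_on with
      | zero => rfl
      | add u v hu hv => rw [hu, hv, add_zero]
      | tmul u v => rw [Subsingleton.elim v 0, tmul_zero]
    rw [h (x B hB hBf), tmul_zero]
  · intro N _ _ _ p e
    haveI := p.2
    have hcomm : ∀ {B B' : Type u} [CommRing B] [Algebra A B] [CommRing B'] [Algebra A B'] (φ : B →ₐ[A] B')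
        (z : B ⊗[A] N), φ.toLinearMap.rTensor _ (e.toLinearMap.lTensor B z) =
          e.toLinearMap.lTensor B' (φ.toLinearMap.rTensor N z) := fun φ z => by
      rw [← LinearMap.comp_apply, LinearMap.rTensor_comp_lTensor, ← LinearMap.lTensor_comp_rTensor,
        LinearMap.comp_apply]
    intro x hx
    obtain ⟨m, hm⟩ := good_prime p.1 (fun B _ _ _ _ hB hBf => e.toLinearMap.lTensor B (x B hB hBf))
      fun B _ _ _ _ hB hBf B' _ _ _ _ hB' hB'f φ => by rw [hcomm, hx B hB hBf B' hB' hB'f]
    refine ⟨e.symm m, fun B _ _ _ _ hB hBf => (LinearEquiv.lTensor B e).injective ?_⟩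
    show e.toLinearMap.lTensor B _ = e.toLinearMap.lTensor B _
    rw [show e.toLinearMap.lTensor B (x B hB hBf) = _ from hm B hB hBf, LinearMap.lTensor_tmul]
    simp
  · intro N₁ _ _ _ N₂ _ _ _ N₃ _ _ _ f g hf hg hfg h1 h3
    exact good_exact f g hf hg hfg h1 h3

end Groth.Agent.H22.CompleteLimit
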