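import Groth.Agent.Lib.Excellent.CompletionNoetherian
import Mathlib.RingTheory.AdicCompletion.LocalRing
import Mathlib.RingTheory.AdicCompletion.AsTensorProduct
import Mathlib.RingTheory.Flat.FaithfullyFlat.Algebra
import Mathlib.RingTheory.LocalProperties.Submodule
import Mathlib.RingTheory.Localization.Submodule
import Mathlib.RingTheory.Flat.Stability
import Mathlib.RingTheory.Flat.Localization

/-! Complete local flat algebras detect zero. -/

open TensorProduct

namespace Groth.Agent.H22.CompleteLocalTest

universe u

theorem eq_zero (A : Type u) [CommRing A] [IsNoetherianRing A] (M : Type u) [AddCommGroup M]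
    [Module A M] (m : M)
    (h : ∀ (B : Type u) [CommRing B] [Algebra A B] [IsNoetherianRing B] [IsLocalRing B],
      IsAdicComplete (IsLocalRing.maximalIdeal B) B → Module.Flat A B → (1 : B) ⊗ₜ[A] m = 0) :
    m = 0 := by
  refine Module.eq_zero_of_localization_maximal
    (fun (P : Ideal A) [P.IsMaximal] => LocalizedModule P.primeCompl M)
    (fun P _ => LocalizedModule.mkLinearMap P.primeCompl M) m fun P _ => ?_
  let L := Localization.AtPrime P
  have : IsNoetherianRing L := IsLocalization.isNoetherianRing P.primeCompl L inferInstance
  let B := AdicCompletion (IsLocalRing.maximalIdeal L) L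
  have hBflat : Module.Flat L B := AdicCompletion.flat_of_isNoetherian _
  have : Module.FaithfullyFlat L B := Module.FaithfullyFlat.of_flat_of_isLocalHom
  have hLflat : Module.Flat A L := IsLocalization.flat L P.primeCompl
  have hflat : Module.Flat A B := Module.Flat.trans A L B
  have h0 := h B inferInstance hflat
  have h1 : (1 : L) ⊗ₜ[A] m = 0 := by
    rw [← Module.FaithfullyFlat.one_tmul_eq_zero_iff (R := L) (M := L ⊗[A] M) (A := B)]
    apply (AlgebraTensorModule.cancelBaseChange A L B B M).injective
    rw [AlgebraTensorModule.cancelBaseChange_tmul, one_smul, h0, map_zero]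
  apply (LocalizedModule.equivTensorProduct P.primeCompl M).injective
  rw [map_zero, LocalizedModule.mkLinearMap_apply, LocalizedModule.equivTensorProduct_apply_mk]
  simpa [Localization.mk_one] using h1

end Groth.Agent.H22.CompleteLocalTest
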