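import Groth.Prelude.Def_W4c5adicflatcomplDec
import Groth.Agent.H22.Completion
import Groth.Agent.H22.AdicIso
import Groth.Agent.Lib.Adic.Complete
import Mathlib.RingTheory.AdicCompletion.Algebra
import Mathlib.RingTheory.AdicCompletion.Noetherian

/-!
Modules of adically decaying functions: completeness, convergent sums, universal property.
-/

set_option linter.unusedSectionVars false

universe u v w

open Submodule W4c5adicflatcompl

namespace Groth.Agent.H22.Decaying

variable {A : Type u} [CommRing A] (I : Ideal A) {Z : Type v}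
variable {M : Type*} [AddCommGroup M] [Module A M] {N : Type*} [AddCommGroup N] [Module A N]

/-- A decaying function is lifted along a map which lifts every filtration level up to a shift. -/
theorem exists_lift [IsHausdorff I N] (φ : M →ₗ[A] N) (c : ℕ)
    (hlift : ∀ k, ∀ y ∈ (I ^ (k + c) • ⊤ : Submodule A N), ∃ x ∈ (I ^ k • ⊤ : Submodule A M), φ x = y)
    (g : Z → N) (hg : g ∈ decaying I Z N) (hrange : ∀ z, ∃ x, φ x = g z) :
    ∃ f : Z → M, f ∈ decaying I Z M ∧ ∀ z, φ (f z) = g z := by
  classical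
  have hsel : ∀ z, ∃ x : M, φ x = g z ∧
      ∀ k, g z ∈ (I ^ (k + c) • ⊤ : Submodule A N) → x ∈ (I ^ k • ⊤ : Submodule A M) := by
    intro z
    by_cases hall : ∀ k, g z ∈ (I ^ (k + c) • ⊤ : Submodule A N)
    · have h0 : g z = 0 := IsHausdorff.haus' (I := I) _ fun k =>
        SModEq.zero.2 (smul_mono (Ideal.pow_le_pow_right (Nat.le_add_right k c)) le_rfl (hall k))
      exact ⟨0, by rw [map_zero, h0], fun k _ => zero_mem _⟩
    · push Not at hall
      cases hk : Nat.find hall with
      | zero =>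
        obtain ⟨x, hx⟩ := hrange z
        refine ⟨x, hx, fun k hk' => ?_⟩
        have h := Nat.find_spec hall
        rw [hk] at h
        exact absurd (smul_mono (Ideal.pow_le_pow_right (Nat.add_le_add_right (Nat.zero_le k) c))
          le_rfl hk') h
      | succ j =>
        have hj : g z ∈ (I ^ (j + c) • ⊤ : Submodule A N) :=
          not_not.1 (Nat.find_min hall (by omega))
        obtain ⟨x, hx, hx'⟩ := hlift j _ hj
        refine ⟨x, hx', fun k hk' => ?_⟩
        have hkj : k ≤ j := by
          by_contra hlt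
          have h := Nat.find_spec hall
          rw [hk] at h
          exact h (smul_mono (Ideal.pow_le_pow_right (by omega)) le_rfl hk')
        exact smul_mono (Ideal.pow_le_pow_right hkj) le_rfl hx
  choose f hf hfk using hsel
  refine ⟨f, fun n => (hg (n + c)).subset fun z hz hmem => hz (hfk z n hmem), hf⟩

theorem mem_smul_top_apply {n : ℕ} {f : decaying I Z M}
    (hf : f ∈ (I ^ n • ⊤ : Submodule A (decaying I Z M))) (z : Z) :
    (f : Z → M) z ∈ (I ^ n • ⊤ : Submodule A M) := by
  have h := mem_map_of_mem (f := LinearMap.proj z ∘ₗ (decaying I Z M).subtype) hf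
  rw [map_smul''] at h
  exact smul_mono le_rfl le_top h

/-- A decaying function with values in `I ^ n • M` is in `I ^ n` times the decaying functions. -/
theorem mem_smul_top_iff (hI : I.FG) [IsHausdorff I M] (n : ℕ) (f : decaying I Z M) :
    f ∈ (I ^ n • ⊤ : Submodule A (decaying I Z M)) ↔
      ∀ z, (f : Z → M) z ∈ (I ^ n • ⊤ : Submodule A M) := by
  refine ⟨fun h z => mem_smul_top_apply I h z, fun h => ?_⟩
  obtain ⟨s, a, ha⟩ := Submodule.fg_iff_exists_fin_generating_family.1 (hI.pow (n := n))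
  let φ : (Fin s → M) →ₗ[A] M := ∑ j, a j • LinearMap.proj j
  have hφ : ∀ x, φ x = ∑ j, a j • x j := fun x => by simp [φ]
  have key : ∀ (k : ℕ), ∀ y ∈ (I ^ (k + n) • ⊤ : Submodule A M),
      ∃ x ∈ (I ^ k • ⊤ : Submodule A (Fin s → M)), φ x = y := by
    intro k y hy
    rw [add_comm, pow_add, ← smul_eq_mul, Submodule.smul_assoc] at hy
    refine Submodule.smul_induction_on hy (fun r hr m hm => ?_) ?_
    · rw [← ha] at hr
      obtain ⟨e, he⟩ := (mem_span_range_iff_exists_fun A).1 hr
      refine ⟨fun j => e j • m, ?_, ?_⟩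
      · have h1 := mem_map_of_mem (f := LinearMap.pi fun j : Fin s => (e j • LinearMap.id : M →ₗ[A] M)) hm
        rw [map_smul''] at h1
        exact smul_mono le_rfl le_top h1
      · rw [hφ, ← he, Finset.sum_smul]
        exact Finset.sum_congr rfl fun j _ => by rw [smul_smul, smul_eq_mul, mul_comm]
    · rintro y y' ⟨x, hx, rfl⟩ ⟨x', hx', rfl⟩
      exact ⟨x + x', add_mem hx hx', map_add φ x x'⟩
  have hrange : ∀ z, ∃ x, φ x = (f : Z → M) z := fun z => by
    obtain ⟨x, -, hx⟩ := key 0 _ (by rw [zero_add]; exact h z)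
    exact ⟨x, hx⟩
  obtain ⟨g, hg, hgf⟩ := exists_lift I φ n key _ f.2 hrange
  have hgj : ∀ j, (fun z => g z j) ∈ decaying I Z M := fun j m => (hg m).subset fun z hz hmem => hz (by
    have h1 := mem_map_of_mem (f := LinearMap.proj (R := A) (φ := fun _ : Fin s => M) j) hmem
    rw [map_smul''] at h1
    exact smul_mono le_rfl le_top h1)
  have hf : f = ∑ j, a j • (⟨_, hgj j⟩ : decaying I Z M) := by
    refine Subtype.ext (funext fun z => ?_)
    rw [← hgf, hφ]
    simp [Finset.sum_apply]
  rw [hf]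
  exact sum_mem fun j _ => smul_mem_smul (ha ▸ subset_span ⟨j, rfl⟩) mem_top

theorem isAdicComplete (hI : I.FG) [IsAdicComplete I M] : IsAdicComplete I (decaying I Z M) where
  haus' f hf := Subtype.ext (funext fun z => IsHausdorff.haus' (I := I) _ fun n =>
    SModEq.zero.2 (mem_smul_top_apply I (SModEq.zero.1 (hf n)) z))
  prec' f hf := by
    have hz : ∀ z, ∃ L : M, ∀ n, (f n : Z → M) z ≡ L [SMOD (I ^ n • ⊤ : Submodule A M)] := fun z =>
      IsPrecomplete.prec (I := I) inferInstance fun {m n} hmn =>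
        SModEq.sub_mem.2 (mem_smul_top_apply I (SModEq.sub_mem.1 (hf hmn)) z)
    choose L hL using hz
    have hLd : L ∈ decaying I Z M := fun n => ((f n).2 n).subset fun z hz hmem => hz (by
      have h := sub_mem hmem (SModEq.sub_mem.1 (hL z n))
      rwa [sub_sub_cancel] at h)
    refine ⟨⟨L, hLd⟩, fun n => SModEq.sub_mem.2 ((mem_smul_top_iff I hI n _).2 fun z => ?_)⟩
    exact SModEq.sub_mem.1 (hL z n)

section Sum

variable {B : Type*} [AddCommGroup B] [Module A B]

/-- `x` is the convergent sum of the family. -/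
def IsSum (e : Z → B →ₗ[A] M) (g : Z → B) (x : M) : Prop :=
  ∀ n : ℕ, ∃ S : Finset Z, (∀ z, z ∉ S → e z (g z) ∈ (I ^ n • ⊤ : Submodule A M)) ∧
    x - (∑ z ∈ S, e z (g z)) ∈ (I ^ n • ⊤ : Submodule A M)

variable {I} {e : Z → B →ₗ[A] M} {g g' : Z → B} {x x' : M}

theorem IsSum.sub_mem {n : ℕ} (h : IsSum I e g x) {T : Finset Z}
    (hT : ∀ z, z ∉ T → e z (g z) ∈ (I ^ n • ⊤ : Submodule A M)) :
    x - (∑ z ∈ T, e z (g z)) ∈ (I ^ n • ⊤ : Submodule A M) := by
  classical
  obtain ⟨S, hS, hx⟩ := h n
  have h1 := Finset.sum_sdiff (f := fun z => e z (g z)) (Finset.subset_union_left (s₂ := T) (s₁ := S))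
  have h2 := Finset.sum_sdiff (f := fun z => e z (g z)) (Finset.subset_union_right (s₁ := S) (s₂ := T))
  have heq : x - ∑ z ∈ T, e z (g z) = (x - ∑ z ∈ S, e z (g z)) -
      ∑ z ∈ (S ∪ T) \ S, e z (g z) + ∑ z ∈ (S ∪ T) \ T, e z (g z) := by
    have h3 := h1.trans h2.symm
    rw [sub_sub, add_comm (∑ z ∈ S, e z (g z)), h3]
    abel
  rw [heq]
  refine add_mem (Submodule.sub_mem _ hx (sum_mem fun z hz => hS z (Finset.mem_sdiff.1 hz).2))
    (sum_mem fun z hz => hT z (Finset.mem_sdiff.1 hz).2)

theorem IsSum.unique [IsHausdorff I M] (h : IsSum I e g x) (h' : IsSum I e g x') : x = x' := by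
  rw [← sub_eq_zero]
  refine IsHausdorff.haus' (I := I) _ fun n => SModEq.zero.2 ?_
  obtain ⟨S, hS, hx⟩ := h n
  have h1 := Submodule.sub_mem _ hx (h'.sub_mem hS)
  rwa [sub_sub_sub_cancel_right] at h1

theorem IsSum.add (h : IsSum I e g x) (h' : IsSum I e g' x') :
    IsSum I e (g + g') (x + x') := fun n => by
  classical
  obtain ⟨S, hS, -⟩ := h n
  obtain ⟨T, hT, -⟩ := h' n
  have hS' : ∀ z, z ∉ S ∪ T → e z (g z) ∈ (I ^ n • ⊤ : Submodule A M) := fun z hz =>
    hS z fun hz' => hz (Finset.mem_union_left _ hz')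
  have hT' : ∀ z, z ∉ S ∪ T → e z (g' z) ∈ (I ^ n • ⊤ : Submodule A M) := fun z hz =>
    hT z fun hz' => hz (Finset.mem_union_right _ hz')
  refine ⟨S ∪ T, fun z hz => by rw [Pi.add_apply, map_add]; exact add_mem (hS' z hz) (hT' z hz), ?_⟩
  simp only [Pi.add_apply, map_add, Finset.sum_add_distrib]
  rw [add_sub_add_comm]
  exact add_mem (h.sub_mem hS') (h'.sub_mem hT')

theorem IsSum.smul (a : A) (h : IsSum I e g x) : IsSum I e (a • g) (a • x) := fun n => by
  obtain ⟨S, hS, hx⟩ := h n
  refine ⟨S, fun z hz => by rw [Pi.smul_apply, map_smul]; exact smul_mem _ a (hS z hz), ?_⟩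
  simp only [Pi.smul_apply, map_smul, ← Finset.smul_sum, ← smul_sub]
  exact smul_mem _ a hx

theorem map_mem_smul_top {n : ℕ} {φ : B →ₗ[A] M} {b : B}
    (hb : b ∈ (I ^ n • ⊤ : Submodule A B)) : φ b ∈ (I ^ n • ⊤ : Submodule A M) := by
  have h := mem_map_of_mem (f := φ) hb
  rw [map_smul''] at h
  exact smul_mono le_rfl le_top h

theorem exists_isSum [IsPrecomplete I M] (e : Z → B →ₗ[A] M) {g : Z → B}
    (hg : g ∈ decaying I Z B) : ∃ x, IsSum I e g x := by
  classical
  let S : ℕ → Finset Z := fun n => (hg n).toFinset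
  have hS : ∀ n z, z ∉ S n → e z (g z) ∈ (I ^ n • ⊤ : Submodule A M) := fun n z hz =>
    map_mem_smul_top (not_not.1 fun h => hz ((hg n).mem_toFinset.2 h))
  obtain ⟨x, hx⟩ := IsPrecomplete.prec (I := I) inferInstance (f := fun n => ∑ z ∈ S n, e z (g z))
    (fun {m n} hmn => by
      have hsub : S m ⊆ S n := fun z hz => (hg n).mem_toFinset.2 fun hmem =>
        (hg m).mem_toFinset.1 hz (smul_mono (Ideal.pow_le_pow_right hmn) le_rfl hmem)
      rw [SModEq.sub_mem, ← neg_sub, ← Finset.sum_sdiff hsub, add_sub_cancel_right]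
      exact neg_mem (sum_mem fun z hz => hS m z (Finset.mem_sdiff.1 hz).2))
  refine ⟨x, fun n => ⟨S n, hS n, ?_⟩⟩
  rw [← neg_sub]
  exact neg_mem (SModEq.sub_mem.1 (hx n))

/-- The convergent sum as a linear map. -/
noncomputable def sumMap [IsAdicComplete I M] (e : Z → B →ₗ[A] M) : decaying I Z B →ₗ[A] M where
  toFun g := (exists_isSum e g.2).choose
  map_add' g g' := (exists_isSum e (g + g').2).choose_spec.unique
    ((exists_isSum e g.2).choose_spec.add (exists_isSum e g'.2).choose_spec)
  map_smul' a g := (exists_isSum e (a • g).2).choose_spec.unique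
    ((exists_isSum e g.2).choose_spec.smul a)

theorem isSum_sumMap [IsAdicComplete I M] (e : Z → B →ₗ[A] M) (g : decaying I Z B) :
    IsSum I e (g : Z → B) (sumMap e g) :=
  (exists_isSum e g.2).choose_spec

theorem sumMap_single [DecidableEq Z] [IsAdicComplete I M] (e : Z → B →ₗ[A] M) (z : Z) (b : B) :
    sumMap e (single I z b) = e z b :=
  (isSum_sumMap e _).unique fun n => ⟨{z}, fun y hy => by
    rw [coe_single, Pi.single_eq_of_ne (Finset.notMem_singleton.1 hy), map_zero]
    exact zero_mem _, by simp⟩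

end Sum

theorem single_add [DecidableEq Z] (z : Z) (m m' : M) :
    single I z (m + m') = single I z m + single I z m' :=
  Subtype.ext (Pi.single_add (f := fun _ : Z => M) z m m')

theorem single_smul [DecidableEq Z] (z : Z) (a : A) (m : M) :
    single I z (a • m) = a • single I z m :=
  Subtype.ext (Pi.single_smul (f := fun _ : Z => M) z a m)

/-- `single` as a linear map. -/
def singleₗ [DecidableEq Z] (z : Z) : M →ₗ[A] decaying I Z M where
  toFun := single I z
  map_add' := single_add I z
  map_smul' := single_smul I z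

@[simp] theorem singleₗ_apply [DecidableEq Z] (z : Z) (m : M) :
    singleₗ I z m = single I z m := rfl

theorem sub_sum_single_mem (hI : I.FG) [IsHausdorff I M] [DecidableEq Z] (g : decaying I Z M)
    (n : ℕ) {S : Finset Z} (hS : ∀ z, z ∉ S → (g : Z → M) z ∈ (I ^ n • ⊤ : Submodule A M)) :
    g - ∑ z ∈ S, single I z ((g : Z → M) z) ∈ (I ^ n • ⊤ : Submodule A (decaying I Z M)) := by
  refine (mem_smul_top_iff I hI n _).2 fun y => ?_
  rw [AddSubgroupClass.coe_sub, AddSubmonoidClass.coe_finsetSum, Pi.sub_apply, Finset.sum_apply]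
  simp only [coe_single, Finset.sum_pi_single]
  by_cases hy : y ∈ S
  · rw [if_pos hy, sub_self]; exact zero_mem _
  · rw [if_neg hy, sub_zero]; exact hS y hy

/-- Maps out of decaying functions agree when they agree on single-point functions. -/
theorem hom_ext (hI : I.FG) [IsHausdorff I M] [DecidableEq Z] [IsHausdorff I N]
    {φ ψ : decaying I Z M →ₗ[A] N} (h : ∀ z m, φ (single I z m) = ψ (single I z m)) : φ = ψ := by
  refine LinearMap.ext fun g => sub_eq_zero.1 (IsHausdorff.haus' (I := I) _ fun n => SModEq.zero.2 ?_)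
  have hS : ∀ z, z ∉ (g.2 n).toFinset → (g : Z → M) z ∈ (I ^ n • ⊤ : Submodule A M) := fun z hz =>
    not_not.1 fun h => hz ((g.2 n).mem_toFinset.2 h)
  have h1 := map_mem_smul_top (φ := φ - ψ) (sub_sum_single_mem I hI g n hS)
  rw [map_sub, map_sum, LinearMap.sub_apply, Finset.sum_eq_zero (fun z _ => by
    rw [LinearMap.sub_apply, h, sub_self]), sub_zero] at h1
  exact h1

theorem linearMap_ext_completion [IsAdicComplete I (AdicCompletion I A)] [IsHausdorff I N]
    {φ ψ : AdicCompletion I A →ₗ[A] N} (h : φ 1 = ψ 1) : φ = ψ := by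
  refine LinearMap.ext fun x => sub_eq_zero.1 (IsHausdorff.haus' (I := I) _ fun n => SModEq.zero.2 ?_)
  obtain ⟨a, ha⟩ := Submodule.mkQ_surjective _ (x.val n)
  have hx : x - AdicCompletion.of I A a ∈ (I ^ n • ⊤ : Submodule A (AdicCompletion I A)) := by
    rcases Nat.eq_zero_or_pos n with rfl | hn
    · have h0 : (I ^ 0 • ⊤ : Submodule A (AdicCompletion I A)) = ⊤ := by
        rw [pow_zero, Ideal.one_eq_top, Submodule.top_smul]
      rw [h0]
      exact mem_top
    rw [← (Completion.isAdicComplete_iff_ker_eval I).1 inferInstance n hn, LinearMap.mem_ker,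
      map_sub, AdicCompletion.eval_of, AdicCompletion.eval_apply, ha, sub_self]
  have h1 := map_mem_smul_top (φ := φ - ψ) hx
  have h2 : AdicCompletion.of I A a = a • (1 : AdicCompletion I A) := by
    ext k
    simp only [AdicCompletion.of_apply, AdicCompletion.val_smul, Pi.smul_apply]
    exact (congrArg _ (mul_one a).symm).trans ((Submodule.mkQ _).map_smul a (1 : A))
  rw [map_sub, h2, map_smul, LinearMap.sub_apply, LinearMap.sub_apply, h, sub_self, smul_zero,
    sub_zero] at h1
  exact h1

/-- The universal property of the decaying functions with values in the completion of the ring. -/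
theorem existsUnique_lift (hI : I.FG) [DecidableEq Z] [IsAdicComplete I M] (f : Z → M) :
    ∃! φ : decaying I Z (AdicCompletion I A) →ₗ[A] M,
      ∀ z, φ (single I z (1 : AdicCompletion I A)) = f z := by
  have := AdicCompletion.isAdicComplete (M := A) hI
  let e : Z → AdicCompletion I A →ₗ[A] M := fun z =>
    (AdicCompletion.ofLinearEquiv I M).symm.toLinearMap ∘ₗ
      ((LinearMap.toSpanSingleton (AdicCompletion I A) (AdicCompletion I M)
        (AdicCompletion.of I M (f z))).restrictScalars A)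
  have hφ : ∀ z, sumMap e (single I z (1 : AdicCompletion I A)) = f z := fun z => by
    rw [sumMap_single]
    simp [e]
  refine ⟨sumMap e, hφ, fun ψ hψ => hom_ext I hI fun z m => ?_⟩
  have h := linearMap_ext_completion I (φ := ψ ∘ₗ singleₗ I z) (ψ := sumMap e ∘ₗ singleₗ I z)
    (by simp [hψ z, hφ z])
  exact LinearMap.congr_fun h m

end Groth.Agent.H22.Decaying
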