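import Groth.Agent.H22.Decaying
import Groth.Agent.Lib.Adic.Limit
import Mathlib.LinearAlgebra.Matrix.ToLin
import Mathlib.LinearAlgebra.Matrix.NonsingularInverse
import Mathlib.RingTheory.Flat.EquationalCriterion
import Mathlib.RingTheory.Flat.Stability
import Mathlib.LinearAlgebra.TensorProduct.Pi
import Mathlib.LinearAlgebra.TensorProduct.Quotient
import Mathlib.LinearAlgebra.Basis.VectorSpace
import Mathlib.RingTheory.LocalRing.ResidueField.Basic

/-!
Adically free modules: tensor products, flatness, recognition, base change.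
-/

set_option linter.unusedSectionVars false

universe u v w

open Submodule W4c5adicflatcompl TensorProduct

namespace Groth.Agent.H22.DecayingFree

open Decaying

variable {A : Type u} [CommRing A] (I : Ideal A) {Z : Type v}

section Complete

variable {M : Type*} [AddCommGroup M] [Module A M] {N : Type*} [AddCommGroup N] [Module A N]

theorem map_smul_top_le (f : M →ₗ[A] N) (J : Ideal A) {x : M}
    (hx : x ∈ (J • ⊤ : Submodule A M)) : f x ∈ (J • ⊤ : Submodule A N) := by
  have h := mem_map_of_mem (f := f) hx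
  rw [map_smul''] at h
  exact smul_mono le_rfl le_top h

theorem isAdicComplete_of_retract [IsAdicComplete I M] (i : N →ₗ[A] M) (r : M →ₗ[A] N)
    (hri : r ∘ₗ i = LinearMap.id) : IsAdicComplete I N where
  haus' x hx := by
    have h0 : i x = 0 := IsHausdorff.haus' (I := I) _ fun n =>
      SModEq.zero.2 (map_smul_top_le i _ (SModEq.zero.1 (hx n)))
    have h1 := LinearMap.congr_fun hri x
    rw [LinearMap.comp_apply, h0, map_zero, LinearMap.id_apply] at h1
    exact h1.symm
  prec' f hf := by
    obtain ⟨L, hL⟩ := IsPrecomplete.prec (I := I) inferInstance (f := i ∘ f) fun {m n} hmn => by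
      rw [SModEq.sub_mem, Function.comp, Function.comp, ← map_sub]
      exact map_smul_top_le i _ (SModEq.sub_mem.1 (hf hmn))
    refine ⟨r L, fun n => SModEq.sub_mem.2 ?_⟩
    have h := map_smul_top_le r _ (SModEq.sub_mem.1 (hL n))
    rwa [map_sub, Function.comp, show r (i (f n)) = f n from LinearMap.congr_fun hri _] at h

theorem isAdicComplete_congr [IsAdicComplete I M] (e : M ≃ₗ[A] N) : IsAdicComplete I N :=
  isAdicComplete_of_retract I e.symm.toLinearMap e.toLinearMap (LinearMap.ext e.apply_symm_apply)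

/-- Transport of decaying functions along a linear equivalence. -/
def congr (e : M ≃ₗ[A] N) : decaying I Z M ≃ₗ[A] decaying I Z N where
  toFun f := ⟨fun z => e ((f : Z → M) z), fun n => (f.2 n).subset fun z hz hmem =>
    hz (map_smul_top_le e.toLinearMap _ hmem)⟩
  invFun f := ⟨fun z => e.symm ((f : Z → N) z), fun n => (f.2 n).subset fun z hz hmem =>
    hz (map_smul_top_le e.symm.toLinearMap _ hmem)⟩
  left_inv f := Subtype.ext (funext fun z => e.symm_apply_apply _)
  right_inv f := Subtype.ext (funext fun z => e.apply_symm_apply _)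
  map_add' f g := Subtype.ext (funext fun z => map_add e _ _)
  map_smul' a f := Subtype.ext (funext fun z => map_smul e a _)

/-- Modules generated modulo `I` are generated by convergent sums. -/
theorem exists_sum_of_span_sup [IsAdicComplete I A] [IsAdicComplete I M] (m : Z → M)
    (h : span A (Set.range m) ⊔ I • ⊤ = ⊤) (x : M) :
    ∃ g : Z → A, g ∈ decaying I Z A ∧ IsSum I (fun z => LinearMap.toSpanSingleton A M (m z)) g x := by
  classical
  have step : ∀ (n : ℕ), ∀ y ∈ (I ^ n • ⊤ : Submodule A M), ∃ c : Z →₀ A, (∀ z, c z ∈ I ^ n) ∧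
      y - Finsupp.linearCombination A m c ∈ (I ^ (n + 1) • ⊤ : Submodule A M) := by
    intro n y hy
    refine Submodule.smul_induction_on hy (fun r hr w _ => ?_) ?_
    · obtain ⟨a, ha, b, hb, hab⟩ := mem_sup.1 (show w ∈ span A (Set.range m) ⊔ I • ⊤ by rw [h]; exact mem_top)
      obtain ⟨c, rfl⟩ := (Finsupp.mem_span_range_iff_exists_finsupp).1 ha
      refine ⟨r • c, fun z => by simp [Ideal.mul_mem_right _ _ hr], ?_⟩
      rw [map_smul, ← smul_sub, ← hab, Finsupp.linearCombination_apply, add_sub_cancel_left,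
        pow_succ, ← smul_eq_mul, Submodule.smul_assoc]
      exact smul_mem_smul hr hb
    · rintro y y' ⟨c, hc, hy⟩ ⟨c', hc', hy'⟩
      refine ⟨c + c', fun z => by simp [Submodule.add_mem _ (hc z) (hc' z)], ?_⟩
      rw [map_add, add_sub_add_comm]
      exact add_mem hy hy'
  choose! c hc hy using step
  let r : ℕ → M := fun n => Nat.rec x (fun k rk => rk - Finsupp.linearCombination A m (c k rk)) n
  have hr : ∀ n, r n ∈ (I ^ n • ⊤ : Submodule A M) := by
    intro n
    induction n with
    | zero => simp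
    | succ n ih => exact hy n _ ih
  let s : ℕ → (Z →₀ A) := fun n => ∑ k ∈ Finset.range n, c k (r k)
  have hsr : ∀ n, x - Finsupp.linearCombination A m (s n) = r n := by
    intro n
    induction n with
    | zero => simp [s, r]
    | succ n ih =>
      simp only [s, Finset.sum_range_succ, map_add] at ih ⊢
      rw [← sub_sub, ih]
  have hL : ∀ z, ∃ L : A, ∀ n, s n z - L ∈ (I ^ n • ⊤ : Submodule A A) := by
    intro z
    obtain ⟨L, hL⟩ := IsPrecomplete.prec (I := I) inferInstance (f := fun n => s n z) fun {p q} hpq => by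
      rw [SModEq.sub_mem, ← neg_sub]
      refine neg_mem ?_
      simp only [s, Finsupp.finsetSum_apply]
      rw [← Finset.sum_Ico_eq_sub _ hpq]
      refine sum_mem fun k hk => ?_
      rw [smul_eq_mul, Ideal.mul_top]
      exact Ideal.pow_le_pow_right (Finset.mem_Ico.1 hk).1 (hc k _ (hr k) z)
    exact ⟨L, fun n => SModEq.sub_mem.1 (hL n)⟩
  choose g hg using hL
  have hout : ∀ n z, z ∉ (s n).support → g z ∈ (I ^ n • ⊤ : Submodule A A) := fun n z hz => by
    have h := hg z n
    rw [Finsupp.notMem_support_iff.1 hz, zero_sub] at h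
    exact neg_mem_iff.1 h
  refine ⟨g, fun n => (s n).support.finite_toSet.subset fun z hz => by
    by_contra hzs
    exact hz (hout n z hzs), fun n => ⟨(s n).support, fun z hz => ?_, ?_⟩⟩
  · exact map_smul_top_le (LinearMap.toSpanSingleton A M (m z)) _ (hout n z hz)
  · have heq : x - ∑ z ∈ (s n).support, LinearMap.toSpanSingleton A M (m z) (g z) =
        r n + ∑ z ∈ (s n).support, (s n z - g z) • m z := by
      rw [← hsr n, Finsupp.linearCombination_apply, Finsupp.sum]
      simp only [sub_smul, Finset.sum_sub_distrib, LinearMap.toSpanSingleton_apply]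
      abel
    rw [heq]
    refine add_mem (hr n) (sum_mem fun z _ => ?_)
    exact map_smul_top_le (LinearMap.toSpanSingleton A M (m z)) _ (hg z n)

end Complete

section Noetherian

variable [IsNoetherianRing A] [IsAdicComplete I A]
variable {M : Type w} [AddCommGroup M] [Module A M] [Module.Finite A M]

theorem mem_decaying_submodule_iff (N : Submodule A M) (f : Z → N) :
    f ∈ decaying I Z N ↔ (fun z => (f z : M)) ∈ decaying I Z M := by
  refine ⟨fun h n => (h n).subset fun z hz hmem => hz (map_smul_top_le N.subtype _ hmem), fun h => ?_⟩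
  obtain ⟨c, hc⟩ := AdicIso.exists_comap_le I N.subtype
  intro n
  refine (h (n + c)).subset fun z hz hmem => hz ?_
  have h1 := hc n hmem
  rw [Submodule.ker_subtype, bot_sup_eq] at h1
  exact h1

theorem exists_decaying_lift {M'' : Type*} [AddCommGroup M''] [Module A M'']
    (φ : M →ₗ[A] M'') (hφ : Function.Surjective φ) (g : Z → M'') (hg : g ∈ decaying I Z M'') :
    ∃ f : Z → M, f ∈ decaying I Z M ∧ ∀ z, φ (f z) = g z := by
  have : Module.Finite A M'' := Module.Finite.of_surjective φ hφ
  have := Lib.Adic.Complete.isAdicComplete_of_finite (I := I) (M := M'')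
  refine exists_lift I φ 0 (fun k y hy => ?_) g hg (fun z => hφ _)
  rw [Nat.add_zero, ← LinearMap.range_eq_top.2 hφ, ← Submodule.map_top, ← map_smul''] at hy
  exact hy

variable (M) in
/-- The canonical map from `M ⊗ decaying` to functions. -/
noncomputable def tensorMap (Z : Type v) : M ⊗[A] decaying I Z A →ₗ[A] (Z → M) :=
  (TensorProduct.piScalarRightHom A A M Z) ∘ₗ ((decaying I Z A).subtype.lTensor M)

theorem tensorMap_tmul (m : M) (g : decaying I Z A) (z : Z) :
    tensorMap I M Z (m ⊗ₜ g) z = (g : Z → A) z • m := by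
  simp [tensorMap]

theorem tensorMap_injective_range :
    Function.Injective (tensorMap I M Z) ∧ LinearMap.range (tensorMap I M Z) = decaying I Z M := by
  classical
  obtain ⟨r, π, hπ⟩ := Module.Finite.exists_fin' A M
  let col : ∀ {k : ℕ} (f : Z → (Fin k → A)), f ∈ decaying I Z (Fin k → A) → Fin k → decaying I Z A :=
    fun f hf j => ⟨fun z => f z j, fun n => (hf n).subset fun z hz hmem =>
      hz (map_smul_top_le (LinearMap.proj j) _ hmem)⟩
  refine ⟨?_, le_antisymm ?_ ?_⟩
  · rw [← LinearMap.ker_eq_bot, LinearMap.ker_eq_bot']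
    intro x hx
    obtain ⟨y, rfl⟩ := LinearMap.rTensor_surjective (decaying I Z A) hπ x
    obtain ⟨g, rfl⟩ : ∃ g : Fin r → decaying I Z A, ∑ j, Pi.single (M := fun _ => A) j 1 ⊗ₜ g j = y := by
      refine ⟨fun j => TensorProduct.lid A _ ((LinearMap.proj j).rTensor (decaying I Z A) y), ?_⟩
      clear hx
      induction y using TensorProduct.induction_on with
      | zero => simp
      | tmul v g =>
        conv_rhs => rw [pi_eq_sum_univ' v, TensorProduct.sum_tmul]
        refine Finset.sum_congr rfl fun j _ => ?_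
        simp [TensorProduct.smul_tmul']
      | add a b ha hb =>
        simp only [map_add, TensorProduct.tmul_add, Finset.sum_add_distrib]
        rw [ha, hb]
    let v : Z → LinearMap.ker π := fun z => ⟨fun j => (g j : Z → A) z, by
      have h := congrFun hx z
      rw [map_sum, map_sum, Finset.sum_apply, Pi.zero_apply] at h
      rw [LinearMap.mem_ker, pi_eq_sum_univ' (fun j => (g j : Z → A) z), map_sum]
      simp only [map_smul]
      simpa [tensorMap_tmul] using h⟩
    have hv : v ∈ decaying I Z (LinearMap.ker π) := by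
      rw [mem_decaying_submodule_iff]
      intro n
      refine (Set.finite_iUnion (f := fun j => {z | (g j : Z → A) z ∉ (I ^ n • ⊤ : Submodule A A)})
        fun j => (g j).2 n).subset fun z hz => ?_
      by_contra hcon
      simp only [Set.mem_iUnion, Set.mem_ofPred_eq, not_exists, not_not] at hcon
      refine hz ?_
      show (fun j => (g j : Z → A) z) ∈ (I ^ n • ⊤ : Submodule A (Fin r → A))
      rw [pi_eq_sum_univ' (fun j => (g j : Z → A) z)]
      refine sum_mem fun j _ => ?_
      have h := map_smul_top_le (LinearMap.single A (fun _ : Fin r => A) j) _ (hcon j)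
      have h2 : LinearMap.single A (fun _ : Fin r => A) j ((g j : Z → A) z) =
          (g j : Z → A) z • Pi.single j 1 := by
        ext i
        simp [Pi.single_apply]
      rwa [h2] at h
    obtain ⟨s, σ, hσ⟩ := Module.Finite.exists_fin' A (LinearMap.ker π)
    obtain ⟨f, hf, hfv⟩ := exists_decaying_lift I σ hσ v hv
    let k : Fin s → (Fin r → A) := fun l => (σ (Pi.single l 1) : Fin r → A)
    have hg : ∀ j, g j = ∑ l, k l j • col f hf l := by
      intro j
      refine Subtype.ext (funext fun z => ?_)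
      have h := congrFun (congrArg Subtype.val (hfv z)) j
      rw [pi_eq_sum_univ' (f z), map_sum] at h
      simp only [map_smul, AddSubmonoidClass.coe_finsetSum, Finset.sum_apply, SetLike.val_smul,
        Pi.smul_apply] at h ⊢
      rw [show (g j : Z → A) z = (v z : Fin r → A) j from rfl, ← h]
      refine Finset.sum_congr rfl fun l _ => ?_
      simp [k, col, mul_comm]
    rw [map_sum]
    simp only [hg, TensorProduct.tmul_sum, map_sum, LinearMap.rTensor_tmul,
      TensorProduct.tmul_smul, TensorProduct.smul_tmul']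
    rw [Finset.sum_comm]
    refine Finset.sum_eq_zero fun l _ => ?_
    rw [← TensorProduct.sum_tmul]
    have hk : π (k l) = 0 := (σ (Pi.single l 1)).2
    rw [← map_sum, ← pi_eq_sum_univ' (k l), hk, TensorProduct.zero_tmul]
  · rintro _ ⟨x, rfl⟩
    induction x using TensorProduct.induction_on with
    | zero => simp
    | tmul m g =>
      intro n
      refine (g.2 n).subset fun z hz hmem => hz ?_
      rw [tensorMap_tmul]
      exact map_smul_top_le (LinearMap.toSpanSingleton A M m) _ hmem
    | add a b ha hb => rw [map_add]; exact add_mem ha hb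
  · intro g hg
    obtain ⟨f, hf, hfg⟩ := exists_decaying_lift I π hπ g hg
    refine ⟨∑ j, π (Pi.single j 1) ⊗ₜ col f hf j, funext fun z => ?_⟩
    rw [map_sum, Finset.sum_apply, ← hfg, pi_eq_sum_univ' (f z), map_sum]
    refine Finset.sum_congr rfl fun j _ => ?_
    rw [tensorMap_tmul, map_smul]

theorem flat_decaying : Module.Flat A (decaying I Z A) := by
  rw [Module.Flat.iff_rTensor_injective']
  intro J
  have hJ := (tensorMap_injective_range I (M := J) (Z := Z)).1
  have key : ∀ x, tensorMap I A Z (J.subtype.rTensor (decaying I Z A) x) =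
      J.subtype.compLeft Z (tensorMap I J Z x) := by
    intro x
    induction x using TensorProduct.induction_on with
    | zero => simp
    | tmul a g => ext z; simp [tensorMap_tmul]
    | add a b ha hb => simp only [map_add, ha, hb]
  intro x y h
  refine hJ (funext fun z => Subtype.val_injective ?_)
  have h' := congrFun (congrArg (tensorMap I A Z) h) z
  rw [key, key] at h'
  exact h'

end Noetherian

section Local

variable [IsNoetherianRing A] [IsLocalRing A] [IsAdicComplete (IsLocalRing.maximalIdeal A) A]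

local notation "𝔪" => IsLocalRing.maximalIdeal A

/-- A complete module with flat reductions is adically free. -/
theorem isAdicFree_of_flat (M : Type u) [AddCommGroup M] [Module A M] [IsAdicComplete 𝔪 M]
    (hflat : ∀ n, 1 ≤ n → Module.Flat (A ⧸ 𝔪 ^ n) (M ⧸ (𝔪 ^ n • ⊤ : Submodule A M))) :
    IsAdicFree 𝔪 M := by
  classical
  let k := A ⧸ 𝔪
  let := Ideal.Quotient.field 𝔪
  let b := Module.Basis.ofVectorSpace k (M ⧸ (𝔪 • ⊤ : Submodule A M))
  let Z : Type u := Module.Basis.ofVectorSpaceIndex k (M ⧸ (𝔪 • ⊤ : Submodule A M))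
  choose x hx using fun z : Z => Submodule.mkQ_surjective (𝔪 • ⊤ : Submodule A M) (b z)
  have hspan : span A (Set.range x) ⊔ 𝔪 • ⊤ = ⊤ := by
    refine top_le_iff.1 fun y _ => ?_
    have h : (𝔪 • ⊤ : Submodule A M).mkQ y ∈ span k (Set.range b) := b.span_eq ▸ mem_top
    obtain ⟨c, hc⟩ := (Finsupp.mem_span_range_iff_exists_finsupp).1 h
    choose a ha using fun z => Ideal.Quotient.mk_surjective (c z)
    refine mem_sup.2 ⟨∑ z ∈ c.support, a z • x z,
      sum_mem fun z _ => smul_mem _ _ (subset_span ⟨z, rfl⟩), _, ?_, add_sub_cancel _ y⟩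
    rw [← Submodule.Quotient.mk_eq_zero, ← Submodule.mkQ_apply, map_sub, map_sum, ← hc,
      Finsupp.sum, sub_eq_zero]
    refine Finset.sum_congr rfl fun z _ => ?_
    rw [map_smul, hx, ← ha]
    rfl
  -- coefficients of a vanishing combination lie in every power of the maximal ideal
  have hind : ∀ (n : ℕ) (S : Finset Z) (c : Z → A),
      ∑ z ∈ S, c z • x z ∈ (𝔪 ^ n • ⊤ : Submodule A M) → ∀ z ∈ S, c z ∈ 𝔪 ^ n := by
    intro n S c hsum z hz
    rcases Nat.eq_zero_or_pos n with rfl | hn
    · simp
    let B := A ⧸ 𝔪 ^ n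
    let q := (𝔪 ^ n • ⊤ : Submodule A M).mkQ
    have := hflat n hn
    have hrel : ∑ i : S, (Ideal.Quotient.mk (𝔪 ^ n) (c i)) • q (x i) = 0 := by
      have h1 : q (∑ i ∈ S, c i • x i) = 0 := (Submodule.Quotient.mk_eq_zero _).2 hsum
      rw [map_sum, ← Finset.sum_coe_sort S] at h1
      refine Eq.trans (Finset.sum_congr rfl fun i _ => ?_) h1
      rw [map_smul]
      rfl
    obtain ⟨l, a, y, hy, ha⟩ := Module.Flat.isTrivialRelation_of_sum_smul_eq_zero hrel
    have hle : (𝔪 ^ n : Ideal A) ≤ 𝔪 := Ideal.pow_le_self (by omega)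
    let red : B →+* k := Ideal.Quotient.factor hle
    let red' : (M ⧸ (𝔪 ^ n • ⊤ : Submodule A M)) →ₗ[A] (M ⧸ (𝔪 • ⊤ : Submodule A M)) :=
      Submodule.factor (smul_mono hle le_rfl)
    have hsemi : ∀ (β : B) (w : M ⧸ (𝔪 ^ n • ⊤ : Submodule A M)), red' (β • w) = red β • red' w := by
      intro β w
      obtain ⟨r, rfl⟩ := Ideal.Quotient.mk_surjective β
      exact map_smul red' r w
    let ā : Matrix S (Fin l) k := Matrix.of fun i j => red (a i j)
    have hinj : Function.Injective ā.vecMul := by
      intro v w hvw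
      rw [← sub_eq_zero]
      have h0 : Matrix.vecMul (v - w) ā = 0 := by rw [Matrix.sub_vecMul, sub_eq_zero]; exact hvw
      have h1 : ∑ i : S, (v - w) i • b i = 0 := by
        have h2 : ∀ i : S, b i = ∑ j, ā i j • red' (y j) := fun i => by
          rw [← hx i]
          have h3 := congrArg red' (hy i)
          rw [map_sum] at h3
          exact h3.trans (Finset.sum_congr rfl fun j _ => hsemi _ _)
        simp_rw [h2, Finset.smul_sum, smul_smul]
        rw [Finset.sum_comm]
        refine Finset.sum_eq_zero fun j _ => ?_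
        rw [← Finset.sum_smul, show ∑ i : S, (v - w) i * ā i j = 0 from congrFun h0 j, zero_smul]
      have hli : LinearIndependent k (fun i : S => b i) := b.linearIndependent.comp _ Subtype.val_injective
      exact funext (Fintype.linearIndependent_iff.1 hli _ h1)
    obtain ⟨g, hg⟩ := LinearMap.exists_leftInverse_of_injective (Matrix.vecMulLinear ā)
      (LinearMap.ker_eq_bot.2 hinj)
    choose L hL using fun (j : Fin l) (i : S) =>
      Ideal.Quotient.factor_surjective hle (g (Pi.single j 1) i)
    let aM : Matrix S (Fin l) B := Matrix.of a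
    let LM : Matrix (Fin l) S B := Matrix.of L
    have hred : (aM * LM).map red = 1 := by
      ext i i'
      have h := congrFun (LinearMap.congr_fun hg (Pi.single i 1)) i'
      rw [LinearMap.comp_apply, Matrix.vecMulLinear_apply, Matrix.single_one_vecMul,
        pi_eq_sum_univ' (ā.row i), map_sum, Finset.sum_apply] at h
      simp only [Matrix.map_apply, Matrix.mul_apply, map_sum, map_mul]
      refine Eq.trans (Finset.sum_congr rfl fun j _ => ?_) (h.trans ?_)
      · rw [map_smul, Pi.smul_apply, smul_eq_mul, ← hL]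
        rfl
      · rw [LinearMap.id_apply, Matrix.one_apply, Pi.single_apply]
        simp [eq_comm]
    have hdet : IsUnit (aM * LM).det := by
      obtain ⟨d, hd⟩ := Ideal.Quotient.mk_surjective (aM * LM).det
      have h1 : red (aM * LM).det = 1 := by
        rw [RingHom.map_det, RingHom.mapMatrix_apply, hred, Matrix.det_one]
      rw [← hd] at h1 ⊢
      have hdm : d ∉ 𝔪 := fun hdm => by
        rw [show red (Ideal.Quotient.mk (𝔪 ^ n) d) = Ideal.Quotient.mk 𝔪 d from rfl,
          Ideal.Quotient.eq_zero_iff_mem.2 hdm] at h1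
        exact zero_ne_one h1
      exact (not_not.1 fun hu => hdm ((IsLocalRing.mem_maximalIdeal d).2 hu)).map _
    have hcvec : Matrix.vecMul (fun i : S => Ideal.Quotient.mk (𝔪 ^ n) (c i)) (aM * LM) = 0 := by
      rw [← Matrix.vecMul_vecMul, show Matrix.vecMul (fun i : S => Ideal.Quotient.mk (𝔪 ^ n) (c i)) aM = 0
        from funext ha, Matrix.zero_vecMul]
    have hc0 := congrArg (fun v => Matrix.vecMul v (aM * LM)⁻¹) hcvec
    beta_reduce at hc0
    rw [Matrix.vecMul_vecMul, Matrix.mul_nonsing_inv _ hdet, Matrix.vecMul_one,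
      Matrix.zero_vecMul] at hc0
    exact Ideal.Quotient.eq_zero_iff_mem.1 (congrFun hc0 ⟨z, hz⟩)
  let e : Z → A →ₗ[A] M := fun z => LinearMap.toSpanSingleton A M (x z)
  let φ : decaying 𝔪 Z A →ₗ[A] M := sumMap e
  have hinj : Function.Injective φ := by
    rw [← LinearMap.ker_eq_bot, LinearMap.ker_eq_bot']
    intro g hg
    refine Subtype.ext (funext fun z => IsHausdorff.haus' (I := 𝔪) _ fun n => SModEq.zero.2 ?_)
    obtain ⟨S, hS, hxS⟩ := isSum_sumMap e g n
    have hz0 : sumMap e g = 0 := hg
    rw [hz0, zero_sub, neg_mem_iff] at hxS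
    rw [smul_eq_mul, Ideal.mul_top]
    by_cases hz : z ∈ S
    · exact hind n S (fun z => (g : Z → A) z) hxS z hz
    · exact hind n {z} (fun z => (g : Z → A) z) (by rw [Finset.sum_singleton]; exact hS z hz) z
        (Finset.mem_singleton_self z)
  have hsurj : Function.Surjective φ := fun y => by
    obtain ⟨g, hg, hsum⟩ := exists_sum_of_span_sup 𝔪 x hspan y
    exact ⟨⟨g, hg⟩, (isSum_sumMap e ⟨g, hg⟩).unique hsum⟩
  exact ⟨Z, ⟨(LinearEquiv.ofBijective φ ⟨hinj, hsurj⟩).symm ≪≫ₗ
    congr 𝔪 (AdicCompletion.ofLinearEquiv 𝔪 A)⟩⟩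

theorem isAdicFree_iff (M : Type u) [AddCommGroup M] [Module A M] :
    IsAdicFree 𝔪 M ↔ Module.Flat A M ∧ IsAdicComplete 𝔪 M := by
  constructor
  · rintro ⟨Z, ⟨e⟩⟩
    have := flat_decaying 𝔪 (Z := Z)
    let e' := congr 𝔪 (Z := Z) (AdicCompletion.ofLinearEquiv 𝔪 A) ≪≫ₗ e.symm
    have := Decaying.isAdicComplete 𝔪 (Z := Z) (M := A) (IsNoetherian.noetherian _)
    exact ⟨Module.Flat.of_linearEquiv e'.symm, isAdicComplete_congr 𝔪 e'⟩
  · rintro ⟨hflat, hcomplete⟩
    refine isAdicFree_of_flat M fun n _ => ?_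
    have h : Module.Flat (A ⧸ 𝔪 ^ n) ((A ⧸ 𝔪 ^ n) ⊗[A] M) := inferInstance
    exact Module.Flat.of_linearEquiv
      ((TensorProduct.quotTensorEquivQuotSMul M (𝔪 ^ n)).extendScalarsOfSurjective
        Ideal.Quotient.mk_surjective).symm

theorem isAdicFree_sysLim (M : ℕ → Type u) [∀ n, AddCommGroup (M n)] [∀ n, Module A (M n)]
    [∀ n, Module (A ⧸ 𝔪 ^ (n + 1)) (M n)] [∀ n, IsScalarTower A (A ⧸ 𝔪 ^ (n + 1)) (M n)]
    [∀ n, Module.Flat (A ⧸ 𝔪 ^ (n + 1)) (M n)]
    (ψ : ∀ n, M (n + 1) →ₗ[A] M n) (hψ : ∀ n, Function.Surjective (ψ n))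
    (hker : ∀ n, LinearMap.ker (ψ n) = (𝔪 ^ (n + 1) • ⊤ : Submodule A (M (n + 1)))) :
    IsAdicFree 𝔪 (sysLim M ψ) ∧
      ∀ n, Function.Surjective (sysProj M ψ n) ∧
        LinearMap.ker (sysProj M ψ n) = (𝔪 ^ (n + 1) • ⊤ : Submodule A (sysLim M ψ)) := by
  have h : Lib.Adic.Limit.IsSys 𝔪 ψ (fun n => sysProj M ψ n) :=
    { hf := hψ
      hker := hker
      hπ := fun n => LinearMap.ext fun x => x.2 n
      hinj := fun x hx => Subtype.ext (funext hx)
      hlift := fun y hy => ⟨⟨y, hy⟩, fun n => rfl⟩ }
  have hI : (IsLocalRing.maximalIdeal A).FG := IsNoetherian.noetherian _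
  have hproj : ∀ n, Function.Surjective (sysProj M ψ n) ∧
      LinearMap.ker (sysProj M ψ n) = (𝔪 ^ (n + 1) • ⊤ : Submodule A (sysLim M ψ)) := fun n =>
    ⟨Lib.Adic.Limit.surjective h n, Lib.Adic.Limit.ker_eq h hI n⟩
  refine ⟨?_, hproj⟩
  have := Lib.Adic.Limit.isAdicComplete h hI
  refine isAdicFree_of_flat _ fun n hn => ?_
  obtain ⟨m, rfl⟩ := Nat.exists_eq_add_of_le' hn
  let e := (Submodule.quotEquivOfEq _ _ (hproj m).2.symm) ≪≫ₗ
    (sysProj M ψ m).quotKerEquivOfSurjective (hproj m).1
  exact Module.Flat.of_linearEquiv (e.extendScalarsOfSurjective Ideal.Quotient.mk_surjective)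

end Local

section BaseChange

theorem isAdicComplete_of_map {B : Type v} [CommRing B] [Algebra A B] [IsNoetherianRing B]
    {J : Ideal B} (hIJ : I.map (algebraMap A B) ≤ J) {E : Type*} [AddCommGroup E] [Module B E]
    [Module A E] [IsScalarTower A B E] [IsAdicComplete J E] : IsAdicComplete I E :=
  have := Completion.isAdicComplete_of_le_of_fg (I := I.map (algebraMap A B)) (M := E) hIJ
    (IsNoetherian.noetherian _)
  (IsAdicComplete.map_algebraMap_iff I E).1 this

/-- The completed base change of an adically free module is adically free. -/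
theorem isAdicFree_baseChange {A B : Type u} [CommRing A] [CommRing B] [Algebra A B]
    [IsNoetherianRing A] [IsNoetherianRing B] (I : Ideal A) (J : Ideal B)
    (hIJ : I.map (algebraMap A B) ≤ J) (P : Type u) [AddCommGroup P] [Module A P]
    (hP : IsAdicFree I P) : IsAdicFree J (AdicCompletion J (B ⊗[A] P)) := by
  classical
  obtain ⟨Z, ⟨e⟩⟩ := hP
  have hI : I.FG := IsNoetherian.noetherian _
  have hJ : J.FG := IsNoetherian.noetherian _
  let E := AdicCompletion J (B ⊗[A] P)
  let DA := decaying I Z (AdicCompletion I A)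
  let DB := decaying J Z (AdicCompletion J B)
  have := AdicCompletion.isAdicComplete (M := B ⊗[A] P) hJ
  have := AdicCompletion.isAdicComplete (M := B) hJ
  have := AdicCompletion.isAdicComplete (M := A) hI
  have := Decaying.isAdicComplete J (Z := Z) (M := AdicCompletion J B) hJ
  have hE : IsAdicComplete I E := isAdicComplete_of_map I hIJ
  have hDB : IsAdicComplete I DB := isAdicComplete_of_map I hIJ
  let ι : DA →ₗ[A] E :=
    { toFun := fun g => AdicCompletion.of J (B ⊗[A] P) ((1 : B) ⊗ₜ[A] e.symm g)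
      map_add' := fun g g' => by rw [map_add, TensorProduct.tmul_add, map_add]
      map_smul' := fun a g => by
        rw [map_smul, TensorProduct.tmul_smul, ← algebraMap_smul B a ((1 : B) ⊗ₜ[A] e.symm g),
          map_smul]
        exact algebraMap_smul B a _ }
  obtain ⟨Ψ, hΨ, -⟩ := existsUnique_lift J hJ
    (fun z : Z => ι (single I z (1 : AdicCompletion I A)))
  obtain ⟨θ, hθ, -⟩ := existsUnique_lift I hI
    (fun z : Z => (single J z (1 : AdicCompletion J B) : DB))
  let θB : B ⊗[A] P →ₗ[B] DB :=
    TensorProduct.AlgebraTensorModule.lift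
      (((LinearMap.lsmul B (P →ₗ[A] DB)).flip (θ ∘ₗ e.toLinearMap)))
  have hθB : ∀ g : DA, θB ((1 : B) ⊗ₜ[A] e.symm g) = θ g := fun g => by simp [θB]
  let Θ : E →ₗ[B] DB := (AdicCompletion.ofLinearEquiv J DB).symm.toLinearMap ∘ₗ
    (AdicCompletion.map J θB).restrictScalars B
  have hΘ : ∀ y, Θ (AdicCompletion.of J (B ⊗[A] P) y) = θB y := fun y => by
    have h : (AdicCompletion.map J θB) (AdicCompletion.of J (B ⊗[A] P) y) =
        AdicCompletion.of J DB (θB y) := by
      ext n
      simp [AdicCompletion.map_val_apply]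
    simp [Θ, h]
  have hΘι : Θ.restrictScalars A ∘ₗ ι = θ :=
    LinearMap.ext fun g => (hΘ _).trans (hθB g)
  have h1 : Ψ.restrictScalars A ∘ₗ θ = ι := by
    refine hom_ext I hI fun z m => ?_
    have h := linearMap_ext_completion I (φ := (Ψ.restrictScalars A ∘ₗ θ) ∘ₗ singleₗ I z)
      (ψ := ι ∘ₗ singleₗ I z) (by simp [hθ, hΨ]; rfl)
    exact LinearMap.congr_fun h m
  have h2 : Θ ∘ₗ Ψ = LinearMap.id := by
    refine hom_ext J hJ fun z m => ?_
    have h := linearMap_ext_completion J (φ := (Θ ∘ₗ Ψ) ∘ₗ singleₗ J z) (ψ := singleₗ J z) (by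
      simp only [LinearMap.comp_apply, singleₗ_apply, hΨ]
      exact (LinearMap.congr_fun hΘι _).trans (hθ z))
    exact LinearMap.congr_fun h m
  have h3 : ∀ y, Ψ (θB y) = AdicCompletion.of J (B ⊗[A] P) y := by
    intro y
    induction y using TensorProduct.induction_on with
    | zero => simp
    | tmul b p =>
      have hp := LinearMap.congr_fun h1 (e p)
      simp only [LinearMap.comp_apply, LinearMap.restrictScalars_apply, ← hθB, e.symm_apply_apply] at hp
      rw [show b ⊗ₜ[A] p = b • ((1 : B) ⊗ₜ[A] p) by simp [TensorProduct.smul_tmul'], map_smul,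
        map_smul, map_smul, hp]
      simp [ι]
    | add a b ha hb => rw [map_add, map_add, map_add, ha, hb]
  have h4 : ∀ x : E, Ψ (Θ x) = x := by
    intro x
    refine sub_eq_zero.1 (IsHausdorff.haus' (I := J) _ fun n => SModEq.zero.2 ?_)
    obtain ⟨y, hy⟩ := Submodule.mkQ_surjective _ (x.val n)
    have hxy : x - AdicCompletion.of J (B ⊗[A] P) y ∈ (J ^ n • ⊤ : Submodule B E) := by
      rw [AdicCompletion.pow_smul_top_eq_ker_eval hJ, LinearMap.mem_ker, map_sub,
        AdicCompletion.eval_of, AdicCompletion.eval_apply, hy, sub_self]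
    have h5 := map_smul_top_le (Ψ ∘ₗ Θ - LinearMap.id) _ hxy
    rw [map_sub] at h5
    simp only [LinearMap.sub_apply, LinearMap.comp_apply, LinearMap.id_apply, hΘ, h3, sub_self,
      sub_zero] at h5
    exact h5
  exact ⟨Z, ⟨LinearEquiv.ofLinearMap Θ Ψ h2 (LinearMap.ext h4)⟩⟩

end BaseChange

end Groth.Agent.H22.DecayingFree
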