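import Groth.Agent.Lib.QDepth.FlatFibre
import Groth.Agent.Lib.Depth.SES
import Groth.Agent.Lib.Depth.Assoc
import Groth.Agent.Lib.Depth.Local
import Mathlib

/-!
The depth of `N ⊗ M` for `N` flat over the base.
-/

set_option autoImplicit false
set_option maxHeartbeats 1000000
universe u

open LocCoh IsLocalRing Pointwise TensorProduct
open Groth.Agent.Lib.Depth

namespace Groth.Agent.H22.DepthTensor

variable {R : Type u} [CommRing R]

theorem chase {N P Q : Type u} [AddCommGroup N] [Module R N] [AddCommGroup P] [Module R P]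
    [AddCommGroup Q] [Module R Q] (f : N →ₗ[R] P) (g : P →ₗ[R] Q) (hf : Function.Injective f)
    (hfg : Function.Exact f g) (hg : Function.Surjective g) [Module.Flat R Q]
    {K F M : Type u} [AddCommGroup K] [Module R K] [AddCommGroup F] [Module R F] [Module.Flat R F]
    [AddCommGroup M] [Module R M] (κ : K →ₗ[R] F) (π : F →ₗ[R] M) (hκ : Function.Injective κ)
    (hex0 : Function.Exact κ π) (hπ : Function.Surjective π) : Function.Injective (f.rTensor M) := by
  rw [injective_iff_map_eq_zero]
  intro w hw
  obtain ⟨z, rfl⟩ := LinearMap.lTensor_surjective N hπ w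
  have hex : ∀ (V : Type u) [AddCommGroup V] [Module R V], Function.Exact (κ.lTensor V) (π.lTensor V) :=
    fun V _ _ => lTensor_exact V hex0 hπ
  have h1 : π.lTensor P (f.rTensor F z) = 0 := by
    rw [← LinearMap.comp_apply, LinearMap.lTensor_comp_rTensor, ← LinearMap.rTensor_comp_lTensor,
      LinearMap.comp_apply, hw]
  obtain ⟨k, hk⟩ := (hex P _).1 h1
  have h2 : g.rTensor K k = 0 := by
    apply Module.Flat.lTensor_preserves_injective_linearMap (M := Q) κ hκ
    rw [map_zero, ← LinearMap.comp_apply, LinearMap.lTensor_comp_rTensor, ← LinearMap.rTensor_comp_lTensor,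
      LinearMap.comp_apply, hk]
    exact (rTensor_exact F hfg hg).apply_apply_eq_zero z
  obtain ⟨k', rfl⟩ := (rTensor_exact K hfg hg _).1 h2
  have h3 : z = κ.lTensor N k' := by
    apply Module.Flat.rTensor_preserves_injective_linearMap (M := F) f hf
    rw [← hk, ← LinearMap.comp_apply, LinearMap.lTensor_comp_rTensor, ← LinearMap.rTensor_comp_lTensor,
      LinearMap.comp_apply]
  rw [h3]
  exact (hex N).apply_apply_eq_zero k'

/-- An injective map with flat cokernel stays injective after tensoring. -/
theorem rTensor_injective {N P Q : Type u} [AddCommGroup N] [Module R N] [AddCommGroup P] [Module R P]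
    [AddCommGroup Q] [Module R Q] (f : N →ₗ[R] P) (g : P →ₗ[R] Q) (hf : Function.Injective f)
    (hfg : Function.Exact f g) (hg : Function.Surjective g) [Module.Flat R Q]
    (M : Type u) [AddCommGroup M] [Module R M] : Function.Injective (f.rTensor M) :=
  let π : (M →₀ R) →ₗ[R] M := Finsupp.linearCombination R id
  chase (K := LinearMap.ker π) f g hf hfg hg ((LinearMap.ker π).subtype : LinearMap.ker π →ₗ[R] (M →₀ R)) π (Submodule.injective_subtype _)
    (LinearMap.exact_subtype_ker_map π) (fun m => ⟨Finsupp.single m 1, by simp [π]⟩)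

variable {S : Type u} [CommRing S] [Algebra R S]

/-- A module over `S` with a surjection from `P` whose kernel is `y P` is `P / y P`. -/
noncomputable def quotEquiv {P Q : Type u} [AddCommGroup P] [Module S P] [AddCommGroup Q] [Module S Q]
    (g : P →ₗ[S] Q) (hg : Function.Surjective g) (y : S) (hker : LinearMap.ker g = y • ⊤) :
    QuotSMulTop y P ≃ₗ[S] Q :=
  Submodule.quotEquivOfEq _ _ hker.symm ≪≫ₗ g.quotKerEquivOfSurjective hg

variable {N M : Type u} [AddCommGroup N] [Module R N] [Module S N] [IsScalarTower R S N]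
  [AddCommGroup M] [Module R M]

theorem finite_tensor [Module.Finite S N] [Module.Finite R M] : Module.Finite S (N ⊗[R] M) := by
  classical
  obtain ⟨s, hs⟩ := Module.Finite.fg_top (R := S) (M := N)
  obtain ⟨t, ht⟩ := Module.Finite.fg_top (R := R) (M := M)
  refine ⟨⟨(s ×ˢ t).image fun p => p.1 ⊗ₜ[R] p.2, eq_top_iff.2 fun z hz => ?_⟩⟩
  clear hz
  induction z using TensorProduct.induction_on with
  | zero => exact zero_mem _
  | add a b ha hb => exact add_mem ha hb
  | tmul n m =>
    have hn : n ∈ Submodule.span S (s : Set N) := by rw [hs]; trivial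
    induction hn using Submodule.span_induction with
    | zero => rw [zero_tmul]; exact zero_mem _
    | add a b _ _ ha hb => rw [add_tmul]; exact add_mem ha hb
    | smul c a _ ha => rw [← smul_tmul']; exact Submodule.smul_mem _ _ ha
    | mem a ha =>
      have hm : m ∈ Submodule.span R (t : Set M) := by rw [ht]; trivial
      induction hm using Submodule.span_induction with
      | zero => rw [tmul_zero]; exact zero_mem _
      | add p q _ _ hp hq => rw [tmul_add]; exact add_mem hp hq
      | smul c p _ hp =>
        rw [tmul_smul, ← algebraMap_smul S]; exact Submodule.smul_mem _ _ hp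
      | mem p hp => exact Submodule.subset_span (Finset.mem_image.2 ⟨(a, p), Finset.mem_product.2 ⟨ha, hp⟩, rfl⟩)

variable (M) in
/-- `p ⊗ M`. -/
noncomputable def tmap {N' : Type u} [AddCommGroup N'] [Module R N'] [Module S N'] [IsScalarTower R S N']
    (p : N →ₗ[S] N') : N ⊗[R] M →ₗ[S] N' ⊗[R] M :=
  TensorProduct.AlgebraTensorModule.map p (LinearMap.id : M →ₗ[R] M)

theorem tmap_apply {N' : Type u} [AddCommGroup N'] [Module R N'] [Module S N'] [IsScalarTower R S N']
    (p : N →ₗ[S] N') (z : N ⊗[R] M) : tmap M p z = (p.restrictScalars R).rTensor M z := rfl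

theorem regular_tensor {N' : Type u} [AddCommGroup N'] [Module R N'] [Module S N'] [IsScalarTower R S N']
    (p : N →ₗ[S] N') (y : S) (hy : IsSMulRegular N y) (hker : LinearMap.ker p = y • ⊤)
    (hp : Function.Surjective p) (hflat : Module.Flat R N') :
    IsSMulRegular (N ⊗[R] M) y ∧ Nonempty (QuotSMulTop y (N ⊗[R] M) ≃ₗ[S] N' ⊗[R] M) := by
  let u : N →ₗ[R] N := (LinearMap.lsmul S N y).restrictScalars R
  have hexact : Function.Exact u (p.restrictScalars R) := by
    intro x
    show p x = 0 ↔ ∃ z, y • z = x
    rw [← LinearMap.mem_ker, hker, Submodule.mem_smul_pointwise_iff_exists]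
    simp
  have hkey : ∀ z : N ⊗[R] M, u.rTensor M z = y • z := by
    intro z
    induction z using TensorProduct.induction_on with
    | zero => simp
    | add a b ha hb => rw [map_add, ha, hb, smul_add]
    | tmul a b => simp [u, smul_tmul']
  refine ⟨fun z w hzw => ?_, ⟨quotEquiv (tmap M p) ?_ y ?_⟩⟩
  · refine rTensor_injective u (p.restrictScalars R) (fun a b h => hy h) hexact hp M ?_
    rw [hkey, hkey]; exact hzw
  · intro z
    obtain ⟨w, hw⟩ := LinearMap.rTensor_surjective M (g := p.restrictScalars R) hp z
    exact ⟨w, (tmap_apply p w).trans hw⟩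
  · ext z
    rw [LinearMap.mem_ker, tmap_apply, rTensor_exact M hexact hp z, Set.mem_range,
      Submodule.mem_smul_pointwise_iff_exists]
    simp only [hkey, Submodule.mem_top, true_and]

variable [IsLocalRing R] [IsLocalRing S] [IsNoetherianRing R] [IsNoetherianRing S]
  [IsLocalHom (algebraMap R S)]

variable (R) in
/-- `m_R S`. -/
abbrev mS (S : Type u) [CommRing S] [Algebra R S] : Ideal S := (maximalIdeal R).map (algebraMap R S)

theorem mS_le : mS R S ≤ maximalIdeal S := ((local_hom_TFAE (algebraMap R S)).out 0 2).mp ‹_›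

variable [Module.Finite S N]

theorem nontrivial_fibre [Nontrivial N] : Nontrivial (N ⧸ mS R S • (⊤ : Submodule S N)) :=
  Submodule.Quotient.nontrivial_iff.2 fun h =>
    Basic.smul_top_ne_top (R := S) (M := N) (Ideal.IsPrime.ne_top' (I := maximalIdeal S))
      (top_unique (h.symm.le.trans (Submodule.smul_mono mS_le le_rfl)))

theorem depth_of_depth_eq_zero [Module.Finite R M] [Nontrivial M] (hM : depth R M = 0) :
    ∀ (n : ℕ) (N : Type u) [AddCommGroup N] [Module R N] [Module S N] [IsScalarTower R S N]
      [Module.Finite S N] [Nontrivial N] [Module.Flat R N],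
      depth S (N ⧸ mS R S • (⊤ : Submodule S N)) = n → depth S (N ⊗[R] M) = n := by
  obtain ⟨a, ha0, ha⟩ : ∃ a : M, a ≠ 0 ∧ maximalIdeal R = (⊥ : Submodule R M).colon {a} := by
    obtain ⟨a, ha⟩ := (isAssociatedPrime_iff.1 ((Assoc.depth_eq_zero_iff (R := R) M).1 hM)).2
    refine ⟨a, fun h0 => ?_, ha⟩
    subst h0
    exact (maximalIdeal.isMaximal R).ne_top (ha.trans (by ext; simp [Submodule.mem_colon_singleton]))
  have ha' : ∀ r ∈ maximalIdeal R, r • a = 0 := fun r hr => by
    rw [ha, Submodule.mem_colon_singleton, Submodule.mem_bot] at hr; exact hr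
  let i : (R ⧸ maximalIdeal R) →ₗ[R] M := (maximalIdeal R).liftQ (LinearMap.toSpanSingleton R M a) ha'
  have hi : Function.Injective i := by
    rw [injective_iff_map_eq_zero]
    intro x hx
    obtain ⟨r, rfl⟩ := Submodule.mkQ_surjective (p := maximalIdeal R) x
    have hi0 : i ((maximalIdeal R).mkQ r) = r • a := rfl
    rw [hi0] at hx
    rw [Submodule.mkQ_apply, Submodule.Quotient.mk_eq_zero, ha, Submodule.mem_colon_singleton, Submodule.mem_bot]
    exact hx
  intro n
  induction n with
  | zero =>
    intro N _ _ _ _ _ _ _ h0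
    haveI := nontrivial_fibre (R := R) (S := S) (N := N)
    haveI := finite_tensor (R := R) (S := S) (N := N) (M := M)
    let ψ : N →ₗ[S] N ⊗[R] M := (TensorProduct.AlgebraTensorModule.mk R S N M).flip a
    have hker : mS R S • (⊤ : Submodule S N) = LinearMap.ker ψ := by
      refine le_antisymm (Submodule.smul_le.2 fun c hc x _ => ?_) fun x hx => ?_
      · have hcx : ∀ c' ∈ mS R S, ∀ y : N, ψ (c' • y) = 0 := by
          intro c' hc'
          refine Submodule.span_induction (p := fun c' _ => ∀ y : N, ψ (c' • y) = 0) ?_ (by simp)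
            (fun p q _ _ hp hq y => by rw [add_smul, map_add, hp, hq, add_zero])
            (fun p q _ hq y => by rw [smul_assoc, map_smul, hq, smul_zero]) hc'
          rintro _ ⟨r, hr, rfl⟩ y
          show (algebraMap R S r • y) ⊗ₜ[R] a = 0
          rw [algebraMap_smul, smul_tmul, ha' r hr, tmul_zero]
        exact hcx c hc x
      · have h1 : x ⊗ₜ[R] (Ideal.Quotient.mk (maximalIdeal R) 1) = (0 : N ⊗[R] (R ⧸ maximalIdeal R)) := by
          apply Module.Flat.lTensor_preserves_injective_linearMap (M := N) i hi
          rw [map_zero, LinearMap.lTensor_tmul,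
            show i (Ideal.Quotient.mk (maximalIdeal R) 1) = a from one_smul R a]
          exact hx
        have h2 := congrArg (TensorProduct.tensorQuotEquivQuotSMul N (maximalIdeal R)) h1
        rw [map_zero, TensorProduct.tensorQuotEquivQuotSMul_tmul_mk, one_smul,
          Submodule.Quotient.mk_eq_zero] at h2
        rw [← Lib.QDepth.restrictScalars_smul_top (B := S), Submodule.restrictScalars_mem] at h2
        exact h2
    let j : (N ⧸ mS R S • (⊤ : Submodule S N)) →ₗ[S] N ⊗[R] M := Submodule.liftQ _ ψ hker.le
    have hj : Function.Injective j := LinearMap.ker_eq_bot.1 (Submodule.ker_liftQ_eq_bot _ _ _ hker.ge)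
    haveI : Nontrivial (N ⊗[R] M) := hj.nontrivial
    rw [Nat.cast_zero] at h0 ⊢
    exact (Assoc.depth_eq_zero_iff (R := S) _).2
      (associatedPrimes.subset_of_injective hj ((Assoc.depth_eq_zero_iff (R := S) _).1 h0))
  | succ n ih =>
    intro N _ _ _ _ _ _ _ h0
    haveI := nontrivial_fibre (R := R) (S := S) (N := N)
    haveI := finite_tensor (R := R) (S := S) (N := N) (M := M)
    set Q := N ⧸ mS R S • (⊤ : Submodule S N)
    obtain ⟨y, hy, hyreg, -⟩ := Basic.exists_isSMulRegular_of_succ_le (I := maximalIdeal S) (M := Q)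
      (Basic.smul_top_ne_top Ideal.IsPrime.ne_top') (n := n) h0.ge
    obtain ⟨hyN, hflat⟩ := Lib.QDepth.regular_of_fibre (A := R) (M := N) y fun m hm => by
      rw [← Submodule.Quotient.mk_eq_zero] at hm ⊢
      exact hyreg (by simpa using hm)
    let N1 := QuotSMulTop y N
    haveI : Nontrivial N1 := Submodule.Quotient.nontrivial_iff.2 fun h =>
      Submodule.top_ne_pointwise_smul_of_mem_jacobson_annihilator
        (IsLocalRing.maximalIdeal_le_jacobson _ hy) h.symm
    let p : N →ₗ[S] N1 := (y • (⊤ : Submodule S N)).mkQ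
    have hfib : depth S (N1 ⧸ mS R S • (⊤ : Submodule S N1)) = n := by
      let P1 : Submodule S N := mS R S • ⊤
      let P2 : Submodule S N := y • ⊤
      have he : (N1 ⧸ mS R S • (⊤ : Submodule S N1)) ≃ₗ[S] QuotSMulTop y Q := by
        let g1 : N →ₗ[S] N1 ⧸ mS R S • (⊤ : Submodule S N1) := (mS R S • (⊤ : Submodule S N1)).mkQ ∘ₗ p
        let g2 : N →ₗ[S] QuotSMulTop y Q := (y • (⊤ : Submodule S Q)).mkQ ∘ₗ P1.mkQ
        have k1 : LinearMap.ker g1 = P1 ⊔ P2 := by
          have h : mS R S • (⊤ : Submodule S N1) = P1.map p := by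
            rw [Submodule.map_smul'', Submodule.map_top, LinearMap.range_eq_top.2 (Submodule.mkQ_surjective _)]
          rw [LinearMap.ker_comp, Submodule.ker_mkQ, h, Submodule.comap_map_eq, Submodule.ker_mkQ]
        have k2 : LinearMap.ker g2 = P1 ⊔ P2 := by
          have h : y • (⊤ : Submodule S Q) = P2.map P1.mkQ := by
            rw [Submodule.map_pointwise_smul, Submodule.map_top, Submodule.range_mkQ]
          rw [LinearMap.ker_comp, Submodule.ker_mkQ, h, Submodule.comap_map_eq, Submodule.ker_mkQ, sup_comm]
        exact (g1.quotKerEquivOfSurjective ((Submodule.mkQ_surjective _).comp (Submodule.mkQ_surjective _))).symm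
          ≪≫ₗ Submodule.quotEquivOfEq _ _ (k1.trans k2.symm) ≪≫ₗ
          g2.quotKerEquivOfSurjective ((Submodule.mkQ_surjective _).comp (Submodule.mkQ_surjective _))
      refine (Basic.depth_congr (M := _) he).trans ?_
      have h := SES.idealDepth_quotSMulTop (I := maximalIdeal S) (M := Q) hy hyreg
      rw [depth] at h0 ⊢
      rw [h0, Nat.cast_succ] at h
      exact (ENat.add_left_injective_of_ne_top ENat.one_ne_top) h
    obtain ⟨hregT, ⟨heq⟩⟩ := regular_tensor (M := M) p y hyN (Submodule.ker_mkQ _) (Submodule.mkQ_surjective _) hflat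
    haveI : Module.Flat R N1 := hflat
    have h := SES.idealDepth_quotSMulTop (I := maximalIdeal S) (M := N ⊗[R] M) hy hregT
    rw [← depth, Basic.depth_congr (M := _) heq, ih N1 hfib] at h
    rw [depth, ← h, Nat.cast_succ]

theorem depth_tensor_aux : ∀ (d : ℕ) (q : ℕ) (N : Type u) [AddCommGroup N] [Module R N] [Module S N]
    [IsScalarTower R S N] [Module.Finite S N] [Nontrivial N] [Module.Flat R N]
    (M : Type u) [AddCommGroup M] [Module R M] [Module.Finite R M] [Nontrivial M],
    depth R M = d → depth S (N ⧸ mS R S • (⊤ : Submodule S N)) = q →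
      depth S (N ⊗[R] M) = (d : ℕ∞) + q := by
  intro d
  induction d with
  | zero =>
    intro q N _ _ _ _ _ _ _ M _ _ _ _ hM hQ
    rw [Nat.cast_zero, zero_add]
    exact depth_of_depth_eq_zero (by simpa using hM) q N hQ
  | succ d ih =>
    intro q N _ _ _ _ _ _ _ M _ _ _ _ hM hQ
    haveI := finite_tensor (R := R) (S := S) (N := N) (M := M)
    obtain ⟨x, hx, hxreg, -⟩ := Basic.exists_isSMulRegular_of_succ_le (I := maximalIdeal R) (M := M)
      (Basic.smul_top_ne_top Ideal.IsPrime.ne_top') (n := d) hM.ge
    haveI : Nontrivial (QuotSMulTop x M) := Submodule.Quotient.nontrivial_iff.2 fun h =>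
      Submodule.top_ne_pointwise_smul_of_mem_jacobson_annihilator
        (IsLocalRing.maximalIdeal_le_jacobson _ hx) h.symm
    have hy : algebraMap R S x ∈ maximalIdeal S := mS_le (R := R) (S := S) (Ideal.mem_map_of_mem _ hx)
    have hkey : ∀ z : N ⊗[R] M, (LinearMap.lsmul R M x).lTensor N z = algebraMap R S x • z := by
      intro z
      induction z using TensorProduct.induction_on with
      | zero => simp
      | add a b ha hb => rw [map_add, ha, hb, smul_add]
      | tmul a b => rw [LinearMap.lTensor_tmul, LinearMap.lsmul_apply, smul_tmul', algebraMap_smul, smul_tmul]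
    have hregT : IsSMulRegular (N ⊗[R] M) (algebraMap R S x) := fun a b hab => by
      refine Module.Flat.lTensor_preserves_injective_linearMap (M := N) (LinearMap.lsmul R M x) hxreg ?_
      rw [hkey, hkey]; exact hab
    let p : M →ₗ[R] QuotSMulTop x M := (x • (⊤ : Submodule R M)).mkQ
    have hexact : Function.Exact (LinearMap.lsmul R M x) p := by
      intro z
      simp [p, Submodule.mem_smul_pointwise_iff_exists]
    let g : N ⊗[R] M →ₗ[S] N ⊗[R] QuotSMulTop x M :=
      TensorProduct.AlgebraTensorModule.map (LinearMap.id : N →ₗ[S] N) p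
    have hg : ∀ z, g z = p.lTensor N z := fun z => rfl
    have hgsurj : Function.Surjective g := fun z => by
      obtain ⟨w, hw⟩ := LinearMap.lTensor_surjective N (g := p) (Submodule.mkQ_surjective _) z
      exact ⟨w, (hg w).trans hw⟩
    have hgker : LinearMap.ker g = algebraMap R S x • (⊤ : Submodule S (N ⊗[R] M)) := by
      ext z
      rw [LinearMap.mem_ker, hg, lTensor_exact N hexact (Submodule.mkQ_surjective _) z, Set.mem_range,
        Submodule.mem_smul_pointwise_iff_exists]
      simp only [hkey, Submodule.mem_top, true_and]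
    let heq : QuotSMulTop (algebraMap R S x) (N ⊗[R] M) ≃ₗ[S] N ⊗[R] QuotSMulTop x M :=
      quotEquiv g hgsurj _ hgker
    have hd : depth R (QuotSMulTop x M) = d := by
      have h := SES.idealDepth_quotSMulTop (I := maximalIdeal R) (M := M) hx hxreg
      rw [depth] at hM ⊢
      rw [hM, Nat.cast_succ] at h
      exact (ENat.add_left_injective_of_ne_top ENat.one_ne_top) h
    have h := SES.idealDepth_quotSMulTop (I := maximalIdeal S) (M := N ⊗[R] M) hy hregT
    rw [← depth, Basic.depth_congr (M := _) heq, ih q N _ hd hQ] at h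
    rw [depth, ← h, Nat.cast_succ, add_right_comm]

theorem depth_tensor [Module.Flat R N] [Module.Finite R M] :
    depth S (N ⊗[R] M) = depth R M + depth S (N ⧸ mS R S • (⊤ : Submodule S N)) := by
  rcases subsingleton_or_nontrivial N with hN | hN
  · haveI : Subsingleton (N ⊗[R] M) := ⟨fun a b => by
      have h : ∀ z : N ⊗[R] M, z = 0 := fun z => by
        induction z using TensorProduct.induction_on with
        | zero => rfl
        | add p q hp hq => rw [hp, hq, add_zero]
        | tmul p q => rw [Subsingleton.elim p 0, zero_tmul]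
      rw [h a, h b]⟩
    rw [depth, depth, depth, Basic.idealDepth_subsingleton (R := S) (M := N ⊗[R] M),
      Basic.idealDepth_subsingleton (R := S) (M := N ⧸ mS R S • (⊤ : Submodule S N)), add_top]
  rcases subsingleton_or_nontrivial M with hM | hM
  · haveI : Subsingleton (N ⊗[R] M) := ⟨fun a b => by
      have h : ∀ z : N ⊗[R] M, z = 0 := fun z => by
        induction z using TensorProduct.induction_on with
        | zero => rfl
        | add p q hp hq => rw [hp, hq, add_zero]
        | tmul p q => rw [Subsingleton.elim q 0, tmul_zero]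
      rw [h a, h b]⟩
    rw [depth, depth, depth, Basic.idealDepth_subsingleton (R := S) (M := N ⊗[R] M),
      Basic.idealDepth_subsingleton (R := R) (M := M), top_add]
  haveI := nontrivial_fibre (R := R) (S := S) (N := N)
  obtain ⟨q, hq⟩ := Local.exists_nat_eq_idealDepth (maximalIdeal S) (N ⧸ mS R S • (⊤ : Submodule S N))
    (Basic.smul_top_ne_top Ideal.IsPrime.ne_top')
  obtain ⟨d, hd⟩ := Local.exists_nat_eq_idealDepth (maximalIdeal R) M (Basic.smul_top_ne_top Ideal.IsPrime.ne_top')
  rw [depth_tensor_aux d q N M hd hq]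
  show _ = idealDepth _ _ + idealDepth _ _
  rw [hd, hq]

end Groth.Agent.H22.DepthTensor
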