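import Mathlib

set_option autoImplicit false
universe u v

open TensorProduct

namespace Groth.Agent.H22.DvrGen

variable {R : Type u} [CommRing R] [IsDomain R] [IsDiscreteValuationRing R] {ϖ : R}

/-- Minimal number of generators. -/
noncomputable abbrev d (R : Type u) [CommRing R] [IsLocalRing R] (M : Type v) [AddCommGroup M] [Module R M] : ℕ :=
  Module.finrank (IsLocalRing.ResidueField R) (IsLocalRing.ResidueField R ⊗[R] M)

theorem length_tensor_residue (M : Type v) [AddCommGroup M] [Module R M] [Module.Finite R M] :
    Module.length R (IsLocalRing.ResidueField R ⊗[R] M) = (d R M : ℕ∞) := by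
  rw [Module.length_eq_of_surjective (R := IsLocalRing.ResidueField R) IsLocalRing.residue_surjective,
    Module.length_eq_finrank]

theorem length_mkQ_smul (hϖ : Irreducible ϖ) (M : Type v) [AddCommGroup M] [Module R M]
    [Module.Finite R M] :
    Module.length R (M ⧸ LinearMap.range (ϖ • LinearMap.id : M →ₗ[R] M)) = (d R M : ℕ∞) := by
  rw [← length_tensor_residue]
  refine (LinearEquiv.length_eq ?_).symm
  refine TensorProduct.quotTensorEquivQuotSMul M _ ≪≫ₗ Submodule.quotEquivOfEq _ _ ?_
  rw [hϖ.maximalIdeal_eq, Submodule.ideal_span_singleton_smul]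
  ext x
  simp [Submodule.mem_smul_pointwise_iff_exists, eq_comm]

/-- A module killed by the uniformizer. -/
theorem length_eq_d_of_smul_eq_zero (hϖ : Irreducible ϖ) (M : Type v) [AddCommGroup M] [Module R M]
    [Module.Finite R M] (h : ∀ m : M, ϖ • m = 0) : Module.length R M = (d R M : ℕ∞) := by
  rw [← length_mkQ_smul hϖ M]
  refine (LinearEquiv.length_eq (Submodule.quotEquivOfEqBot _ ?_)).symm
  rw [LinearMap.range_eq_bot]
  exact LinearMap.ext h

theorem isFiniteLength_of_pow_smul (hϖ : Irreducible ϖ) (n : ℕ) : ∀ (M : Type v) [AddCommGroup M]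
    [Module R M] [Module.Finite R M], (∀ m : M, ϖ ^ n • m = 0) → IsFiniteLength R M := by
  intro M _ _ _ h
  rw [← Module.length_ne_top_iff]
  induction n generalizing M with
  | zero =>
    haveI : Subsingleton M := subsingleton_of_forall_eq 0 fun m => by simpa using h m
    rw [Module.length_eq_zero]; simp
  | succ n ih =>
    let f : M →ₗ[R] M := ϖ • LinearMap.id
    rw [Module.length_eq_add_of_exact (LinearMap.range f).subtype (LinearMap.range f).mkQ
      (Submodule.injective_subtype _) (Submodule.mkQ_surjective _) (LinearMap.exact_subtype_mkQ _),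
      length_mkQ_smul hϖ]
    refine WithTop.add_ne_top.2 ⟨ih _ fun ⟨x, y, hy⟩ => Subtype.ext ?_, ENat.natCast_ne_top _⟩
    show ϖ ^ n • x = 0
    rw [← hy, show f y = ϖ • y from rfl, smul_smul, ← pow_succ, h]

/-- For torsion modules the generators are counted by the socle. -/
theorem length_torsionBy_eq_d (hϖ : Irreducible ϖ) (n : ℕ) (M : Type v) [AddCommGroup M] [Module R M]
    [Module.Finite R M] (h : ∀ m : M, ϖ ^ n • m = 0) :
    Module.length R (Submodule.torsionBy R M ϖ) = (d R M : ℕ∞) := by
  let f : M →ₗ[R] M := ϖ • LinearMap.id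
  have hker : LinearMap.ker f = Submodule.torsionBy R M ϖ := by ext x; simp [f]
  have htop : Module.length R (LinearMap.range f) ≠ ⊤ := by
    rw [Module.length_ne_top_iff]
    exact (isFiniteLength_of_pow_smul hϖ n M h).of_injective (LinearMap.range f).injective_subtype
  have h1 := Module.length_eq_add_of_exact (LinearMap.ker f).subtype f.rangeRestrict
    (Submodule.injective_subtype _) f.surjective_rangeRestrict
    (LinearMap.exact_iff.2 (by rw [LinearMap.ker_rangeRestrict, Submodule.range_subtype]))
  have h2 := Module.length_eq_add_of_exact (LinearMap.range f).subtype (LinearMap.range f).mkQ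
    (Submodule.injective_subtype _) (Submodule.mkQ_surjective _) (LinearMap.exact_subtype_mkQ _)
  rw [hker] at h1
  rw [h1, add_comm] at h2
  rw [← length_mkQ_smul hϖ M]
  exact WithTop.add_left_cancel htop h2

theorem d_torsionBy_eq (hϖ : Irreducible ϖ) (n : ℕ) (M : Type v) [AddCommGroup M] [Module R M]
    [Module.Finite R M] (h : ∀ m : M, ϖ ^ n • m = 0) :
    d R (Submodule.torsionBy R M ϖ) = d R M := by
  have h1 := length_torsionBy_eq_d hϖ n M h
  rw [length_eq_d_of_smul_eq_zero hϖ (Submodule.torsionBy R M ϖ) fun m => Subtype.ext m.2] at h1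
  exact_mod_cast h1

theorem d_submodule_le (hϖ : Irreducible ϖ) (n : ℕ) (M : Type v) [AddCommGroup M] [Module R M]
    [Module.Finite R M] (h : ∀ m : M, ϖ ^ n • m = 0) (N : Submodule R M) : d R N ≤ d R M := by
  haveI : Module.Finite R N := Module.IsNoetherian.finite R N
  have h1 := length_torsionBy_eq_d hϖ n N fun m => Subtype.ext (h m)
  have h2 := length_torsionBy_eq_d hϖ n M h
  have : (d R N : ℕ∞) ≤ (d R M : ℕ∞) := by
    rw [← h1, ← h2]
    exact Module.length_le_of_injective (N.subtype.restrict fun x (hx : x ∈ Submodule.torsionBy R N ϖ) =>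
      show N.subtype x ∈ Submodule.torsionBy R M ϖ from congrArg Subtype.val hx)
      fun a b e => Subtype.ext (Subtype.ext (congrArg Subtype.val e :))
  exact_mod_cast this

end Groth.Agent.H22.DvrGen
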