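import Groth.Agent.Lib.Smoothing.LiftIdem
import Mathlib

/-!
Lifting finite projective modules from `A ⧸ I` after an étale neighbourhood.
-/

set_option autoImplicit false
set_option maxHeartbeats 1000000
universe u

open TensorProduct

namespace Groth.Agent.H22.EtaleProjLift

variable {A : Type u} [CommRing A] (I : Ideal A)

/-- An étale algebra with a point over `A ⧸ I` shrinks to an étale neighbourhood. -/
theorem exists_nbhd (B : Type u) [CommRing B] [Algebra A B] [Algebra.Etale A B] (ψ : B →ₐ[A] A ⧸ I) :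
    ∃ g : B, ψ g = 1 ∧ Function.Bijective
      (algebraMap (A ⧸ I) (Localization.Away g ⧸ I.map (algebraMap A (Localization.Away g)))) := by
  let B₀ := (A ⧸ I) ⊗[A] B
  let s : B₀ →ₐ[A ⧸ I] A ⧸ I := Algebra.TensorProduct.lift (Algebra.ofId _ _) ψ fun _ _ => Commute.all _ _
  have hst : ∀ x b, s (x ⊗ₜ[A] b) = x * ψ b := fun x b => rfl
  have hs : Function.Surjective s := fun x => ⟨x ⊗ₜ 1, by rw [hst, map_one, mul_one]⟩
  letI : Algebra B₀ (A ⧸ I) := s.toRingHom.toAlgebra
  haveI : IsScalarTower (A ⧸ I) B₀ (A ⧸ I) := IsScalarTower.of_algebraMap_eq fun x => (s.commutes x).symm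
  haveI : Algebra.Etale B₀ (A ⧸ I) := Algebra.Etale.of_restrictScalars (A ⧸ I) B₀ (A ⧸ I)
  let K := RingHom.ker s.toRingHom
  have hK : K.FG := Algebra.FinitePresentation.ker_fG_of_surjective (Algebra.ofId B₀ (A ⧸ I)) hs
  haveI : Module.Flat B₀ (B₀ ⧸ K) := Module.Flat.of_linearEquiv
    (Ideal.quotientKerAlgEquivOfSurjective (f := Algebra.ofId B₀ (A ⧸ I)) hs).toLinearEquiv
  haveI : K.Pure := ‹_›
  obtain ⟨e, he, hKe⟩ := (K.isIdempotentElem_iff_of_fg hK).1 K.isIdempotentElem_of_pure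
  obtain ⟨g, hg⟩ : ∃ g : B, (1 : A ⧸ I) ⊗ₜ[A] g = 1 - e := by
    obtain ⟨g, hg⟩ := TensorProduct.mk_surjective A B (A ⧸ I) Ideal.Quotient.mk_surjective (1 - e)
    exact ⟨g, hg⟩
  have hse : s e = 0 := by
    have : e ∈ K := hKe ▸ Submodule.mem_span_singleton_self e
    exact this
  have hψg : ψ g = 1 := by
    have := congrArg s hg
    rw [hst, map_sub, map_one, hse, sub_zero, one_mul] at this
    exact this
  refine ⟨g, hψg, ?_⟩
  let L := Localization.Away g
  let Q := L ⧸ I.map (algebraMap A L)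
  have hu : ∀ y : Submonoid.powers g, IsUnit (ψ y.1) := by
    rintro ⟨_, k, rfl⟩
    simp [hψg]
  let ψ' : L →+* A ⧸ I := IsLocalization.lift (g := ψ.toRingHom) hu
  have hψ' : ∀ x, ψ' (algebraMap B L x) = ψ x := fun x => IsLocalization.lift_eq hu x
  have hIψ' : I.map (algebraMap A L) ≤ RingHom.ker ψ' := Ideal.map_le_iff_le_comap.2 fun i hi => by
    rw [Ideal.mem_comap, RingHom.mem_ker, IsScalarTower.algebraMap_apply A B L, hψ', AlgHom.commutes]
    exact Ideal.Quotient.eq_zero_iff_mem.2 hi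
  let back : Q →+* A ⧸ I := Ideal.Quotient.lift _ ψ' fun x hx => hIψ' hx
  -- the map from the fibre
  let τ : B₀ →ₐ[A] Q := Algebra.TensorProduct.lift (IsScalarTower.toAlgHom A (A ⧸ I) Q)
    ((Ideal.Quotient.mkₐ A _).comp (IsScalarTower.toAlgHom A B L)) fun _ _ => Commute.all _ _
  have hτt : ∀ a x, τ (a ⊗ₜ[A] x) = algebraMap (A ⧸ I) Q a * Ideal.Quotient.mk _ (algebraMap B L x) :=
    fun a x => rfl
  have hτ : ∀ x : B, τ ((1 : A ⧸ I) ⊗ₜ[A] x) = Ideal.Quotient.mk _ (algebraMap B L x) := fun x => by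
    rw [hτt, map_one, one_mul]
  have hgu : IsUnit (τ (1 - e)) := by
    rw [← hg, hτ]
    exact (IsLocalization.Away.algebraMap_isUnit g).map _
  have hτe : τ e = 0 := by
    refine hgu.mul_left_eq_zero.1 ?_
    rw [← map_mul, mul_sub, mul_one, he.eq, sub_self, map_zero]
  have hτK : ∀ x ∈ K, τ x = 0 := by
    intro x hx
    rw [hKe] at hx
    obtain ⟨c, rfl⟩ := Submodule.mem_span_singleton.1 hx
    rw [smul_eq_mul, map_mul, hτe, mul_zero]
  have hτg : ∀ x : B, Ideal.Quotient.mk (I.map (algebraMap A L)) (algebraMap B L x) =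
      algebraMap (A ⧸ I) Q (ψ x) := by
    intro x
    have hx : (1 : A ⧸ I) ⊗ₜ[A] x - ψ x ⊗ₜ[A] (1 : B) ∈ K := by
      show s _ = 0
      rw [map_sub, hst, hst, map_one, mul_one, one_mul, sub_self]
    have := hτK _ hx
    rw [map_sub, hτ, sub_eq_zero] at this
    rw [this, hτt, map_one, map_one, mul_one]
  refine ⟨fun x y hxy => ?_, fun z => ?_⟩
  · have key : ∀ x : A ⧸ I, back (algebraMap (A ⧸ I) Q x) = x := by
      intro x
      obtain ⟨a, rfl⟩ := Ideal.Quotient.mk_surjective x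
      change ψ' (algebraMap A L a) = _
      rw [IsScalarTower.algebraMap_apply A B L, hψ', AlgHom.commutes]
      rfl
    rw [← key x, ← key y, hxy]
  · obtain ⟨w, rfl⟩ := Ideal.Quotient.mk_surjective z
    obtain ⟨x, ⟨_, k, rfl⟩, rfl⟩ := IsLocalization.exists_mk'_eq (Submonoid.powers g) w
    refine ⟨ψ x, ?_⟩
    have h1 := congrArg (Ideal.Quotient.mk (I.map (algebraMap A L)))
      (IsLocalization.mk'_spec L x (⟨g ^ k, k, rfl⟩ : Submonoid.powers g))
    rw [map_mul, hτg, hτg, map_pow, hψg, one_pow, map_one, mul_one] at h1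
    exact h1.symm

theorem reduce_eq {B : Type u} [CommRing B] [Algebra A B] (g : B) (ψ : B →ₐ[A] A ⧸ I) (hg : ψ g = 1)
    (hbij : Function.Bijective
      (algebraMap (A ⧸ I) (Localization.Away g ⧸ I.map (algebraMap A (Localization.Away g))))) (x : B) :
    algebraMap (Localization.Away g) (Localization.Away g ⧸ I.map (algebraMap A (Localization.Away g)))
        (algebraMap B (Localization.Away g) x) =
      algebraMap (A ⧸ I) (Localization.Away g ⧸ I.map (algebraMap A (Localization.Away g))) (ψ x) := by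
  let L := Localization.Away g
  have hu : ∀ y : Submonoid.powers g, IsUnit (ψ y.1) := by
    rintro ⟨_, k, rfl⟩
    simp [hg]
  let ψ' : L →+* A ⧸ I := IsLocalization.lift (g := ψ.toRingHom) hu
  have hψ' : ∀ x, ψ' (algebraMap B L x) = ψ x := fun x => IsLocalization.lift_eq hu x
  let back : L ⧸ I.map (algebraMap A L) →+* A ⧸ I := Ideal.Quotient.lift _ ψ' fun y hy => by
    refine (Ideal.map_le_iff_le_comap (K := RingHom.ker ψ')).2 (fun i hi => ?_) hy
    rw [Ideal.mem_comap, RingHom.mem_ker, IsScalarTower.algebraMap_apply A B L, hψ', AlgHom.commutes]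
    exact Ideal.Quotient.eq_zero_iff_mem.2 hi
  have key : ∀ x : A ⧸ I, back (algebraMap (A ⧸ I) (L ⧸ I.map (algebraMap A L)) x) = x := by
    intro x
    obtain ⟨a, rfl⟩ := Ideal.Quotient.mk_surjective x
    change ψ' (algebraMap A L a) = _
    rw [IsScalarTower.algebraMap_apply A B L, hψ', AlgHom.commutes]
    rfl
  obtain ⟨y, hy⟩ := hbij.2 (algebraMap L (L ⧸ I.map (algebraMap A L)) (algebraMap B L x))
  rw [← hy]
  congr 1
  rw [← key y, hy]
  exact hψ' x

theorem main (P : Type u) [AddCommGroup P] [Module (A ⧸ I) P] [Module.Finite (A ⧸ I) P]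
    [Module.Projective (A ⧸ I) P] :
    ∃ (A' : Type u) (_ : CommRing A') (_ : Algebra A A'), Algebra.Etale A A' ∧
      Function.Bijective (algebraMap (A ⧸ I) (A' ⧸ I.map (algebraMap A A'))) ∧
      ∃ (P' : Type u) (_ : AddCommGroup P') (_ : Module A' P'), Module.Finite A' P' ∧
        Module.Projective A' P' ∧
        Nonempty (((A' ⧸ I.map (algebraMap A A')) ⊗[A'] P') ≃ₗ[A' ⧸ I.map (algebraMap A A')]
          ((A' ⧸ I.map (algebraMap A A')) ⊗[A ⧸ I] P)) := by
  classical
  obtain ⟨n, π, hπ⟩ := Module.Finite.exists_fin' (A ⧸ I) P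
  obtain ⟨σ, hσ⟩ := Module.projective_lifting_property π LinearMap.id hπ
  let e₀ : Matrix (Fin n) (Fin n) (A ⧸ I) := LinearMap.toMatrix' (σ ∘ₗ π)
  choose M hM using fun i j => Ideal.Quotient.mk_surjective (e₀ i j)
  have hMe : (Matrix.of M).map (algebraMap A (A ⧸ I)) = e₀ := by ext i j; exact hM i j
  have hidem : IsIdempotentElem ((Matrix.of M).map (algebraMap A (A ⧸ I))) := by
    rw [hMe, IsIdempotentElem, ← LinearMap.toMatrix'_comp]
    congr 1
    rw [LinearMap.comp_assoc, ← LinearMap.comp_assoc π, hσ, LinearMap.id_comp]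
  obtain ⟨B, _, _, ψ, E, hB, hE, hEM⟩ :=
    Groth.Agent.Lib.Smoothing.LiftIdem.exists_etale_idem (Matrix.of M) hidem
  haveI := hB
  obtain ⟨g, hg, hbij⟩ := exists_nbhd I B ψ
  let A' := Localization.Away g
  haveI : Algebra.Etale B A' := Algebra.Etale.of_isLocalizationAway g
  haveI : Algebra.Etale A A' := Algebra.Etale.comp A B A'
  let Q := A' ⧸ I.map (algebraMap A A')
  let E' : (Fin n → A') →ₗ[A'] (Fin n → A') := Matrix.toLin' (E.map (algebraMap B A'))
  have hE' : ∀ v, E' (E' v) = E' v := fun v => by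
    simp only [E', ← LinearMap.comp_apply, ← Matrix.toLin'_mul, ← Matrix.map_mul, hE.eq]
  let P' := LinearMap.range E'
  refine ⟨A', inferInstance, inferInstance, inferInstance, hbij, P', inferInstance, inferInstance,
    inferInstance, Module.Projective.of_split P'.subtype E'.rangeRestrict ?_, ?_⟩
  · refine LinearMap.ext fun x => Subtype.ext ?_
    obtain ⟨v, hv⟩ := x.2
    simp [← hv, hE']
  -- both sides are images of the same idempotent of `Q ^ n`
  let c₁ : Q ⊗[A'] (Fin n → A') ≃ₗ[Q] (Fin n → Q) := TensorProduct.piScalarRight A' Q Q (Fin n)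
  let c₀ : Q ⊗[A ⧸ I] (Fin n → A ⧸ I) ≃ₗ[Q] (Fin n → Q) := TensorProduct.piScalarRight (A ⧸ I) Q Q (Fin n)
  let f : Q ⊗[A'] P' →ₗ[Q] Q ⊗[A ⧸ I] P :=
    π.baseChange Q ∘ₗ c₀.symm.toLinearMap ∘ₗ c₁.toLinearMap ∘ₗ P'.subtype.baseChange Q
  let h : Q ⊗[A ⧸ I] P →ₗ[Q] Q ⊗[A'] P' :=
    E'.rangeRestrict.baseChange Q ∘ₗ c₁.symm.toLinearMap ∘ₗ c₀.toLinearMap ∘ₗ σ.baseChange Q
  have key : c₁.toLinearMap ∘ₗ E'.baseChange Q ∘ₗ c₁.symm.toLinearMap =
      c₀.toLinearMap ∘ₗ (σ ∘ₗ π).baseChange Q ∘ₗ c₀.symm.toLinearMap := by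
    refine (Pi.basisFun Q (Fin n)).ext fun j => ?_
    have h1 : c₁.symm (Pi.single j 1) = (1 : Q) ⊗ₜ[A'] Pi.single j (1 : A') := c₁.injective (by
      ext i; simp [c₁, Pi.single_apply])
    have h0 : c₀.symm (Pi.single j 1) = (1 : Q) ⊗ₜ[A ⧸ I] Pi.single j (1 : A ⧸ I) := c₀.injective (by
      ext i; simp [c₀, Pi.single_apply])
    funext i
    simp only [Pi.basisFun_apply, LinearMap.comp_apply, LinearEquiv.coe_coe, h0, h1,
      LinearMap.baseChange_tmul, c₀, c₁, TensorProduct.piScalarRight_apply, TensorProduct.piScalarRightHom_tmul]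
    have hEij : E' (Pi.single j 1) i = algebraMap B A' (E i j) := by
      simp [E', Matrix.toLin'_apply, Matrix.mulVec_single]
    have he0 : σ (π (Pi.single j 1)) i = ψ (E i j) := by
      have h2 : e₀ i j = σ (π (Pi.single j 1)) i := by
        simp [e₀, LinearMap.toMatrix'_apply, ← Pi.single_apply]
      rw [← h2, ← hMe, ← hEM, Matrix.map_apply]
    rw [hEij, he0]
    erw [← Algebra.algebraMap_eq_smul_one, ← Algebra.algebraMap_eq_smul_one]
    -- both are the reduction of `E i j`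
    exact (reduce_eq I g ψ hg hbij (E i j))
  refine ⟨LinearEquiv.ofLinearMap f h ?_ ?_⟩
  · refine LinearMap.ext fun z => ?_
    have h1 : ∀ w, (P'.subtype).baseChange Q ((E'.rangeRestrict).baseChange Q w) = E'.baseChange Q w := fun w => by
      rw [← LinearMap.comp_apply, ← LinearMap.baseChange_comp, show P'.subtype ∘ₗ E'.rangeRestrict = E' from rfl]
    have h2 := LinearMap.congr_fun key (c₀ (σ.baseChange Q z))
    simp only [LinearMap.comp_apply, LinearEquiv.coe_coe, LinearEquiv.symm_apply_apply] at h2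
    simp only [f, h, LinearMap.comp_apply, LinearEquiv.coe_coe, h1, h2, LinearEquiv.symm_apply_apply,
      LinearMap.id_apply]
    simp only [← LinearMap.comp_apply, ← LinearMap.baseChange_comp, ← LinearMap.comp_assoc, hσ]
    rw [LinearMap.id_comp, hσ, LinearMap.baseChange_id]
    rfl
  · refine LinearMap.ext fun z => ?_
    have h2 := LinearMap.congr_fun key (c₁ ((P'.subtype).baseChange Q z))
    simp only [LinearMap.comp_apply, LinearEquiv.coe_coe, LinearEquiv.symm_apply_apply] at h2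
    simp only [f, h, LinearMap.comp_apply, LinearEquiv.coe_coe, LinearMap.id_apply]
    rw [← LinearMap.comp_apply (σ.baseChange Q), ← LinearMap.baseChange_comp, ← h2, LinearEquiv.symm_apply_apply]
    simp only [← LinearMap.comp_apply, ← LinearMap.baseChange_comp]
    rw [show E'.rangeRestrict ∘ₗ E' ∘ₗ P'.subtype = LinearMap.id from ?_, LinearMap.baseChange_id]
    · rfl
    · refine LinearMap.ext fun x => Subtype.ext ?_
      obtain ⟨v, hv⟩ := x.2
      simp [← hv, hE']

end Groth.Agent.H22.EtaleProjLift
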