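import Mathlib.Algebra.Module.CharacterModule
import Mathlib.RingTheory.Ideal.AssociatedPrime.Basic
import Mathlib.RingTheory.LocalRing.ResidueField.Ideal
import Mathlib.RingTheory.Localization.Integer
import Mathlib.RingTheory.Spectrum.Prime.Module
import Mathlib.RingTheory.Support
import Mathlib.RingTheory.LocalRing.Module
import Mathlib.LinearAlgebra.Dual.Defs
import Mathlib.LinearAlgebra.Dual.Lemmas

/-! A finite faithful module detects zero modules through the tensor product. -/

open TensorProduct

namespace Groth.Agent.H22.FaithfulTensor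

universe u

variable {R : Type u} [CommRing R] {T : Type u} [AddCommGroup T] [Module R T] [Module.Finite R T]

theorem exists_dual_ne_zero (q : Ideal R) [q.IsPrime] (hq : Module.annihilator R T ≤ q) :
    ∃ ψ : T →ₗ[R] R ⧸ q, ψ ≠ 0 := by
  classical
  let k := q.ResidueField
  have hmem : (⟨q, inferInstance⟩ : PrimeSpectrum R) ∈ Module.support R T := by
    rw [Module.support_eq_zeroLocus, PrimeSpectrum.mem_zeroLocus]; exact hq
  rw [Module.mem_support_iff_nontrivial_residueField_tensorProduct] at hmem
  obtain ⟨x, hx⟩ := exists_ne (0 : k ⊗[R] T)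
  obtain ⟨lam, hlam⟩ : ∃ lam : Module.Dual k (k ⊗[R] T), lam x ≠ 0 := by
    by_contra h
    push Not at h
    exact hx ((Module.forall_dual_apply_eq_zero_iff k x).1 h)
  obtain ⟨n, π, hπ⟩ := Module.Finite.exists_fin' R T
  obtain ⟨d, hd⟩ := IsLocalization.exist_integer_multiples_of_finite (R := R ⧸ q)
    (nonZeroDivisors (R ⧸ q)) (S := k) (fun i => lam ((1 : k) ⊗ₜ[R] π (Pi.single i 1)))
  let L : T →ₗ[R] k :=
    (algebraMap (R ⧸ q) k d) • ((lam.restrictScalars R) ∘ₗ TensorProduct.mk R k T 1)
  let a : (R ⧸ q) →ₗ[R] k := (IsScalarTower.toAlgHom R (R ⧸ q) k).toLinearMap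
  have ha : Function.Injective a := IsFractionRing.injective (R ⧸ q) k
  have hL : ∀ t, L t ∈ LinearMap.range a := by
    intro t
    obtain ⟨v, rfl⟩ := hπ t
    rw [pi_eq_sum_univ' v, map_sum, map_sum]
    refine Submodule.sum_mem _ fun i _ => ?_
    rw [map_smul, map_smul]
    refine Submodule.smul_mem _ _ ?_
    obtain ⟨e, he⟩ := hd i
    exact ⟨e, he.trans (Algebra.smul_def _ _)⟩
  refine ⟨(LinearEquiv.ofInjective a ha).symm.toLinearMap ∘ₗ LinearMap.codRestrict _ L hL,
    fun h0 => hlam ?_⟩
  have hL0 : ∀ t, L t = 0 := by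
    intro t
    have := LinearMap.congr_fun h0 t
    simp only [LinearMap.comp_apply, LinearEquiv.coe_coe, LinearMap.zero_apply,
      LinearEquiv.map_eq_zero_iff] at this
    exact congrArg Subtype.val this
  have hd0 : algebraMap (R ⧸ q) k d ≠ 0 := by
    rw [Ne, map_eq_zero_iff _ (IsFractionRing.injective (R ⧸ q) k)]
    exact nonZeroDivisors.coe_ne_zero d
  clear hx hd hL h0 hlam
  induction x with
  | zero => simp
  | add x y hx hy => rw [map_add, hx, hy, add_zero]
  | tmul c t =>
    rw [show c ⊗ₜ[R] t = c • ((1 : k) ⊗ₜ[R] t) by simp [smul_tmul'], map_smul]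
    have := (mul_eq_zero.1 (hL0 t)).resolve_left hd0
    simp only [LinearMap.comp_apply, TensorProduct.mk_apply, LinearMap.coe_restrictScalars] at this
    rw [this, smul_zero]

theorem subsingleton_of_tensor [IsNoetherianRing R] (hT : Module.annihilator R T = ⊥)
    (N : Type u) [AddCommGroup N] [Module R N] [Subsingleton (T ⊗[R] N)] : Subsingleton N := by
  by_contra hN
  rw [not_subsingleton_iff_nontrivial] at hN
  obtain ⟨y, hy⟩ := exists_ne (0 : N)
  obtain ⟨c, hc⟩ : ∃ c : CharacterModule N, c y ≠ 0 := by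
    by_contra h
    push Not at h
    exact hy (CharacterModule.eq_zero_of_character_apply h)
  have hc0 : c ≠ 0 := fun h => hc (by rw [h]; rfl)
  obtain ⟨q, hqa, -⟩ := exists_le_isAssociatedPrime_of_isNoetherianRing R c hc0
  obtain ⟨hq, z, hz⟩ := isAssociatedPrime_iff.1 hqa
  obtain ⟨ψ, hψ⟩ := exists_dual_ne_zero (T := T) q (by rw [hT]; exact bot_le)
  let i : (R ⧸ q) →ₗ[R] CharacterModule N :=
    Submodule.liftQ q (LinearMap.toSpanSingleton R _ z) fun r hr => by
      rw [hz, Submodule.mem_colon_singleton] at hr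
      simpa using hr
  have hi : Function.Injective i := by
    rw [injective_iff_map_eq_zero]
    intro w hw
    obtain ⟨r, rfl⟩ := Submodule.mkQ_surjective _ w
    refine (Submodule.Quotient.mk_eq_zero q).2 ?_
    rw [hz, Submodule.mem_colon_singleton]
    exact (Submodule.mem_bot R).2 hw
  refine hψ (LinearMap.ext fun t => hi ?_)
  have : Subsingleton (CharacterModule (T ⊗[R] N)) :=
    subsingleton_of_forall_eq 0 fun f => DFunLike.ext _ _ fun w => by
      rw [Subsingleton.elim w 0, map_zero, map_zero]
  have : Subsingleton (T →ₗ[R] CharacterModule N) :=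
    (CharacterModule.homEquiv (R := R) (A := T) (B := N)).injective.subsingleton
  have := LinearMap.congr_fun (Subsingleton.elim (i ∘ₗ ψ) 0) t
  simpa using this

end Groth.Agent.H22.FaithfulTensor
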