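import Groth.Agent.H22.FlatMod
import Groth.Agent.H22.FaithfulTensor
import Groth.Agent.H22.AdicIso
import Mathlib.RingTheory.Localization.Away.Basic
import Mathlib.RingTheory.Localization.Free
import Mathlib.RingTheory.Localization.BaseChange
import Mathlib.RingTheory.Flat.Localization
import Mathlib.RingTheory.Flat.TorsionFree
import Mathlib.RingTheory.Flat.FaithfullyFlat.Basic
import Mathlib.RingTheory.Flat.Stability
import Mathlib.Algebra.Module.FinitePresentation

/-! Ingredients for descent of flatness along finite injective maps of domains. -/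

open TensorProduct LinearMap Groth.Agent.Lib.LocalFlat.Basic

namespace Groth.Agent.H22.FerrandAux

universe u

variable {R : Type u} [CommRing R] {M : Type u} [AddCommGroup M] [Module R M]

theorem flat_of_regular_of_flatAt (c : R) (hreg : Function.Injective (fun m : M => c • m))
    (hc : FlatMod.FlatAt M (Ideal.span {c})) (hcR : IsSMulRegular R c)
    (hloc : Module.Flat (Localization.Away c) (Localization.Away c ⊗[R] M)) : Module.Flat R M := by
  have := FlatMod.flat_quotient hc
  let L := Localization.Away c
  have : Module.Flat R L := IsLocalization.flat L (Submonoid.powers c)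
  have : Module.Flat R (L ⊗[R] M) := Module.Flat.trans R L _
  -- `c` as a principal ideal
  have hI : Function.Injective ((Submodule.subtype (Ideal.span {c})).lTensor M) := by
    let e : R →ₗ[R] (Ideal.span {c} : Ideal R) :=
      LinearMap.codRestrict _ (LinearMap.toSpanSingleton R R c) fun r =>
        Ideal.mul_mem_left _ r (Ideal.mem_span_singleton_self c)
    have he : Function.Surjective (e.lTensor M) := by
      refine lTensor_surjective M ?_
      rintro ⟨x, hx⟩
      obtain ⟨r, rfl⟩ := Ideal.mem_span_singleton'.1 hx
      exact ⟨r, rfl⟩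
    have hcomp : ∀ w, (TensorProduct.rid R M)
        ((Submodule.subtype (Ideal.span {c})).lTensor M (e.lTensor M w)) =
        c • TensorProduct.rid R M w := by
      intro w
      induction w using TensorProduct.induction_on with
      | zero => simp
      | add a b ha hb => simp only [map_add, ha, hb, smul_add]
      | tmul m r => simp [e, smul_smul, mul_comm]
    rw [injective_iff_map_eq_zero]
    intro x hx
    obtain ⟨w, rfl⟩ := he x
    have := hcomp w
    rw [hx, map_zero] at this
    have h2 : TensorProduct.rid R M w = 0 :=
      hreg (by simpa using this.symm)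
    rw [(LinearEquiv.map_eq_zero_iff _).1 h2, map_zero]
  rw [Module.Flat.iff_lTensor_injective]
  intro K _
  let mc : K →ₗ[R] K := c • LinearMap.id
  have hcK : Function.Injective (mc.lTensor M) := by
    have hQ : Tor1Zero R M (K ⧸ range mc) := by
      refine Tor1Zero.of_smul_eq_zero hI fun r hr x => ?_
      obtain ⟨x, rfl⟩ := Submodule.mkQ_surjective _ x
      obtain ⟨a, rfl⟩ := Ideal.mem_span_singleton'.1 hr
      rw [← map_smul, Submodule.mkQ_apply, Submodule.Quotient.mk_eq_zero]
      exact ⟨a • x, by show c • a • x = (a * c) • x; rw [smul_comm, mul_smul]⟩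
    refine hQ K K mc (range mc).mkQ (fun a b hab => ?_) (LinearMap.exact_map_mkQ_range mc)
      (Submodule.mkQ_surjective _)
    exact Subtype.ext (hcR (congrArg Subtype.val hab))
  rw [injective_iff_map_eq_zero]
  intro x hx
  let f : M →ₗ[R] L ⊗[R] M := TensorProduct.mk R L M 1
  have h0 : f.rTensor K x = 0 := by
    apply Module.Flat.lTensor_preserves_injective_linearMap (M := L ⊗[R] M) K.subtype
      K.subtype_injective
    rw [map_zero, ← LinearMap.comp_apply, lTensor_comp_rTensor, ← rTensor_comp_lTensor,
      LinearMap.comp_apply]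
    erw [hx]
    exact map_zero _
  have h1 : TensorProduct.mk R L (M ⊗[R] K) 1 x = 0 := by
    have e : (TensorProduct.assoc R L M K).toLinearMap ∘ₗ f.rTensor K =
        TensorProduct.mk R L (M ⊗[R] K) 1 := by
      ext m k; simp [f]
    rw [← e, LinearMap.comp_apply, h0, map_zero]
  obtain ⟨⟨_, n, rfl⟩, hn⟩ := (IsLocalizedModule.eq_zero_iff (Submonoid.powers c)
    (TensorProduct.mk R L (M ⊗[R] K) 1)).1 h1
  have hmc : ∀ z : M ⊗[R] K, mc.lTensor M z = c • z := by
    intro z
    induction z using TensorProduct.induction_on with
    | zero => simp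
    | add a b ha hb => rw [map_add, ha, hb, smul_add]
    | tmul m k => rw [lTensor_tmul, ← tmul_smul]; rfl
  have hpow : ∀ n, ∀ y : M ⊗[R] K, c ^ n • y = 0 → y = 0 := by
    intro n
    induction n with
    | zero => intro y h; simpa using h
    | succ n ih =>
      intro y h
      refine ih y (hcK ?_)
      rw [map_zero, hmc, smul_smul, ← pow_succ']
      exact h
  exact hpow n x hn

attribute [local instance] Algebra.TensorProduct.rightAlgebra

variable {T : Type u} [CommRing T] [Algebra R T] [Module.Finite R T] [IsNoetherianRing R]

/-- Flatness descends along a finite injective map of domains after inverting one element. -/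
theorem exists_flat_away [IsDomain R] (hinj : Function.Injective (algebraMap R T))
    [Module.Flat T (T ⊗[R] M)] :
    ∃ c : R, c ≠ 0 ∧ Module.Flat (Localization.Away c) (Localization.Away c ⊗[R] M) := by
  have := Module.finitePresentation_of_finite R T
  obtain ⟨c, hc, hfree, -⟩ := Module.FinitePresentation.exists_free_localizedModule_powers
    (nonZeroDivisors R) (LocalizedModule.mkLinearMap (nonZeroDivisors R) T)
    (Localization (nonZeroDivisors R))
  refine ⟨c, nonZeroDivisors.ne_zero hc, ?_⟩
  let L := Localization.Away c
  have : Module.Free L (L ⊗[R] T) :=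
    Module.Free.of_equiv (LocalizedModule.equivTensorProduct (Submonoid.powers c) T)
  have : Nontrivial (L ⊗[R] T) := by
    refine ⟨⟨1, 0, fun h => ?_⟩⟩
    have h1 : TensorProduct.mk R L T 1 (1 : T) = 0 := h
    obtain ⟨⟨_, n, rfl⟩, hn⟩ := (IsLocalizedModule.eq_zero_iff (Submonoid.powers c)
      (TensorProduct.mk R L T 1)).1 h1
    have hn' : c ^ n • (1 : T) = 0 := hn
    rw [Algebra.smul_def, mul_one, map_eq_zero_iff _ hinj] at hn'
    exact pow_ne_zero n (nonZeroDivisors.ne_zero hc) hn'
  let LT := L ⊗[R] T
  have hflat : Module.Flat LT (LT ⊗[L] (L ⊗[R] M)) :=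
    Module.Flat.of_linearEquiv ((AlgebraTensorModule.cancelBaseChange R L LT LT M) ≪≫ₗ
      (AlgebraTensorModule.cancelBaseChange R T LT LT M).symm)
  exact Module.Flat.of_flat_tensorProduct L (L ⊗[R] M) LT

end Groth.Agent.H22.FerrandAux
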