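import Groth.Agent.Lib.FlatFPSyzygy.Basic
import Groth.Agent.Lib.Flat55.Localized
import Groth.Agent.S0422
import Mathlib

/-!
Upper semicontinuity of the projective dimension on the fibres.
-/

set_option autoImplicit false
set_option maxHeartbeats 1000000
universe u

open TensorProduct CategoryTheory

namespace Groth.Agent.H22.FibrePD

variable (A B : Type u) [CommRing A] [CommRing B] [Algebra A B]

/-- `p B_P` for `p = P ∩ A`. -/
abbrev J (P : PrimeSpectrum B) : Ideal (Localization.AtPrime P.asIdeal) :=
  (P.asIdeal.under A).map (algebraMap A (Localization.AtPrime P.asIdeal))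

/-- The local ring of the fibre. -/
abbrev Fq (P : PrimeSpectrum B) : Type u := Localization.AtPrime P.asIdeal ⧸ J A B P

/-- The stalk of the fibre module. -/
abbrev FM (M : Type u) [AddCommGroup M] [Module B M] (P : PrimeSpectrum B) : Type u := Fq A B P ⊗[B] M

theorem J_le (P : PrimeSpectrum B) : J A B P ≤ IsLocalRing.maximalIdeal (Localization.AtPrime P.asIdeal) := by
  rw [J, IsScalarTower.algebraMap_eq A B (Localization.AtPrime P.asIdeal), ← Ideal.map_map,
    ← Localization.AtPrime.map_eq_maximalIdeal]
  exact Ideal.map_mono Ideal.map_comap_le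

/-- The fibre stalk as a quotient of the localised module. -/
noncomputable def fmEquiv (M : Type u) [AddCommGroup M] [Module B M] (P : PrimeSpectrum B) :
    FM A B M P ≃ₗ[Localization.AtPrime P.asIdeal]
      LocalizedModule P.asIdeal.primeCompl M ⧸
        J A B P • (⊤ : Submodule (Localization.AtPrime P.asIdeal) (LocalizedModule P.asIdeal.primeCompl M)) :=
  (TensorProduct.AlgebraTensorModule.cancelBaseChange B (Localization.AtPrime P.asIdeal)
      (Localization.AtPrime P.asIdeal) (Fq A B P) M).symm ≪≫ₗ
    LinearEquiv.lTensor (Fq A B P) (LocalizedModule.equivTensorProduct P.asIdeal.primeCompl M).symm ≪≫ₗ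
    TensorProduct.quotTensorEquivQuotSMul _ (J A B P)

theorem subsingleton_iff (M : Type u) [AddCommGroup M] [Module B M] [Module.Finite B M] (P : PrimeSpectrum B) :
    Subsingleton (FM A B M P) ↔ P ∉ Module.support B M := by
  rw [Module.notMem_support_iff]
  constructor
  · intro h
    haveI hsub := (fmEquiv A B M P).symm.injective.subsingleton
    haveI : Module.Finite (Localization.AtPrime P.asIdeal) (LocalizedModule P.asIdeal.primeCompl M) :=
      Module.Finite.of_isLocalizedModule P.asIdeal.primeCompl (LocalizedModule.mkLinearMap P.asIdeal.primeCompl M)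
    have htop : J A B P • (⊤ : Submodule (Localization.AtPrime P.asIdeal)
        (LocalizedModule P.asIdeal.primeCompl M)) = ⊤ := Submodule.Quotient.subsingleton_iff.1 hsub
    rw [← (Submodule.subsingleton_iff (Localization.AtPrime P.asIdeal)), ← subsingleton_iff_bot_eq_top]
    exact (Submodule.eq_bot_of_le_smul_of_le_jacobson_bot _ _ Module.Finite.fg_top htop.ge
      ((J_le A B P).trans (IsLocalRing.maximalIdeal_le_jacobson _))).symm
  · intro h
    exact (fmEquiv A B M P).injective.subsingleton

variable [Algebra.FinitePresentation A B]

theorem projective_fm_iff (M : Type u) [AddCommGroup M] [Module B M] [Module A M] [IsScalarTower A B M]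
    [Module.FinitePresentation B M] [Module.Flat A M] (P : PrimeSpectrum B) :
    Module.Projective (Fq A B P) (FM A B M P) ↔ P ∈ Module.freeLocus B M := by
  let B' := Localization.AtPrime P.asIdeal
  let X := LocalizedModule P.asIdeal.primeCompl M
  constructor
  · intro hproj
    let p := P.asIdeal.under A
    let R' := Localization.AtPrime p
    let : Algebra R' B' := Localization.AtPrime.algebraOfLiesOver p P.asIdeal
    have hRB : ∀ r, algebraMap B B' (algebraMap A B r) = algebraMap R' B' (algebraMap A R' r) := fun r ↦
      (Localization.localRingHom_to_map p P.asIdeal (algebraMap A B) rfl r).symm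
    have : IsLocalHom (algebraMap R' B') := Localization.isLocalHom_localRingHom p P.asIdeal (algebraMap A B) rfl
    let : Module R' X := Module.compHom X (algebraMap R' B')
    have : IsScalarTower R' B' X := IsScalarTower.of_algebraMap_smul fun _ _ ↦ rfl
    have : IsScalarTower A R' X := IsScalarTower.of_algebraMap_smul fun r m ↦ by
      change algebraMap R' B' (algebraMap A R' r) • m = r • m
      rw [← hRB, algebraMap_smul, algebraMap_smul]
    have : Module.Flat A X :=
      S0422.flat_localized P.asIdeal.primeCompl (LocalizedModule.mkLinearMap P.asIdeal.primeCompl M)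
    have : Module.Flat R' X := (Module.flat_iff_of_isLocalization R' p.primeCompl X).2 ‹_›
    let J' : Ideal B' := (IsLocalRing.maximalIdeal R').map (algebraMap R' B')
    have hJ : J' = J A B P := by
      show (IsLocalRing.maximalIdeal R').map (algebraMap R' B') = _
      rw [← Localization.AtPrime.map_eq_maximalIdeal, Ideal.map_map, J]
      refine congrArg (fun φ => p.map φ) (RingHom.ext fun r => ?_)
      rw [RingHom.comp_apply, ← hRB, ← IsScalarTower.algebraMap_apply A B B']
    have hfib0 : Module.Flat (B' ⧸ J A B P) (X ⧸ J A B P • (⊤ : Submodule B' X)) :=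
      Module.Flat.of_linearEquiv
        ((fmEquiv A B M P).extendScalarsOfSurjective (S := B' ⧸ J A B P) Ideal.Quotient.mk_surjective).symm
    have hfib : Module.Flat (B' ⧸ J') (X ⧸ J' • (⊤ : Submodule B' X)) := by rw [hJ]; exact hfib0
    have : Module.Flat B' X := Lib.Flat55.Localized.flat_of_flat_fibre (R := A) (B := B)
      (C := B) (R' := R') (B' := B') (C' := B') p.primeCompl P.asIdeal.primeCompl P.asIdeal hRB (fun _ ↦ by simp)
      (LocalizedModule.mkLinearMap P.asIdeal.primeCompl M) hfib
    haveI : Module.Finite B' X :=
      Module.Finite.of_isLocalizedModule P.asIdeal.primeCompl (LocalizedModule.mkLinearMap P.asIdeal.primeCompl M)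
    exact Module.free_of_flat_of_isLocalRing
  · intro (h : Module.Free B' X)
    haveI : Module.Free B' (B' ⊗[B] M) :=
      Module.Free.of_equiv (LocalizedModule.equivTensorProduct P.asIdeal.primeCompl M)
    exact Module.Projective.of_equiv
      (TensorProduct.AlgebraTensorModule.cancelBaseChange B B' (Fq A B P) (Fq A B P) M)

variable [Module.Flat A B]

omit [Algebra.FinitePresentation A B] in
theorem baseChange_injective (P : PrimeSpectrum B) {K F M : Type u} [AddCommGroup K] [Module B K]
    [AddCommGroup F] [Module B F] [Module.Flat B F] [AddCommGroup M] [Module B M] [Module A M]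
    [IsScalarTower A B M] [Module.Flat A M] (u : K →ₗ[B] F) (f : F →ₗ[B] M) (hu : Function.Injective u)
    (huf : Function.Exact u f) (hf : Function.Surjective f) :
    Function.Injective (u.baseChange (Fq A B P)) := by
  let C := Localization.AtPrime P.asIdeal
  haveI : Module.Flat A C := Module.Flat.trans A B C
  let uC := u.baseChange C
  have huC : Function.Injective uC := Module.Flat.lTensor_preserves_injective_linearMap u hu
  let W := LinearMap.range uC
  have hex : Function.Exact uC (f.baseChange C) := lTensor_exact C huf hf
  haveI : Module.Flat A (C ⊗[B] M) := by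
    haveI : Module.Flat A (LocalizedModule P.asIdeal.primeCompl M) :=
      S0422.flat_localized P.asIdeal.primeCompl (LocalizedModule.mkLinearMap P.asIdeal.primeCompl M)
    exact Module.Flat.of_linearEquiv
      (((LocalizedModule.equivTensorProduct P.asIdeal.primeCompl M).symm).restrictScalars A)
  haveI : Module.Flat A ((C ⊗[B] F) ⧸ W) := Module.Flat.of_linearEquiv
    ((Submodule.quotEquivOfEq W _ (LinearMap.exact_iff.1 hex).symm ≪≫ₗ
      (f.baseChange C).quotKerEquivOfSurjective (LinearMap.lTensor_surjective C hf)).restrictScalars A)
  haveI : Module.Flat A (C ⊗[B] F) := Module.Flat.trans A C (C ⊗[B] F)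
  haveI : Algebra.IsPushout A (A ⧸ P.asIdeal.under A) C (Fq A B P) := by
    letI : Algebra C ((A ⧸ P.asIdeal.under A) ⊗[A] C) := Algebra.TensorProduct.rightAlgebra
    refine Algebra.IsPushout.of_equiv
      (Algebra.TensorProduct.quotIdealMapEquivQuotTensor C (P.asIdeal.under A)).symm (RingHom.ext fun x => ?_)
    show (Algebra.TensorProduct.quotIdealMapEquivQuotTensor C (P.asIdeal.under A)).symm (1 ⊗ₜ[A] x) = _
    rw [AlgEquiv.symm_apply_eq, Ideal.Quotient.algebraMap_eq,
      Algebra.TensorProduct.quotIdealMapEquivQuotTensor_mk]
  have h1 := Lib.FlatFPSyzygy.Basic.baseChange_subtype_injective A (A ⧸ P.asIdeal.under A) C (Fq A B P) W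
  have h2 : Function.Injective (uC.baseChange (Fq A B P)) := by
    have : uC = W.subtype ∘ₗ (LinearEquiv.ofInjective uC huC).toLinearMap := LinearMap.ext fun _ => rfl
    rw [this, LinearMap.baseChange_comp, LinearMap.coe_comp]
    exact h1.comp ((LinearEquiv.ofInjective uC huC).baseChange C (Fq A B P) _ _).injective
  let cK := TensorProduct.AlgebraTensorModule.cancelBaseChange B C (Fq A B P) (Fq A B P) K
  let cF := TensorProduct.AlgebraTensorModule.cancelBaseChange B C (Fq A B P) (Fq A B P) F
  have key : ∀ z, u.baseChange (Fq A B P) (cK z) = cF (uC.baseChange (Fq A B P) z) := by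
    intro z
    induction z using TensorProduct.induction_on with
    | zero => simp
    | add a b ha hb => simp only [map_add, ha, hb]
    | tmul a b =>
      induction b using TensorProduct.induction_on with
      | zero => simp
      | add p q hp hq => simp only [tmul_add, map_add, hp, hq]
      | tmul p q => simp [cK, cF, uC]
  intro a b hab
  obtain ⟨a, rfl⟩ := cK.surjective a
  obtain ⟨b, rfl⟩ := cK.surjective b
  rw [key, key] at hab
  rw [h2 (cF.injective hab)]

theorem isOpen_lt_succ : ∀ (j : ℕ) (M : Type u) [AddCommGroup M] [Module B M] [Module A M] [IsScalarTower A B M]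
    [Module.FinitePresentation B M] [Module.Flat A M],
    IsOpen {P : PrimeSpectrum B | HasProjectiveDimensionLT (ModuleCat.of (Fq A B P) (FM A B M P)) (j + 1)} := by
  intro j
  induction j with
  | zero =>
    intro M _ _ _ _ _ _
    convert Module.isOpen_freeLocus (R := B) (M := M) using 1
    ext P
    simp only [Set.mem_setOf_eq, Nat.zero_add, ← projective_iff_hasProjectiveDimensionLT_one]
    rw [← projective_fm_iff A B M P]
    exact (IsProjective.iff_projective (R := Fq A B P) (FM A B M P)).symm
  | succ j ih =>
    intro M _ _ _ _ _ _
    obtain ⟨n, f, hf⟩ := Module.Finite.exists_fin' B M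
    haveI := Lib.FlatFPSyzygy.Basic.ker_finitePresentation (R := A) f hf
    haveI : Module.Flat A (Fin n → B) := Module.Flat.trans A B (Fin n → B)
    haveI : Module.Flat A ↥(LinearMap.ker f) :=
      Lib.FlatCx.Ker.flat_of_exact ((LinearMap.ker f).subtype.restrictScalars A) (f.restrictScalars A)
        Subtype.val_injective hf (fun x => LinearMap.exact_subtype_ker_map f x)
    convert ih ↥(LinearMap.ker f) using 1
    ext P
    simp only [Set.mem_setOf_eq]
    let T := Fq A B P
    let g : FM A B ↥(LinearMap.ker f) P →ₗ[T] FM A B (Fin n → B) P := (LinearMap.ker f).subtype.baseChange T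
    let g' : FM A B (Fin n → B) P →ₗ[T] FM A B M P := f.baseChange T
    have hg : Function.Injective g :=
      baseChange_injective A B P _ f (Submodule.injective_subtype _) (LinearMap.exact_subtype_ker_map f) hf
    have hg' : Function.Surjective g' := LinearMap.lTensor_surjective T hf
    have hex : Function.Exact g g' := lTensor_exact T (LinearMap.exact_subtype_ker_map f) hf
    let S' : ShortComplex (ModuleCat.{u} T) :=
      ShortComplex.mk (ModuleCat.ofHom g) (ModuleCat.ofHom g') (ModuleCat.hom_ext hex.linearMap_comp_eq_zero)
    have hS' : S'.ShortExact :=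
      { exact := (ShortComplex.ShortExact.moduleCat_exact_iff_function_exact S').2 hex
        mono_f := (ModuleCat.mono_iff_injective _).2 hg
        epi_g := (ModuleCat.epi_iff_surjective _).2 hg' }
    exact hS'.hasProjectiveDimensionLT_X₃_iff j
      ((IsProjective.iff_projective (R := T) (FM A B (Fin n → B) P)).1 inferInstance)

theorem isOpen_lt (M : Type u) [AddCommGroup M] [Module B M] [Module A M] [IsScalarTower A B M]
    [Module.FinitePresentation B M] [Module.Flat A M] (n : ℕ) :
    IsOpen {P : PrimeSpectrum B | projectiveDimension (ModuleCat.of (Fq A B P) (FM A B M P)) < n} := by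
  simp only [projectiveDimension_lt_iff]
  cases n with
  | zero =>
    simp only [hasProjectiveDimensionLT_zero_iff_isZero, ModuleCat.isZero_iff_subsingleton]
    convert (Module.isClosed_support (R := B) (M := M)).isOpen_compl using 1
    ext P
    exact subsingleton_iff A B M P
  | succ j => exact isOpen_lt_succ A B j M

theorem upperSemicontinuous (M : Type u) [AddCommGroup M] [Module B M] [Module A M] [IsScalarTower A B M]
    [Module.FinitePresentation B M] [Module.Flat A M] :
    UpperSemicontinuous fun P : PrimeSpectrum B => projectiveDimension (ModuleCat.of (Fq A B P) (FM A B M P)) := by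
  rw [upperSemicontinuous_iff_isOpen_preimage]
  intro y
  induction y with
  | bot => convert isOpen_empty; ext; simp
  | coe y =>
    induction y with
    | coe n => exact isOpen_lt A B M n
    | top =>
      convert isOpen_iUnion (fun n : ℕ => isOpen_lt A B M n) using 1
      ext P
      simp only [Set.mem_preimage, Set.mem_Iio, Set.mem_iUnion, Set.mem_setOf_eq]
      constructor
      · intro h
        generalize projectiveDimension (ModuleCat.of (Fq A B P) (FM A B M P)) = d at h ⊢
        induction d with
        | bot => exact ⟨0, WithBot.bot_lt_coe _⟩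
        | coe d =>
          induction d with
          | top => exact absurd h (lt_irrefl _)
          | coe n => exact ⟨n + 1, by exact_mod_cast Nat.lt_succ_self n⟩
      · rintro ⟨n, hn⟩
        exact hn.trans_le (WithBot.coe_le_coe.2 le_top)

end Groth.Agent.H22.FibrePD
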