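import Groth.Agent.H22.FibreRegular
import Groth.Agent.H47.FlatModel
import Mathlib

/-!
Flat finitely presented modules with (S₁) fibres: an element regular on the fibres is regular.
-/

set_option autoImplicit false
set_option maxHeartbeats 1000000
universe u

open TensorProduct

namespace Groth.Agent.H22.FibrePure

/-- The comparison between a presented module and its base change. -/
theorem present (A M : Type u) [CommRing A] [AddCommGroup M] [Module A M] {n m : ℕ}
    [Module (MvPolynomial (Fin n) A) M] [IsScalarTower A (MvPolynomial (Fin n) A) M]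
    (C : Type u) [CommRing C] [Algebra C A] [IsNoetherianRing C]
    (T₁ : Set (Fin m → MvPolynomial (Fin n) C))
    (hflat : Module.Flat C ((Fin m → MvPolynomial (Fin n) C) ⧸ Submodule.span (MvPolynomial (Fin n) C) T₁))
    (θ : ((Fin m → MvPolynomial (Fin n) A) ⧸ Submodule.span (MvPolynomial (Fin n) A)
      ((fun (v : Fin m → MvPolynomial (Fin n) C) => fun i => MvPolynomial.map (algebraMap C A) (v i)) '' T₁))
        ≃ₗ[MvPolynomial (Fin n) A] M) (fC : MvPolynomial (Fin n) C) (op : M → M)
    (hop : ∀ x, op x = MvPolynomial.map (algebraMap C A) fC • x) :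
    ∃ (S : Type u) (_ : CommRing S) (_ : Algebra C S)
      (N : Type u) (_ : AddCommGroup N) (_ : Module C N) (_ : Module S N) (_ : IsScalarTower C S N),
      IsNoetherianRing S ∧ Module.Finite S N ∧ Module.Flat C N ∧
      ∃ (f : S) (j : N → M) (Ψ : N ⊗[C] A ≃+ M),
        (∀ n c, Ψ (n ⊗ₜ[C] c) = c • j n) ∧ ∀ z, Ψ (f • z) = op (Ψ z) := by
  classical
  let P := MvPolynomial (Fin n) A
  let μ : (Fin m → MvPolynomial (Fin n) C) → (Fin m → P) := fun v i => MvPolynomial.map (algebraMap C A) (v i)
  let W : Submodule (MvPolynomial (Fin n) C) (Fin m → (MvPolynomial (Fin n) C)) := Submodule.span (MvPolynomial (Fin n) C) T₁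
  let V : Submodule P (Fin m → P) := Submodule.span P (μ '' T₁)
  have hμ0 : ∀ v ∈ W, μ v ∈ V := by
    intro v hv
    induction hv using Submodule.span_induction with
    | mem v hv => exact Submodule.subset_span ⟨v, hv, rfl⟩
    | zero =>
      have : μ 0 = 0 := funext fun i => map_zero _
      rw [this]; exact V.zero_mem
    | add x y _ _ hx hy =>
      have : μ (x + y) = μ x + μ y := funext fun i => map_add _ _ _
      rw [this]; exact V.add_mem hx hy
    | smul c x _ hx =>
      have : μ (c • x) = MvPolynomial.map (algebraMap C A) c • μ x := funext fun i => map_mul _ _ _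
      rw [this]; exact V.smul_mem _ hx
  let j₀ : (Fin m → (MvPolynomial (Fin n) C)) →+ ((Fin m → P) ⧸ V) :=
    V.mkQ.toAddMonoidHom.comp
      { toFun := μ
        map_zero' := funext fun i => map_zero _
        map_add' := fun x y => funext fun i => map_add _ _ _ }
  let j : ((Fin m → (MvPolynomial (Fin n) C)) ⧸ W) → M := fun x => θ (QuotientAddGroup.lift W.toAddSubgroup j₀
    (fun v hv => (Submodule.Quotient.mk_eq_zero V).2 (hμ0 v hv)) x)
  have hj : ∀ v, j (Submodule.Quotient.mk v) = θ (Submodule.Quotient.mk (μ v)) := fun v => rfl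
  have hjadd : ∀ x y, j (x + y) = j x + j y := fun x y => by
    obtain ⟨v, rfl⟩ := Submodule.Quotient.mk_surjective W x
    obtain ⟨v', rfl⟩ := Submodule.Quotient.mk_surjective W y
    have : μ (v + v') = μ v + μ v' := funext fun i => map_add _ _ _
    rw [← Submodule.Quotient.mk_add, hj, hj, hj, this, Submodule.Quotient.mk_add, map_add]
  have hjsmul : ∀ (c : C) x, j (c • x) = algebraMap C A c • j x := by
    intro c x
    obtain ⟨v, rfl⟩ := Submodule.Quotient.mk_surjective W x
    rw [← Submodule.Quotient.mk_smul, hj, hj]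
    have : μ (c • v) = algebraMap C A c • μ v := funext fun i => by
      simp only [μ, Pi.smul_apply, MvPolynomial.smul_eq_C_mul, map_mul, MvPolynomial.map_C]
    rw [this, Submodule.Quotient.mk_smul]
    exact (θ.restrictScalars A).map_smul _ _
  let Ψ₀ : ((Fin m → (MvPolynomial (Fin n) C)) ⧸ W) ⊗[C] A →+ M := TensorProduct.liftAddHom
    { toFun := fun x => { toFun := fun c => c • j x, map_zero' := zero_smul A _, map_add' := fun c d => add_smul c d _ }
      map_zero' := by
        refine AddMonoidHom.ext fun c => ?_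
        change c • j 0 = 0
        have := hjadd 0 0
        rw [add_zero] at this
        rw [left_eq_add] at this
        rw [this, smul_zero]
      map_add' := fun x y => AddMonoidHom.ext fun c => by
        change c • j (x + y) = c • j x + c • j y
        rw [hjadd, smul_add] }
    (fun r x c => by
      change c • j (r • x) = (r • c) • j x
      rw [hjsmul, smul_smul, Algebra.smul_def, mul_comm])
  have hΨ₀ : ∀ x c, Ψ₀ (x ⊗ₜ[C] c) = c • j x := fun x c => rfl
  -- compare with the free modules
  let vec := H47.GenericFreeDomain.vecEquiv (R := A) (R₀ := C) (n := n) (m := m)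
  let q : A ⊗[C] (Fin m → (MvPolynomial (Fin n) C)) →ₗ[C] ((Fin m → (MvPolynomial (Fin n) C)) ⧸ W) ⊗[C] A :=
    (TensorProduct.comm C A _).toLinearMap ∘ₗ (W.mkQ.restrictScalars C).lTensor A
  have hq : Function.Surjective q :=
    (TensorProduct.comm C A _).surjective.comp (LinearMap.lTensor_surjective A W.mkQ_surjective)
  have hΨq : ∀ w, Ψ₀ (q w) = θ (Submodule.Quotient.mk (vec w)) := by
    intro w
    induction w using TensorProduct.induction_on with
    | zero => simp
    | add x y hx hy => simp only [map_add, Submodule.Quotient.mk_add, hx, hy]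
    | tmul c v =>
      change c • j (Submodule.Quotient.mk v) = _
      have hv : vec (c ⊗ₜ v) = c • μ v := funext fun i => H47.GenericFreeDomain.vecEquiv_tmul c v i
      rw [hj, hv, Submodule.Quotient.mk_smul]
      exact ((θ.restrictScalars A).map_smul _ _).symm
  have hkey : ∀ y ∈ V, ∃ w, vec w = y ∧ q w = 0 := by
    intro y hy
    induction hy using Submodule.span_induction with
    | mem y hy =>
      obtain ⟨v, hv, rfl⟩ := hy
      refine ⟨1 ⊗ₜ v, funext fun i => ?_, ?_⟩
      · rw [H47.GenericFreeDomain.vecEquiv_tmul, one_smul]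
      · simp [q, (Submodule.Quotient.mk_eq_zero W).2 (Submodule.subset_span hv)]
    | zero => exact ⟨0, map_zero _, map_zero _⟩
    | add x y _ _ hx hy =>
      obtain ⟨v, hv, hv'⟩ := hx
      obtain ⟨w, hw, hw'⟩ := hy
      exact ⟨v + w, by rw [map_add, hv, hw], by rw [map_add, hv', hw', add_zero]⟩
    | smul p y hmem hy =>
      clear hmem
      obtain ⟨w, rfl, hw⟩ := hy
      obtain ⟨p, rfl⟩ := (MvPolynomial.algebraTensorAlgEquiv C A (σ := Fin n)).surjective p
      induction p using TensorProduct.induction_on with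
      | zero => exact ⟨0, by simp, map_zero _⟩
      | add p p' hp hp' =>
        obtain ⟨v, hv, hv'⟩ := hp
        obtain ⟨v', hv1, hv1'⟩ := hp'
        exact ⟨v + v', by rw [map_add, hv, hv1, map_add, add_smul], by rw [map_add, hv', hv1', add_zero]⟩
      | tmul r p₀ =>
        refine ⟨TensorProduct.map (LinearMap.mulLeft C r) ((LinearMap.lsmul (MvPolynomial (Fin n) C) (Fin m → (MvPolynomial (Fin n) C)) p₀).restrictScalars C) w, ?_, ?_⟩
        · clear hw
          induction w using TensorProduct.induction_on with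
          | zero => simp
          | add x y hx hy => simp only [map_add, smul_add, hx, hy]
          | tmul c v =>
            funext i
            simp [vec, H47.GenericFreeDomain.vecEquiv_tmul, MvPolynomial.smul_eq_C_mul]
            ring
        · have hcomm : ∀ w, q (TensorProduct.map (LinearMap.mulLeft C r)
              ((LinearMap.lsmul (MvPolynomial (Fin n) C) (Fin m → (MvPolynomial (Fin n) C)) p₀).restrictScalars C) w) =
              p₀ • (LinearMap.mulLeft C r).lTensor ((Fin m → (MvPolynomial (Fin n) C)) ⧸ W) (q w) := by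
            intro w
            induction w using TensorProduct.induction_on with
            | zero => simp
            | add x y hx hy => simp only [map_add, smul_add, hx, hy]
            | tmul c v => simp [q, TensorProduct.smul_tmul']
          rw [hcomm, hw, map_zero, smul_zero]
  have hbij : Function.Bijective Ψ₀ := by
    refine ⟨(injective_iff_map_eq_zero _).2 fun z hz => ?_, fun x => ?_⟩
    · obtain ⟨w, rfl⟩ := hq z
      rw [hΨq, LinearEquiv.map_eq_zero_iff, Submodule.Quotient.mk_eq_zero] at hz
      obtain ⟨w', hw, hw'⟩ := hkey _ hz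
      rw [← vec.injective hw, hw']
    · obtain ⟨y, hy⟩ := Submodule.Quotient.mk_surjective V (θ.symm x)
      exact ⟨q (vec.symm y), by rw [hΨq, vec.apply_symm_apply, hy, θ.apply_symm_apply]⟩
  refine ⟨MvPolynomial (Fin n) C, inferInstance, inferInstance, (Fin m → MvPolynomial (Fin n) C) ⧸ W,
    inferInstance, inferInstance, inferInstance, inferInstance, inferInstance, inferInstance, hflat,
    fC, j, AddEquiv.ofBijective Ψ₀ hbij, hΨ₀, fun z => ?_⟩
  change Ψ₀ (fC • z) = op (Ψ₀ z)
  rw [hop]
  induction z using TensorProduct.induction_on with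
  | zero => simp
  | add x y hx hy => simp only [smul_add, map_add, hx, hy]
  | tmul x c =>
    obtain ⟨v, rfl⟩ := Submodule.Quotient.mk_surjective W x
    rw [TensorProduct.smul_tmul', hΨ₀, hΨ₀, ← Submodule.Quotient.mk_smul, hj, hj,
      smul_comm (MvPolynomial.map (algebraMap C A) fC) c]
    have : μ (fC • v) = MvPolynomial.map (algebraMap C A) fC • μ v := funext fun i => map_mul _ _ _
    rw [this, Submodule.Quotient.mk_smul, map_smul]

/-- A module presented over a Noetherian subring, compatibly with a given operator. -/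
theorem exists_model (A B M : Type u) [CommRing A] [CommRing B] [Algebra A B]
    [Algebra.FinitePresentation A B] [AddCommGroup M] [Module B M] [Module A M]
    [IsScalarTower A B M] [Module.FinitePresentation B M] [Module.Flat A M] (a : B) :
    ∃ (C : Type u) (_ : CommRing C) (_ : Algebra C A) (S : Type u) (_ : CommRing S) (_ : Algebra C S)
      (N : Type u) (_ : AddCommGroup N) (_ : Module C N) (_ : Module S N) (_ : IsScalarTower C S N),
      IsNoetherianRing C ∧ IsNoetherianRing S ∧ Module.Finite S N ∧ Module.Flat C N ∧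
      ∃ (f : S) (j : N → M) (Ψ : N ⊗[C] A ≃+ M),
        (∀ n c, Ψ (n ⊗ₜ[C] c) = c • j n) ∧ ∀ z, Ψ (f • z) = a • Ψ z := by
  classical
  obtain ⟨n, π, hπ, hker⟩ := ‹Algebra.FinitePresentation A B›.out
  let P := MvPolynomial (Fin n) A
  letI : Algebra P B := π.toRingHom.toAlgebra
  letI : Module P M := Module.compHom M π.toRingHom
  have : IsScalarTower P B M := IsScalarTower.of_algebraMap_smul fun p y => rfl
  have : IsScalarTower A P M := ⟨fun r p y => by
    show π (r • p) • y = r • π p • y
    rw [map_smul, smul_assoc]⟩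
  have : Module.FinitePresentation P B :=
    Module.finitePresentation_of_surjective (Algebra.linearMap P B) hπ hker
  have : Module.FinitePresentation P M := Module.FinitePresentation.trans P M B
  obtain ⟨m, K, e, hK⟩ := Module.FinitePresentation.exists_fin P M
  obtain ⟨T, hT⟩ := hK
  obtain ⟨f, hf⟩ := hπ a
  let coef : Finset A := (T.biUnion fun t => Finset.univ.biUnion fun i =>
    (t i).support.image fun d => (t i).coeff d) ∪ f.support.image fun d => f.coeff d
  let R₀ : Subalgebra ℤ A := Algebra.adjoin ℤ (coef : Set A)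
  have hR₀ : R₀.FG := ⟨coef, rfl⟩
  haveI : IsNoetherianRing R₀ :=
    have : Algebra.FiniteType ℤ R₀ := R₀.fg_iff_finiteType.1 hR₀
    Algebra.FiniteType.isNoetherianRing ℤ R₀
  obtain ⟨f₀, hf₀⟩ : ∃ p : MvPolynomial (Fin n) R₀, MvPolynomial.map (algebraMap R₀ A) p = f :=
    MvPolynomial.mem_range_map_iff_coeffs_subset.2 fun c hc => by
      obtain ⟨d, hd, rfl⟩ := MvPolynomial.mem_coeffs_iff.1 hc
      exact ⟨⟨_, Algebra.subset_adjoin (Finset.mem_union_right _ (Finset.mem_image_of_mem _ hd))⟩, rfl⟩
  have hlift : (T : Set (Fin m → P)) ⊆ (fun (t : Fin m → MvPolynomial (Fin n) R₀) => fun i =>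
      MvPolynomial.map (algebraMap R₀ A) (t i)) '' Set.univ := by
    intro t ht
    have : ∀ i, ∃ p : MvPolynomial (Fin n) R₀, MvPolynomial.map (algebraMap R₀ A) p = t i := fun i => by
      refine MvPolynomial.mem_range_map_iff_coeffs_subset.2 fun c hc => ?_
      obtain ⟨d, hd, rfl⟩ := MvPolynomial.mem_coeffs_iff.1 hc
      exact ⟨⟨_, Algebra.subset_adjoin (Finset.mem_union_left _ (Finset.mem_biUnion.2 ⟨t, ht, Finset.mem_biUnion.2
        ⟨i, Finset.mem_univ _, Finset.mem_image_of_mem _ hd⟩⟩))⟩, rfl⟩
    choose p hp using this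
    exact ⟨p, trivial, funext hp⟩
  obtain ⟨T₀, -, hT₀⟩ := Finset.subset_set_image_iff.1 hlift
  have hT₀' : (T : Set (Fin m → P)) = (fun (t : Fin m → MvPolynomial (Fin n) R₀) => fun i =>
      MvPolynomial.map (algebraMap R₀ A) (t i)) '' T₀ := by rw [← hT₀, Finset.coe_image]
  obtain ⟨eA⟩ := H47.GenericFreeDomain.nonempty_quotEquiv (R := A) T₀ (T : Set (Fin m → P)) hT₀'
  have hflatA : Module.Flat A (A ⊗[R₀] H47.FlatStage.Pres T₀) :=
    Module.Flat.of_linearEquiv (eA.trans (((Submodule.quotEquivOfEq _ _ hT).trans e.symm).restrictScalars A))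
  obtain ⟨C, hCfg, hCflat⟩ := H47.FlatModel.exists_fg_subalgebra_flat T₀ A hflatA
  haveI : IsNoetherianRing C :=
    have : Algebra.FiniteType R₀ C := C.fg_iff_finiteType.1 hCfg
    Algebra.FiniteType.isNoetherianRing R₀ C
  let μ : (Fin m → (MvPolynomial (Fin n) C)) → (Fin m → P) := fun v i => MvPolynomial.map (algebraMap C A) (v i)
  let T₁ : Set (Fin m → (MvPolynomial (Fin n) C)) := (fun (t : Fin m → MvPolynomial (Fin n) R₀) => fun i =>
    MvPolynomial.map (algebraMap R₀ C) (t i)) '' (T₀ : Set (Fin m → MvPolynomial (Fin n) R₀))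
  have hμT : (T : Set (Fin m → P)) = μ '' T₁ := by
    rw [hT₀', Set.image_image]
    refine Set.image_congr fun t _ => funext fun i => ?_
    simp only [μ, MvPolynomial.map_map, ← IsScalarTower.algebraMap_eq]
  obtain ⟨eC⟩ := H47.GenericFreeDomain.nonempty_quotEquiv (R := C) T₀ T₁ rfl
  let fC : (MvPolynomial (Fin n) C) := MvPolynomial.map (algebraMap R₀ C) f₀
  have hfC : MvPolynomial.map (algebraMap C A) fC = f := by
    rw [MvPolynomial.map_map, ← IsScalarTower.algebraMap_eq, hf₀]
  obtain ⟨S, i1, i2, N, i3, i4, i5, i6, h1, h2, h3, g, j, Ψ, h4, h5⟩ := present A M C T₁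
    (Module.Flat.of_linearEquiv eC.symm)
    ((Submodule.quotEquivOfEq _ _ ((congrArg (Submodule.span P) hμT.symm).trans hT)).trans e.symm)
    fC (fun x => a • x) (fun x => by rw [hfC, ← hf]; rfl)
  exact ⟨C, inferInstance, inferInstance, S, i1, i2, N, i3, i4, i5, i6, inferInstance, h1, h2, h3,
    g, j, Ψ, h4, h5⟩

theorem main (A B M : Type u) [CommRing A] [CommRing B] [Algebra A B]
    [Algebra.FinitePresentation A B] [AddCommGroup M] [Module B M] [Module A M]
    [IsScalarTower A B M] [Module.FinitePresentation B M] [Module.Flat A M]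
    (hS1 : ∀ (p : Ideal A) [p.IsPrime],
      associatedPrimes (B ⊗[A] p.ResidueField) ((B ⊗[A] p.ResidueField) ⊗[B] M) ⊆
        (Module.annihilator (B ⊗[A] p.ResidueField) ((B ⊗[A] p.ResidueField) ⊗[B] M)).minimalPrimes)
    (a : B)
    (ha : ∀ (p : Ideal A) [p.IsPrime],
      ∀ P ∈ (Module.annihilator (B ⊗[A] p.ResidueField) ((B ⊗[A] p.ResidueField) ⊗[B] M)).minimalPrimes,
        a ⊗ₜ[A] (1 : p.ResidueField) ∉ P) :
    IsSMulRegular M a := by
  obtain ⟨C, _, _, S, _, _, N, _, _, _, _, hC, hS, hN, hflat, f, j, Ψ, hΨ, hΨf⟩ := exists_model A B M a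
  haveI := hC; haveI := hS; haveI := hN; haveI := hflat
  refine isSMulRegular_iff_right_eq_zero_of_smul.2 fun x hx => ?_
  suffices h : ∀ (p : Ideal A) [p.IsPrime], FibreRegular.RegAt (N := N) f (p.comap (algebraMap C A)) by
    obtain ⟨z, rfl⟩ := Ψ.surjective x
    rw [← hΨf] at hx
    rw [FibreRegular.regular f h z (Ψ.injective (by rw [hx, map_zero])), map_zero]
  intro p _ z hz
  set κ := p.ResidueField
  set κ₀ := (p.comap (algebraMap C A)).ResidueField
  let ι : κ₀ →ₗ[C] κ :=
    { toFun := Ideal.ResidueField.map (p.comap (algebraMap C A)) p (algebraMap C A) rfl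
      map_add' := map_add _
      map_smul' := fun c x => by
        rw [Algebra.smul_def, map_mul, Algebra.smul_def, RingHom.id_apply]
        congr 1
        rw [Ideal.ResidueField.map_algebraMap, ← IsScalarTower.algebraMap_apply] }
  have hι : Function.Injective (ι.lTensor N) :=
    Module.Flat.lTensor_preserves_injective_linearMap ι
      (RingHom.injective (Ideal.ResidueField.map (p.comap (algebraMap C A)) p (algebraMap C A) rfl))
  refine hι ?_
  rw [map_zero]
  set w := ι.lTensor N z
  have hw : f • w = 0 := by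
    have : ι.lTensor N (f • z) = f • w := by
      simp only [w]
      clear w hz
      induction z using TensorProduct.induction_on with
      | zero => simp
      | add x y hx hy => simp only [smul_add, map_add, hx, hy]
      | tmul x c => simp [TensorProduct.smul_tmul']
    rw [← this, hz, map_zero]
  clear_value w
  clear hz z hι
  -- the fibre of `M`
  let FB := B ⊗[A] κ
  let F := FB ⊗[B] M
  haveI : IsNoetherianRing FB := by
    haveI : IsNoetherianRing (κ ⊗[A] B) := Algebra.FiniteType.isNoetherianRing κ _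
    exact isNoetherianRing_of_ringEquiv _ (Algebra.TensorProduct.comm A κ B).toRingEquiv
  have hreg : IsSMulRegular F (a ⊗ₜ[A] (1 : κ) : FB) := by
    intro y₁ y₂ h12
    rw [← sub_eq_zero]
    have hy : (a ⊗ₜ[A] (1 : κ) : FB) • (y₁ - y₂) = 0 := by rw [smul_sub]; exact sub_eq_zero.2 h12
    generalize y₁ - y₂ = y at hy ⊢
    by_contra hne
    have hmem : (a ⊗ₜ[A] (1 : κ) : FB) ∈ ⋃ P ∈ associatedPrimes FB F, (P : Set FB) := by
      rw [biUnion_associatedPrimes_eq_zero_divisors]
      exact ⟨y, hne, hy⟩
    obtain ⟨P, hP, haP⟩ := Set.mem_iUnion₂.1 hmem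
    exact ha p P (hS1 p hP) haP
  have hjadd : ∀ x y : N, j (x + y) = j x + j y := fun x y => by
    have := Ψ.map_add (x ⊗ₜ[C] (1 : A)) (y ⊗ₜ[C] (1 : A))
    rwa [← TensorProduct.add_tmul, hΨ, hΨ, hΨ, one_smul, one_smul, one_smul] at this
  have hjsmul : ∀ (c : C) (x : N), j (c • x) = algebraMap C A c • j x := fun c x => by
    have := congrArg Ψ (TensorProduct.smul_tmul c x (1 : A))
    rwa [hΨ, hΨ, one_smul, Algebra.smul_def, mul_one] at this
  let Θ : N ⊗[C] κ →+ F := TensorProduct.liftAddHom
    { toFun := fun x => { toFun := fun k => ((1 : B) ⊗ₜ[A] k : FB) ⊗ₜ[B] j x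
                          map_zero' := by simp
                          map_add' := fun k l => by rw [TensorProduct.tmul_add, TensorProduct.add_tmul] }
      map_zero' := AddMonoidHom.ext fun k => by
        have := hjadd 0 0
        rw [add_zero, left_eq_add] at this
        change ((1 : B) ⊗ₜ[A] k : FB) ⊗ₜ[B] j 0 = 0
        rw [this, TensorProduct.tmul_zero]
      map_add' := fun x y => AddMonoidHom.ext fun k => by
        change ((1 : B) ⊗ₜ[A] k : FB) ⊗ₜ[B] j (x + y) = _
        rw [hjadd, TensorProduct.tmul_add]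
        rfl }
    (fun r x k => by
      change ((1 : B) ⊗ₜ[A] k : FB) ⊗ₜ[B] j (r • x) = ((1 : B) ⊗ₜ[A] (r • k) : FB) ⊗ₜ[B] j x
      rw [hjsmul, ← algebraMap_smul B (algebraMap C A r), ← TensorProduct.smul_tmul, algebraMap_smul,
        TensorProduct.smul_tmul', TensorProduct.smul_tmul, algebraMap_smul A r k])
  let Γ : M →+ κ →+ N ⊗[C] κ :=
    { toFun := fun x =>
        { toFun := fun k => ((LinearMap.mulRight C k) ∘ₗ (IsScalarTower.toAlgHom C A κ).toLinearMap).lTensor N (Ψ.symm x)
          map_zero' := by simp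
          map_add' := fun k l => by
            rw [← LinearMap.add_apply, ← LinearMap.lTensor_add, ← LinearMap.add_comp]
            congr 3
            ext y; simp [mul_add] }
      map_zero' := AddMonoidHom.ext fun k => by simp
      map_add' := fun x y => AddMonoidHom.ext fun k => by simp }
  let G : M ⊗[A] κ →+ N ⊗[C] κ := TensorProduct.liftAddHom Γ fun r x k => by
    obtain ⟨z, rfl⟩ := Ψ.surjective x
    induction z using TensorProduct.induction_on with
    | zero => simp
    | add x y hx hy => simp only [map_add, smul_add, AddMonoidHom.add_apply, hx, hy]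
    | tmul x c =>
      have hrc : r • Ψ (x ⊗ₜ[C] c) = Ψ (x ⊗ₜ[C] (r * c)) := by rw [hΨ, hΨ, smul_smul]
      rw [hrc]
      simp [Γ, Algebra.smul_def]
      congr 1
      ring
  let E : F ≃ₗ[B] M ⊗[A] κ :=
    (TensorProduct.comm B FB M).trans (TensorProduct.AlgebraTensorModule.cancelBaseChange A B B M κ)
  have hGE : ∀ w, G (E (Θ w)) = w := by
    intro w
    induction w using TensorProduct.induction_on with
    | zero => simp
    | add x y hx hy => simp only [map_add, hx, hy]
    | tmul x k =>
      have h1 : E (Θ (x ⊗ₜ[C] k)) = j x ⊗ₜ[A] k := by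
        change TensorProduct.AlgebraTensorModule.cancelBaseChange A B B M κ (j x ⊗ₜ[B] ((1 : B) ⊗ₜ[A] k)) = _
        simp
      rw [h1]
      change Γ (j x) k = _
      have h2 : Ψ.symm (j x) = x ⊗ₜ[C] (1 : A) := by rw [AddEquiv.symm_apply_eq, hΨ, one_smul]
      simp [Γ, h2]
  have hΘf : ∀ w, Θ (f • w) = (a ⊗ₜ[A] (1 : κ) : FB) • Θ w := by
    intro w
    induction w using TensorProduct.induction_on with
    | zero => simp
    | add x y hx hy => simp only [smul_add, map_add, hx, hy]
    | tmul x k =>
      have h1 : j (f • x) = a • j x := by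
        have := hΨf (x ⊗ₜ[C] (1 : A))
        rwa [TensorProduct.smul_tmul', hΨ, hΨ, one_smul, one_smul] at this
      change ((1 : B) ⊗ₜ[A] k : FB) ⊗ₜ[B] j (f • x) = (a ⊗ₜ[A] (1 : κ) : FB) • (((1 : B) ⊗ₜ[A] k : FB) ⊗ₜ[B] j x)
      rw [h1, ← TensorProduct.smul_tmul, TensorProduct.smul_tmul' (a ⊗ₜ[A] (1 : κ) : FB), smul_eq_mul,
        Algebra.TensorProduct.tmul_mul_tmul, TensorProduct.smul_tmul', smul_eq_mul, one_mul]
  have hzero : Θ w = 0 := (isSMulRegular_iff_right_eq_zero_of_smul.1 hreg) _ (by rw [← hΘf, hw, map_zero])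
  rw [← hGE w, hzero, map_zero, map_zero]

end Groth.Agent.H22.FibrePure
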