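import Groth.Agent.H22.SupportBC
import Mathlib.RingTheory.Spectrum.Prime.FreeLocus
import Mathlib.RingTheory.Nilpotent.Lemmas
import Mathlib.LinearAlgebra.Dimension.Finrank
import Mathlib.LinearAlgebra.Dimension.OrzechProperty
import Mathlib.LinearAlgebra.FiniteDimensional.Lemmas
import Mathlib.LinearAlgebra.LinearIndependent.Lemmas

/-! Over a reduced ring, locally constant fibre rank implies projective. -/

open TensorProduct LinearMap

namespace Groth.Agent.H22.FibreRank

universe u

variable {R : Type u} [CommRing R] {M : Type u} [AddCommGroup M] [Module R M] [Module.Finite R M]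

theorem exists_local_presentation [IsReduced R]
    (hlc : IsLocallyConstant fun p : PrimeSpectrum R =>
      Module.finrank p.asIdeal.ResidueField (p.asIdeal.ResidueField ⊗[R] M))
    (p : PrimeSpectrum R) :
    ∃ (g : R) (n : ℕ) (φ : (Fin n → R) →ₗ[R] M) (ψ : M →ₗ[R] (Fin n → R)),
      g ∉ p.asIdeal ∧ φ ∘ₗ ψ = (g * g) • LinearMap.id := by
  classical
  let k := p.asIdeal.ResidueField
  have hspan : Submodule.span k (Set.range fun m : M => (1 : k) ⊗ₜ[R] m) = ⊤ := by
    refine eq_top_iff.2 fun x _ => ?_
    induction x with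
    | zero => exact zero_mem _
    | add x y hx hy => exact add_mem (hx trivial) (hy trivial)
    | tmul a m =>
      rw [show a ⊗ₜ[R] m = a • ((1 : k) ⊗ₜ[R] m) by simp [smul_tmul']]
      exact Submodule.smul_mem _ _ (Submodule.subset_span ⟨m, rfl⟩)
  let b := Module.Basis.ofSpan hspan.ge
  have : Finite _ := Module.Finite.finite_basis b
  let n := Module.finrank k (k ⊗[R] M)
  let b' := b.reindex ((Finite.equivFin _).trans (finCongr (by
    rw [← Module.finrank_eq_nat_card_basis b])) : _ ≃ Fin n)
  have hb : ∀ i, ∃ m : M, (1 : k) ⊗ₜ[R] m = b' i := by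
    intro i
    simp only [b', Module.Basis.reindex_apply, b]
    exact Module.Basis.ofSpan_subset hspan.ge (Set.mem_range_self _)
  choose v hv using hb
  let φ : (Fin n → R) →ₗ[R] M := Fintype.linearCombination R v
  have hp : p ∉ Module.support R (M ⧸ range φ) := by
    rw [Module.mem_support_iff_nontrivial_residueField_tensorProduct, not_nontrivial_iff_subsingleton]
    refine subsingleton_of_forall_eq 0 fun x => ?_
    obtain ⟨y, rfl⟩ := lTensor_surjective k (range φ).mkQ_surjective x
    have hle : Submodule.span k (Set.range b') ≤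
        ker ((range φ).mkQ.baseChange k) := by
      rw [Submodule.span_le]
      rintro _ ⟨i, rfl⟩
      rw [← hv i, SetLike.mem_coe, LinearMap.mem_ker, baseChange_tmul]
      have : (range φ).mkQ (v i) = 0 := (Submodule.Quotient.mk_eq_zero _).2
        ⟨Pi.single i 1, by simp [φ, Fintype.linearCombination_apply_single]⟩
      rw [this, tmul_zero]
    rw [b'.span_eq] at hle
    exact hle Submodule.mem_top
  rw [Module.support_eq_zeroLocus, PrimeSpectrum.mem_zeroLocus] at hp
  obtain ⟨g₁, hg₁, hg₁p⟩ := Set.not_subset.1 hp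
  obtain ⟨_, ⟨g₂, rfl⟩, hg₂p, hg₂⟩ :=
    PrimeSpectrum.isTopologicalBasis_basic_opens.exists_subset_of_mem_open
    (show p ∈ {q | Module.finrank q.asIdeal.ResidueField (q.asIdeal.ResidueField ⊗[R] M) = n} from rfl)
    (hlc.isOpen_fiber n)
  let g := g₁ * g₂
  have hcok : ∀ m : M, g • m ∈ range φ := by
    intro m
    rw [← Submodule.Quotient.mk_eq_zero (range φ), Submodule.Quotient.mk_smul]
    have := Module.mem_annihilator.1 hg₁ (Submodule.Quotient.mk (p := range φ) m)
    rw [show g = g₂ * g₁ from mul_comm _ _, mul_smul, this, smul_zero]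
  have hker : ∀ r, φ r = 0 → g • r = 0 := by
    intro r hr
    funext i
    rw [Pi.smul_apply, Pi.zero_apply, smul_eq_mul]
    refine IsNilpotent.eq_zero (nilpotent_iff_mem_prime.2 fun q hq => ?_)
    obtain ⟨Q, rfl⟩ : ∃ Q : PrimeSpectrum R, Q.asIdeal = q := ⟨⟨q, hq⟩, rfl⟩
    by_cases hgq : g ∈ Q.asIdeal
    · exact Q.asIdeal.mul_mem_right _ hgq
    let K := Q.asIdeal.ResidueField
    have hQ : Q ∈ (PrimeSpectrum.basicOpen g₂ : Set (PrimeSpectrum R)) :=
      fun h => hgq (Q.asIdeal.mul_mem_left _ h)
    have hn : Module.finrank K (K ⊗[R] M) = n := hg₂ hQ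
    have hspanq : ⊤ ≤ Submodule.span K (Set.range fun i => (1 : K) ⊗ₜ[R] v i) := by
      intro x _
      induction x with
      | zero => exact zero_mem _
      | add x y hx hy => exact add_mem (hx trivial) (hy trivial)
      | tmul a m =>
        obtain ⟨r, hr⟩ := hcok m
        have hgK : algebraMap R K g ≠ 0 := by
          rwa [Ne, Ideal.algebraMap_residueField_eq_zero]
        have : a ⊗ₜ[R] m = (a * (algebraMap R K g)⁻¹) • ((1 : K) ⊗ₜ[R] φ r) := by
          rw [hr, tmul_smul, ← algebraMap_smul K g ((1 : K) ⊗ₜ[R] m), smul_smul, mul_assoc,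
            inv_mul_cancel₀ hgK, mul_one, smul_tmul', smul_eq_mul, mul_one]
        rw [this]
        refine Submodule.smul_mem _ _ ?_
        simp only [φ, Fintype.linearCombination_apply, tmul_sum]
        refine sum_mem fun j _ => ?_
        rw [tmul_smul, ← algebraMap_smul K]
        exact Submodule.smul_mem _ _ (Submodule.subset_span ⟨j, rfl⟩)
    have hli := linearIndependent_of_top_le_span_of_card_eq_finrank hspanq (by simp [hn])
    have hri : algebraMap R K (r i) = 0 := by
      refine Fintype.linearIndependent_iff.1 hli (fun j => algebraMap R K (r j)) ?_ i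
      simp only [algebraMap_smul, ← tmul_smul, ← tmul_sum]
      rw [show ∑ j, r j • v j = φ r from rfl, hr, tmul_zero]
    exact Q.asIdeal.mul_mem_left _ (Ideal.algebraMap_residueField_eq_zero.1 hri)
  choose s hs using hcok
  refine ⟨g, n, φ, ⟨⟨fun m => g • s m, fun a b => ?_⟩, fun c a => ?_⟩,
    fun h => (p.isPrime.mem_or_mem h).elim hg₁p hg₂p, ?_⟩
  · have := hker (s (a + b) - (s a + s b)) (by simp [hs])
    rw [smul_sub, sub_eq_zero, smul_add] at this
    exact this
  · have := hker (s (c • a) - c • s a) (by rw [map_sub, map_smul, hs, hs, smul_comm, sub_self])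
    rw [smul_sub, sub_eq_zero, smul_comm] at this
    exact this
  · ext m
    simp [hs, mul_smul]

theorem projective_of_locallyConstant [IsReduced R]
    (hlc : IsLocallyConstant fun p : PrimeSpectrum R =>
      Module.finrank p.asIdeal.ResidueField (p.asIdeal.ResidueField ⊗[R] M)) :
    Module.Projective R M := by
  classical
  choose g n φ ψ hg hφψ using exists_local_presentation hlc
  have htop : Ideal.span (Set.range fun p => g p * g p) = ⊤ := by
    by_contra hne
    obtain ⟨m, hm, hle⟩ := Ideal.exists_le_maximal _ hne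
    exact (hm.isPrime.mem_or_mem (hle (Ideal.subset_span ⟨⟨m, hm.isPrime⟩, rfl⟩))).elim
      (hg ⟨m, hm.isPrime⟩) (hg ⟨m, hm.isPrime⟩)
  obtain ⟨c, hc⟩ := Finsupp.mem_span_range_iff_exists_finsupp.1 ((Ideal.eq_top_iff_one _).1 htop)
  let F := (i : c.support) → (Fin (n i) → R)
  let a : M →ₗ[R] F := LinearMap.pi fun (i : c.support) => c i.1 • ψ i.1
  let b : F →ₗ[R] M := ∑ i : c.support, φ i.1 ∘ₗ LinearMap.proj i
  refine Module.Projective.of_split a b (LinearMap.ext fun m => ?_)
  simp only [LinearMap.comp_apply, LinearMap.sum_apply, b, a, id_coe, id_eq]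
  calc _ = ∑ i : c.support, (c i.1 * (g i.1 * g i.1)) • m := by
        refine Finset.sum_congr rfl fun i _ => ?_
        show φ i.1 (c i.1 • ψ i.1 m) = _
        rw [map_smul, ← LinearMap.comp_apply, hφψ]
        simp [smul_smul]
    _ = m := by
        rw [← Finset.sum_smul, Finset.sum_coe_sort c.support (fun i => c i * (g i * g i))]
        simp only [Finsupp.sum, smul_eq_mul] at hc
        rw [hc, one_smul]

theorem finite_projective_iff [IsReduced R] :
    Module.Projective R M ↔ IsLocallyConstant fun p : PrimeSpectrum R =>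
      Module.finrank p.asIdeal.ResidueField (p.asIdeal.ResidueField ⊗[R] M) := by
  refine ⟨fun _ => ?_, projective_of_locallyConstant⟩
  have := Module.finitePresentation_of_projective R M
  have h := Module.isLocallyConstant_rankAtStalk (R := R) (M := M)
  convert h using 1
  funext p
  exact (Module.rankAtStalk_eq p).symm

end Groth.Agent.H22.FibreRank
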