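import Groth.Agent.H22.Completion
import Mathlib

set_option autoImplicit false
set_option maxHeartbeats 400000
universe u v

namespace Groth.Agent.H22.FlatLift

variable {R : Type u} [CommRing R] (I : Ideal R) {M : Type u} [AddCommGroup M] [Module R M]

/-- A surjection onto `M` whose kernel is killed by `I` splits. -/
theorem exists_section [Module.Flat R M] [Module.Projective (R ⧸ I) (M ⧸ (I • ⊤ : Submodule R M))]
    {E : Type u} [AddCommGroup E] [Module R E] (q : E →ₗ[R] M) (hq : Function.Surjective q)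
    (hI : ∀ a ∈ I, ∀ z, q z = 0 → a • z = 0) : ∃ s : M →ₗ[R] E, q ∘ₗ s = LinearMap.id := by
  classical
  have hK : ∀ z : E, z ∈ (I • ⊤ : Submodule R E) → q z = 0 → z = 0 := by
    intro z hz hqz
    have h0 : (I • ⊤ : Submodule R E).comap (LinearMap.ker q).subtype ≤ I • ⊤ :=
      Groth.Agent.H22.Completion.comap_le_of_flat (i := (LinearMap.ker q).subtype) (g := q)
        (LinearMap.ker q).injective_subtype hq (LinearMap.exact_subtype_ker_map q) I
    have h1 : (⟨z, hqz⟩ : LinearMap.ker q) ∈ (I • ⊤ : Submodule R (LinearMap.ker q)) :=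
      h0 (Submodule.mem_comap.2 hz)
    have h2 : (I • ⊤ : Submodule R (LinearMap.ker q)) ≤ ⊥ := Submodule.smul_le.2 fun a ha w _ => by
      rw [Submodule.mem_bot]
      exact Subtype.ext (hI a ha _ w.2)
    exact congrArg Subtype.val ((Submodule.mem_bot R).1 (h2 h1))
  let qbar : (E ⧸ (I • ⊤ : Submodule R E)) →ₗ[R ⧸ I] M ⧸ (I • ⊤ : Submodule R M) :=
    LinearMap.reduceModIdeal I q
  obtain ⟨sbar, hs⟩ := Module.projective_lifting_property qbar LinearMap.id (fun y => by
    obtain ⟨m, rfl⟩ := Submodule.Quotient.mk_surjective _ y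
    obtain ⟨e, rfl⟩ := hq m
    exact ⟨Submodule.Quotient.mk e, rfl⟩)
  have hex : ∀ m : M, ∃ e : E, q e = m ∧ Submodule.Quotient.mk e = sbar (Submodule.Quotient.mk m) := by
    intro m
    obtain ⟨d, hd⟩ := Submodule.Quotient.mk_surjective _ (sbar (Submodule.Quotient.mk m))
    have h1 : q d - m ∈ (I • ⊤ : Submodule R M) := by
      rw [← Submodule.Quotient.eq]
      exact (congrArg qbar hd).trans (LinearMap.congr_fun hs _)
    rw [← LinearMap.range_eq_top.2 hq, LinearMap.range_eq_map, ← Submodule.map_smul''] at h1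
    obtain ⟨c, hc, hcm⟩ := h1
    refine ⟨d - c, by rw [map_sub, hcm, sub_sub_cancel], ?_⟩
    rw [← hd, Submodule.Quotient.eq, sub_sub_cancel_left]
    exact neg_mem hc
  choose e he he' using hex
  have huniq : ∀ a b : E, q a = q b → Submodule.Quotient.mk (p := (I • ⊤ : Submodule R E)) a =
      Submodule.Quotient.mk b → a = b := fun a b h1 h2 =>
    sub_eq_zero.1 (hK _ ((Submodule.Quotient.eq _).1 h2) (by rw [map_sub, h1, sub_self]))
  let s : M →ₗ[R] E :=
    { toFun := e
      map_add' := fun a b => huniq _ _ (by rw [map_add, he, he, he])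
        (by rw [Submodule.Quotient.mk_add, he', he', he', Submodule.Quotient.mk_add, map_add])
      map_smul' := fun c a => huniq _ _ (by rw [RingHom.id_apply, map_smul, he, he])
        (by rw [RingHom.id_apply, Submodule.Quotient.mk_smul, he', he', Submodule.Quotient.mk_smul,
              LinearMap.map_smul_of_tower]) }
  exact ⟨s, LinearMap.ext he⟩

/-- Lifting through a surjection whose kernel is killed by `I`. -/
theorem exists_lift_of_smul_ker [Module.Flat R M] [Module.Projective (R ⧸ I) (M ⧸ (I • ⊤ : Submodule R M))]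
    {X Y : Type u} [AddCommGroup X] [Module R X] [AddCommGroup Y] [Module R Y] (g : X →ₗ[R] Y)
    (hg : Function.Surjective g) (hI : ∀ a ∈ I, ∀ x, g x = 0 → a • x = 0) (f : M →ₗ[R] Y) :
    ∃ h : M →ₗ[R] X, g ∘ₗ h = f := by
  classical
  let E : Submodule R (X × M) := LinearMap.ker (g ∘ₗ LinearMap.fst R X M - f ∘ₗ LinearMap.snd R X M)
  have hmem : ∀ z : X × M, z ∈ E ↔ g z.1 = f z.2 := fun z => by simp [E, sub_eq_zero]
  let q : E →ₗ[R] M := LinearMap.snd R X M ∘ₗ E.subtype
  have hq : Function.Surjective q := fun m => by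
    obtain ⟨x, hx⟩ := hg (f m)
    exact ⟨⟨(x, m), (hmem _).2 hx⟩, rfl⟩
  have hqI : ∀ a ∈ I, ∀ z, q z = 0 → a • z = 0 := fun a ha z hz => by
    refine Subtype.ext (Prod.ext ?_ ?_)
    · show a • z.1.1 = 0
      refine hI a ha _ ?_
      rw [(hmem z.1).1 z.2, show z.1.2 = 0 from hz, map_zero]
    · show a • z.1.2 = 0
      rw [show z.1.2 = 0 from hz, smul_zero]
  obtain ⟨s, hs⟩ := exists_section I q hq hqI
  refine ⟨LinearMap.fst R X M ∘ₗ E.subtype ∘ₗ s, LinearMap.ext fun m => ?_⟩
  show g (s m).1.1 = f m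
  rw [(hmem _).1 (s m).2]
  exact congrArg f (LinearMap.congr_fun hs m)

/-- Lifting through a surjection whose kernel is killed by a power of `I`. -/
theorem exists_lift [Module.Flat R M] [Module.Projective (R ⧸ I) (M ⧸ (I • ⊤ : Submodule R M))] (n : ℕ) :
    ∀ {X Y : Type u} [AddCommGroup X] [Module R X] [AddCommGroup Y] [Module R Y] (g : X →ₗ[R] Y),
      Function.Surjective g → (∀ a ∈ I ^ n, ∀ x, g x = 0 → a • x = 0) →
      ∀ f : M →ₗ[R] Y, ∃ h : M →ₗ[R] X, g ∘ₗ h = f := by
  induction n with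
  | zero =>
    intro X Y _ _ _ _ g hg hI f
    have hinj : Function.Injective g := by
      rw [injective_iff_map_eq_zero]
      intro x hx
      simpa using hI 1 (by simp) x hx
    exact ⟨(LinearEquiv.ofBijective g ⟨hinj, hg⟩).symm.toLinearMap ∘ₗ f, LinearMap.ext fun m =>
      (LinearEquiv.ofBijective g ⟨hinj, hg⟩).apply_symm_apply (f m)⟩
  | succ n ih =>
    intro X Y _ _ _ _ g hg hI f
    let S : Submodule R X := I • LinearMap.ker g
    let g' : (X ⧸ S) →ₗ[R] Y := S.liftQ g Submodule.smul_le_right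
    obtain ⟨h', hh'⟩ := exists_lift_of_smul_ker I g'
      (fun y => by obtain ⟨x, rfl⟩ := hg y; exact ⟨Submodule.Quotient.mk x, rfl⟩)
      (fun a ha x hx => by
        obtain ⟨x, rfl⟩ := Submodule.Quotient.mk_surjective _ x
        rw [← Submodule.Quotient.mk_smul, Submodule.Quotient.mk_eq_zero]
        exact Submodule.smul_mem_smul ha hx) f
    obtain ⟨h, hh⟩ := ih S.mkQ S.mkQ_surjective (fun a ha x hx => by
      rw [Submodule.mkQ_apply, Submodule.Quotient.mk_eq_zero] at hx
      refine Submodule.smul_induction_on hx (fun b hb y hy => ?_) (fun u w hu hw => by rw [smul_add, hu, hw, add_zero])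
      rw [smul_smul]
      exact hI _ (by rw [pow_succ]; exact Ideal.mul_mem_mul ha hb) y hy) h'
    refine ⟨h, LinearMap.ext fun m => ?_⟩
    rw [← LinearMap.congr_fun hh' m, ← hh]
    rfl

theorem exists_completion_section [Module.Flat R M]
    [Module.Projective (R ⧸ I) (M ⧸ (I • ⊤ : Submodule R M))]
    {P : Type u} [AddCommGroup P] [Module R P] (g : P →ₗ[R] M) (hg : Function.Surjective g) :
    ∃ s : AdicCompletion I M →ₗ[AdicCompletion I R] AdicCompletion I P,
      AdicCompletion.map I g ∘ₗ s = LinearMap.id := by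
  classical
  let MQ : ℕ → Submodule R M := fun n => I ^ n • ⊤
  let PQ : ℕ → Submodule R P := fun n => I ^ n • ⊤
  let G : ∀ n, (P ⧸ PQ n) →ₗ[R] M ⧸ MQ n := fun n => (LinearMap.reduceModIdeal (I ^ n) g).restrictScalars R
  let T : ∀ n, (P ⧸ PQ (n + 1)) →ₗ[R] P ⧸ PQ n := fun n => AdicCompletion.transitionMap I P n.le_succ
  have step : ∀ n (s : M →ₗ[R] P ⧸ PQ n), G n ∘ₗ s = (MQ n).mkQ →
      ∃ s' : M →ₗ[R] P ⧸ PQ (n + 1), G (n + 1) ∘ₗ s' = (MQ (n + 1)).mkQ ∧ T n ∘ₗ s' = s := by
    intro n s hs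
    let Ψ : (P ⧸ PQ (n + 1)) →ₗ[R] (P ⧸ PQ n) × (M ⧸ MQ (n + 1)) := LinearMap.prod (T n) (G (n + 1))
    have hrange : ∀ m, (LinearMap.prod s (MQ (n + 1)).mkQ) m ∈ LinearMap.range Ψ := by
      intro m
      obtain ⟨p, hp⟩ := Submodule.Quotient.mk_surjective _ (s m)
      obtain ⟨q, rfl⟩ := hg m
      have h1 : g p - g q ∈ MQ n := by
        rw [← Submodule.Quotient.eq]
        exact (congrArg (G n) hp).trans (LinearMap.congr_fun hs (g q))
      have h2 : g p - g q ∈ Submodule.map g (PQ n) := by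
        simp only [PQ, Submodule.map_smul'', Submodule.map_top, LinearMap.range_eq_top.2 hg]
        exact h1
      obtain ⟨e, he, heq⟩ := h2
      refine ⟨Submodule.Quotient.mk (p - e), Prod.ext ?_ ?_⟩
      · show Submodule.Quotient.mk (p - e) = s (g q)
        rw [← hp, Submodule.Quotient.eq, sub_sub_cancel_left]
        exact neg_mem he
      · show Submodule.Quotient.mk (g (p - e)) = Submodule.Quotient.mk (g q)
        rw [map_sub, heq, sub_sub_cancel]
    obtain ⟨s', hs'⟩ := exists_lift I (n + 1) Ψ.rangeRestrict Ψ.surjective_rangeRestrict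
      (fun a ha x _ => by
        obtain ⟨x, rfl⟩ := Submodule.Quotient.mk_surjective _ x
        rw [← Submodule.Quotient.mk_smul, Submodule.Quotient.mk_eq_zero]
        exact Submodule.smul_mem_smul ha trivial)
      ((LinearMap.prod s (MQ (n + 1)).mkQ).codRestrict _ hrange)
    have h := fun m => congrArg Subtype.val (LinearMap.congr_fun hs' m)
    exact ⟨s', LinearMap.ext fun m => congrArg Prod.snd (h m), LinearMap.ext fun m => congrArg Prod.fst (h m)⟩
  have h0 : G 0 ∘ₗ (0 : M →ₗ[R] P ⧸ PQ 0) = (MQ 0).mkQ := LinearMap.ext fun m => by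
    have : Subsingleton (M ⧸ MQ 0) := Submodule.Quotient.subsingleton_iff.2 (by simp [MQ])
    exact Subsingleton.elim _ _
  let S : ∀ n, {s : M →ₗ[R] P ⧸ PQ n // G n ∘ₗ s = (MQ n).mkQ} := fun n =>
    Nat.rec ⟨0, h0⟩ (fun n s => ⟨(step n s.1 s.2).choose, (step n s.1 s.2).choose_spec.1⟩) n
  have hcompat : ∀ n, T n ∘ₗ (S (n + 1)).1 = (S n).1 := fun n => (step n (S n).1 (S n).2).choose_spec.2
  let σ : ∀ n, (M ⧸ MQ n) →ₗ[R] P ⧸ PQ n := fun n => (MQ n).liftQ (S n).1 (Submodule.smul_le.2 fun a ha m _ => by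
    rw [LinearMap.mem_ker, map_smul]
    obtain ⟨x, hx⟩ := Submodule.Quotient.mk_surjective _ ((S n).1 m)
    rw [← hx, ← Submodule.Quotient.mk_smul, Submodule.Quotient.mk_eq_zero]
    exact Submodule.smul_mem_smul ha trivial)
  have hσ : ∀ {m n : ℕ} (hmn : m ≤ n) (x : M ⧸ MQ n),
      AdicCompletion.transitionMap I P hmn (σ n x) = σ m (AdicCompletion.transitionMap I M hmn x) := by
    intro m n hmn
    induction n, hmn using Nat.le_induction with
    | base => intro x; obtain ⟨x, rfl⟩ := Submodule.Quotient.mk_surjective _ x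
              obtain ⟨p, hp⟩ := Submodule.Quotient.mk_surjective _ ((S m).1 x)
              show AdicCompletion.transitionMap I P le_rfl ((S m).1 x) = (S m).1 x
              rw [← hp]; rfl
    | succ n hmn ih =>
      intro x
      obtain ⟨x, rfl⟩ := Submodule.Quotient.mk_surjective _ x
      obtain ⟨p, hp⟩ := Submodule.Quotient.mk_surjective _ ((S (n + 1)).1 x)
      have h1 := ih (Submodule.Quotient.mk x)
      have h2 : (S n).1 x = Submodule.Quotient.mk p := by
        rw [← hcompat n, LinearMap.comp_apply, ← hp]; rfl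
      show AdicCompletion.transitionMap I P _ ((S (n + 1)).1 x) = (S m).1 x
      rw [← hp]
      change AdicCompletion.transitionMap I P hmn ((S n).1 x) = (S m).1 x at h1
      rw [h2] at h1
      exact h1
  refine ⟨{ toFun := fun x => ⟨fun n => σ n (x.val n), fun {m n} hmn => by rw [hσ hmn, x.property hmn]⟩
            map_add' := fun x y => AdicCompletion.ext fun n => map_add (σ n) _ _
            map_smul' := fun r x => AdicCompletion.ext fun n => ?_ }, LinearMap.ext fun x => AdicCompletion.ext fun n => ?_⟩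
  · obtain ⟨a, ha⟩ := Submodule.Quotient.mk_surjective _ (r.val n)
    show σ n ((r • x).val n) = _
    rw [RingHom.id_apply]
    show σ n (r.val n • x.val n) = r.val n • σ n (x.val n)
    rw [← ha]
    exact map_smul (σ n) a (x.val n)
  · show LinearMap.reduceModIdeal (I ^ n) g (σ n (x.val n)) = x.val n
    obtain ⟨m, hm⟩ := Submodule.Quotient.mk_surjective _ (x.val n)
    rw [← hm]
    exact LinearMap.congr_fun (S n).2 m

end Groth.Agent.H22.FlatLift
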