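import Groth.Agent.Lib.LocalFlat.Basic
import Mathlib.RingTheory.Flat.Tensor
import Mathlib.LinearAlgebra.Isomorphisms
import Mathlib.RingTheory.Ideal.Quotient.Operations

/-! Flatness of `M / J M` over `R / J`, for varying ideals `J`, without change of rings. -/

open TensorProduct LinearMap Groth.Agent.Lib.LocalFlat.Basic

namespace Groth.Agent.H22.FlatMod

universe u

variable {R : Type u} [CommRing R] {M : Type u} [AddCommGroup M] [Module R M]

/-- Submodules of `R ⧸ J` stay submodules after tensoring with `M`. -/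
def FlatAt (M : Type u) [AddCommGroup M] [Module R M] (J : Ideal R) : Prop :=
  ∀ p : Submodule R (R ⧸ J), Function.Injective (p.subtype.lTensor M)

theorem flat_quotient {J : Ideal R} (h : FlatAt M J) :
    Module.Flat (R ⧸ J) ((R ⧸ J) ⊗[R] M) := by
  rw [Module.Flat.iff_rTensor_injective']
  intro K
  let p : Submodule R (R ⧸ J) := K.restrictScalars R
  let f : K →ₗ[R ⧸ J] (R ⧸ J) := K.subtype
  let e : K ≃ₗ[R] p :=
    { toFun := fun x => ⟨x.1, x.2⟩
      map_add' := fun _ _ => rfl
      map_smul' := fun _ _ => rfl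
      invFun := fun x => ⟨x.1, x.2⟩
      left_inv := fun _ => rfl
      right_inv := fun _ => rfl }
  have h0 : Function.Injective ((f.restrictScalars R).lTensor M) := by
    have hf : f.restrictScalars R = p.subtype ∘ₗ e.toLinearMap := rfl
    rw [hf, lTensor_comp, coe_comp]
    exact (h p).comp (LinearEquiv.lTensor M e).injective
  have h3 : Function.Injective ((f.restrictScalars R).rTensor M) := by
    rw [← LinearMap.comm_comp_lTensor_comp_comm_eq]
    simpa using h0
  let c := TensorProduct.AlgebraTensorModule.cancelBaseChange R (R ⧸ J) (R ⧸ J) K M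
  let c' := TensorProduct.AlgebraTensorModule.cancelBaseChange R (R ⧸ J) (R ⧸ J) (R ⧸ J) M
  have key : (f.restrictScalars R).rTensor M ∘ c = c' ∘ f.rTensor ((R ⧸ J) ⊗[R] M) := by
    funext x
    induction x using TensorProduct.induction_on with
    | zero => simp
    | add x y hx hy => simp only [Function.comp_apply, map_add] at *; rw [hx, hy]
    | tmul n am =>
      induction am using TensorProduct.induction_on with
      | zero => simp
      | tmul a m => simp [c, c']
      | add x y hx hy =>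
        simp only [Function.comp_apply, tmul_add, map_add] at *; rw [hx, hy]
  have h2 := h3.comp c.injective
  rw [key] at h2
  exact h2.of_comp

theorem flatAt {J : Ideal R} (h : Module.Flat (R ⧸ J) ((R ⧸ J) ⊗[R] M)) : FlatAt M J :=
  fun p => lTensor_subtype_injective_of_flat_quotient (I := J) p

theorem flat_of_flatAt_bot (h : FlatAt M (⊥ : Ideal R)) : Module.Flat R M := by
  rw [Module.Flat.iff_lTensor_injective]
  intro K _
  let e : R ≃ₗ[R] (R ⧸ (⊥ : Ideal R)) := (Submodule.quotEquivOfEqBot ⊥ rfl).symm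
  let p : Submodule R (R ⧸ (⊥ : Ideal R)) := Submodule.map e.toLinearMap K
  let eK : K ≃ₗ[R] p := e.submoduleMap K
  have he : e.toLinearMap ∘ₗ K.subtype = p.subtype ∘ₗ eK.toLinearMap := rfl
  have := (h p).comp (LinearEquiv.lTensor M eK).injective
  have e2 : ⇑(p.subtype.lTensor M) ∘ ⇑(LinearEquiv.lTensor M eK) =
      (e.toLinearMap.lTensor M) ∘ (K.subtype.lTensor M) := by
    funext x
    show p.subtype.lTensor M (eK.toLinearMap.lTensor M x) = _
    rw [← lTensor_comp_apply, ← he, lTensor_comp_apply]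
    rfl
  rw [e2] at this
  exact this.of_comp

theorem injective_of_extension {J I₁ I₂ : Ideal R} (h₁ : FlatAt M I₁) (h₂ : FlatAt M I₂)
    (N' : Submodule R (R ⧸ J)) (hN'M : Function.Injective (N'.subtype.lTensor M))
    (hN' : ∀ r ∈ I₂, ∀ x : N', r • x = 0) (hN'' : ∀ r ∈ I₁, ∀ x : (R ⧸ J) ⧸ N', r • x = 0) :
    FlatAt M J := by
  have := flat_quotient h₁
  have := flat_quotient h₂
  intro p
  let g : p →ₗ[R] (R ⧸ J) ⧸ N' := N'.mkQ ∘ₗ p.subtype
  have hg : Function.Injective ((range g).subtype.lTensor M) :=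
    lTensor_injective_of_smul_eq_zero (I := I₁) (range g).subtype (range g).injective_subtype hN''
  let P' : Submodule R (R ⧸ J) := p ⊓ N'
  let i : P' →ₗ[R] p := Submodule.inclusion inf_le_left
  let k : P' →ₗ[R] N' := Submodule.inclusion inf_le_right
  have hex : Function.Exact i g.rangeRestrict := by
    intro z
    constructor
    · intro hz
      have : N'.mkQ (z : R ⧸ J) = 0 := congrArg Subtype.val hz
      exact ⟨⟨z, z.2, (Submodule.Quotient.mk_eq_zero N').1 this⟩, rfl⟩
    · rintro ⟨w, rfl⟩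
      exact Subtype.ext ((Submodule.Quotient.mk_eq_zero N').2 w.2.2)
  have hki : Function.Injective k := Submodule.inclusion_injective _
  have hk : Function.Injective (k.lTensor M) :=
    lTensor_injective_of_smul_eq_zero (I := I₂) k hki hN'
  rw [injective_iff_map_eq_zero]
  intro x hx
  have h0 : g.rangeRestrict.lTensor M x = 0 := by
    apply hg
    rw [map_zero, ← lTensor_comp_apply, show (range g).subtype ∘ₗ g.rangeRestrict = g from rfl,
      lTensor_comp_apply, hx, map_zero]
  obtain ⟨y, rfl⟩ := ((lTensor_exact M hex g.surjective_rangeRestrict) x).1 h0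
  have : y = 0 := hk (hN'M (by
    rw [map_zero, map_zero, ← lTensor_comp_apply,
      show N'.subtype ∘ₗ k = p.subtype ∘ₗ i from rfl, lTensor_comp_apply, hx]))
  rw [this, map_zero]

theorem flatAt_inf {I₁ I₂ : Ideal R} (h₁ : FlatAt M I₁) (h₂ : FlatAt M I₂) :
    FlatAt M (I₁ ⊓ I₂) := by
  let N' : Submodule R (R ⧸ (I₁ ⊓ I₂)) := Submodule.map (Submodule.mkQ (I₁ ⊓ I₂)) I₁
  have hN'2 : ∀ r ∈ I₂, ∀ x : N', r • x = 0 := by
    rintro r hr ⟨_, a, ha, rfl⟩
    refine Subtype.ext ?_
    show r • Submodule.mkQ (I₁ ⊓ I₂) a = 0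
    rw [← map_smul, Submodule.mkQ_apply, Submodule.Quotient.mk_eq_zero]
    exact ⟨I₁.mul_mem_left _ ha, I₂.mul_mem_right _ hr⟩
  refine injective_of_extension h₁ h₂ N' ?_ hN'2 ?_
  · have := flat_quotient h₂
    let π : (R ⧸ (I₁ ⊓ I₂)) →ₗ[R] R ⧸ I₂ := Submodule.factor inf_le_right
    have : Function.Injective ((π ∘ₗ N'.subtype).lTensor M) := by
      refine lTensor_injective_of_smul_eq_zero (I := I₂) _ ?_ ?_
      · rw [injective_iff_map_eq_zero]
        rintro ⟨_, a, ha, rfl⟩ h
        have h' : a ∈ I₂ := (Submodule.Quotient.mk_eq_zero I₂).1 h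
        exact Subtype.ext ((Submodule.Quotient.mk_eq_zero _).2 ⟨ha, h'⟩)
      · intro r hr x
        obtain ⟨a, rfl⟩ := Submodule.mkQ_surjective _ x
        rw [← map_smul, Submodule.mkQ_apply, Submodule.Quotient.mk_eq_zero]
        exact I₂.mul_mem_right _ hr
    rw [lTensor_comp, coe_comp] at this
    exact this.of_comp
  · intro r hr x
    obtain ⟨a, rfl⟩ := Submodule.mkQ_surjective _ x
    obtain ⟨a, rfl⟩ := Submodule.mkQ_surjective _ a
    rw [← map_smul, ← map_smul, Submodule.mkQ_apply, Submodule.Quotient.mk_eq_zero]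
    exact ⟨r • a, I₁.mul_mem_right _ hr, rfl⟩

theorem flatAt_comap_sq {R' : Type u} [CommRing R'] [Algebra R R'] {I : Ideal R}
    (h : FlatAt M I) [Module.Flat R' (R' ⊗[R] M)] :
    FlatAt M (((I ^ 2).map (algebraMap R R')).comap (algebraMap R R')) := by
  let L : Ideal R' := (I ^ 2).map (algebraMap R R')
  let J : Ideal R := L.comap (algebraMap R R')
  let ι : (R ⧸ J) →ₗ[R] (R' ⧸ L) :=
    Submodule.mapQ J (L.restrictScalars R) (Algebra.linearMap R R') (fun x hx => hx)
  let W : Submodule R' (R' ⧸ L) := Submodule.map (Submodule.mkQ L) (I.map (algebraMap R R'))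
  let N' : Submodule R (R ⧸ J) := Submodule.map (Submodule.mkQ J) I
  have hW : ∀ r ∈ I, ∀ x : W, r • x = 0 := by
    rintro r hr ⟨_, a, ha, rfl⟩
    refine Subtype.ext ?_
    show r • Submodule.mkQ L a = 0
    rw [← algebraMap_smul R' r, ← map_smul, Submodule.mkQ_apply, Submodule.Quotient.mk_eq_zero]
    show algebraMap R R' r * a ∈ (I ^ 2).map (algebraMap R R')
    rw [Ideal.map_pow, pow_two]
    exact Ideal.mul_mem_mul (Ideal.mem_map_of_mem _ hr) ha
  have hN'2 : ∀ r ∈ I, ∀ x : N', r • x = 0 := by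
    rintro r hr ⟨_, a, ha, rfl⟩
    refine Subtype.ext ?_
    show r • Submodule.mkQ J a = 0
    rw [← map_smul, Submodule.mkQ_apply, Submodule.Quotient.mk_eq_zero]
    show algebraMap R R' (r * a) ∈ L
    refine Ideal.mem_map_of_mem _ ?_
    rw [pow_two]
    exact Ideal.mul_mem_mul hr ha
  refine injective_of_extension h h N' ?_ hN'2 ?_
  · have := flat_quotient h
    let j : N' →ₗ[R] W := (ι ∘ₗ N'.subtype).codRestrict (W.restrictScalars R) fun x => by
      obtain ⟨_, a, ha, rfl⟩ := x
      exact ⟨algebraMap R R' a, Ideal.mem_map_of_mem _ ha, rfl⟩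
    have hj : Function.Injective (j.lTensor M) := by
      refine lTensor_injective_of_smul_eq_zero (I := I) j ?_ hW
      rw [injective_iff_map_eq_zero]
      rintro ⟨_, a, ha, rfl⟩ h
      have h' : algebraMap R R' a ∈ L := (Submodule.Quotient.mk_eq_zero _).1
        (congrArg (fun z : W => (z : R' ⧸ L)) h)
      exact Subtype.ext ((Submodule.Quotient.mk_eq_zero _).2 h')
    have hW' := lTensor_injective_of_baseChange_flat (R := R) (A := R') M W.subtype W.injective_subtype
    have := hW'.comp hj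
    have e : ι ∘ₗ N'.subtype = (W.subtype.restrictScalars R) ∘ₗ j := rfl
    rw [← coe_comp, ← lTensor_comp, ← e, lTensor_comp, coe_comp] at this
    exact this.of_comp
  · intro r hr x
    obtain ⟨a, rfl⟩ := Submodule.mkQ_surjective _ x
    obtain ⟨a, rfl⟩ := Submodule.mkQ_surjective _ a
    rw [← map_smul, ← map_smul, Submodule.mkQ_apply, Submodule.Quotient.mk_eq_zero]
    exact ⟨r • a, I.mul_mem_right _ hr, rfl⟩

theorem flatAt_mono {I J : Ideal R} (h : I = J) (hI : FlatAt M I) : FlatAt M J := h ▸ hI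

theorem flat_of_nilpotent {R' : Type u} [CommRing R'] [Algebra R R']
    (hinj : Function.Injective (algebraMap R R')) {I : Ideal R} (hI : IsNilpotent I)
    (h : FlatAt M I) [Module.Flat R' (R' ⊗[R] M)] : Module.Flat R M := by
  have : ∀ k, ∃ J : Ideal R,
      J.map (algebraMap R R') ≤ (I ^ (2 ^ k)).map (algebraMap R R') ∧ FlatAt M J := by
    intro k
    induction k with
    | zero => exact ⟨I, by simp, h⟩
    | succ k ih =>
      obtain ⟨J, hJ, hJf⟩ := ih
      refine ⟨_, ?_, flatAt_comap_sq (R' := R') hJf⟩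
      refine Ideal.map_comap_le.trans ?_
      rw [show I ^ (2 ^ (k + 1)) = (I ^ (2 ^ k)) ^ 2 by rw [← pow_mul, pow_succ],
        Ideal.map_pow _ J, Ideal.map_pow _ (I ^ (2 ^ k))]
      exact Ideal.pow_right_mono hJ 2
  obtain ⟨n, hn⟩ := hI
  obtain ⟨J, hJ, hJf⟩ := this n
  have hz : I ^ (2 ^ n) = 0 := pow_eq_zero_of_le (Nat.lt_two_pow_self).le hn
  rw [hz, Ideal.zero_eq_bot, Ideal.map_bot, le_bot_iff, Ideal.map_eq_bot_iff_of_injective hinj] at hJ
  exact flat_of_flatAt_bot (hJ ▸ hJf)

theorem flatAt_pow {I : Ideal R} (h : FlatAt M I)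
    (htor : Function.Injective (I.subtype.lTensor M)) (n : ℕ) : FlatAt M (I ^ n) := by
  have := flat_quotient h
  intro p
  have hQ : Tor1Zero R M ((R ⧸ I ^ n) ⧸ p) := by
    refine Tor1Zero.of_pow_smul_eq_zero (I := I) htor n fun r hr x => ?_
    obtain ⟨a, rfl⟩ := Submodule.mkQ_surjective _ x
    obtain ⟨a, rfl⟩ := Submodule.mkQ_surjective _ a
    rw [← map_smul, ← map_smul]
    rw [show (Submodule.mkQ (I ^ n)) (r • a) = 0 from
      (Submodule.Quotient.mk_eq_zero _).2 ((I ^ n).mul_mem_right _ hr), map_zero]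
  exact hQ p (R ⧸ I ^ n) p.subtype p.mkQ p.injective_subtype (LinearMap.exact_subtype_mkQ p)
    p.mkQ_surjective

end Groth.Agent.H22.FlatMod
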