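import Mathlib

/-!
Finite flat modules with locally constant rank are projective; pure ideals attached to closed
generalization-stable subsets.
-/

set_option autoImplicit false
universe u

open Module

namespace Groth.Agent.H22.FlatProj

variable {R : Type u} [CommRing R] {M : Type u} [AddCommGroup M] [Module R M]

/-- Near a prime where a finite flat module has rank `n`, it is a quotient of `R ^ n`. -/
theorem exists_surjective_near [Module.Finite R M] [Module.Flat R M] (p : PrimeSpectrum R) :
    ∃ f : (Fin (rankAtStalk M p) → R) →ₗ[R] M,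
      p ∉ Module.support R (M ⧸ LinearMap.range f) := by
  set P := p.asIdeal.primeCompl
  let Rp := Localization.AtPrime p.asIdeal
  let g := LocalizedModule.mkLinearMap P M
  haveI : Module.Free Rp (LocalizedModule P M) := Module.free_of_flat_of_isLocalRing
  let b := Module.finBasis Rp (LocalizedModule P M)
  choose ms hms using fun i : Fin (rankAtStalk M p) => IsLocalizedModule.surj P g (b i)
  refine ⟨Fintype.linearCombination R fun i => (ms i).1, ?_⟩
  rw [Fintype.range_linearCombination]
  set Q := Submodule.span R (Set.range fun i => (ms i).1)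
  rw [Module.notMem_support_iff']
  intro x
  obtain ⟨x, rfl⟩ := Submodule.Quotient.mk_surjective Q x
  have htop : Submodule.localized' Rp P g Q = ⊤ := by
    rw [eq_top_iff, ← b.span_eq, Submodule.span_le]
    rintro _ ⟨i, rfl⟩
    refine (Submodule.mem_localized' _ _ _ _ _).2 ⟨(ms i).1, Submodule.subset_span ⟨i, rfl⟩, (ms i).2, ?_⟩
    rw [IsLocalizedModule.mk'_eq_iff]
    exact (hms i).symm
  obtain ⟨q, hq, s, hs⟩ := (Submodule.mem_localized' Rp P g Q (g x)).1 (htop ▸ Submodule.mem_top)
  rw [IsLocalizedModule.mk'_eq_iff, Submonoid.smul_def, ← map_smul] at hs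
  obtain ⟨c, hc⟩ := IsLocalizedModule.exists_of_eq (S := P) (f := g) hs
  refine ⟨(c : R) * s, (c * s).2, ?_⟩
  rw [Submonoid.smul_def c, Submonoid.smul_def c] at hc
  change ((c : R) * s) • Submodule.Quotient.mk (p := Q) x = 0
  rw [← Submodule.Quotient.mk_smul, Submodule.Quotient.mk_eq_zero, mul_smul]
  exact hc ▸ Q.smul_mem _ hq

theorem rankAtStalk_le_of_notMem [Module.Finite R M] [Module.Flat R M] {n : ℕ}
    (f : (Fin n → R) →ₗ[R] M) (q : PrimeSpectrum R) (hq : q ∉ Module.support R (M ⧸ LinearMap.range f)) :
    Function.Surjective (LocalizedModule.map q.asIdeal.primeCompl f) ∧ rankAtStalk M q ≤ n := by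
  set P := q.asIdeal.primeCompl
  haveI : Nontrivial R := q.nontrivial
  have hs : Function.Surjective (LocalizedModule.map P f) := by
    intro y
    induction y using LocalizedModule.induction_on with
    | _ m s =>
      rw [Module.notMem_support_iff'] at hq
      obtain ⟨r, hr, hrm⟩ := hq (Submodule.Quotient.mk m)
      rw [← Submodule.Quotient.mk_smul, Submodule.Quotient.mk_eq_zero] at hrm
      obtain ⟨v, hv⟩ := hrm
      refine ⟨LocalizedModule.mk v (⟨r, hr⟩ * s), ?_⟩
      rw [LocalizedModule.map_mk, hv]
      exact LocalizedModule.mk_cancel_common_left ⟨r, hr⟩ s m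
  refine ⟨hs, ?_⟩
  have h1 : rankAtStalk M q ≤ Module.finrank (Localization.AtPrime q.asIdeal)
      (LocalizedModule P (Fin n → R)) := LinearMap.finrank_le_finrank_of_surjective hs
  refine h1.trans (le_of_eq ?_)
  change rankAtStalk (Fin n → R) q = n
  simp

theorem isOpen_rank_lt [Module.Finite R M] [Module.Flat R M] (n : ℕ) :
    IsOpen {q : PrimeSpectrum R | rankAtStalk M q < n} := by
  refine isOpen_iff_forall_mem_open.2 fun p hp => ?_
  obtain ⟨f, hf⟩ := exists_surjective_near (M := M) p
  exact ⟨_, fun q hq => (rankAtStalk_le_of_notMem f q hq).2.trans_lt hp,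
    Module.isClosed_support.isOpen_compl, hf⟩

theorem finitePresentation_of_isLocallyConstant [Module.Finite R M] [Module.Flat R M]
    (h : IsLocallyConstant (rankAtStalk (R := R) M)) : Module.FinitePresentation R M := by
  have key : ∀ p : PrimeSpectrum R, ∃ g : R, g ∉ p.asIdeal ∧
      Module.FinitePresentation (Localization.Away g) (LocalizedModule.Away g M) := by
    intro p
    obtain ⟨f, hf⟩ := exists_surjective_near (M := M) p
    have hU : IsOpen ((Module.support R (M ⧸ LinearMap.range f))ᶜ ∩
        {q | rankAtStalk M q = rankAtStalk M p}) :=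
      Module.isClosed_support.isOpen_compl.inter (h.isOpen_fiber _)
    have hpU : p ∈ (Module.support R (M ⧸ LinearMap.range f))ᶜ ∩
        {q | rankAtStalk M q = rankAtStalk M p} := ⟨hf, rfl⟩
    obtain ⟨_, ⟨g, rfl⟩, hpg, hg⟩ :=
      PrimeSpectrum.isTopologicalBasis_basic_opens.exists_subset_of_mem_open hpU hU
    refine ⟨g, hpg, ?_⟩
    -- the kernel and cokernel of `f` vanish on `D(g)`
    have hker : ∀ x ∈ LinearMap.ker f, ∃ k : ℕ, g ^ k • x = 0 := by
      intro x hx
      by_contra hne
      simp only [not_exists] at hne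
      obtain ⟨I, hI, hle, hdis⟩ := Ideal.exists_le_prime_disjoint (Ideal.torsionOf R _ x)
        (Submonoid.powers g) (Set.disjoint_left.2 fun a ha ⟨k, hk⟩ => hne k (by
          rw [← hk] at ha; exact (Ideal.mem_torsionOf_iff _ _).1 ha))
      let q : PrimeSpectrum R := ⟨I, hI⟩
      obtain ⟨hq1, hq2⟩ := hg (show q ∈ PrimeSpectrum.basicOpen g from fun hgI =>
        Set.disjoint_left.1 hdis hgI (Submonoid.mem_powers g))
      obtain ⟨hs, -⟩ := rankAtStalk_le_of_notMem f q hq1
      haveI : Module.Free (Localization.AtPrime I) (LocalizedModule I.primeCompl M) :=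
        Module.free_of_flat_of_isLocalRing
      haveI : Module.Free (Localization.AtPrime I) (LocalizedModule I.primeCompl (Fin (rankAtStalk M p) → R)) :=
        Module.free_of_flat_of_isLocalRing
      haveI : Nontrivial R := q.nontrivial
      let e : LocalizedModule I.primeCompl M ≃ₗ[Localization.AtPrime I]
          LocalizedModule I.primeCompl (Fin (rankAtStalk M p) → R) :=
        LinearEquiv.ofFinrankEq _ _ (by
          change rankAtStalk M q = rankAtStalk (Fin (rankAtStalk M p) → R) q
          simpa using hq2)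
      have hi : Function.Injective (LocalizedModule.map I.primeCompl f) := by
        have := OrzechProperty.injective_of_surjective_endomorphism
          (e.toLinearMap ∘ₗ LocalizedModule.map I.primeCompl f) (e.surjective.comp hs)
        exact Function.Injective.of_comp this
      have h0 : LocalizedModule.mkLinearMap I.primeCompl _ x = 0 := hi (by
        rw [LocalizedModule.mkLinearMap_apply, LocalizedModule.map_mk, LinearMap.mem_ker.1 hx, map_zero,
          LocalizedModule.zero_mk])
      obtain ⟨c, hc⟩ := (IsLocalizedModule.eq_zero_iff I.primeCompl (LocalizedModule.mkLinearMap I.primeCompl _)).1 h0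
      exact c.2 (hle ((Ideal.mem_torsionOf_iff _ _).2 hc))
    have hcok : ∀ y : M, ∃ k : ℕ, g ^ k • y ∈ LinearMap.range f := by
      intro y
      have : Subsingleton (LocalizedModule.Away g (M ⧸ LinearMap.range f)) :=
        LocalizedModule.subsingleton_iff_disjoint.2 (Set.disjoint_left.2 fun q hq => (hg hq).1)
      obtain ⟨_, ⟨k, rfl⟩, hk⟩ := LocalizedModule.subsingleton_iff.1 this (Submodule.Quotient.mk y)
      exact ⟨k, by rwa [← Submodule.Quotient.mk_smul, Submodule.Quotient.mk_eq_zero] at hk⟩
    let fg := LocalizedModule.map (Submonoid.powers g) f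
    have hinj : Function.Injective fg := by
      rw [← LinearMap.ker_eq_bot, LinearMap.ker_eq_bot']
      intro y hy
      induction y using LocalizedModule.induction_on with
      | _ v s =>
        rw [LocalizedModule.map_mk, IsLocalizedModule.mk_eq_mk', IsLocalizedModule.mk'_eq_zero'] at hy
        obtain ⟨⟨c, hc⟩, hcv⟩ := hy
        obtain ⟨k, hk⟩ := hker (c • v) (by rw [LinearMap.mem_ker, map_smul]; exact hcv)
        rw [IsLocalizedModule.mk_eq_mk', IsLocalizedModule.mk'_eq_zero']
        exact ⟨⟨g ^ k * c, Submonoid.mul_mem _ ⟨k, rfl⟩ hc⟩, by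
          rw [Submonoid.smul_def, mul_smul]; exact hk⟩
    have hsurj : Function.Surjective fg := by
      intro y
      induction y using LocalizedModule.induction_on with
      | _ m s =>
        obtain ⟨k, v, hv⟩ := hcok m
        refine ⟨LocalizedModule.mk v ((⟨g ^ k, k, rfl⟩ : Submonoid.powers g) * s), ?_⟩
        rw [LocalizedModule.map_mk, hv]
        exact LocalizedModule.mk_cancel_common_left (⟨g ^ k, k, rfl⟩ : Submonoid.powers g) s m
    exact Module.FinitePresentation.of_equiv (LinearEquiv.ofBijective fg ⟨hinj, hsurj⟩)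
  choose g hgp hg using key
  refine Module.FinitePresentation.of_localizationSpan (Set.range g) ?_ fun r => ?_
  · by_contra hne
    obtain ⟨m, hm, hle⟩ := Ideal.exists_le_maximal _ hne
    exact hgp ⟨m, hm.isPrime⟩ (hle (Ideal.subset_span ⟨_, rfl⟩))
  · obtain ⟨_, p, rfl⟩ := r
    exact hg p

/-- The ideal of elements vanishing in all local rings at points of `Z`. -/
def vanishingLocal (Z : Set (PrimeSpectrum R)) : Ideal R :=
  ⨅ q ∈ Z, RingHom.ker (algebraMap R (Localization.AtPrime q.asIdeal))

theorem mem_vanishingLocal {Z : Set (PrimeSpectrum R)} {x : R} :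
    x ∈ vanishingLocal Z ↔ ∀ q ∈ Z, ∃ t ∉ q.asIdeal, t * x = 0 := by
  simp only [vanishingLocal, Submodule.mem_iInf, RingHom.mem_ker]
  refine forall₂_congr fun q _ => ?_
  rw [IsLocalization.map_eq_zero_iff q.asIdeal.primeCompl]
  exact ⟨fun ⟨t, ht⟩ => ⟨t, t.2, ht⟩, fun ⟨t, ht, htx⟩ => ⟨⟨t, ht⟩, htx⟩⟩

theorem zeroLocus_vanishingLocal {Z : Set (PrimeSpectrum R)} (hc : IsClosed Z)
    (hg : StableUnderGeneralization Z) :
    PrimeSpectrum.zeroLocus (vanishingLocal Z : Set R) = Z := by
  refine Set.Subset.antisymm (fun p hp => ?_) fun q hq x hx => ?_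
  · by_contra hpZ
    have key : ∀ q ∈ Z, ∃ t ∉ q.asIdeal, ∃ s ∉ p.asIdeal, t * s = 0 := by
      intro q hq
      by_contra hne
      simp only [not_exists, not_and] at hne
      obtain ⟨r, hr, -, hdis⟩ := Ideal.exists_le_prime_disjoint (⊥ : Ideal R)
        (q.asIdeal.primeCompl ⊔ p.asIdeal.primeCompl) (Set.disjoint_left.2 fun a ha hm => by
          obtain ⟨t, ht, s, hs, hts⟩ := Submonoid.mem_sup.1 hm
          exact hne t ht s hs (hts.trans (Ideal.mem_bot.1 ha)))
      have hrq : r ≤ q.asIdeal := fun a ha => by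
        by_contra h; exact Set.disjoint_left.1 hdis ha (Submonoid.mem_sup_left h)
      have hrp : r ≤ p.asIdeal := fun a ha => by
        by_contra h; exact Set.disjoint_left.1 hdis ha (Submonoid.mem_sup_right h)
      have hrZ : (⟨r, hr⟩ : PrimeSpectrum R) ∈ Z :=
        hg ((PrimeSpectrum.le_iff_specializes ⟨r, hr⟩ q).1 hrq) hq
      exact hpZ (hc.stableUnderSpecialization ((PrimeSpectrum.le_iff_specializes ⟨r, hr⟩ p).1 hrp) hrZ)
    choose! t ht s hs hts using key
    obtain ⟨F, hF⟩ := hc.isCompact.elim_finite_subcover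
      (fun q : Z => (PrimeSpectrum.basicOpen (t q.1) : Set (PrimeSpectrum R)))
      (fun q => (PrimeSpectrum.basicOpen _).2)
      fun q hq => Set.mem_iUnion.2 ⟨⟨q, hq⟩, ht q hq⟩
    have hmem := hp (show F.prod (fun q : Z => s q.1) ∈ vanishingLocal Z from ?_)
    · obtain ⟨q, -, hq⟩ := (Ideal.IsPrime.prod_mem_iff).1 hmem
      exact hs q.1 q.2 hq
    · refine mem_vanishingLocal.2 fun q hq => ?_
      obtain ⟨j, hj, hqj⟩ := Set.mem_iUnion₂.1 (hF hq)
      refine ⟨t j.1, hqj, ?_⟩
      obtain ⟨c, hc⟩ := Finset.dvd_prod_of_mem (fun q : Z => s q.1) hj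
      rw [hc, ← mul_assoc, hts j.1 j.2, zero_mul]
  · obtain ⟨t, ht, htx⟩ := mem_vanishingLocal.1 hx q hq
    exact (q.isPrime.mem_or_mem (htx ▸ q.asIdeal.zero_mem)).resolve_left ht

theorem pure_vanishingLocal {Z : Set (PrimeSpectrum R)} (hc : IsClosed Z)
    (hg : StableUnderGeneralization Z) : (vanishingLocal Z).Pure := by
  refine Ideal.Pure.of_inf_eq_mul _ fun J _ => le_antisymm (fun x hx => ?_) Ideal.mul_le_inf
  have htop : Ideal.torsionOf R R x ⊔ vanishingLocal Z = ⊤ := by
    by_contra hne
    obtain ⟨m, hm, hle⟩ := Ideal.exists_le_maximal _ hne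
    have hmZ : (⟨m, hm.isPrime⟩ : PrimeSpectrum R) ∈ Z := by
      rw [← zeroLocus_vanishingLocal hc hg]
      exact (le_sup_right.trans hle : vanishingLocal Z ≤ m)
    obtain ⟨t, ht, htx⟩ := mem_vanishingLocal.1 hx.1 _ hmZ
    exact ht (hle (Submodule.mem_sup_left ((Ideal.mem_torsionOf_iff _ _).2 htx)))
  obtain ⟨a, ha, y, hy, hay⟩ := Submodule.mem_sup.1 (htop ▸ Submodule.mem_top : (1 : R) ∈ _)
  have : x = y * x := by
    have h1 := congrArg (· * x) hay
    have h2 : a * x = 0 := (Ideal.mem_torsionOf_iff _ _).1 ha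
    simp only [add_mul, one_mul, h2, zero_add] at h1
    exact h1.symm
  rw [this]
  exact Ideal.mul_mem_mul hy hx.2

theorem main :
    (∀ Z : Set (PrimeSpectrum R), IsClosed Z → StableUnderGeneralization Z → IsOpen Z) ↔
      ∀ (M : Type u) [AddCommGroup M] [Module R M], Module.Finite R M → Module.Flat R M →
        Module.Projective R M := by
  constructor
  · intro h M _ _ _ _
    have hge : ∀ n : ℕ, IsOpen {q : PrimeSpectrum R | n ≤ rankAtStalk M q} := by
      intro n
      refine h _ ?_ ?_
      · simpa [← isOpen_compl_iff, Set.compl_setOf, not_le] using isOpen_rank_lt (M := M) n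
      · intro x y hxy hx
        have := rankAtStalk_eq_of_le_of_finite_of_flat M
          ((PrimeSpectrum.le_iff_specializes y x).2 hxy)
        show n ≤ rankAtStalk M y
        have hx' : n ≤ rankAtStalk M x := hx
        omega
    haveI := finitePresentation_of_isLocallyConstant (M := M)
      (IsLocallyConstant.iff_isOpen_fiber.2 fun n => by
        have := (hge n).inter (isOpen_rank_lt (M := M) (n + 1))
        convert this using 1
        ext q
        simp only [Set.mem_preimage, Set.mem_singleton_iff, Set.mem_inter_iff, Set.mem_setOf_eq]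
        omega)
    exact Module.Flat.projective_of_finitePresentation
  · intro h Z hc hg
    haveI hp : (vanishingLocal Z).Pure := pure_vanishingLocal hc hg
    haveI : Module.Projective R (R ⧸ vanishingLocal Z) := h _ inferInstance hp
    haveI : Module.FinitePresentation R (R ⧸ vanishingLocal Z) :=
      Module.finitePresentation_of_projective R _
    have hfg : (vanishingLocal Z).FG := by
      have := Module.FinitePresentation.fg_ker (vanishingLocal Z).mkQ (Submodule.mkQ_surjective _)
      rwa [Submodule.ker_mkQ] at this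
    obtain ⟨e, he, he2⟩ := ((vanishingLocal Z).isIdempotentElem_iff_of_fg hfg).1
      (vanishingLocal Z).isIdempotentElem_of_pure
    rw [← zeroLocus_vanishingLocal hc hg, he2]
    change IsOpen (PrimeSpectrum.zeroLocus ((Ideal.span {e} : Ideal R) : Set R))
    rw [PrimeSpectrum.zeroLocus_span, PrimeSpectrum.zeroLocus_eq_basicOpen_of_isIdempotentElem e he]
    exact (PrimeSpectrum.basicOpen (1 - e)).2

end Groth.Agent.H22.FlatProj
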