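import Mathlib

set_option autoImplicit false
universe u

open CategoryTheory CategoryTheory.Limits

namespace Groth.Agent.H22.FreeRes

variable {R : Type u} [CommRing R]

open scoped Classical in
/-- A generating set, finite when possible. -/
noncomputable def gens {X : ModuleCat.{u} R} (S : Submodule R X) : Set X :=
  if h : S.FG then (h.choose : Set X) else (S : Set X)

theorem span_gens {X : ModuleCat.{u} R} (S : Submodule R X) : Submodule.span R (gens S) = S := by
  unfold gens
  split_ifs with h
  · exact h.choose_spec
  · exact Submodule.span_eq S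

theorem finite_gens {X : ModuleCat.{u} R} {S : Submodule R X} (h : S.FG) : (gens S).Finite := by
  unfold gens
  rw [dif_pos h]
  exact Finset.finite_toSet _

/-- A free module covering a submodule. -/
noncomputable abbrev cover {X : ModuleCat.{u} R} (S : Submodule R X) : ModuleCat.{u} R :=
  ModuleCat.of R (gens S →₀ R)

noncomputable def coverMap {X : ModuleCat.{u} R} (S : Submodule R X) : cover S ⟶ X :=
  ModuleCat.ofHom (Finsupp.linearCombination R (Subtype.val : gens S → X))

theorem range_coverMap {X : ModuleCat.{u} R} (S : Submodule R X) :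
    LinearMap.range (coverMap S).hom = S := by
  simp only [coverMap, ModuleCat.hom_ofHom]
  rw [Finsupp.range_linearCombination, Subtype.range_coe_subtype, Set.ofPred_mem_eq, span_gens]

instance {X : ModuleCat.{u} R} (S : Submodule R X) : Module.Free R (cover S) :=
  inferInstanceAs (Module.Free R (gens S →₀ R))

theorem finite_cover {X : ModuleCat.{u} R} {S : Submodule R X} (h : S.FG) : Module.Finite R (cover S) := by
  have := (finite_gens h).to_subtype
  exact inferInstanceAs (Module.Finite R (gens S →₀ R))

variable (M : ModuleCat.{u} R)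

noncomputable def seq : ℕ → Σ' (X Y : ModuleCat.{u} R), X ⟶ Y
  | 0 => ⟨cover (⊤ : Submodule R M), M, coverMap _⟩
  | n + 1 => ⟨cover (LinearMap.ker (seq n).2.2.hom), (seq n).1, coverMap _⟩

theorem seq_comp (n : ℕ) : (seq M (n + 1)).2.2 ≫ (seq M n).2.2 = 0 := by
  refine ModuleCat.hom_ext (LinearMap.ext fun x => ?_)
  have h : (seq M (n + 1)).2.2.hom x ∈ LinearMap.range (coverMap (LinearMap.ker (seq M n).2.2.hom)).hom :=
    ⟨x, rfl⟩
  rw [range_coverMap] at h
  exact h

noncomputable def cx : ChainComplex (ModuleCat.{u} R) ℕ :=
  ChainComplex.of (fun n => (seq M n).1) (fun n => (seq M (n + 1)).2.2) fun n => seq_comp M (n + 1)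

theorem range_eq_ker (n : ℕ) :
    LinearMap.range (seq M (n + 1)).2.2.hom = LinearMap.ker (seq M n).2.2.hom :=
  range_coverMap _

theorem cx_d (n : ℕ) : (cx M).d (n + 1) n = (seq M (n + 1)).2.2 :=
  ChainComplex.of_d (fun n => (seq M n).1) (fun n => (seq M (n + 1)).2.2) n

theorem exactAt_succ (n : ℕ) : (cx M).ExactAt (n + 1) := by
  rw [HomologicalComplex.exactAt_iff' _ (n + 1 + 1) (n + 1) n (by simp) (by simp),
    ShortComplex.moduleCat_exact_iff_range_eq_ker]
  show LinearMap.range ((cx M).d (n + 1 + 1) (n + 1)).hom = LinearMap.ker ((cx M).d (n + 1) n).hom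
  rw [cx_d, cx_d]
  exact range_eq_ker M (n + 1)

instance (n : ℕ) : Module.Free R (seq M n).1 := by
  cases n <;> exact inferInstanceAs (Module.Free R (cover _))

theorem finite_seq [IsNoetherianRing R] [Module.Finite R M] : ∀ n, Module.Finite R (seq M n).1
  | 0 => finite_cover Module.Finite.fg_top
  | n + 1 => by
    haveI := finite_seq n
    exact finite_cover (IsNoetherian.noetherian _)

instance (n : ℕ) : Projective ((cx M).X n) :=
  IsProjective.iff_projective (R := R) (seq M n).1 |>.1 (Module.Projective.of_free)

noncomputable def resolution : ProjectiveResolution M where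
  complex := cx M
  π := (ChainComplex.toSingle₀Equiv _ _).symm ⟨(seq M 0).2.2, by rw [cx_d]; exact seq_comp M 0⟩
  quasiIso := ⟨fun n => by
    cases n
    · rw [ChainComplex.quasiIsoAt₀_iff, ShortComplex.quasiIso_iff_of_zeros']
      · have hepi : Epi (seq M 0).2.2 := by
          rw [ModuleCat.epi_iff_range_eq_top]
          exact range_coverMap _
        refine (ShortComplex.exact_and_epi_g_iff_of_iso ?_).2
          (show (ShortComplex.mk (seq M 1).2.2 (seq M 0).2.2 (seq_comp M 0)).Exact ∧
            Epi (ShortComplex.mk (seq M 1).2.2 (seq M 0).2.2 (seq_comp M 0)).g from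
            ⟨(ShortComplex.moduleCat_exact_iff_range_eq_ker _).2 (range_eq_ker M 0), hepi⟩)
        exact ShortComplex.isoMk (Iso.refl _) (Iso.refl _) (Iso.refl _)
          ((Category.id_comp _).trans ((cx_d M 0).symm.trans (Category.comp_id _).symm))
          ((Category.id_comp _).trans (Category.comp_id _).symm)
      all_goals rfl
    · rw [quasiIsoAt_iff_exactAt']
      · apply exactAt_succ
      · apply ChainComplex.exactAt_succ_single_obj⟩

end Groth.Agent.H22.FreeRes
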