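import Groth.Agent.H22.Nil
import Groth.Agent.Lib.LocalFlat.Criterion
import Mathlib.RingTheory.Flat.Tensor
import Mathlib.LinearAlgebra.TensorProduct.Tower

/-! Flatness from flatness of the adic quotients or of the associated graded. -/

open TensorProduct LinearMap

namespace Groth.Agent.H22.GrFlat

universe u

variable {A : Type u} [CommRing A] {B : Type u} [CommRing B] [Algebra A B]
variable {N : Type u} [AddCommGroup N] [Module B N] [Module A N] [IsScalarTower A B N]

theorem flat_of_flat_quotients [IsNoetherianRing B] [Module.Finite B N] (I : Ideal B)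
    (hI : I ≤ Ideal.jacobson ⊥)
    (h : ∀ n, Module.Flat A (N ⧸ (I ^ n • (⊤ : Submodule B N)))) : Module.Flat A N := by
  rw [Module.Flat.iff_lTensor_injective]
  intro J hJ
  have : Module.Finite A J := Module.Finite.iff_fg.2 hJ
  have : Module.Finite B (N ⊗[A] J) :=
    Module.Finite.equiv (AlgebraTensorModule.cancelBaseChange A B B N J)
  rw [injective_iff_map_eq_zero]
  intro x hx
  refine Lib.LocalFlat.Criterion.iInf_pow_smul_eq_bot_of_le_jacobson hI fun n => ?_
  let K := I ^ n • (⊤ : Submodule B N)
  have := h n
  let q : N →ₗ[A] N ⧸ K := K.mkQ.restrictScalars A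
  have h0 : q.rTensor J x = 0 := by
    apply Module.Flat.lTensor_preserves_injective_linearMap (M := N ⧸ K) J.subtype J.subtype_injective
    rw [map_zero, ← LinearMap.comp_apply, lTensor_comp_rTensor, ← rTensor_comp_lTensor,
      LinearMap.comp_apply]
    erw [hx]
    exact map_zero _
  obtain ⟨y, rfl⟩ := (rTensor_exact J (f := K.subtype.restrictScalars A) (g := q)
    (LinearMap.exact_subtype_mkQ K) K.mkQ_surjective x).1 h0
  clear h0 hx
  induction y using TensorProduct.induction_on with
  | zero => rw [map_zero]; exact Submodule.zero_mem _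
  | add a b ha hb => rw [map_add]; exact add_mem ha hb
  | tmul t z =>
    rw [rTensor_tmul]
    refine Submodule.smul_induction_on (p := fun w => w ⊗ₜ[A] z ∈
      I ^ n • (⊤ : Submodule B (N ⊗[A] J))) t.2 ?_ ?_
    · intro r hr w _
      rw [← smul_tmul']
      exact Submodule.smul_mem_smul hr trivial
    · intro a b ha hb
      rw [add_tmul]
      exact add_mem ha hb

theorem ker_factor {p q : Submodule B N} (h : p ≤ q) :
    LinearMap.ker (Submodule.factor h) = q.map p.mkQ := by
  show LinearMap.ker (Submodule.mapQ p q LinearMap.id h) = _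
  rw [Submodule.ker_mapQ, Submodule.comap_id]

theorem flat_of_flat_gr [IsNoetherianRing B] [Module.Finite B N] (I : Ideal B)
    (hI : I ≤ Ideal.jacobson ⊥)
    (h : ∀ n : ℕ, Module.Flat A
      (↥(I ^ n • (⊤ : Submodule B N)) ⧸ (I • (⊤ : Submodule B ↥(I ^ n • (⊤ : Submodule B N)))))) :
    Module.Flat A N := by
  refine flat_of_flat_quotients I hI fun n => ?_
  induction n with
  | zero =>
    have : Subsingleton (N ⧸ (I ^ 0 • (⊤ : Submodule B N))) :=
      Submodule.Quotient.subsingleton_iff.2 (by simp)
    infer_instance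
  | succ n ih =>
    have := h n
    let K := I ^ n • (⊤ : Submodule B N)
    let L := I ^ (n + 1) • (⊤ : Submodule B N)
    have hLK : L ≤ K := Submodule.smul_mono (Ideal.pow_le_pow_right n.le_succ) le_rfl
    have hmap : (I • (⊤ : Submodule B K)).map K.subtype = L := by
      rw [Submodule.map_smul'', Submodule.map_subtype_top, ← Submodule.mul_smul, ← pow_succ']
    have hle : (I • (⊤ : Submodule B K)) ≤ L.comap K.subtype :=
      Submodule.map_le_iff_le_comap.1 hmap.le
    let f : (K ⧸ (I • (⊤ : Submodule B K))) →ₗ[B] N ⧸ L := Submodule.mapQ _ L K.subtype hle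
    let g : N ⧸ L →ₗ[B] N ⧸ K := Submodule.factor hLK
    have hf : Function.Injective f := by
      rw [← LinearMap.ker_eq_bot, Submodule.ker_mapQ]
      rw [← hmap, Submodule.comap_map_eq_of_injective K.injective_subtype, Submodule.mkQ_map_self]
    have hfg : Function.Exact f g := by
      rw [LinearMap.exact_iff, Submodule.range_mapQ, Submodule.range_subtype, ker_factor]
    exact Nil.flat_of_exact (f.restrictScalars A) (g.restrictScalars A) hf hfg
      (Submodule.factor_surjective hLK)

theorem flat_of_flat_mod_regular [IsNoetherianRing B] [Module.Finite B N] (f : B)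
    (hf : f ∈ Ideal.jacobson (⊥ : Ideal B)) (hreg : IsSMulRegular N f)
    (h : Module.Flat A (N ⧸ (Ideal.span {f} • (⊤ : Submodule B N)))) : Module.Flat A N := by
  have hsp : ∀ k, (Ideal.span {f} ^ k • (⊤ : Submodule B N)) = LinearMap.range (f ^ k • LinearMap.id) := by
    intro k
    rw [Ideal.span_singleton_pow, Submodule.ideal_span_singleton_smul]
    refine le_antisymm ?_ ?_
    · rintro _ ⟨x, -, rfl⟩; exact ⟨x, rfl⟩
    · rintro _ ⟨x, rfl⟩; exact ⟨x, trivial, rfl⟩
  refine flat_of_flat_quotients (Ideal.span {f}) ((Ideal.span_singleton_le_iff_mem _).2 hf)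
    fun n => ?_
  induction n with
  | zero =>
    have : Subsingleton (N ⧸ (Ideal.span {f} ^ 0 • (⊤ : Submodule B N))) :=
      Submodule.Quotient.subsingleton_iff.2 (by simp)
    infer_instance
  | succ n ih =>
    have hLK : Ideal.span {f} ^ (n + 1) • (⊤ : Submodule B N) ≤ Ideal.span {f} ^ n • ⊤ :=
      Submodule.smul_mono (Ideal.pow_le_pow_right n.le_succ) le_rfl
    have hle : Ideal.span {f} • (⊤ : Submodule B N) ≤
        (Ideal.span {f} ^ (n + 1) • (⊤ : Submodule B N)).comap (f ^ n • LinearMap.id) := by
      refine Submodule.map_le_iff_le_comap.1 ?_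
      rw [Submodule.map_smul'', Submodule.map_top, ← hsp, ← Submodule.mul_smul, ← pow_succ']
    let φ := Submodule.mapQ _ (Ideal.span {f} ^ (n + 1) • (⊤ : Submodule B N))
      (f ^ n • (LinearMap.id : N →ₗ[B] N)) hle
    let ψ := Submodule.factor hLK
    have hφ : Function.Injective φ := by
      rw [injective_iff_map_eq_zero]
      intro x hx
      obtain ⟨x, rfl⟩ := Submodule.mkQ_surjective _ x
      rw [Submodule.mkQ_apply, Submodule.mapQ_apply, Submodule.Quotient.mk_eq_zero, hsp] at hx
      obtain ⟨y, hy⟩ := hx
      refine (Submodule.Quotient.mk_eq_zero _).2 ?_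
      have hxy : x = f • y := (hreg.pow n) (by
        simpa [pow_succ, mul_smul] using hy.symm)
      rw [hxy]
      exact Submodule.smul_mem_smul (Ideal.mem_span_singleton_self f) trivial
    have hex : Function.Exact φ ψ := by
      rw [LinearMap.exact_iff, Submodule.range_mapQ, ker_factor, hsp n]
    exact Nil.flat_of_exact (φ.restrictScalars A) (ψ.restrictScalars A) hφ hex
      (Submodule.factor_surjective hLK)

end Groth.Agent.H22.GrFlat
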