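import Groth.Prelude.Def_GrMap2
import Groth.Prelude.Def_AssocGrMod
import Mathlib

set_option autoImplicit false
universe u

open Polynomial

namespace Groth.Agent.H22.GrHelp

open AssocGr

section Ring
variable {A B : Type u} [CommRing A] [CommRing B] {φ : A →+* B}
  {𝓕 : FiltBl.IdealFiltration A} {𝓖 : FiltBl.IdealFiltration B}

theorem map_injective_of (h : IsFiltHom φ 𝓕 𝓖)
    (hinj : ∀ n, ∀ a ∈ 𝓕.F n, φ a ∈ 𝓖.F (n + 1) → a ∈ 𝓕.F (n + 1)) :
    Function.Injective (AssocGr.map h) := by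
  rw [injective_iff_map_eq_zero]
  intro x hx
  obtain ⟨f, rfl⟩ := mkG_surjective 𝓕 x
  rw [map_mkG, mkG_eq_zero_iff] at hx
  rw [mkG_eq_zero_iff]
  intro n
  have := hx n
  rw [coe_reesMap, Polynomial.coeff_map] at this
  exact hinj n _ (f.2 n) this

theorem map_surjective_of (h : IsFiltHom φ 𝓕 𝓖)
    (hsurj : ∀ n, ∀ b ∈ 𝓖.F n, ∃ a ∈ 𝓕.F n, φ a - b ∈ 𝓖.F (n + 1)) :
    Function.Surjective (AssocGr.map h) := by
  intro x
  obtain ⟨g, rfl⟩ := mkG_surjective 𝓖 x
  have key : ∀ n, mkG 𝓖 (term 𝓖 g n) ∈ (AssocGr.map h).range := by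
    intro n
    obtain ⟨a, ha, hab⟩ := hsurj n ((g : B[X]).coeff n) (g.2 n)
    refine ⟨inDeg 𝓕 n ⟨a, ha⟩, ?_⟩
    rw [map_inDeg, mkG_term]
    refine congrArg Subtype.val (sub_eq_zero.1 ?_)
    rw [← map_sub, inDeg_eq_zero_iff]
    exact hab
  rw [← sum_term 𝓖 g, map_sum]
  exact (AssocGr.map h).range.sum_mem fun n _ => key n

theorem exists_of_map_surjective (h : IsFiltHom φ 𝓕 𝓖)
    (hs : Function.Surjective (AssocGr.map h)) (n : ℕ) (b : B) (hb : b ∈ 𝓖.F n) :
    ∃ a ∈ 𝓕.F n, φ a - b ∈ 𝓖.F (n + 1) := by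
  obtain ⟨x, hx⟩ := hs (inDeg 𝓖 n ⟨b, hb⟩ : GrRing 𝓖)
  obtain ⟨f, rfl⟩ := mkG_surjective 𝓕 x
  rw [map_mkG, coe_inDeg, ← sub_eq_zero, ← map_sub, mkG_eq_zero_iff] at hx
  refine ⟨_, f.2 n, ?_⟩
  have := hx n
  rw [AddSubgroupClass.coe_sub, coeff_sub, coe_reesMap, Polynomial.coeff_map, coe_coe_monom,
    coeff_monomial, if_pos rfl] at this
  exact this

theorem isDomain_of_gr (𝓕 : FiltBl.IdealFiltration A) (hsep : ⨅ n, 𝓕.F n = ⊥)
    [IsDomain (GrRing 𝓕)] : IsDomain A := by
  haveI : Nontrivial A := by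
    by_contra hA
    rw [not_nontrivial_iff_subsingleton] at hA
    have : Subsingleton (GrRing 𝓕) := subsingleton_of_zero_eq_one (by
      rw [← map_one (algebraMap A (GrRing 𝓕)), ← map_zero (algebraMap A (GrRing 𝓕))]
      exact congrArg _ (Subsingleton.elim _ _))
    exact false_of_nontrivial_of_subsingleton (GrRing 𝓕)
  have key : ∀ x : A, x ≠ 0 → ∃ n, x ∈ 𝓕.F n ∧ x ∉ 𝓕.F (n + 1) := by
    intro x hx
    by_contra hc
    push Not at hc
    apply hx
    rw [← Submodule.mem_bot A, ← hsep, Submodule.mem_iInf]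
    intro n
    induction n with
    | zero => rw [𝓕.zero_eq]; trivial
    | succ n ih => exact hc n ih
  haveI : NoZeroDivisors A := ⟨by
    intro x y hxy
    by_contra hc
    push Not at hc
    obtain ⟨m, hm, hm'⟩ := key x hc.1
    obtain ⟨n, hn, hn'⟩ := key y hc.2
    have h := coe_inDeg_mul 𝓕 m n ⟨x, hm⟩ ⟨y, hn⟩
    have h0 : (inDeg 𝓕 (m + n) ⟨x * y, 𝓕.mul_le m n (Ideal.mul_mem_mul hm hn)⟩ : GrRing 𝓕) = 0 := by
      rw [ZeroMemClass.coe_eq_zero, inDeg_eq_zero_iff]
      simp [hxy]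
    rcases mul_eq_zero.1 (h.trans h0) with e | e <;>
      rw [ZeroMemClass.coe_eq_zero, inDeg_eq_zero_iff] at e
    exacts [hm' e, hn' e]⟩
  exact NoZeroDivisors.to_isDomain A

end Ring

section Complete
variable {A : Type u} [CommRing A] (I : Ideal A)

/-- Limits of series in a precomplete ring. -/
theorem exists_limit [IsPrecomplete I A] (a : ℕ → A) (e : ℕ → ℕ)
    (he : ∀ c, ∃ N, ∀ n ≥ N, c ≤ e n) (ha : ∀ n, a n ∈ I ^ e n) (hmono : Monotone e) :
    ∃ L : A, ∀ n, L - ∑ k ∈ Finset.range n, a k ∈ I ^ e n := by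
  classical
  have hN : ∀ c, c ≤ e (Nat.find (he c)) := fun c => Nat.find_spec (he c) _ le_rfl
  let N : ℕ → ℕ := fun c => Nat.find (he c)
  have hNm : Monotone N := fun a b hab => Nat.find_min' _ fun n hn =>
    hab.trans (Nat.find_spec (he b) n hn)
  have hdiff : ∀ m n, m ≤ n → ∑ k ∈ Finset.Ico m n, a k ∈ I ^ e m := fun m n _ =>
    sum_mem fun k hk => Ideal.pow_le_pow_right (hmono (Finset.mem_Ico.1 hk).1) (ha k)
  obtain ⟨L, hL⟩ := IsPrecomplete.prec (I := I) (M := A) inferInstance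
    (f := fun c => ∑ k ∈ Finset.range (N c), a k) (fun {m n} hmn => by
      rw [SModEq.sub_mem, Ideal.smul_eq_mul, Ideal.mul_top]
      rw [← Finset.sum_range_add_sum_Ico _ (hNm hmn), sub_add_cancel_left]
      exact neg_mem (Ideal.pow_le_pow_right (hN m) (hdiff _ _ (hNm hmn))))
  refine ⟨L, fun n => ?_⟩
  have h1 := SModEq.sub_mem.1 (hL (e n))
  rw [Ideal.smul_eq_mul, Ideal.mul_top] at h1
  have hle : N (e n) ≤ n := Nat.find_min' _ fun k hk => hmono hk
  have h2 : ∑ k ∈ Finset.Ico (N (e n)) n, a k ∈ I ^ e n :=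
    Ideal.pow_le_pow_right (hN (e n)) (hdiff _ _ hle)
  rw [← Finset.sum_range_add_sum_Ico _ hle]
  have : L - (∑ k ∈ Finset.range (N (e n)), a k + ∑ k ∈ Finset.Ico (N (e n)) n, a k) =
      -((∑ k ∈ Finset.range (N (e n)), a k) - L) - ∑ k ∈ Finset.Ico (N (e n)) n, a k := by abel
  rw [this]
  exact sub_mem (neg_mem h1) h2

/-- A surjection on associated graded rings from a precomplete to a separated ring. -/
theorem surjective_of_map {B : Type u} [CommRing B] {φ : A →+* B} {J : Ideal B} (hIJ : I.map φ ≤ J)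
    [IsPrecomplete I A] [IsHausdorff J B]
    (h : Function.Surjective (AssocGr.map (AssocGr.IsFiltHom.adic hIJ))) (m : ℕ) (b : B)
    (hb : b ∈ J ^ m) : ∃ a ∈ I ^ m, φ a = b := by
  have step : ∀ n (c : B), c ∈ J ^ n → ∃ a ∈ I ^ n, φ a - c ∈ J ^ (n + 1) :=
    fun n c hc => exists_of_map_surjective (AssocGr.IsFiltHom.adic hIJ) h n c hc
  choose! g hg hg' using step
  let r : ℕ → B := fun k => Nat.rec b (fun i ri => ri - φ (g (m + i) ri)) k
  have hr : ∀ k, r k ∈ J ^ (m + k) := by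
    intro k
    induction k with
    | zero => exact hb
    | succ k ih =>
      show r k - φ (g (m + k) (r k)) ∈ _
      rw [← add_assoc]
      simpa using neg_mem (hg' (m + k) (r k) ih)
  have hsum : ∀ k, φ (∑ i ∈ Finset.range k, g (m + i) (r i)) = b - r k := by
    intro k
    induction k with
    | zero => simp [r]
    | succ k ih =>
      rw [Finset.sum_range_succ, map_add, ih]
      show _ = b - (r k - φ (g (m + k) (r k)))
      abel
  obtain ⟨L, hL⟩ := exists_limit I (fun i => g (m + i) (r i)) (fun i => m + i)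
    (fun c => ⟨c, fun n hn => by omega⟩) (fun i => hg _ _ (hr i)) (fun a b hab => by dsimp only; omega)
  refine ⟨L, by simpa using hL 0, ?_⟩
  refine sub_eq_zero.1 (IsHausdorff.haus ‹IsHausdorff J B› _ fun n => ?_)
  rw [SModEq.zero, Ideal.smul_eq_mul, Ideal.mul_top]
  have h1 : φ (L - ∑ i ∈ Finset.range n, g (m + i) (r i)) ∈ J ^ (m + n) := by
    have := Ideal.mem_map_of_mem φ (hL n)
    rw [Ideal.map_pow] at this
    exact Ideal.pow_right_mono hIJ _ this
  rw [map_sub, hsum] at h1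
  have h2 := sub_mem h1 (hr n)
  rw [show φ L - (b - r n) - r n = φ L - b by abel] at h2
  exact Ideal.pow_le_pow_right (Nat.le_add_left _ _) h2

end Complete

section Mod
variable {A : Type u} [CommRing A] {I : Ideal A} {M : Type u} [AddCommGroup M] [Module A M]
  {F : I.Filtration M}

theorem approx_of_mem_span {ι : Type*} [Fintype ι] (d : ι → ℕ) (x : (i : ι) → ↥(F.N (d i))) (n : ℕ)
    (y : ↥(F.N n))
    (hy : (inDegM F n y : GrMod F) ∈ Submodule.span (GrRing (FiltBl.IdealFiltration.adic I))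
      (Set.range fun i => (inDegM F (d i) (x i) : GrMod F))) :
    ∃ a : ι → A, (∀ i, a i ∈ I ^ (n - d i)) ∧ (y : M) - ∑ i, a i • (x i : M) ∈ F.N (n + 1) := by
  classical
  obtain ⟨c, hc⟩ := (Submodule.mem_span_range_iff_exists_fun _).1 hy
  choose f hf using fun i => mkG_surjective (FiltBl.IdealFiltration.adic I) (c i)
  simp only [← hf, coe_inDegM, mkG_smul_mkGM] at hc
  rw [← map_sum, ← sub_eq_zero, ← map_sub, mkGM_eq_zero_iff, mem_succMod_iff] at hc
  have hn := hc n
  rw [← ReesM.coeffHom_apply, map_sub, map_sum] at hn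
  simp only [ReesM.coeffHom_apply, ReesM.coeff_monomM, ReesM.coeff_smul, if_true] at hn
  refine ⟨fun i => if d i ≤ n then ((f i : A[X])).coeff (n - d i) else 0, fun i => ?_, ?_⟩
  · dsimp only
    split_ifs
    · exact (f i).2 _
    · exact zero_mem _
  · have heq : ∀ i, (∑ p ∈ Finset.HasAntidiagonal.antidiagonal n, ((f i : A[X])).coeff p.1 •
        (if d i = p.2 then (x i : M) else 0)) =
        (if d i ≤ n then ((f i : A[X])).coeff (n - d i) else 0) • (x i : M) := by
      intro i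
      split_ifs with hd
      · rw [Finset.sum_eq_single (n - d i, d i)]
        · simp
        · rintro ⟨p, q⟩ hpq hne
          rw [Finset.HasAntidiagonal.mem_antidiagonal] at hpq
          rw [if_neg, smul_zero]
          rintro rfl
          exact hne (Prod.ext (by omega) rfl)
        · intro h
          exact absurd (Finset.HasAntidiagonal.mem_antidiagonal.2 (by omega)) h
      · rw [zero_smul]
        refine Finset.sum_eq_zero fun p hp => ?_
        rw [Finset.HasAntidiagonal.mem_antidiagonal] at hp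
        rw [if_neg (by omega), smul_zero]
    simp only [heq] at hn
    simpa using neg_mem hn

/-- Successive approximation by homogeneous generators of the classes of a submodule `M'`. -/
theorem exists_combination [IsPrecomplete I A] (hsep : ⨅ n, F.N n = ⊥) {ι : Type*} [Fintype ι]
    (d : ι → ℕ) (x : (i : ι) → ↥(F.N (d i))) (M' : Submodule A M) (hx : ∀ i, (x i : M) ∈ M')
    (hspan : ∀ n (m : ↥(F.N n)), (m : M) ∈ M' → (inDegM F n m : GrMod F) ∈
      Submodule.span (GrRing (FiltBl.IdealFiltration.adic I))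
      (Set.range fun i => (inDegM F (d i) (x i) : GrMod F)))
    (h0 : F.N 0 = ⊤) (y : M) (hy : ∀ k, y ∈ M' ⊔ F.N k) :
    ∃ a : ι → A, y = ∑ i, a i • (x i : M) := by
  classical
  have step : ∀ n (z : M), z ∈ F.N n → (∀ k, z ∈ M' ⊔ F.N k) →
      ∃ a : ι → A, (∀ i, a i ∈ I ^ (n - d i)) ∧ z - ∑ i, a i • (x i : M) ∈ F.N (n + 1) ∧
        ∀ k, z - ∑ i, a i • (x i : M) ∈ M' ⊔ F.N k := by
    intro n z hz hzc
    obtain ⟨m, hm, r, hr, hmr⟩ := Submodule.mem_sup.1 (hzc (n + 1))
    have hmN : m ∈ F.N n := by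
      have := sub_mem hz (F.antitone n.le_succ hr)
      rwa [← hmr, add_sub_cancel_right] at this
    obtain ⟨a, ha, ha'⟩ := approx_of_mem_span d x n ⟨m, hmN⟩ (hspan n ⟨m, hmN⟩ hm)
    refine ⟨a, ha, ?_, fun k => sub_mem (hzc k) (Submodule.mem_sup_left
      (sum_mem fun i _ => M'.smul_mem _ (hx i)))⟩
    have := add_mem ha' hr
    rwa [show (⟨m, hmN⟩ : F.N n).1 - ∑ i, a i • (x i : M) + r = z - ∑ i, a i • (x i : M) by
      rw [← hmr]; abel] at this
  choose! g hg hg1 hg2 using step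
  let r : ℕ → M := fun k => Nat.rec y (fun n z => z - ∑ i, g n z i • (x i : M)) k
  have hr : ∀ k, r k ∈ F.N k ∧ ∀ l, r k ∈ M' ⊔ F.N l := by
    intro k
    induction k with
    | zero => exact ⟨h0 ▸ Submodule.mem_top, hy⟩
    | succ k ih => exact ⟨hg1 k _ ih.1 ih.2, hg2 k _ ih.1 ih.2⟩
  have hL : ∀ i, ∃ L : A, ∀ n, L - ∑ k ∈ Finset.range n, g k (r k) i ∈ I ^ (n - d i) := fun i =>
    exists_limit I (fun k => g k (r k) i) (fun k => k - d i) (fun c => ⟨c + d i, fun n hn => by omega⟩)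
      (fun k => hg k _ (hr k).1 (hr k).2 i) (fun a b hab => by dsimp only; omega)
  choose L hL using hL
  refine ⟨L, sub_eq_zero.1 ?_⟩
  rw [← Submodule.mem_bot A, ← hsep, Submodule.mem_iInf]
  intro n
  have hsum : ∀ k, r k = y - ∑ i, (∑ j ∈ Finset.range k, g j (r j) i) • (x i : M) := by
    intro k
    induction k with
    | zero => simp [r]
    | succ k ih =>
      show r k - ∑ i, g k (r k) i • (x i : M) = _
      simp only [Finset.sum_range_succ, add_smul, Finset.sum_add_distrib]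
      rw [← sub_sub, ← ih]
  have h1 : ∑ i, (L i - ∑ j ∈ Finset.range n, g j (r j) i) • (x i : M) ∈ F.N n := by
    refine sum_mem fun i _ => ?_
    refine F.antitone (show n ≤ (n - d i) + d i by omega) ?_
    exact F.pow_smul_le _ _ (Submodule.smul_mem_smul (hL i n) (x i).2)
  have h2 := sub_mem (hr n).1 h1
  rw [hsum] at h2
  simpa only [sub_smul, Finset.sum_sub_distrib, sub_sub, add_sub_cancel] using h2

/-- Homogeneous classes of a set span a finitely generated submodule: finitely many suffice. -/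
theorem exists_finite_classes (M' : Submodule A M)
    (hfg : (Submodule.span (GrRing (FiltBl.IdealFiltration.adic I))
      {g : GrMod F | ∃ n, ∃ m : ↥(F.N n), (m : M) ∈ M' ∧ (inDegM F n m : GrMod F) = g}).FG) :
    ∃ (k : ℕ) (d : Fin k → ℕ) (x : (i : Fin k) → ↥(F.N (d i))), (∀ i, (x i : M) ∈ M') ∧
      ∀ n (m : ↥(F.N n)), (m : M) ∈ M' → (inDegM F n m : GrMod F) ∈
        Submodule.span (GrRing (FiltBl.IdealFiltration.adic I))
        (Set.range fun i => (inDegM F (d i) (x i) : GrMod F)) := by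
  classical
  obtain ⟨s, hs, hs'⟩ := (Submodule.fg_span_iff_fg_span_finset_subset _).1 hfg
  have hs2 : ∀ g : ↥s, ∃ n, ∃ m : ↥(F.N n), (m : M) ∈ M' ∧ (inDegM F n m : GrMod F) = g.1 :=
    fun g => hs g.2
  choose d x hx hxg using hs2
  let e := s.equivFin.symm
  refine ⟨s.card, fun i => d (e i), fun i => x (e i), fun i => hx _, fun n m hm => ?_⟩
  have hr : Set.range (fun i => (inDegM F (d (e i)) (x (e i)) : GrMod F)) = (s : Set (GrMod F)) := by
    ext g
    constructor
    · rintro ⟨i, rfl⟩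
      simp [hxg]
    · intro hg
      refine ⟨e.symm ⟨g, hg⟩, ?_⟩
      dsimp only
      rw [hxg]; simp
  rw [hr, ← hs']
  exact Submodule.subset_span ⟨n, m, hm, rfl⟩

theorem isNoetherian_and_closed [IsPrecomplete I A] (h0 : F.N 0 = ⊤) (hsep : ⨅ n, F.N n = ⊥)
    [IsNoetherian (GrRing (FiltBl.IdealFiltration.adic I)) (GrMod F)] :
    IsNoetherian A M ∧ ∀ M' : Submodule A M, ⨅ n, M' ⊔ F.N n = M' := by
  have key : ∀ M' : Submodule A M, ∃ (k : ℕ) (v : Fin k → M), (∀ i, v i ∈ M') ∧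
      ∀ y ∈ ⨅ n, M' ⊔ F.N n, y ∈ Submodule.span A (Set.range v) := by
    intro M'
    obtain ⟨k, d, x, hx, hspan⟩ := exists_finite_classes (F := F) M' (IsNoetherian.noetherian _)
    refine ⟨k, fun i => x i, hx, fun y hy => ?_⟩
    rw [Submodule.mem_iInf] at hy
    obtain ⟨a, rfl⟩ := exists_combination hsep d x M' hx hspan h0 y hy
    exact sum_mem fun i _ => Submodule.smul_mem _ _ (Submodule.subset_span ⟨i, rfl⟩)
  refine ⟨⟨fun M' => ?_⟩, fun M' => le_antisymm ?_ (le_iInf fun n => le_sup_left)⟩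
  · obtain ⟨k, v, hv, h⟩ := key M'
    have : Submodule.span A (Set.range v) = M' :=
      le_antisymm (Submodule.span_le.2 (Set.range_subset_iff.2 hv))
        fun y hy => h y (Submodule.mem_iInf _ |>.2 fun n => Submodule.mem_sup_left hy)
    exact this ▸ Submodule.fg_span (Set.finite_range v)
  · obtain ⟨k, v, hv, h⟩ := key M'
    exact fun y hy => Submodule.span_le.2 (Set.range_subset_iff.2 hv) (h y hy)

theorem span_classes_eq_top :
    Submodule.span (GrRing (FiltBl.IdealFiltration.adic I))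
      {g : GrMod F | ∃ n, ∃ m : ↥(F.N n), (m : M) ∈ (⊤ : Submodule A M) ∧ (inDegM F n m : GrMod F) = g} = ⊤ := by
  classical
  rw [eq_top_iff]
  intro g _
  rw [← DirectSum.sum_support_decompose (grM F) g]
  refine sum_mem fun n _ => Submodule.subset_span ?_
  obtain ⟨m, hm⟩ := inDegM_surjective F n (DirectSum.decompose (grM F) g n)
  exact ⟨n, m, trivial, congrArg Subtype.val hm⟩

end Mod

end Groth.Agent.H22.GrHelp
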