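import Groth.Agent.H30.FSch.QcFT
import Groth.Agent.H30.ColimCoh.Sections
import Mathlib.CategoryTheory.ObjectProperty.Ind

/-!
# Filtered colimits of coherent modules on a Noetherian formal scheme are quasi-coherent (helper22)
-/

set_option autoImplicit false
set_option maxHeartbeats 1000000
set_option linter.style.haveILetI false

universe u

open CategoryTheory CategoryTheory.Limits AlgebraicGeometry TopologicalSpace Opposite
open Groth.Agent.H30 Groth.Agent.Lib.EtMod

namespace Groth.Agent.H22.IndQcoh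

section Generic

variable {X : TopCat.{u}} {R : Sheaf (Opens.grothendieckTopology X) RingCat.{u}}
  {M : SheafOfModules.{u} R} {W : Opens X}

/-- Combinations of restrictions of all sections over `W`. -/
noncomputable abbrev lcW {Z : Opens X} (hZ : Z ≤ W) :
    (M.val.obj (op W) →₀ R.obj.obj (op Z)) →ₗ[R.obj.obj (op Z)] M.val.obj (op Z) :=
  Finsupp.linearCombination _ fun p => PresSh.res M hZ p

/-- Restriction of finitely supported vectors. -/
noncomputable abbrev rC {I : Type u} {Z V : Opens X} (e : V ≤ Z) (b : I →₀ R.obj.obj (op Z)) :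
    I →₀ R.obj.obj (op V) :=
  Finsupp.mapRange (R.obj.map (homOfLE e).op) (map_zero (R.obj.map (homOfLE e).op).hom) b

/-- The relations between all sections over `W`. -/
abbrev RelW (M : SheafOfModules.{u} R) (W : Opens X) : Type u :=
  {c : M.val.obj (op W) →₀ R.obj.obj (op W) // lcW le_rfl c = 0}

theorem nonempty_presentation
    (hgen : ∀ (Z : Opens X) (_ : Z ≤ W) (s : M.val.obj (op Z)), ∀ z ∈ Z,
      ∃ (V : Opens X) (hVZ : V ≤ Z) (hVW : V ≤ W) (_ : z ∈ V)
        (b : M.val.obj (op W) →₀ R.obj.obj (op V)), lcW hVW b = PresSh.res M hVZ s)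
    (hex : ∀ (Z : Opens X) (hZ : Z ≤ W) (b : M.val.obj (op W) →₀ R.obj.obj (op Z)),
      lcW hZ b = 0 → ∀ z ∈ Z,
      ∃ (V : Opens X) (hVZ : V ≤ Z) (hVW : V ≤ W) (_ : z ∈ V) (d : RelW M W →₀ R.obj.obj (op V)),
        rC hVZ b = d.sum fun j a => a • rC hVW j.1) :
    Nonempty (M.over W).Presentation := by
  classical
  let s₀ : M.val.obj (op W) → (M.over W).sections := fun p => PresSh.secOver M p
  let g : SheafOfModules.free (R := R.over W) (M.val.obj (op W)) ⟶ M.over W :=
    (M.over W).freeHomEquiv.symm s₀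
  have hg : ∀ (Z : Over W) (b : M.val.obj (op W) →₀ (R.over W).obj.obj (op Z)),
      g.val.app (op Z) (SubSheaf.combFree (R := R.over W) Z b) =
        lcW (leOfHom Z.hom) (show M.val.obj (op W) →₀ R.obj.obj (op Z.left) from b) := fun Z b => by
    refine (SubSheaf.freeHomEquiv_app_combFree g Z b).trans ?_
    rw [Equiv.apply_symm_apply]
    rfl
  have hepi : Epi g := by
    refine PresSh.epi_of_locally _ fun Z s z hz => ?_
    obtain ⟨V, hVZ, hVW, hzV, b, hb⟩ := hgen Z.left (leOfHom Z.hom) s z hz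
    let Z' : Over W := Over.mk (homOfLE hVW)
    exact ⟨Z', Over.homMk (homOfLE hVZ) (Subsingleton.elim _ _), hzV,
      SubSheaf.combFree (R := R.over W) Z' b, (hg Z' b).trans hb⟩
  let relS : RelW M W → (kernel g).sections := fun c =>
    (kernel g).unitHomEquiv (kernel.lift g
      ((SheafOfModules.free (R := R.over W) (M.val.obj (op W))).unitHomEquiv.symm
        ((SheafOfModules.free (R := R.over W) (M.val.obj (op W))).val.sectionsMk
          (fun Z => SubSheaf.combFree (R := R.over W) Z.unop (rC (leOfHom Z.unop.hom) c.1))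
          fun Y Z f => by
            refine (PresGen.combFree_map f.unop _).trans (congrArg _ (Finsupp.ext fun i => ?_))
            exact PresSh.resR_resR R (leOfHom Y.unop.hom) (leOfHom f.unop.left) (c.1 i)))
      ((M.over W).unitHomEquiv.injective (Subtype.ext (funext fun Z => by
        have h1 : PresSh.res M (leOfHom Z.unop.hom) (lcW le_rfl c.1) = 0 :=
          (congrArg (PresSh.res M (leOfHom Z.unop.hom)) c.2).trans (map_zero _)
        refine Eq.trans ?_ h1
        refine ((congrArg (g.val.app Z) ?_).trans (hg Z.unop (rC (leOfHom Z.unop.hom) c.1))).trans ?_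
        · exact one_smul _ _
        · simp only [Finsupp.linearCombination_apply]
          refine (Finsupp.sum_mapRange_index (h := fun p (a : R.obj.obj (op Z.unop.left)) => a • PresSh.res M (leOfHom Z.unop.hom) p)
            (fun p => zero_smul _ _)).trans ?_
          refine Eq.trans ?_ (map_finsuppSum (M.val.map (homOfLE (leOfHom Z.unop.hom)).op).hom c.1 _).symm
          refine Finsupp.sum_congr fun p _ => ?_
          refine Eq.trans ?_ (PresSh.res_smul M _ _ _).symm
          exact congrArg (fun y : M.val.obj (op Z.unop.left) => PresSh.resR R (leOfHom Z.unop.hom) (c.1 p) • y)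
            (PresSh.res_res M le_rfl (leOfHom Z.unop.hom) p).symm))))
  have hrel : ∀ (Z : Over W) (c : RelW M W),
      (kernel.ι g).val.app (op Z) ((relS c).1 (op Z)) =
        SubSheaf.combFree (R := R.over W) Z (rC (leOfHom Z.hom) c.1) := fun Z c => by
    refine Eq.trans ?_ (congrArg
      (fun t : (SheafOfModules.free (R := R.over W) (M.val.obj (op W))).sections => t.1 (op Z))
        (Equiv.apply_symm_apply (SheafOfModules.free (R := R.over W) (M.val.obj (op W))).unitHomEquiv
          ((SheafOfModules.free (R := R.over W) (M.val.obj (op W))).val.sectionsMk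
            (fun Z => SubSheaf.combFree (R := R.over W) Z.unop (rC (leOfHom Z.unop.hom) c.1))
            fun Y Z f => by
              refine (PresGen.combFree_map f.unop _).trans (congrArg _ (Finsupp.ext fun i => ?_))
              exact PresSh.resR_resR R (leOfHom Y.unop.hom) (leOfHom f.unop.left) (c.1 i))))
    exact congrArg (fun φ : SheafOfModules.unit (R.over W) ⟶ SheafOfModules.free (R := R.over W) (M.val.obj (op W)) =>
      φ.val.app (op Z) (1 : (R.over W).obj.obj (op Z))) (kernel.lift_ι g _ _)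
  have hrepi : Epi ((kernel g).freeHomEquiv.symm relS) := by
    refine PresSh.epi_of_locally _ fun Z y z hz => ?_
    obtain ⟨S, hS, hS'⟩ := SubSheaf.exists_local_combFree (R := R.over W) ((kernel.ι g).val.app (op Z) y)
    obtain ⟨V₁, f, hf, hzV₁⟩ := (GrothendieckTopology.mem_over_iff _ _).1 hS z hz
    rw [Sieve.overEquiv_iff] at hf
    obtain ⟨b, hb⟩ := hS' _ hf
    let Z₁ : Over W := Over.mk (f ≫ Z.hom)
    let f₁ : Z₁ ⟶ Z := Over.homMk f rfl
    have h0 : lcW (leOfHom Z₁.hom) (show M.val.obj (op W) →₀ R.obj.obj (op Z₁.left) from b) = 0 := by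
      refine (hg Z₁ b).symm.trans ((congrArg (g.val.app (op Z₁)) hb).trans ?_)
      refine ((congrArg (g.val.app (op Z₁))
        (PresheafOfModules.naturality_apply (kernel.ι g).val f₁.op y).symm)).trans ?_
      exact congrArg (fun φ : kernel g ⟶ M.over W =>
        φ.val.app (op Z₁) ((kernel g).val.map f₁.op y)) (kernel.condition g)
    obtain ⟨V, hVZ, hVW, hzV, d, hd⟩ := hex Z₁.left (leOfHom Z₁.hom) b h0 z hzV₁
    let Z' : Over W := Over.mk (homOfLE hVW)
    let f₂ : Z' ⟶ Z₁ := Over.homMk (homOfLE hVZ) (Subsingleton.elim _ _)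
    let d' : RelW M W →₀ (R.over W).obj.obj (op Z') := d
    have hd' : PresGen.resC (R := R.over W) f₂ b = d'.sum fun c a =>
        a • (show M.val.obj (op W) →₀ (R.over W).obj.obj (op Z') from rC (leOfHom Z'.hom) c.1) := hd
    refine ⟨Z', f₂ ≫ f₁, hzV, SubSheaf.combFree (R := R.over W) Z' d',
      PresSh.app_injective (kernel.ι g) Z' ?_⟩
    refine Eq.trans ?_ (PresheafOfModules.naturality_apply (kernel.ι g).val (f₂ ≫ f₁).op y).symm
    refine Eq.trans ?_ (PresheafOfModules.map_comp_apply _ f₁.op f₂.op _).symm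
    refine Eq.trans ?_ (congrArg
      ((SheafOfModules.free (R := R.over W) (M.val.obj (op W))).val.map f₂.op) hb)
    refine Eq.trans ?_ (PresGen.combFree_map f₂ b).symm
    refine Eq.trans ?_ (congrArg (SubSheaf.combFree (R := R.over W) Z') hd'.symm)
    refine (congrArg ((kernel.ι g).val.app (op Z'))
      ((SubSheaf.freeHomEquiv_app_combFree ((kernel g).freeHomEquiv.symm relS) Z' d').trans
        (by rw [Equiv.apply_symm_apply, Finsupp.linearCombination_apply]))).trans ?_
    simp only [Finsupp.sum, map_sum, map_smul]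
    exact Finset.sum_congr rfl fun c _ => congrArg (d' c • ·) (hrel Z' c)
  exact ⟨{ generators := { I := M.val.obj (op W), s := s₀, epi := hepi }
           relations := { I := RelW M W, s := relS, epi := hrepi } }⟩

end Generic

variable {𝔛 : FSch.Sys.{u}} (h𝔛 : 𝔛.IsLocNoethFormal)

open Groth.Agent.H30.RealLimSec in
/-- Filtered colimits of coherent modules are quasi-coherent. -/
theorem isQuasicoherent_ind (F : FSch.ModF 𝔛 h𝔛.1)
    (hF : (ObjectProperty.ind.{u} fun 𝔊 : FSch.ModF 𝔛 h𝔛.1 => FSch.IsCohF 𝔛 h𝔛.1 𝔊) F) :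
    SheafOfModules.IsQuasicoherent.{u} F := by
  classical
  haveI : IsLocallyNoetherian (𝔛.X 0) := h𝔛.2.2 0
  haveI : QuasiSeparatedSpace (𝔛.X 0) := inferInstance
  obtain ⟨J, _, _, pres, hp⟩ := hF
  haveI : PreservesColimitsOfSize.{u, u} (SheafOfModules.toSheaf.{u} (ModSite.ringSh (𝔛.Osh h𝔛.1))) :=
    inferInstance
  let hc := isColimitOfPreserves (SheafOfModules.toSheaf.{u} (ModSite.ringSh (𝔛.Osh h𝔛.1))) pres.isColimit
  have hrep : ∀ {V : (𝔛.X 0).Opens}, IsCompact (V : Set (𝔛.X 0)) → ∀ s : sec h𝔛.1 F V,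
      ∃ i, ∃ t : sec h𝔛.1 (pres.diag.obj i) V, secMap h𝔛.1 (pres.ι.app i) V t = s := fun hV s => by
    obtain ⟨i, t, ht⟩ := ColimCoh.Sections.exists_rep hc hV s
    exact ⟨i, t, ht⟩
  have hzero : ∀ {V : (𝔛.X 0).Opens}, IsCompact (V : Set (𝔛.X 0)) →
      ∀ (i : J) (t : sec h𝔛.1 (pres.diag.obj i) V), secMap h𝔛.1 (pres.ι.app i) V t = 0 →
        ∃ (k : J) (a : i ⟶ k), secMap h𝔛.1 (pres.diag.map a) V t = 0 := fun hV i t ht =>
    ColimCoh.Sections.exists_eq_zero hc hV i t ht
  have hres : ∀ {A B : FSch.ModF 𝔛 h𝔛.1} (φ : A ⟶ B) {U V : (𝔛.X 0).Opens} (e : V ≤ U)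
      (t : sec h𝔛.1 A U), secMap h𝔛.1 φ V (CohPres.resF h𝔛.1 A e t) =
        CohPres.resF h𝔛.1 B e (secMap h𝔛.1 φ U t) := fun φ _ _ e t => LevelAdj.secMap_map φ e t
  have hw : ∀ {i k : J} (a : i ⟶ k) (V : (𝔛.X 0).Opens) (t : sec h𝔛.1 (pres.diag.obj i) V),
      secMap h𝔛.1 (pres.ι.app k) V (secMap h𝔛.1 (pres.diag.map a) V t) =
        secMap h𝔛.1 (pres.ι.app i) V t := fun a V t =>
    (congrArg (fun φ => secMap h𝔛.1 φ V t) ((pres.ι.naturality a).trans (Category.comp_id _)))
  have key : ∀ W : (𝔛.X 0).affineOpens,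
      Nonempty (SheafOfModules.over F W.1).Presentation := by
    intro W
    have hW : IsAffineOpen W.1 := W.2
    refine nonempty_presentation (fun Z hZ s z hz => ?_) (fun Z hZ b hb z hz => ?_)
    · obtain ⟨V, hV, hzV, hVZ⟩ := Opens.isBasis_iff_nbhd.1 (CohPres.isBasis_affine (𝔛.X 0))
        (U := Z) (x := z) hz
      obtain ⟨i, t, ht⟩ := hrep hV.isCompact (CohPres.resF h𝔛.1 F hVZ s)
      obtain ⟨n, f, hf⟩ := CohCons.exists_fin_gens h𝔛 hW (hp i)
      obtain ⟨a, ha⟩ := CohExact.gen_of_le h𝔛 (hp i) hW f hf hV (hVZ.trans hZ) t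
      refine ⟨V, hVZ, hVZ.trans hZ, hzV,
        ∑ k, Finsupp.single (secMap h𝔛.1 (pres.ι.app i) W.1 (f k)) (a k), ?_⟩
      refine Eq.trans ?_ ht
      rw [ha, map_sum, map_sum]
      refine Finset.sum_congr rfl fun k _ => ?_
      rw [Finsupp.linearCombination_single, map_smul, hres]
      rfl
    · obtain ⟨V, hV, hzV, hVZ⟩ := Opens.isBasis_iff_nbhd.1 (CohPres.isBasis_affine (𝔛.X 0))
        (U := Z) (x := z) hz
      have hVW : V ≤ W.1 := hVZ.trans hZ
      let bV : sec h𝔛.1 F W.1 →₀ Levels.A 𝔛 h𝔛.1 V := rC hVZ b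
      have hbV : ∑ p ∈ b.support, bV p • CohPres.resF h𝔛.1 F hVW p = 0 := by
        have h1 := congrArg (CohPres.resF h𝔛.1 F hVZ) hb
        rw [map_zero] at h1
        refine Eq.trans ?_ h1
        rw [Finsupp.linearCombination_apply, Finsupp.sum, map_sum]
        refine Finset.sum_congr rfl fun p _ => ?_
        refine Eq.trans ?_ (CohPres.resF_smul h𝔛.1 F hVZ _ _).symm
        exact congrArg (_ • ·) (PresSh.res_res F hZ hVZ p).symm
      choose i₀ t₀ ht₀ using fun p : sec h𝔛.1 F W.1 => hrep hW.isCompact p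
      obtain ⟨i, hi⟩ := IsFiltered.sup_objs_exists (b.support.image i₀)
      let a₀ : ∀ p : b.support, i₀ p.1 ⟶ i := fun p => (hi (Finset.mem_image_of_mem i₀ p.2)).some
      let t : b.support → sec h𝔛.1 (pres.diag.obj i) W.1 :=
        fun p => secMap h𝔛.1 (pres.diag.map (a₀ p)) W.1 (t₀ p.1)
      have ht : ∀ p : b.support, secMap h𝔛.1 (pres.ι.app i) W.1 (t p) = p.1 := fun p => by
        rw [hw, ht₀]
      have h2 : secMap h𝔛.1 (pres.ι.app i) V
          (∑ p : b.support, bV p.1 • CohPres.resF h𝔛.1 _ hVW (t p)) = 0 := by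
        rw [map_sum]
        simp only [map_smul, hres, ht]
        exact (Finset.sum_coe_sort b.support fun p => bV p • CohPres.resF h𝔛.1 F hVW p).trans hbV
      obtain ⟨k, a, hk⟩ := hzero hV.isCompact i _ h2
      let e := b.support.equivFin
      let f : Fin b.support.card → sec h𝔛.1 (pres.diag.obj k) W.1 :=
        fun j => secMap h𝔛.1 (pres.diag.map a) W.1 (t (e.symm j))
      haveI := Levels.isNoetherianRing_A h𝔛 hW
      let φ : (Fin b.support.card → Levels.A 𝔛 h𝔛.1 W.1) →ₗ[Levels.A 𝔛 h𝔛.1 W.1]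
          sec h𝔛.1 (pres.diag.obj k) W.1 := Fintype.linearCombination _ f
      have hφ : ∀ c, φ c = ∑ j, c j • f j := fun c => Fintype.linearCombination_apply _ _ c
      obtain ⟨m, r, hr⟩ := Submodule.fg_iff_exists_fin_generating_family.1
        (IsNoetherian.noetherian (LinearMap.ker φ))
      obtain ⟨d, hd⟩ := CohExact.rel_of_le h𝔛 (hp k) hW f r (fun c hc => by
          rw [← hφ, ← LinearMap.mem_ker, ← hr, Submodule.mem_span_range_iff_exists_fun] at hc
          obtain ⟨d, hd⟩ := hc
          exact ⟨d, fun j => by rw [← hd]; simp⟩) hV hVW (fun j => bV (e.symm j).1) (by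
        rw [← e.sum_comp]
        simp only [Equiv.symm_apply_apply, f]
        refine Eq.trans ?_ hk
        rw [map_sum]
        refine Finset.sum_congr rfl fun p _ => ?_
        rw [map_smul, hres])
      have hr0 : ∀ l, φ (r l) = 0 := fun l =>
        LinearMap.mem_ker.1 (hr ▸ Submodule.subset_span ⟨l, rfl⟩)
      let R' : Fin m → RelW F W.1 := fun l =>
        ⟨∑ j, Finsupp.single (e.symm j).1 (r l j), by
          have h3 := congrArg (secMap h𝔛.1 (pres.ι.app k) W.1) (hr0 l)
          rw [hφ, map_sum, map_zero] at h3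
          refine Eq.trans ?_ h3
          rw [map_sum]
          refine Finset.sum_congr rfl fun j _ => ?_
          rw [Finsupp.linearCombination_single, map_smul, hw, ht]
          exact congrArg (_ • ·) (PresheafOfModules.congr_map_apply F.val
            (Subsingleton.elim (homOfLE (le_refl W.1)).op (𝟙 _)) _ |>.trans
              (by rw [F.val.map_id]; rfl))⟩
      refine ⟨V, hVZ, hVW, hzV, ∑ l, Finsupp.single (R' l) (d l), ?_⟩
      show bV = _
      refine Eq.trans ?_ (Finsupp.sum_finsetSum_index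
        (h := fun (c : RelW F W.1) (a : (ModSite.ringSh (𝔛.Osh h𝔛.1)).obj.obj (op V)) => a • rC hVW c.1)
        (fun c => zero_smul _ _) (fun c a a' => add_smul a a' _))
      simp only [Finsupp.sum_single_index, zero_smul]
      ext p
      refine Eq.trans ?_ (Finsupp.finsetSum_apply _ _ _).symm
      show bV p = ∑ l, d l * CohPres.resA h𝔛.1 hVW ((R' l).1 p)
      simp only [R', Finsupp.finsetSum_apply]
      by_cases hps : p ∈ b.support
      · have := hd (e ⟨p, hps⟩)
        simp only [Equiv.symm_apply_apply] at this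
        refine this.trans (Finset.sum_congr rfl fun l _ => congrArg (d l * ·) ?_)
        refine congrArg _ ?_
        rw [Finset.sum_eq_single (e ⟨p, hps⟩)]
        · simp
        · intro j _ hj
          rw [Finsupp.single_apply, if_neg]
          exact fun h => hj (e.symm.injective (Subtype.ext (h.trans (by simp))))
        · exact fun h => absurd (Finset.mem_univ _) h
      · have hz0 : bV p = 0 := by
          show CohPres.resA h𝔛.1 hVZ (b p) = 0
          rw [Finsupp.notMem_support_iff.1 hps]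
          exact map_zero _
        rw [hz0]
        refine (Finset.sum_eq_zero fun l _ => ?_).symm
        refine mul_eq_zero_of_right _ ((congrArg _ (Finset.sum_eq_zero fun j _ => ?_)).trans (map_zero _))
        rw [Finsupp.single_apply, if_neg]
        exact fun h => hps (h ▸ (e.symm j).2)
  refine SheafOfModules.IsQuasicoherent.mk (M := F) (R := ModSite.ringSh (𝔛.Osh h𝔛.1))
    ⟨{ I := ((𝔛.X 0).affineOpens : Type u), X := fun W => W.1, coversTop := ?_,
       presentation := fun W => (key W).some }⟩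
  refine (Opens.coversTop_iff _ _).mpr (eq_top_iff.mpr fun x _ => Opens.mem_iSup.mpr ?_)
  obtain ⟨W, hW, hxW⟩ := CohCons.exists_affine (𝔛 := 𝔛) x
  exact ⟨⟨W, hW⟩, hxW⟩

end Groth.Agent.H22.IndQcoh
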