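import Mathlib

set_option autoImplicit false
universe u v

namespace Groth.Agent.H22.InvLim

variable {A : Type u} [CommRing A] (I : Ideal A) {M : ℕ → Type v} [∀ n, AddCommGroup (M n)]
  [∀ n, Module A (M n)] (f : ∀ n, M (n + 1) →ₗ[A] M n)
  {L : Type v} [AddCommGroup L] [Module A L] (π : ∀ n, L →ₗ[A] M n)

theorem proj_eq_zero_of_mem (hkill : ∀ n, I ^ (n + 1) • (⊤ : Submodule A (M n)) = ⊥) {m : ℕ} {x : L}
    (hx : x ∈ (I ^ (m + 1) • ⊤ : Submodule A L)) : π m x = 0 := by
  have h := Submodule.mem_map_of_mem (f := π m) hx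
  rw [Submodule.map_smul''] at h
  rw [← Submodule.mem_bot A, ← hkill m]
  exact Submodule.smul_mono le_rfl le_top h

/-- Compatible families through any element. -/
theorem exists_compatible (n : ℕ) : ∀ {M : ℕ → Type v} [∀ n, AddCommGroup (M n)] [∀ n, Module A (M n)]
    (f : ∀ n, M (n + 1) →ₗ[A] M n) (_ : ∀ n, Function.Surjective (f n)) (y : M n),
    ∃ ys : ∀ m, M m, ys n = y ∧ ∀ m, f m (ys (m + 1)) = ys m := by
  induction n with
  | zero =>
    intro M _ _ f hf y
    exact ⟨fun m => Nat.rec y (fun k r => Function.surjInv (hf k) r) m, rfl,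
      fun m => Function.surjInv_eq _ _⟩
  | succ n ih =>
    intro M _ _ f hf y
    obtain ⟨ys, h1, h2⟩ := ih (M := fun k => M (k + 1)) (fun k => f (k + 1)) (fun k => hf (k + 1)) y
    refine ⟨fun m => Nat.casesOn m (f 0 (ys 0)) ys, h1, fun m => ?_⟩
    cases m with
    | zero => rfl
    | succ m => exact h2 m

/-- An element of `span (range g) • N` is a combination of the `g j` with coefficients in `N`. -/
theorem exists_sum_of_mem_span_smul {P : Type v} [AddCommGroup P] [Module A P] {s : ℕ}
    (g : Fin s → A) (N : Submodule A P) {x : P} (hx : x ∈ Ideal.span (Set.range g) • N) :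
    ∃ z : Fin s → P, (∀ j, z j ∈ N) ∧ x = ∑ j, g j • z j := by
  classical
  refine Submodule.smul_induction_on hx (fun r hr y hy => ?_) (fun a b ha hb => ?_)
  · obtain ⟨c, rfl⟩ := (Submodule.mem_span_range_iff_exists_fun A).1 hr
    exact ⟨fun j => c j • y, fun j => N.smul_mem _ hy, by
      rw [Finset.sum_smul]
      refine Finset.sum_congr rfl fun j _ => ?_
      rw [smul_eq_mul, smul_smul, mul_comm]⟩
  · obtain ⟨z, hz, rfl⟩ := ha
    obtain ⟨w, hw, rfl⟩ := hb
    exact ⟨z + w, fun j => add_mem (hz j) (hw j), by simp [smul_add, Finset.sum_add_distrib]⟩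

theorem isAdicComplete (hI : I.FG)
    (hkill : ∀ n, I ^ (n + 1) • (⊤ : Submodule A (M n)) = ⊥)
    (hπ : ∀ n, f n ∘ₗ π (n + 1) = π n)
    (hinj : ∀ x : L, (∀ n, π n x = 0) → x = 0)
    (hlift : ∀ y : (∀ n, M n), (∀ n, f n (y (n + 1)) = y n) → ∃ x : L, ∀ n, π n x = y n) :
    IsAdicComplete I L := by
  classical
  haveI : IsHausdorff I L := ⟨fun x hx => hinj x fun n =>
    proj_eq_zero_of_mem I π hkill (SModEq.zero.1 (hx (n + 1)))⟩
  haveI : IsPrecomplete I L := by
    refine ⟨fun x hx => ?_⟩
    have hC : ∀ {a b}, a ≤ b → x b - x a ∈ (I ^ a • ⊤ : Submodule A L) := fun {a b} h => by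
      simpa using neg_mem (SModEq.sub_mem.1 (hx h))
    have hπx : ∀ {m a b}, m + 1 ≤ a → a ≤ b → π m (x b) = π m (x a) := fun {m a b} hma hab => by
      rw [← sub_eq_zero, ← map_sub]
      exact proj_eq_zero_of_mem I π hkill (Submodule.pow_smul_top_le I L hma (hC hab))
    obtain ⟨L0, hL0⟩ := hlift (fun m => π m (x (m + 1))) fun m => by
      rw [← LinearMap.comp_apply, hπ]
      exact hπx le_rfl (Nat.le_succ _)
    refine ⟨L0, fun n => ?_⟩
    rw [SModEq.sub_mem]
    obtain ⟨s, g, hg⟩ := Submodule.fg_iff_exists_fin_generating_family.1 (hI.pow (n := n))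
    have hd : ∀ i, ∃ z : Fin s → L, (∀ j, z j ∈ (I ^ i • ⊤ : Submodule A L)) ∧
        x (n + i + 1) - x (n + i) = ∑ j, g j • z j := fun i => by
      refine exists_sum_of_mem_span_smul g _ ?_
      have := hC (Nat.le_succ (n + i))
      rw [pow_add, Submodule.mul_smul] at this
      rwa [Ideal.span, hg]
    choose z hz hzx using hd
    let t : Fin s → ℕ → L := fun j N => ∑ i ∈ Finset.range N, z i j
    have hw : ∀ j, ∃ w : L, ∀ m, π m w = π m (t j (m + 1)) := fun j => hlift _ fun m => by
      rw [← LinearMap.comp_apply, hπ]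
      simp only [t, Finset.sum_range_succ _ (m + 1), map_add]
      rw [proj_eq_zero_of_mem I π hkill (hz (m + 1) j), add_zero]
    choose w hw using hw
    have htel : ∀ N, x (n + N) - x n = ∑ j, g j • t j N := by
      intro N
      induction N with
      | zero => simp [t]
      | succ N ih =>
        simp only [t, Finset.sum_range_succ, smul_add, Finset.sum_add_distrib]
        rw [← ih, ← hzx, ← add_assoc]
        abel
    have hsum : L0 - x n = ∑ j, g j • w j := by
      refine sub_eq_zero.1 (hinj _ fun m => ?_)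
      rw [map_sub, map_sub, map_sum]
      simp only [map_smul, hw, hL0]
      simp only [← map_smul]
      rw [← map_sum, ← htel, map_sub, hπx le_rfl (by omega : m + 1 ≤ n + (m + 1))]
      simp
    rw [← neg_sub, hsum]
    refine neg_mem (sum_mem fun j _ => Submodule.smul_mem_smul ?_ Submodule.mem_top)
    rw [← hg]
    exact Submodule.subset_span ⟨j, rfl⟩
  exact {}

theorem finite_completion (hI : I.FG) [∀ n, Module.Finite A (M n)]
    (hf : ∀ n, Function.Surjective (f n))
    (hker : ∀ n, LinearMap.ker (f n) = I ^ (n + 1) • (⊤ : Submodule A (M (n + 1))))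
    (hkill : ∀ n, I ^ (n + 1) • (⊤ : Submodule A (M n)) = ⊥)
    (hπ : ∀ n, f n ∘ₗ π (n + 1) = π n)
    (hinj : ∀ x : L, (∀ n, π n x = 0) → x = 0)
    (hlift : ∀ y : (∀ n, M n), (∀ n, f n (y (n + 1)) = y n) → ∃ x : L, ∀ n, π n x = y n)
    [Module (AdicCompletion I A) L] [IsScalarTower A (AdicCompletion I A) L] :
    Module.Finite (AdicCompletion I A) L := by
  classical
  have hπ' : ∀ m z, f m (π (m + 1) z) = π m z := fun m z => LinearMap.congr_fun (hπ m) z
  have hdown : ∀ n, ∀ z, π n z = 0 → ∀ k ≤ n, π k z = 0 := by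
    intro n
    induction n with
    | zero => intro z hz k hk; rwa [Nat.le_zero.1 hk]
    | succ n ih =>
      intro z hz k hk
      rcases Nat.lt_or_ge k (n + 1) with h | h
      · exact ih z (by rw [← hπ', hz, map_zero]) k (by omega)
      · rwa [le_antisymm hk h]
  have hπs : ∀ n, Function.Surjective (π n) := by
    intro n y
    obtain ⟨xs, hxs0, hxs⟩ := exists_compatible n (fun k => f k) hf y
    obtain ⟨x, hx⟩ := hlift xs hxs
    exact ⟨x, by rw [hx, hxs0]⟩
  obtain ⟨r, v, hv⟩ := Module.Finite.exists_fin (R := A) (M := M 0)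
  choose ℓ hℓ using fun i => hπs 0 (v i)
  have h0 : ∀ z : L, ∃ a : Fin r → A, π 0 (z - ∑ i, a i • ℓ i) = 0 := fun z => by
    obtain ⟨a, ha⟩ := (Submodule.mem_span_range_iff_exists_fun A).1
      (hv ▸ Submodule.mem_top : π 0 z ∈ Submodule.span A (Set.range v))
    exact ⟨a, by simp [hℓ, ha]⟩
  have hI0 : ∀ z : L, π 0 z = 0 → ∀ m, π m z ∈ (I • ⊤ : Submodule A (M m)) := by
    intro z hz m
    induction m with
    | zero => rw [hz]; exact zero_mem _
    | succ m ih =>
      rw [← hπ', ← LinearMap.range_eq_top.2 (hf m), LinearMap.range_eq_map, ← Submodule.map_smul''] at ih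
      obtain ⟨c, hc, hcz⟩ := ih
      have h1 : π (m + 1) z - c ∈ (I • ⊤ : Submodule A (M (m + 1))) := by
        have h2 : π (m + 1) z - c ∈ LinearMap.ker (f m) := by
          rw [LinearMap.mem_ker, map_sub, hcz, sub_self]
        rw [hker] at h2
        exact Submodule.smul_mono (Ideal.pow_le_self m.succ_ne_zero) le_rfl h2
      simpa using add_mem h1 hc
  have step : ∀ n (z : L), (∀ k < n, π k z = 0) →
      ∃ a : Fin r → A, (∀ i, a i ∈ I ^ n) ∧ ∀ k < n + 1, π k (z - ∑ i, a i • ℓ i) = 0 := by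
    intro n z hz
    suffices ∃ a : Fin r → A, (∀ i, a i ∈ I ^ n) ∧ π n (z - ∑ i, a i • ℓ i) = 0 by
      obtain ⟨a, ha, h⟩ := this
      exact ⟨a, ha, fun k hk => hdown n _ h k (by omega)⟩
    rcases n with _ | m
    · obtain ⟨a, ha⟩ := h0 z
      exact ⟨a, fun i => by simp, ha⟩
    · have h1 : π (m + 1) z ∈ LinearMap.ker (f m) := by
        rw [LinearMap.mem_ker, hπ', hz m (by omega)]
      rw [hker, ← LinearMap.range_eq_top.2 (hπs (m + 1)), LinearMap.range_eq_map, ← Submodule.map_smul''] at h1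
      obtain ⟨w, hw, hwz⟩ := h1
      obtain ⟨a, ha, hwa⟩ : ∃ a : Fin r → A, (∀ i, a i ∈ I ^ (m + 1)) ∧
          π (m + 1) (w - ∑ i, a i • ℓ i) = 0 := by
        clear hwz
        refine Submodule.smul_induction_on hw (fun c hc u _ => ?_) (fun p q hp hq => ?_)
        · obtain ⟨a, ha⟩ := h0 u
          refine ⟨fun i => c * a i, fun i => Ideal.mul_mem_right _ _ hc, ?_⟩
          have : c • u - ∑ i, (c * a i) • ℓ i = c • (u - ∑ i, a i • ℓ i) := by
            simp [smul_sub, Finset.smul_sum, smul_smul]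
          rw [this, map_smul, ← Submodule.mem_bot A, ← hkill (m + 1), pow_succ, Submodule.mul_smul]
          exact Submodule.smul_mem_smul hc (hI0 _ ha _)
        · obtain ⟨a, ha, hpa⟩ := hp
          obtain ⟨b, hb, hqb⟩ := hq
          refine ⟨a + b, fun i => add_mem (ha i) (hb i), ?_⟩
          have : p + q - ∑ i, (a + b) i • ℓ i = (p - ∑ i, a i • ℓ i) + (q - ∑ i, b i • ℓ i) := by
            simp [add_smul, Finset.sum_add_distrib]; abel
          rw [this, map_add, hpa, hqb, add_zero]
      refine ⟨a, ha, ?_⟩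
      rw [map_sub] at hwa ⊢
      rwa [← hwz]
  choose! g hg hg' using step
  refine ⟨⟨Finset.univ.image ℓ, ?_⟩⟩
  rw [eq_top_iff]
  intro z _
  let rs : ℕ → L := fun k => Nat.rec z (fun n y => y - ∑ i, g n y i • ℓ i) k
  have hr : ∀ n, ∀ k < n, π k (rs n) = 0 := by
    intro n
    induction n with
    | zero => intro k hk; omega
    | succ n ih => exact hg' n _ ih
  let S : Fin r → ℕ → A := fun i n => ∑ j ∈ Finset.range n, g j (rs j) i
  have hsum : ∀ n, rs n = z - ∑ i, S i n • ℓ i := by
    intro n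
    induction n with
    | zero => simp [S, rs]
    | succ n ih =>
      show rs n - ∑ i, g n (rs n) i • ℓ i = _
      simp only [S, Finset.sum_range_succ, add_smul, Finset.sum_add_distrib]
      rw [← sub_sub, ← ih]
  have hS : ∀ i, AdicCompletion.IsAdicCauchy I A (S i) := fun i {m n} hmn => by
    rw [SModEq.sub_mem, Ideal.smul_eq_mul, Ideal.mul_top]
    simp only [S]
    rw [← Finset.sum_range_add_sum_Ico _ hmn, sub_add_cancel_left]
    exact neg_mem (sum_mem fun k hk => Ideal.pow_le_pow_right (Finset.mem_Ico.1 hk).1 (hg k _ (hr k) i))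
  let c : Fin r → AdicCompletion I A := fun i => AdicCompletion.mk I A ⟨S i, hS i⟩
  have key : ∀ i m, π m (c i • ℓ i) = π m (S i (m + 1) • ℓ i) := fun i m => by
    have hmem : c i - AdicCompletion.of I A (S i (m + 1)) ∈ LinearMap.ker (AdicCompletion.eval I A (m + 1)) := by
      rw [LinearMap.mem_ker, map_sub, sub_eq_zero]
      rfl
    rw [← AdicCompletion.pow_smul_top_eq_ker_eval hI] at hmem
    have h1 : (c i - AdicCompletion.of I A (S i (m + 1))) • ℓ i ∈ (I ^ (m + 1) • ⊤ : Submodule A L) := by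
      refine Submodule.smul_induction_on hmem (fun a ha u _ => ?_) (fun u w hu hw => ?_)
      · rw [smul_assoc]; exact Submodule.smul_mem_smul ha trivial
      · rw [add_smul]; exact add_mem hu hw
    have h2 : AdicCompletion.of I A (S i (m + 1)) • ℓ i = S i (m + 1) • ℓ i := by
      rw [← algebraMap_smul (AdicCompletion I A) (S i (m + 1)) (ℓ i), AdicCompletion.algebraMap_apply]
      simp
    have h3 := proj_eq_zero_of_mem I π hkill h1
    rwa [sub_smul, h2, map_sub, sub_eq_zero] at h3
  have : z = ∑ i, c i • ℓ i := by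
    refine sub_eq_zero.1 (hinj _ fun m => ?_)
    have h := hr (m + 1) m (by omega)
    rw [show rs (m + 1) = _ from hsum (m + 1), map_sub, map_sum] at h
    rw [map_sub, map_sum]
    simp only [key]
    exact h
  rw [this]
  exact sum_mem fun i _ => Submodule.smul_mem _ _ (Submodule.subset_span (by simp))

end Groth.Agent.H22.InvLim
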