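import Groth.Agent.H22.Nil
import Mathlib.RingTheory.TensorProduct.Pi
import Mathlib.RingTheory.Nakayama
import Mathlib.Algebra.Module.StablyFree.Basic
import Mathlib.RingTheory.Finiteness.Prod
import Mathlib.LinearAlgebra.FreeModule.Finite.Basic

/-!
Lifting and comparing finite projective modules modulo an ideal in the Jacobson radical.
-/

universe u v w

open TensorProduct LinearMap

namespace Groth.Agent.H22.Jacobson

variable {R : Type u} [CommRing R] {I : Ideal R} {M : Type v} {N : Type w}
  [AddCommGroup M] [Module R M] [AddCommGroup N] [Module R N]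

theorem surjective_of_baseChange (hI : I ≤ Ideal.jacobson ⊥) [Module.Finite R N] (f : M →ₗ[R] N)
    (h : Function.Surjective (f.baseChange (R ⧸ I))) : Function.Surjective f := by
  rw [← LinearMap.range_eq_top]
  refine top_le_iff.1 (Submodule.le_of_le_smul_of_le_jacobson_bot Module.Finite.fg_top hI fun y _ => ?_)
  obtain ⟨z, hz⟩ := h ((1 : R ⧸ I) ⊗ₜ y)
  have hmk : Function.Surjective (TensorProduct.mk R (R ⧸ I) M 1) :=
    TensorProduct.mk_surjective R M (R ⧸ I) Ideal.Quotient.mk_surjective
  obtain ⟨x, rfl⟩ := hmk z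
  have h' : y - f x ∈ I • (⊤ : Submodule R N) := by
    have h1 : y - f x ∈ ker (TensorProduct.mk R (R ⧸ I) N 1) := by
      rw [LinearMap.mem_ker, map_sub, sub_eq_zero]
      exact hz.symm
    rwa [Nil.ker_mk_one (R ⧸ I) Ideal.Quotient.mk_surjective, Ideal.Quotient.algebraMap_eq,
      Ideal.mk_ker] at h1
  rw [← add_sub_cancel (f x) y]
  exact Submodule.add_mem_sup (LinearMap.mem_range_self f x) h'

theorem bijective_of_baseChange (hI : I ≤ Ideal.jacobson ⊥) [Module.Finite R M] [Module.Finite R N]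
    [Module.Projective R N] (f : M →ₗ[R] N)
    (h : Function.Bijective (f.baseChange (R ⧸ I))) : Function.Bijective f := by
  have hs := surjective_of_baseChange hI f h.2
  refine ⟨?_, hs⟩
  obtain ⟨s, hfs⟩ := Module.projective_lifting_property f LinearMap.id hs
  have hs' : Function.Surjective s := by
    refine surjective_of_baseChange hI s fun y => ⟨f.baseChange (R ⧸ I) y, h.1 ?_⟩
    rw [← LinearMap.comp_apply, ← LinearMap.baseChange_comp, hfs, LinearMap.baseChange_id,
      LinearMap.id_apply]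
  intro x y hxy
  obtain ⟨a, rfl⟩ := hs' x
  obtain ⟨b, rfl⟩ := hs' y
  rw [← LinearMap.comp_apply, hfs, ← LinearMap.comp_apply, hfs] at hxy
  exact congrArg s hxy

theorem nonempty_linearEquiv (hI : I ≤ Ideal.jacobson ⊥) [Module.Finite R M]
    [Module.Projective R M] [Module.Finite R N] [Module.Projective R N]
    (e : (R ⧸ I) ⊗[R] M ≃ₗ[R ⧸ I] (R ⧸ I) ⊗[R] N) : Nonempty (M ≃ₗ[R] N) := by
  obtain ⟨f, hf⟩ := Nil.exists_lift (R ⧸ I) Ideal.Quotient.mk_surjective e.toLinearMap
  exact ⟨LinearEquiv.ofBijective f (bijective_of_baseChange hI f (by rw [hf]; exact e.bijective))⟩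

/-- A finite stably free module lifts modulo an ideal in the Jacobson radical. -/
theorem exists_stablyFree_lift (hI : I ≤ Ideal.jacobson ⊥) (E : Type u) [AddCommGroup E]
    [Module (R ⧸ I) E] [Module.Finite (R ⧸ I) E] [Module.IsStablyFree (R ⧸ I) E] :
    ∃ (P : Type u) (_ : AddCommGroup P) (_ : Module R P), Module.Finite R P ∧
      Module.IsStablyFree R P ∧ Nonempty ((R ⧸ I) ⊗[R] P ≃ₗ[R ⧸ I] E) := by
  classical
  rcases subsingleton_or_nontrivial (R ⧸ I) with hs | hnt
  · have := Module.subsingleton (R ⧸ I) E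
    have := Module.subsingleton (R ⧸ I) ((R ⧸ I) ⊗[R] PUnit.{u+1})
    exact ⟨PUnit, inferInstance, inferInstance, inferInstance, inferInstance,
      ⟨LinearEquiv.ofSubsingleton _ _⟩⟩
  obtain ⟨N', _, _, _, _, hfree⟩ := Module.IsStablyFree.exist_free_prod (R ⧸ I) E
  let k := Fintype.card (Module.Free.ChooseBasisIndex (R ⧸ I) N')
  let n := Fintype.card (Module.Free.ChooseBasisIndex (R ⧸ I) (E × N'))
  let eN : N' ≃ₗ[R ⧸ I] (Fin k → R ⧸ I) :=
    (Module.Free.chooseBasis (R ⧸ I) N').equivFun ≪≫ₗ
      LinearEquiv.funCongrLeft (R ⧸ I) (R ⧸ I) (Fintype.equivFin _).symm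
  let eEN : (E × N') ≃ₗ[R ⧸ I] (Fin n → R ⧸ I) :=
    (Module.Free.chooseBasis (R ⧸ I) (E × N')).equivFun ≪≫ₗ
      LinearEquiv.funCongrLeft (R ⧸ I) (R ⧸ I) (Fintype.equivFin _).symm
  let en := TensorProduct.piScalarRight R (R ⧸ I) (R ⧸ I) (Fin n) ≪≫ₗ eEN.symm
  let ek := TensorProduct.piScalarRight R (R ⧸ I) (R ⧸ I) (Fin k) ≪≫ₗ eN.symm
  let g : (R ⧸ I) ⊗[R] (Fin n → R) →ₗ[R ⧸ I] (R ⧸ I) ⊗[R] (Fin k → R) :=
    ek.symm.toLinearMap ∘ₗ LinearMap.snd _ _ _ ∘ₗ en.toLinearMap
  obtain ⟨φ, hφ⟩ := Nil.exists_lift (R ⧸ I) Ideal.Quotient.mk_surjective g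
  have hφs : Function.Surjective φ := surjective_of_baseChange hI φ (by
    rw [hφ]
    exact ek.symm.surjective.comp ((LinearMap.snd_surjective : Function.Surjective (LinearMap.snd (R ⧸ I) E N')).comp en.surjective))
  obtain ⟨s, hs⟩ := Module.projective_lifting_property φ LinearMap.id hφs
  let p : (Fin n → R) →ₗ[R] ker φ := LinearMap.codRestrict _ (LinearMap.id - s ∘ₗ φ) fun x => by
    have h := LinearMap.congr_fun hs (φ x)
    simp only [LinearMap.comp_apply, LinearMap.id_apply] at h
    simp [h]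
  have hpi : p ∘ₗ (ker φ).subtype = LinearMap.id := by
    ext x
    simp [p]
  let split : (ker φ × (Fin k → R)) ≃ₗ[R] (Fin n → R) :=
    LinearEquiv.ofLinearMap ((ker φ).subtype.coprod s) (p.prod φ)
      (by ext x; simp [p]) (by
        ext x
        · simp [p]
        · simp
        · have h : φ (s (Pi.single x 1)) = Pi.single x 1 := LinearMap.congr_fun hs _
          simp [p, h]
        · have h : φ (s (Pi.single x 1)) = Pi.single x 1 := LinearMap.congr_fun hs _
          simp [h])
  have : Module.Free R (ker φ × (Fin k → R)) := Module.Free.of_equiv split.symm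
  refine ⟨ker φ, inferInstance, inferInstance,
    Module.Finite.of_surjective p (LinearMap.surjective_of_comp_eq_id _ _ hpi),
    Module.IsStablyFree.of_free_prod R (ker φ) (Fin k → R), ?_⟩
  let F : (R ⧸ I) ⊗[R] ker φ →ₗ[R ⧸ I] E :=
    LinearMap.fst _ _ _ ∘ₗ en.toLinearMap ∘ₗ (ker φ).subtype.baseChange (R ⧸ I)
  have hzero : ∀ x, (en ((ker φ).subtype.baseChange (R ⧸ I) x)).2 = 0 := fun x => by
    have h : g ((ker φ).subtype.baseChange (R ⧸ I) x) = 0 := by
      rw [← hφ, ← LinearMap.comp_apply, ← LinearMap.baseChange_comp, LinearMap.comp_ker_subtype,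
        LinearMap.baseChange_zero, LinearMap.zero_apply]
    exact ek.symm.map_eq_zero_iff.1 h
  refine ⟨LinearEquiv.ofBijective F ⟨?_, fun x => ?_⟩⟩
  · intro x y hxy
    have hinj : Function.Injective ((ker φ).subtype.baseChange (R ⧸ I)) :=
      Function.LeftInverse.injective (g := p.baseChange (R ⧸ I)) fun z => by
        rw [← LinearMap.comp_apply, ← LinearMap.baseChange_comp, hpi, LinearMap.baseChange_id,
          LinearMap.id_apply]
    exact hinj (en.injective (Prod.ext hxy ((hzero x).trans (hzero y).symm)))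
  · have hex : Function.Exact ((ker φ).subtype.baseChange (R ⧸ I)) (φ.baseChange (R ⧸ I)) :=
      lTensor_exact (R ⧸ I) φ.exact_subtype_ker_map hφs
    obtain ⟨z, hz⟩ := (hex (en.symm (x, 0))).1 (by
      rw [hφ]
      simp [g])
    exact ⟨z, by simp [F, hz]⟩

theorem stablyFree_two_out_of_three {P' P P'' : Type v}
    [AddCommGroup P'] [Module R P'] [AddCommGroup P] [Module R P]
    [AddCommGroup P''] [Module R P''] [Module.Finite R P'] [Module.Finite R P]
    [Module.Finite R P''] (e : P ≃ₗ[R] P' × P'') :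
    (Module.IsStablyFree R P' → Module.IsStablyFree R P → Module.IsStablyFree R P'') ∧
    (Module.IsStablyFree R P' → Module.IsStablyFree R P'' → Module.IsStablyFree R P) := by
  refine ⟨fun h' h => ?_, fun h' h'' => ?_⟩
  · obtain ⟨N', _, _, _, _, _⟩ := h'.exist_free_prod
    obtain ⟨N, _, _, _, _, _⟩ := h.exist_free_prod
    let E : ((P × N) × N') ≃ₗ[R] (P'' × ((P' × N') × N)) :=
      { toFun := fun x => ((e x.1.1).2, (((e x.1.1).1, x.2), x.1.2))
        invFun := fun y => ((e.symm (y.2.1.1, y.1), y.2.2), y.2.1.2)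
        left_inv := fun x => by simp
        right_inv := fun y => by simp
        map_add' := fun x y => by simp
        map_smul' := fun r x => by simp }
    have := Module.Free.of_equiv E
    exact Module.IsStablyFree.of_free_prod R P'' ((P' × N') × N)
  · obtain ⟨N', _, _, _, _, _⟩ := h'.exist_free_prod
    obtain ⟨N'', _, _, _, _, _⟩ := h''.exist_free_prod
    let E : ((P' × N') × (P'' × N'')) ≃ₗ[R] (P × (N' × N'')) :=
      { toFun := fun x => (e.symm (x.1.1, x.2.1), (x.1.2, x.2.2))
        invFun := fun y => (((e y.1).1, y.2.1), ((e y.1).2, y.2.2))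
        left_inv := fun x => by simp
        right_inv := fun y => by simp
        map_add' := fun x y => by simp [← map_add]
        map_smul' := fun r x => by simp [← map_smul] }
    have := Module.Free.of_equiv E
    exact Module.IsStablyFree.of_free_prod R P (N' × N'')

end Groth.Agent.H22.Jacobson
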