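import Groth.Agent.H22.SerreBass
import Mathlib

/-!
Consequences: free summands, cancellation.
-/

set_option autoImplicit false
universe u

open Module

namespace Groth.Agent.H22.SerreBass

variable {R : Type u} [CommRing R] [IsNoetherianRing R] {d : ℕ}

theorem exists_surjective (hd : ringKrullDim R ≤ d) :
    ∀ (k : ℕ) (P : Type u) [AddCommGroup P] [Module R P] [Module.Finite R P] [Module.Projective R P],
      (∀ p : PrimeSpectrum R, d + k ≤ rankAtStalk P p) →
      ∃ g : P →ₗ[R] (Fin k → R), Function.Surjective g := by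
  intro k
  induction k with
  | zero => exact fun P _ _ _ _ _ => ⟨0, fun y => ⟨0, Subsingleton.elim _ _⟩⟩
  | succ k ih =>
    intro P _ _ _ _ h
    obtain ⟨x, φ, hφ⟩ := exists_unimodular hd (P := P) (fun p => by have := h p; omega) 0 1
      (fun p hp => absurd ((Ideal.eq_top_iff_one _).2 hp) p.isPrime.ne_top)
    simp only [one_smul, zero_add] at hφ
    let r : P →ₗ[R] LinearMap.ker φ := LinearMap.codRestrict _ (LinearMap.id - φ.smulRight x) fun z => by
      simp [hφ]
    have hr : ∀ z : P, (r z : P) = z - φ z • x := fun z => rfl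
    have hrk : ∀ z : LinearMap.ker φ, r z.1 = z := fun z => Subtype.ext (by simp [hr])
    let e : P ≃ₗ[R] LinearMap.ker φ × R :=
      LinearEquiv.ofLinearMap (r.prod φ) ((LinearMap.ker φ).subtype.coprod (LinearMap.toSpanSingleton R P x))
        (LinearMap.ext fun ⟨z, c⟩ => by
          refine Prod.ext (Subtype.ext ?_) ?_
          · simp [hr, hφ]
          · simp [hφ])
        (LinearMap.ext fun z => by simp [hr])
    haveI : Module.Projective R (LinearMap.ker φ) :=
      Module.Projective.of_split (LinearMap.ker φ).subtype r (LinearMap.ext hrk)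
    haveI : Module.Finite R (LinearMap.ker φ) := inferInstance
    obtain ⟨g, hg⟩ := ih (LinearMap.ker φ) fun p => by
      haveI : Nontrivial R := p.nontrivial
      have h1 := congrFun (rankAtStalk_eq_of_equiv e) p
      rw [rankAtStalk_prod, Pi.add_apply, rankAtStalk_self, Pi.one_apply] at h1
      have := h p
      omega
    refine ⟨(Fin.consLinearEquiv R fun _ : Fin (k + 1) => R).toLinearMap ∘ₗ φ.prod (g ∘ₗ r), fun y => ?_⟩
    obtain ⟨z, hz⟩ := hg (Fin.tail y)
    refine ⟨z.1 + y 0 • x, ?_⟩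
    have h1 : φ (z.1 + y 0 • x) = y 0 := by simp [hφ]
    have h2 : r (z.1 + y 0 • x) = z := Subtype.ext (by rw [hr, h1, add_sub_cancel_right])
    change Fin.cons (φ (z.1 + y 0 • x)) (g (r (z.1 + y 0 • x))) = y
    rw [h1, h2, hz]
    exact Fin.cons_self_tail y

theorem splitting (n : ℕ) (hd : ringKrullDim R ≤ d) (P : Type u) [AddCommGroup P] [Module R P]
    [Module.Finite R P] [Module.Projective R P] (hrk : ∀ p : PrimeSpectrum R, rankAtStalk P p = n)
    (hnd : d < n) :
    ∃ (P₀ Q : Submodule R P), IsCompl P₀ Q ∧ Nonempty (Q ≃ₗ[R] (Fin (n - d) → R)) := by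
  obtain ⟨g, hg⟩ := exists_surjective hd (n - d) P fun p => by rw [hrk p]; omega
  obtain ⟨s, hs⟩ := Module.projective_lifting_property g LinearMap.id hg
  have hinj : Function.Injective s := fun a b h => by
    simpa [← LinearMap.comp_apply, hs] using congrArg g h
  refine ⟨LinearMap.ker g, LinearMap.range s, ⟨?_, ?_⟩, ⟨(LinearEquiv.ofInjective s hinj).symm⟩⟩
  · rw [Submodule.disjoint_def]
    rintro _ hk ⟨w, rfl⟩
    have : w = 0 := by
      rw [LinearMap.mem_ker, ← LinearMap.comp_apply, hs] at hk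
      exact hk
    rw [this, map_zero]
  · rw [codisjoint_iff, eq_top_iff]
    intro z _
    refine Submodule.mem_sup.2 ⟨z - s (g z), ?_, s (g z), ⟨g z, rfl⟩, sub_add_cancel _ _⟩
    rw [LinearMap.mem_ker, map_sub, ← LinearMap.comp_apply g s, hs, LinearMap.id_apply, sub_self]

theorem cancel_one (hd : ringKrullDim R ≤ d) (P P' : Type u) [AddCommGroup P] [Module R P]
    [Module.Finite R P] [Module.Projective R P] [AddCommGroup P'] [Module R P']
    (hrk : ∀ p : PrimeSpectrum R, d < rankAtStalk P p) (e : (P' × R) ≃ₗ[R] (P × R)) :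
    Nonempty (P' ≃ₗ[R] P) := by
  obtain ⟨x, a⟩ : P × R := e (0, 1)
  let u := e (0, 1)
  obtain ⟨y, φ, hφ⟩ := exists_unimodular hd hrk u.1 u.2 (fun p hap => by
    let ψ : P × R →ₗ[R] R := LinearMap.snd R P' R ∘ₗ e.symm.toLinearMap
    refine ⟨ψ ∘ₗ LinearMap.inl R P R, fun hmem => p.isPrime.ne_top ((Ideal.eq_top_iff_one _).2 ?_)⟩
    have h1 : ψ u = 1 := by simp [ψ, u]
    rw [← h1]
    have h2 : u = (u.1, (0 : R)) + u.2 • ((0 : P), (1 : R)) := by simp
    rw [h2, map_add, map_smul, smul_eq_mul]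
    exact p.asIdeal.add_mem hmem (p.asIdeal.mul_mem_right _ hap))
  let x' := u.1 + u.2 • y
  let f1 : (P × R) ≃ₗ[R] (P × R) :=
    LinearEquiv.ofLinearMap ((LinearMap.fst R P R + (LinearMap.snd R P R).smulRight y).prod (LinearMap.snd R P R))
      ((LinearMap.fst R P R - (LinearMap.snd R P R).smulRight y).prod (LinearMap.snd R P R))
      (LinearMap.ext fun w => Prod.ext (by simp) (by simp)) (LinearMap.ext fun w => Prod.ext (by simp) (by simp))
  let f2 : (P × R) ≃ₗ[R] (P × R) :=
    LinearEquiv.ofLinearMap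
      ((LinearMap.fst R P R).prod (LinearMap.snd R P R + (1 - u.2) • (φ ∘ₗ LinearMap.fst R P R)))
      ((LinearMap.fst R P R).prod (LinearMap.snd R P R - (1 - u.2) • (φ ∘ₗ LinearMap.fst R P R)))
      (LinearMap.ext fun w => Prod.ext (by simp) (by simp)) (LinearMap.ext fun w => Prod.ext (by simp) (by simp))
  let f3 : (P × R) ≃ₗ[R] (P × R) :=
    LinearEquiv.ofLinearMap ((LinearMap.fst R P R - (LinearMap.snd R P R).smulRight x').prod (LinearMap.snd R P R))
      ((LinearMap.fst R P R + (LinearMap.snd R P R).smulRight x').prod (LinearMap.snd R P R))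
      (LinearMap.ext fun w => Prod.ext (by simp) (by simp)) (LinearMap.ext fun w => Prod.ext (by simp) (by simp))
  let F : (P' × R) ≃ₗ[R] (P × R) := e ≪≫ₗ f1 ≪≫ₗ f2 ≪≫ₗ f3
  have hF : F (0, 1) = (0, 1) := by
    have h1 : f1 u = (x', u.2) := Prod.ext (by simp [f1, x']) (by simp [f1])
    have h2 : f2 (x', u.2) = (x', 1) := Prod.ext (by simp [f2]) (by simp [f2, x', hφ])
    have h3 : f3 (x', 1) = (0, 1) := Prod.ext (by simp [f3]) (by simp [f3])
    simp only [F, LinearEquiv.trans_apply]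
    change f3 (f2 (f1 u)) = _
    rw [h1, h2, h3]
  have hFs : F.symm (0, 1) = (0, 1) := F.symm_apply_eq.2 hF.symm
  refine ⟨LinearEquiv.ofLinearMap (LinearMap.fst R P R ∘ₗ F.toLinearMap ∘ₗ LinearMap.inl R P' R)
    (LinearMap.fst R P' R ∘ₗ F.symm.toLinearMap ∘ₗ LinearMap.inl R P R) ?_ ?_⟩
  · refine LinearMap.ext fun w => ?_
    change (F ((F.symm (w, 0)).1, (0 : R))).1 = w
    have h : ((F.symm (w, 0)).1, (0 : R)) = F.symm (w, 0) - (F.symm (w, 0)).2 • ((0 : P'), (1 : R)) := by
      ext <;> simp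
    rw [h, map_sub, map_smul, hF, F.apply_symm_apply]
    simp
  · refine LinearMap.ext fun w => ?_
    change (F.symm ((F (w, 0)).1, (0 : R))).1 = w
    have h : ((F (w, 0)).1, (0 : R)) = F (w, 0) - (F (w, 0)).2 • ((0 : P), (1 : R)) := by
      ext <;> simp
    rw [h, map_sub, map_smul, hFs, F.symm_apply_apply]
    simp

theorem cancel (hd : ringKrullDim R ≤ d) (P P' : Type u) [AddCommGroup P] [Module R P]
    [Module.Finite R P] [Module.Projective R P] [AddCommGroup P'] [Module R P'] :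
    ∀ (m : ℕ), (∀ p : PrimeSpectrum R, d < rankAtStalk P p) →
      (e : (P' × (Fin m → R)) ≃ₗ[R] (P × (Fin m → R))) → Nonempty (P' ≃ₗ[R] P) := by
  intro m
  induction m with
  | zero => exact fun _ e => ⟨LinearEquiv.prodUnique.symm ≪≫ₗ e ≪≫ₗ LinearEquiv.prodUnique⟩
  | succ m ih =>
    intro hrk e
    let c : (Fin (m + 1) → R) ≃ₗ[R] (Fin m → R) × R :=
      (Fin.consLinearEquiv R fun _ : Fin (m + 1) => R).symm ≪≫ₗ LinearEquiv.prodComm R R (Fin m → R)
    obtain ⟨e'⟩ := cancel_one hd (P × (Fin m → R)) (P' × (Fin m → R))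
      (fun p => by
        have := hrk p
        rw [rankAtStalk_prod, Pi.add_apply]
        omega)
      ((LinearEquiv.prodAssoc R P' (Fin m → R) R) ≪≫ₗ (LinearEquiv.refl R P').prodCongr c.symm ≪≫ₗ e ≪≫ₗ
        (LinearEquiv.refl R P).prodCongr c ≪≫ₗ (LinearEquiv.prodAssoc R P (Fin m → R) R).symm)
    exact ih hrk e'

theorem power_iso (hd : ringKrullDim R ≤ d) (n : ℕ) (P Q : Type u) [AddCommGroup P] [Module R P]
    [Module.Finite R P] [Module.Projective R P] [AddCommGroup Q] [Module R Q] [Module.Finite R Q]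
    [Module.Projective R Q]
    (hrk : ∀ p : PrimeSpectrum R, rankAtStalk P p = n) (hrk' : ∀ p : PrimeSpectrum R, rankAtStalk Q p = n)
    (m : ℕ) (e : (P × (Fin m → R)) ≃ₗ[R] (Q × (Fin m → R))) :
    ∃ N : ℕ, 1 ≤ N ∧ Nonempty ((Fin N → P) ≃ₗ[R] (Fin N → Q)) := by
  refine ⟨d + 1, Nat.le_add_left 1 d, ?_⟩
  rcases Nat.eq_zero_or_pos n with rfl | hn
  · haveI : Subsingleton P := (rankAtStalk_eq_zero_iff_subsingleton (R := R)).1 (funext hrk)
    haveI : Subsingleton Q := (rankAtStalk_eq_zero_iff_subsingleton (R := R)).1 (funext hrk')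
    exact ⟨LinearEquiv.ofSubsingleton _ _⟩
  let c : (Fin (d + 1) → Fin m → R) ≃ₗ[R] (Fin ((d + 1) * m) → R) :=
    (LinearEquiv.curry R R (Fin (d + 1)) (Fin m)).symm ≪≫ₗ LinearEquiv.funCongrLeft R R finProdFinEquiv.symm
  let sp : ∀ (A : Type u) [AddCommGroup A] [Module R A],
      (Fin (d + 1) → A × (Fin m → R)) ≃ₗ[R] (Fin (d + 1) → A) × (Fin ((d + 1) * m) → R) := fun A _ _ =>
    LinearEquiv.ofLinearMap
      ((LinearMap.compLeft (LinearMap.fst R A (Fin m → R)) (Fin (d + 1))).prod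
        (c.toLinearMap ∘ₗ LinearMap.compLeft (LinearMap.snd R A (Fin m → R)) (Fin (d + 1))))
      (LinearMap.pi fun i => (LinearMap.proj i ∘ₗ LinearMap.fst R _ _).prod
        (LinearMap.proj i ∘ₗ c.symm.toLinearMap ∘ₗ LinearMap.snd R _ _))
      (LinearMap.ext fun w => Prod.ext (funext fun i => rfl) (by
        change c (fun i => c.symm w.2 i) = w.2
        exact c.apply_symm_apply _))
      (LinearMap.ext fun w => funext fun i => Prod.ext rfl (by
        change c.symm (c fun i => (w i).2) i = (w i).2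
        rw [c.symm_apply_apply]))
  obtain ⟨k, π, hπ⟩ := Module.Finite.exists_fin' R Q
  obtain ⟨ι, hι⟩ := Module.projective_lifting_property π LinearMap.id hπ
  haveI : Module.Projective R (Fin (d + 1) → Q) :=
    Module.Projective.of_split (LinearMap.compLeft ι (Fin (d + 1))) (LinearMap.compLeft π (Fin (d + 1)))
      (LinearMap.ext fun w => funext fun i => LinearMap.congr_fun hι (w i))
  obtain ⟨e'⟩ := cancel hd (Fin (d + 1) → Q) (Fin (d + 1) → P) ((d + 1) * m) (fun p => by
      rw [rankAtStalk_pi, finsum_eq_sum_of_fintype]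
      simp only [hrk', Finset.sum_const, Finset.card_univ, Fintype.card_fin, smul_eq_mul]
      exact (Nat.lt_succ_self d).trans_le (Nat.le_mul_of_pos_right _ hn))
    ((sp P).symm ≪≫ₗ LinearEquiv.piCongrRight (fun _ => e) ≪≫ₗ sp Q)
  exact ⟨e'⟩

end Groth.Agent.H22.SerreBass
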