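import Groth.Agent.H22.FlatProj
import Groth.Agent.H22.SerreBassCor
import Mathlib

/-!
A projective module with a free tensor power has a free direct power.

The nilpotence of `[P] - r` is realised by tensor products of two-periodic contractible complexes.
-/

set_option autoImplicit false
set_option maxHeartbeats 1000000
universe u

open TensorProduct Polynomial Module
open scoped Classical

namespace Groth.Agent.H22.KNilp

variable {R : Type u} [CommRing R] (P : Type u) [AddCommGroup P] [Module R P]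

/-- A finite family of tensor degrees. -/
structure Fam where
  ι : Type
  [fin : Fintype ι]
  deg : ι → ℕ

attribute [instance] Fam.fin

variable (R)

/-- The module of a family. -/
abbrev Fam.Mod (a : Fam) : Type u := (i : a.ι) → TensorPower R (a.deg i) P

/-- The polynomial of a family. -/
noncomputable def Fam.poly (a : Fam) : ℤ[X] := ∑ i, X ^ a.deg i

/-- Sum of families. -/
def Fam.add (a b : Fam) : Fam := ⟨a.ι ⊕ b.ι, Sum.elim a.deg b.deg⟩

/-- Shift of a family. -/
def Fam.shift (a : Fam) : Fam := ⟨a.ι, fun i => a.deg i + 1⟩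

/-- A constant family. -/
def Fam.const (k r : ℕ) : Fam := ⟨Fin r, fun _ => k⟩

/-- Repetition of a family. -/
def Fam.rep (a : Fam) (r : ℕ) : Fam := ⟨a.ι × Fin r, fun x => a.deg x.1⟩

theorem Fam.poly_add (a b : Fam) : (a.add b).poly = a.poly + b.poly := by
  simp only [Fam.poly, Fam.add]
  exact Fintype.sum_sum_type _

theorem Fam.poly_shift (a : Fam) : a.shift.poly = a.poly * X := by
  simp only [Fam.poly, Fam.shift, Finset.sum_mul, pow_succ]
  rfl

theorem Fam.poly_const (k r : ℕ) : (Fam.const k r).poly = (r : ℤ[X]) * X ^ k := by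
  change ∑ _i : Fin r, (X : ℤ[X]) ^ k = _
  simp

theorem Fam.poly_rep (a : Fam) (r : ℕ) : (a.rep r).poly = a.poly * (r : ℤ[X]) := by
  change ∑ x : a.ι × Fin r, (X : ℤ[X]) ^ a.deg x.1 = (∑ i, X ^ a.deg i) * _
  simp [Fintype.sum_prod_type, Finset.mul_sum, mul_comm]

/-- Module of a sum. -/
noncomputable def addEquiv (a b : Fam) : (a.add b).Mod R P ≃ₗ[R] a.Mod R P × b.Mod R P :=
  LinearEquiv.sumPiEquivProdPi R a.ι b.ι fun i => TensorPower R (Sum.elim a.deg b.deg i) P

/-- First tensor power. -/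
noncomputable def oneEquiv : TensorPower R 1 P ≃ₗ[R] P :=
  PiTensorProduct.subsingletonEquiv (0 : Fin 1)

/-- Module of a shift. -/
noncomputable def shiftEquiv (a : Fam) : a.shift.Mod R P ≃ₗ[R] a.Mod R P ⊗[R] P :=
  (LinearEquiv.piCongrRight fun i : a.ι => (TensorPower.mulEquiv (n := a.deg i) (m := 1)).symm ≪≫ₗ
      TensorProduct.congr (LinearEquiv.refl R _) (oneEquiv R P)) ≪≫ₗ
    (TensorProduct.piLeft R P fun i : a.ι => TensorPower R (a.deg i) P).symm

/-- Module of a repetition. -/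
noncomputable def repEquiv (a : Fam) (r : ℕ) : (a.rep r).Mod R P ≃ₗ[R] a.Mod R P ⊗[R] (Fin r → R) :=
  (LinearEquiv.ofLinearMap
    (LinearMap.pi fun k : Fin r => LinearMap.pi fun i : a.ι =>
      (LinearMap.proj (i, k) : (a.rep r).Mod R P →ₗ[R] TensorPower R (a.deg i) P))
    (LinearMap.pi fun x : a.ι × Fin r =>
      (LinearMap.proj x.1 : a.Mod R P →ₗ[R] TensorPower R (a.deg x.1) P) ∘ₗ
        (LinearMap.proj x.2 : (Fin r → a.Mod R P) →ₗ[R] a.Mod R P))
    (LinearMap.ext fun f => rfl) (LinearMap.ext fun f => rfl)) ≪≫ₗ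
    (TensorProduct.piScalarRight R R (a.Mod R P) (Fin r)).symm

/-- Module of a constant family in degree `0`. -/
noncomputable def constZeroEquiv (r : ℕ) : (Fam.const 0 r).Mod R P ≃ₗ[R] (Fin r → R) :=
  LinearEquiv.piCongrRight fun _ : Fin r => (TensorPower.algebraMap₀ (R := R) (M := P)).symm

/-- Families with equal polynomials have isomorphic modules. -/
theorem nonempty_of_poly_eq (a b : Fam) (h : a.poly = b.poly) : Nonempty (a.Mod R P ≃ₗ[R] b.Mod R P) := by
  classical
  have hc : ∀ (c : Fam) (k : ℕ), (c.poly).coeff k = (Fintype.card {i // c.deg i = k} : ℤ) := fun c k => by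
    rw [Fam.poly, finset_sum_coeff, Fintype.card_subtype]
    simp only [coeff_X_pow, eq_comm (a := k)]
    rw [Finset.sum_boole]
  let e : a.ι ≃ b.ι := Equiv.ofFiberEquiv (f := a.deg) (g := b.deg) fun k => Fintype.equivOfCardEq (by
    have := hc a k
    rw [h, hc b k] at this
    exact_mod_cast this.symm)
  have he : ∀ i, b.deg (e i) = a.deg i := fun i => Equiv.ofFiberEquiv_map _ i
  exact ⟨(LinearEquiv.piCongrRight fun i => TensorPower.cast R P (he i).symm) ≪≫ₗ
    LinearEquiv.piCongrLeft R (fun j => TensorPower R (b.deg j) P) e⟩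

/-- Differences of isomorphic families. -/
def Rel (f : ℤ[X]) : Prop :=
  ∃ a b : Fam, f = a.poly - b.poly ∧ Nonempty (a.Mod R P ≃ₗ[R] b.Mod R P)

variable {R P}

theorem Rel.add {f g : ℤ[X]} (hf : Rel R P f) (hg : Rel R P g) : Rel R P (f + g) := by
  obtain ⟨a, b, rfl, ⟨e⟩⟩ := hf
  obtain ⟨c, d, rfl, ⟨e'⟩⟩ := hg
  exact ⟨a.add c, b.add d, by rw [Fam.poly_add, Fam.poly_add]; ring,
    ⟨addEquiv R P a c ≪≫ₗ e.prodCongr e' ≪≫ₗ (addEquiv R P b d).symm⟩⟩

theorem Rel.zero : Rel R P 0 := ⟨Fam.const 0 0, Fam.const 0 0, by simp, ⟨LinearEquiv.refl R _⟩⟩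

theorem Rel.neg {f : ℤ[X]} (hf : Rel R P f) : Rel R P (-f) := by
  obtain ⟨a, b, rfl, ⟨e⟩⟩ := hf
  exact ⟨b, a, by ring, ⟨e.symm⟩⟩

theorem Rel.mul_X {f : ℤ[X]} (hf : Rel R P f) : Rel R P (f * X) := by
  obtain ⟨a, b, rfl, ⟨e⟩⟩ := hf
  exact ⟨a.shift, b.shift, by rw [Fam.poly_shift, Fam.poly_shift]; ring,
    ⟨shiftEquiv R P a ≪≫ₗ TensorProduct.congr e (LinearEquiv.refl R P) ≪≫ₗ (shiftEquiv R P b).symm⟩⟩

theorem Rel.mul {f : ℤ[X]} (hf : Rel R P f) (g : ℤ[X]) : Rel R P (g * f) := by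
  have hnat : ∀ n : ℕ, Rel R P ((n : ℤ[X]) * f) := by
    intro n
    induction n with
    | zero => simpa using Rel.zero
    | succ n ih => rw [Nat.cast_succ, add_mul, one_mul]; exact ih.add hf
  induction g using Polynomial.induction_on with
  | C n =>
    obtain ⟨m, rfl | rfl⟩ := n.eq_nat_or_neg
    · simpa using hnat m
    · simpa using (hnat m).neg
  | add p q hp hq => rw [add_mul]; exact hp.add hq
  | monomial n c ih =>
    rw [pow_succ, ← mul_assoc, mul_right_comm]
    exact ih.mul_X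

/-- A two-periodic complex with a set of null-homotopic scalars. -/
structure Per (E O : Type u) [AddCommGroup E] [Module R E] [AddCommGroup O] [Module R O] where
  d : E →ₗ[R] O
  d' : O →ₗ[R] E
  hd : ∀ x, d' (d x) = 0
  hd' : ∀ x, d (d' x) = 0

/-- Scalars homotopic to zero. -/
def Per.Null {E O : Type u} [AddCommGroup E] [Module R E] [AddCommGroup O] [Module R O]
    (K : Per (R := R) E O) (c : R) : Prop :=
  ∃ (h : E →ₗ[R] O) (h' : O →ₗ[R] E),
    (∀ x, K.d' (h x) + h' (K.d x) = c • x) ∧ ∀ y, K.d (h' y) + h (K.d' y) = c • y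

theorem Per.equiv_of_null_one {E O : Type u} [AddCommGroup E] [Module R E] [AddCommGroup O] [Module R O]
    (K : Per (R := R) E O) (h1 : K.Null 1) : Nonempty (E ≃ₗ[R] O) := by
  obtain ⟨h, h', hE, hO⟩ := h1
  simp only [one_smul] at hE hO
  -- make the homotopy square to zero
  let g : E →ₗ[R] O := h ∘ₗ K.d' ∘ₗ h
  let g' : O →ₗ[R] E := h' ∘ₗ K.d ∘ₗ h'
  have e1 : ∀ x, K.d (h' (K.d x)) = K.d x := fun x => by
    have := congrArg K.d (hE x)
    rwa [map_add, K.hd', zero_add] at this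
  have e2 : ∀ y, K.d' (h (K.d' y)) = K.d' y := fun y => by
    have := congrArg K.d' (hO y)
    rwa [map_add, K.hd, zero_add] at this
  have f1 : ∀ x, K.d' (g x) + g' (K.d x) = x := fun x => by
    simp only [g, g', LinearMap.comp_apply, e1, e2]
    exact hE x
  have f2 : ∀ y, K.d (g' y) + g (K.d' y) = y := fun y => by
    simp only [g, g', LinearMap.comp_apply, e1, e2]
    exact hO y
  have z1 : ∀ x, g' (g x) = 0 := fun x => by
    have key : K.d (h' (h (K.d' (h x)))) = 0 := by
      have a1 := congrArg (fun y => K.d (h' y)) (hO (h (K.d' (h x))))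
      have a2 : h (K.d' (h (K.d' (h x)))) = h (K.d' (h x)) := by rw [e2]
      simp only [a2, map_add] at a1
      rw [add_eq_right] at a1
      have a3 := e1 (h' (h (K.d' (h x))))
      rw [a3] at a1
      exact a1
    simp only [g, g', LinearMap.comp_apply, key, map_zero]
  have z2 : ∀ y, g (g' y) = 0 := fun y => by
    have key : K.d' (h (h' (K.d (h' y)))) = 0 := by
      have a1 := congrArg (fun x => K.d' (h x)) (hE (h' (K.d (h' y))))
      have a2 : h' (K.d (h' (K.d (h' y)))) = h' (K.d (h' y)) := by rw [e1]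
      simp only [a2, map_add] at a1
      rw [add_eq_right] at a1
      rw [e2] at a1
      exact a1
    simp only [g, g', LinearMap.comp_apply, key, map_zero]
  refine ⟨LinearEquiv.ofLinearMap (K.d + g) (K.d' + g') (LinearMap.ext fun y => ?_) (LinearMap.ext fun x => ?_)⟩
  · simp only [LinearMap.comp_apply, LinearMap.add_apply, map_add, K.hd', z2, zero_add, add_zero, LinearMap.id_apply]
    exact (add_comm _ _).trans (f2 y)
  · simp only [LinearMap.comp_apply, LinearMap.add_apply, map_add, K.hd, z1, zero_add, add_zero, LinearMap.id_apply]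
    exact (add_comm _ _).trans (f1 x)

/-- Tensor product with `F → P`. -/
noncomputable def Per.tensor {E O F : Type u} [AddCommGroup E] [Module R E] [AddCommGroup O] [Module R O]
    [AddCommGroup F] [Module R F] (K : Per (R := R) E O) (φ : F →ₗ[R] P) :
    Per (R := R) ((E ⊗[R] P) × (O ⊗[R] F)) ((O ⊗[R] P) × (E ⊗[R] F)) where
  d := ((K.d.rTensor P).coprod (φ.lTensor O)).prod (-(K.d'.rTensor F) ∘ₗ LinearMap.snd R _ _)
  d' := ((K.d'.rTensor P).coprod (φ.lTensor E)).prod (-(K.d.rTensor F) ∘ₗ LinearMap.snd R _ _)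
  hd := by
    have h0 : K.d' ∘ₗ K.d = 0 := LinearMap.ext K.hd
    have h0' : K.d ∘ₗ K.d' = 0 := LinearMap.ext K.hd'
    rintro ⟨x, y⟩
    refine Prod.ext ?_ ?_
    · simp only [LinearMap.prod_apply, Function.prod, LinearMap.coprod_apply, LinearMap.comp_apply,
        LinearMap.neg_apply, LinearMap.snd_apply, map_add, map_neg, Prod.fst_zero]
      rw [← LinearMap.comp_apply, ← LinearMap.rTensor_comp, h0, LinearMap.rTensor_zero, LinearMap.zero_apply,
        zero_add, ← LinearMap.comp_apply, LinearMap.rTensor_comp_lTensor, ← LinearMap.comp_apply (φ.lTensor E),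
        LinearMap.lTensor_comp_rTensor, add_neg_cancel]
    · simp only [LinearMap.prod_apply, Function.prod, LinearMap.comp_apply, LinearMap.neg_apply, LinearMap.snd_apply,
        map_neg, neg_neg, Prod.snd_zero]
      rw [← LinearMap.comp_apply, ← LinearMap.rTensor_comp, h0', LinearMap.rTensor_zero, LinearMap.zero_apply]
  hd' := by
    have h0 : K.d' ∘ₗ K.d = 0 := LinearMap.ext K.hd
    have h0' : K.d ∘ₗ K.d' = 0 := LinearMap.ext K.hd'
    rintro ⟨x, y⟩
    refine Prod.ext ?_ ?_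
    · simp only [LinearMap.prod_apply, Function.prod, LinearMap.coprod_apply, LinearMap.comp_apply,
        LinearMap.neg_apply, LinearMap.snd_apply, map_add, map_neg, Prod.fst_zero]
      rw [← LinearMap.comp_apply, ← LinearMap.rTensor_comp, h0', LinearMap.rTensor_zero, LinearMap.zero_apply,
        zero_add, ← LinearMap.comp_apply, LinearMap.rTensor_comp_lTensor, ← LinearMap.comp_apply (φ.lTensor O),
        LinearMap.lTensor_comp_rTensor, add_neg_cancel]
    · simp only [LinearMap.prod_apply, Function.prod, LinearMap.comp_apply, LinearMap.neg_apply, LinearMap.snd_apply,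
        map_neg, neg_neg, Prod.snd_zero]
      rw [← LinearMap.comp_apply, ← LinearMap.rTensor_comp, h0, LinearMap.rTensor_zero, LinearMap.zero_apply]

theorem Per.null_tensor_left {E O F : Type u} [AddCommGroup E] [Module R E] [AddCommGroup O] [Module R O]
    [AddCommGroup F] [Module R F] (K : Per (R := R) E O) (φ : F →ₗ[R] P) {c : R} (hc : K.Null c) :
    (K.tensor φ).Null c := by
  obtain ⟨h, h', hE, hO⟩ := hc
  refine ⟨(h.rTensor P).prodMap (-(h'.rTensor F)), (h'.rTensor P).prodMap (-(h.rTensor F)), ?_, ?_⟩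
  · rintro ⟨x, y⟩
    have e1 : K.d' ∘ₗ h + h' ∘ₗ K.d = c • LinearMap.id := LinearMap.ext hE
    have e2 : K.d ∘ₗ h' + h ∘ₗ K.d' = c • LinearMap.id := LinearMap.ext hO
    have x1 := LinearMap.congr_fun (congrArg (LinearMap.rTensor P) e1) x
    have y1 := LinearMap.congr_fun (congrArg (LinearMap.rTensor F) e2) y
    have cm : φ.lTensor E (h'.rTensor F y) = h'.rTensor P (φ.lTensor O y) := by
      rw [← LinearMap.comp_apply, LinearMap.lTensor_comp_rTensor, ← LinearMap.comp_apply, LinearMap.rTensor_comp_lTensor]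
    simp only [LinearMap.rTensor_add, LinearMap.rTensor_comp, LinearMap.rTensor_smul, LinearMap.rTensor_id,
      LinearMap.add_apply, LinearMap.comp_apply, LinearMap.smul_apply, LinearMap.id_apply] at x1 y1
    refine Prod.ext ?_ ?_
    · simp [Per.tensor, cm, ← x1]
      abel
    · simp [Per.tensor, ← y1]
  · rintro ⟨x, y⟩
    have e1 : K.d' ∘ₗ h + h' ∘ₗ K.d = c • LinearMap.id := LinearMap.ext hE
    have e2 : K.d ∘ₗ h' + h ∘ₗ K.d' = c • LinearMap.id := LinearMap.ext hO
    have x1 := LinearMap.congr_fun (congrArg (LinearMap.rTensor P) e2) x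
    have y1 := LinearMap.congr_fun (congrArg (LinearMap.rTensor F) e1) y
    have cm : φ.lTensor O (h.rTensor F y) = h.rTensor P (φ.lTensor E y) := by
      rw [← LinearMap.comp_apply, LinearMap.lTensor_comp_rTensor, ← LinearMap.comp_apply, LinearMap.rTensor_comp_lTensor]
    simp only [LinearMap.rTensor_add, LinearMap.rTensor_comp, LinearMap.rTensor_smul, LinearMap.rTensor_id,
      LinearMap.add_apply, LinearMap.comp_apply, LinearMap.smul_apply, LinearMap.id_apply] at x1 y1
    refine Prod.ext ?_ ?_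
    · simp [Per.tensor, cm, ← x1]
      abel
    · simp [Per.tensor, ← y1]

theorem Per.null_tensor_right {E O F : Type u} [AddCommGroup E] [Module R E] [AddCommGroup O] [Module R O]
    [AddCommGroup F] [Module R F] (K : Per (R := R) E O) (φ : F →ₗ[R] P) (ψ : P →ₗ[R] F) {c : R}
    (h1 : φ ∘ₗ ψ = c • LinearMap.id) (h2 : ψ ∘ₗ φ = c • LinearMap.id) :
    (K.tensor φ).Null c := by
  refine ⟨(LinearMap.inr R (O ⊗[R] P) (E ⊗[R] F)) ∘ₗ (ψ.lTensor E) ∘ₗ LinearMap.fst R (E ⊗[R] P) (O ⊗[R] F),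
    (LinearMap.inr R (E ⊗[R] P) (O ⊗[R] F)) ∘ₗ (ψ.lTensor O) ∘ₗ LinearMap.fst R (O ⊗[R] P) (E ⊗[R] F), ?_, ?_⟩
  · rintro ⟨x, y⟩
    have x1 := LinearMap.congr_fun (congrArg (LinearMap.lTensor E) h1) x
    have y1 := LinearMap.congr_fun (congrArg (LinearMap.lTensor O) h2) y
    have cm : K.d.rTensor F (ψ.lTensor E x) = ψ.lTensor O (K.d.rTensor P x) := by
      rw [← LinearMap.comp_apply, LinearMap.rTensor_comp_lTensor, ← LinearMap.comp_apply, LinearMap.lTensor_comp_rTensor]
    simp only [LinearMap.lTensor_comp, LinearMap.lTensor_smul, LinearMap.lTensor_id, LinearMap.comp_apply,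
      LinearMap.smul_apply, LinearMap.id_apply] at x1 y1
    refine Prod.ext ?_ ?_
    · simp [Per.tensor, x1]
    · simp [Per.tensor, cm, y1]
  · rintro ⟨x, y⟩
    have x1 := LinearMap.congr_fun (congrArg (LinearMap.lTensor O) h1) x
    have y1 := LinearMap.congr_fun (congrArg (LinearMap.lTensor E) h2) y
    have cm : K.d'.rTensor F (ψ.lTensor O x) = ψ.lTensor E (K.d'.rTensor P x) := by
      rw [← LinearMap.comp_apply, LinearMap.rTensor_comp_lTensor, ← LinearMap.comp_apply, LinearMap.lTensor_comp_rTensor]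
    simp only [LinearMap.lTensor_comp, LinearMap.lTensor_smul, LinearMap.lTensor_id, LinearMap.comp_apply,
      LinearMap.smul_apply, LinearMap.id_apply] at x1 y1
    refine Prod.ext ?_ ?_
    · simp [Per.tensor, x1]
    · simp [Per.tensor, cm, y1]

variable [Module.Finite R P] [Module.Projective R P]

theorem exists_local (r : ℕ) (hr : ∀ q : PrimeSpectrum R, rankAtStalk P q = r) (p : PrimeSpectrum R) :
    ∃ c : R, c ∉ p.asIdeal ∧ ∃ (φ : (Fin r → R) →ₗ[R] P) (ψ : P →ₗ[R] (Fin r → R)),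
      φ ∘ₗ ψ = c • LinearMap.id ∧ ψ ∘ₗ φ = c • LinearMap.id := by
  classical
  obtain ⟨f, hf⟩ : ∃ f : (Fin r → R) →ₗ[R] P, p ∉ Module.support R (P ⧸ LinearMap.range f) := by
    obtain ⟨f, hf⟩ := FlatProj.exists_surjective_near (M := P) p
    rw [← hr p]
    exact ⟨f, hf⟩
  obtain ⟨hs, -⟩ := FlatProj.rankAtStalk_le_of_notMem f p hf
  obtain ⟨c₁, hc₁, hc₁m⟩ : ∃ c ∉ p.asIdeal, ∀ m : P, c • m ∈ LinearMap.range f := by
    have : ¬ Module.annihilator R (P ⧸ LinearMap.range f) ≤ p.asIdeal := by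
      intro h
      exact hf (by rw [Module.support_eq_zeroLocus]; exact h)
    obtain ⟨c, hc, hcp⟩ := SetLike.not_le_iff_exists.1 this
    refine ⟨c, hcp, fun m => ?_⟩
    have := Module.mem_annihilator.1 hc (Submodule.Quotient.mk m)
    rwa [← Submodule.Quotient.mk_smul, Submodule.Quotient.mk_eq_zero] at this
  obtain ⟨ψ, hψ⟩ := Module.projective_lifting_property f.rangeRestrict
    (LinearMap.codRestrict (LinearMap.range f) (c₁ • LinearMap.id) hc₁m) f.surjective_rangeRestrict
  have hfψ : ∀ m, f (ψ m) = c₁ • m := fun m => congrArg Subtype.val (LinearMap.congr_fun hψ m)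
  haveI : Nontrivial R := p.nontrivial
  haveI : Module.Free (Localization.AtPrime p.asIdeal) (LocalizedModule p.asIdeal.primeCompl P) :=
    Module.free_of_flat_of_isLocalRing
  haveI : Module.Free (Localization.AtPrime p.asIdeal) (LocalizedModule p.asIdeal.primeCompl (Fin r → R)) :=
    Module.free_of_flat_of_isLocalRing
  let e : LocalizedModule p.asIdeal.primeCompl P ≃ₗ[Localization.AtPrime p.asIdeal]
      LocalizedModule p.asIdeal.primeCompl (Fin r → R) :=
    LinearEquiv.ofFinrankEq _ _ (by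
      change rankAtStalk P p = rankAtStalk (Fin r → R) p
      simp [hr p])
  have hi : Function.Injective (LocalizedModule.map p.asIdeal.primeCompl f) :=
    Function.Injective.of_comp (OrzechProperty.injective_of_surjective_endomorphism
      (e.toLinearMap ∘ₗ LocalizedModule.map p.asIdeal.primeCompl f) (e.surjective.comp hs))
  have hkill : ∀ j : Fin r, ∃ t ∉ p.asIdeal, t • (ψ (f (Pi.single j 1)) - c₁ • Pi.single j 1) = 0 := by
    intro j
    have h0 : LocalizedModule.mkLinearMap p.asIdeal.primeCompl _ (ψ (f (Pi.single j 1)) - c₁ • Pi.single j 1) = 0 :=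
      hi (by rw [LocalizedModule.mkLinearMap_apply, LocalizedModule.map_mk, map_sub, hfψ, map_smul, sub_self,
        map_zero, LocalizedModule.zero_mk])
    obtain ⟨t, ht⟩ := (IsLocalizedModule.eq_zero_iff p.asIdeal.primeCompl
      (LocalizedModule.mkLinearMap p.asIdeal.primeCompl (Fin r → R))).1 h0
    exact ⟨t, t.2, ht⟩
  choose t ht ht' using hkill
  refine ⟨(∏ j, t j) * c₁, fun h => ?_, f, (∏ j, t j) • ψ, ?_, ?_⟩
  · rcases p.isPrime.mem_or_mem h with h | h
    · obtain ⟨j, -, hj⟩ := Ideal.IsPrime.prod_mem_iff.1 h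
      exact ht j hj
    · exact hc₁ h
  · exact LinearMap.ext fun m => by simp [hfψ, mul_smul]
  · refine (Pi.basisFun R (Fin r)).ext fun j => ?_
    obtain ⟨d, hd⟩ := Finset.dvd_prod_of_mem t (Finset.mem_univ j)
    have h1 : (∏ j, t j) • (ψ (f (Pi.single j 1)) - c₁ • Pi.single j 1) = 0 := by
      rw [hd, mul_comm, mul_smul, ht', smul_zero]
    rw [smul_sub, sub_eq_zero, ← mul_smul] at h1
    simpa using h1

theorem rel_nilp (r : ℕ) (hr : ∀ q : PrimeSpectrum R, rankAtStalk P q = r) :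
    ∃ m : ℕ, Rel R P ((X - (r : ℤ[X])) ^ m) := by
  classical
  choose c hc φ ψ h1 h2 using exists_local (P := P) r hr
  have htop : Ideal.span (Set.range c) = ⊤ := by
    by_contra hne
    obtain ⟨q, hq, hle⟩ := Ideal.exists_le_maximal _ hne
    exact hc ⟨q, hq.isPrime⟩ (hle (Ideal.subset_span ⟨_, rfl⟩))
  obtain ⟨T, hT, h1T⟩ := Submodule.mem_span_finite_of_mem_span ((Ideal.eq_top_iff_one _).1 htop)
  have hex : ∀ L : List R, (∀ x ∈ L, x ∈ Set.range c) →
      ∃ (a b : Fam) (K : Per (R := R) (a.Mod R P) (b.Mod R P)),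
        a.poly - b.poly = (X - (r : ℤ[X])) ^ L.length ∧ ∀ x ∈ L, K.Null x := by
    intro L
    induction L with
    | nil =>
      exact fun _ => ⟨Fam.const 0 1, Fam.const 0 0, ⟨0, 0, fun x => rfl, fun x => rfl⟩,
        by simp [Fam.poly_const], by simp⟩
    | cons y L ih =>
      intro hL
      obtain ⟨a, b, K, hab, hK⟩ := ih fun x hx => hL x (List.mem_cons_of_mem _ hx)
      obtain ⟨q, rfl⟩ := hL y (List.mem_cons_self ..)
      let eE : (a.shift.add (b.rep r)).Mod R P ≃ₗ[R] (a.Mod R P ⊗[R] P) × (b.Mod R P ⊗[R] (Fin r → R)) :=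
        addEquiv R P _ _ ≪≫ₗ (shiftEquiv R P a).prodCongr (repEquiv R P b r)
      let eO : (b.shift.add (a.rep r)).Mod R P ≃ₗ[R] (b.Mod R P ⊗[R] P) × (a.Mod R P ⊗[R] (Fin r → R)) :=
        addEquiv R P _ _ ≪≫ₗ (shiftEquiv R P b).prodCongr (repEquiv R P a r)
      let K' := K.tensor (φ q)
      have hnull : ∀ z, K'.Null z →
          (⟨eO.symm.toLinearMap ∘ₗ K'.d ∘ₗ eE.toLinearMap, eE.symm.toLinearMap ∘ₗ K'.d' ∘ₗ eO.toLinearMap,
            fun x => by simp [K'.hd], fun x => by simp [K'.hd']⟩ :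
            Per (R := R) ((a.shift.add (b.rep r)).Mod R P) ((b.shift.add (a.rep r)).Mod R P)).Null z := by
        rintro z ⟨g, g', hg, hg'⟩
        refine ⟨eO.symm.toLinearMap ∘ₗ g ∘ₗ eE.toLinearMap, eE.symm.toLinearMap ∘ₗ g' ∘ₗ eO.toLinearMap,
          fun x => eE.injective ?_, fun x => eO.injective ?_⟩
        · simpa using hg (eE x)
        · simpa using hg' (eO x)
      refine ⟨_, _, _, ?_, fun x hx => hnull x ?_⟩
      · rw [Fam.poly_add, Fam.poly_add, Fam.poly_shift, Fam.poly_shift, Fam.poly_rep, Fam.poly_rep,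
          List.length_cons, pow_succ, ← hab]
        ring
      · rcases List.mem_cons.1 hx with rfl | hx
        · exact K.null_tensor_right (φ q) (ψ q) (h1 q) (h2 q)
        · exact K.null_tensor_left (φ q) (hK x hx)
  obtain ⟨a, b, K, hab, hK⟩ := hex T.toList (fun x hx => hT (Finset.mem_toList.1 hx))
  refine ⟨T.toList.length, a, b, hab.symm, K.equiv_of_null_one ?_⟩
  refine Submodule.span_induction (p := fun x _ => K.Null x)
    (fun x hx => hK x (Finset.mem_toList.2 hx)) ⟨0, 0, fun x => by simp, fun x => by simp⟩ ?_ ?_ h1T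
  · rintro x y - - ⟨g, g', hg, hg'⟩ ⟨k, k', hk, hk'⟩
    exact ⟨g + k, g' + k', fun z => by simp [← hg, ← hk, add_smul]; abel,
      fun z => by simp [← hg', ← hk', add_smul]; abel⟩
  · rintro x y - ⟨g, g', hg, hg'⟩
    exact ⟨x • g, x • g', fun z => by simp [← hg, mul_smul, smul_add], fun z => by simp [← hg', mul_smul, smul_add]⟩

theorem finite_projective_pow (k : ℕ) :
    Module.Finite R (TensorPower R k P) ∧ Module.Projective R (TensorPower R k P) := by
  induction k with
  | zero =>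
    let e := TensorPower.algebraMap₀ (R := R) (M := P)
    exact ⟨Module.Finite.equiv e, Module.Projective.of_equiv e⟩
  | succ k ih =>
    haveI := ih.1
    haveI := ih.2
    let e : TensorPower R k P ⊗[R] P ≃ₗ[R] TensorPower R (k + 1) P :=
      TensorProduct.congr (LinearEquiv.refl R _) (oneEquiv R P).symm ≪≫ₗ TensorPower.mulEquiv
    exact ⟨Module.Finite.equiv e, Module.Projective.of_equiv e⟩

theorem rankAtStalk_pow (k : ℕ) (q : PrimeSpectrum R) :
    rankAtStalk (TensorPower R k P) q = rankAtStalk P q ^ k := by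
  induction k with
  | zero =>
    haveI : Nontrivial R := q.nontrivial
    rw [rankAtStalk_eq_of_equiv (TensorPower.algebraMap₀ (R := R) (M := P)).symm, rankAtStalk_self, pow_zero,
      Pi.one_apply]
  | succ k ih =>
    haveI := (finite_projective_pow (R := R) (P := P) k).1
    haveI := (finite_projective_pow (R := R) (P := P) k).2
    let e : TensorPower R k P ⊗[R] P ≃ₗ[R] TensorPower R (k + 1) P :=
      TensorProduct.congr (LinearEquiv.refl R _) (oneEquiv R P).symm ≪≫ₗ TensorPower.mulEquiv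
    rw [rankAtStalk_eq_of_equiv e.symm, rankAtStalk_tensorProduct, Pi.mul_apply, ih, pow_succ]

theorem exists_stable_free (n : ℕ) (hn : 1 ≤ n) [Nontrivial R] (hfree : Module.Free R (TensorPower R n P)) :
    ∃ r : ℕ, (∀ q : PrimeSpectrum R, rankAtStalk P q = r) ∧
      (r = 0 ∨ ∃ N : ℕ, 1 ≤ N ∧ ∃ s : ℕ,
        Nonempty (((Fin N → P) × (Fin s → R)) ≃ₗ[R] ((Fin (N * r) → R) × (Fin s → R)))) := by
  classical
  haveI := hfree
  haveI := (finite_projective_pow (R := R) (P := P) n).1
  haveI := (finite_projective_pow (R := R) (P := P) n).2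
  have hrk : ∀ q, rankAtStalk P q ^ n = Module.finrank R (TensorPower R n P) := fun q => by
    rw [← rankAtStalk_pow (R := R) n q, rankAtStalk_eq_finrank_of_free]
    rfl
  obtain ⟨q₀⟩ := (inferInstance : Nonempty (PrimeSpectrum R))
  refine ⟨rankAtStalk P q₀, fun q => Nat.pow_left_injective (by omega) ((hrk q).trans (hrk q₀).symm), ?_⟩
  set r := rankAtStalk P q₀
  rcases Nat.eq_zero_or_pos r with h0 | hpos
  · exact Or.inl h0
  right
  have hr : ∀ q : PrimeSpectrum R, rankAtStalk P q = r := fun q =>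
    Nat.pow_left_injective (by omega) ((hrk q).trans (hrk q₀).symm)
  obtain ⟨m, hm⟩ := rel_nilp r hr
  set z : ℤ[X] := X - (r : ℤ[X])
  have hnrel : Rel R P ((X : ℤ[X]) ^ n - (r : ℤ[X]) ^ n) := by
    refine ⟨Fam.const n 1, Fam.const 0 (r ^ n), by simp [Fam.poly_const], ?_⟩
    refine ⟨LinearEquiv.funUnique (Fin 1) R (TensorPower R n P) ≪≫ₗ ?_ ≪≫ₗ (constZeroEquiv R P (r ^ n)).symm⟩
    exact (Module.finBasisOfFinrankEq R _ (hrk q₀).symm).equivFun
  let qn : ℤ[X] := ∑ i ∈ Finset.range n, X ^ i * (r : ℤ[X]) ^ (n - 1 - i)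
  obtain ⟨y, hy⟩ : z ∣ qn - ((n * r ^ (n - 1) : ℕ) : ℤ[X]) := by
    have : z = X - C ((r : ℤ)) := by simp [z]
    rw [this, dvd_iff_isRoot]
    simp only [IsRoot, qn, eval_sub, eval_finset_sum, eval_mul, eval_pow, eval_X, eval_natCast]
    rw [Finset.sum_congr rfl (g := fun _ => ((r : ℤ)) ^ (n - 1)) fun i hi => by
      rw [← pow_add]; congr 1; have := Finset.mem_range.1 hi; omega]
    simp
  have hfac : (X : ℤ[X]) ^ n - (r : ℤ[X]) ^ n = z * ((n * r ^ (n - 1) : ℕ) : ℤ[X]) + z ^ 2 * y := by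
    rw [← geom_sum₂_mul, show (∑ i ∈ Finset.range n, (X : ℤ[X]) ^ i * (r : ℤ[X]) ^ (n - 1 - i)) = qn from rfl]
    rw [show qn = ((n * r ^ (n - 1) : ℕ) : ℤ[X]) + z * y by rw [← hy]; ring]
    ring
  set k : ℕ := n * r ^ (n - 1) with hk
  have hkpos : 1 ≤ k := Nat.one_le_iff_ne_zero.2 (by
    rw [hk]; exact Nat.mul_ne_zero (by omega) (pow_ne_zero _ (by omega)))
  have hiter : ∀ j, ∃ w : ℤ[X], Rel R P ((k : ℤ[X]) ^ j * z - z ^ (j + 1) * w) := by
    intro j
    induction j with
    | zero => exact ⟨1, by simpa using Rel.zero⟩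
    | succ j ih =>
      obtain ⟨w, hw⟩ := ih
      refine ⟨-(w * y), ?_⟩
      have h1 := (hw.mul (k : ℤ[X])).add ((hfac ▸ hnrel).mul (z ^ j * w))
      convert h1 using 1
      ring
  obtain ⟨w, hw⟩ := hiter m
  have hN : Rel R P (((k ^ m : ℕ) : ℤ[X]) * z) := by
    have h1 := hw.add (hm.mul (z * w))
    convert h1 using 1
    push_cast
    ring
  obtain ⟨a, b, hab, ⟨e⟩⟩ := hN
  set N := k ^ m
  refine ⟨N, Nat.one_le_pow _ _ hkpos, ?_⟩
  -- compare polynomials
  have hpoly : (a.add (Fam.const 0 (N * r))).poly = (b.add (Fam.const 1 N)).poly := by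
    rw [Fam.poly_add, Fam.poly_add, Fam.poly_const, Fam.poly_const]
    simp only [z] at hab
    push_cast
    linear_combination (-1 : ℤ[X]) * hab
  obtain ⟨e'⟩ := nonempty_of_poly_eq R P _ _ hpoly
  have hMa : Module.Finite R (a.Mod R P) ∧ Module.Projective R (a.Mod R P) := by
    haveI := fun i : a.ι => (finite_projective_pow (R := R) (P := P) (a.deg i)).1
    haveI hp := fun i : a.ι => (finite_projective_pow (R := R) (P := P) (a.deg i)).2
    refine ⟨inferInstance, ?_⟩
    exact Module.Projective.of_equiv (DirectSum.linearEquivFunOnFintype R a.ι fun i => TensorPower R (a.deg i) P)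
  haveI := hMa.1
  haveI := hMa.2
  obtain ⟨s, π, hπ⟩ := Module.Finite.exists_fin' R (a.Mod R P)
  obtain ⟨σ, hσ⟩ := Module.projective_lifting_property π LinearMap.id hπ
  let W := LinearMap.ker π
  have eW : (a.Mod R P × W) ≃ₗ[R] (Fin s → R) :=
    LinearEquiv.ofLinearMap (σ.coprod W.subtype)
      (π.prod (LinearMap.codRestrict W (LinearMap.id - σ ∘ₗ π) fun v => by
        simp [W, show π (σ (π v)) = π v from LinearMap.congr_fun hσ _]))
      (LinearMap.ext fun v => by simp)
      (LinearMap.ext fun ⟨x, v⟩ => by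
        have hx : π (σ x) = x := LinearMap.congr_fun hσ x
        have hv : π v.1 = 0 := v.2
        exact Prod.ext (by simp [hx, hv]) (Subtype.ext (by simp [hx, hv])))
  let e1 : (a.Mod R P × (Fin (N * r) → R)) ≃ₗ[R] (a.Mod R P × (Fin N → P)) :=
    (LinearEquiv.refl R _).prodCongr (constZeroEquiv R P _).symm ≪≫ₗ (addEquiv R P a _).symm ≪≫ₗ e' ≪≫ₗ
      addEquiv R P b _ ≪≫ₗ e.symm.prodCongr (LinearEquiv.piCongrRight fun _ : Fin N => oneEquiv R P)
  let sh : ∀ (U : Type u) [AddCommGroup U] [Module R U],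
      ((a.Mod R P × U) × W) ≃ₗ[R] (U × (Fin s → R)) := fun U _ _ =>
    (LinearEquiv.prodComm R _ U).prodCongr (LinearEquiv.refl R W) ≪≫ₗ LinearEquiv.prodAssoc R U _ W ≪≫ₗ
      (LinearEquiv.refl R U).prodCongr eW
  exact ⟨s, ⟨(sh (Fin N → P)).symm ≪≫ₗ e1.symm.prodCongr (LinearEquiv.refl R W) ≪≫ₗ sh (Fin (N * r) → R)⟩⟩

theorem main [IsNoetherianRing R] (hdim : ringKrullDim R < ⊤) (n : ℕ) (hn : 1 ≤ n)
    (hfree : Module.Free R (TensorPower R n P)) :
    ∃ N : ℕ, 1 ≤ N ∧ Module.Free R (Fin N → P) := by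
  rcases subsingleton_or_nontrivial R with hR | hR
  · haveI : Subsingleton P := Module.subsingleton R P
    exact ⟨1, le_rfl, Module.Free.of_subsingleton R _⟩
  obtain ⟨r, hr, h0 | ⟨N, hN, s, ⟨e⟩⟩⟩ := exists_stable_free (P := P) n hn hfree
  · haveI : Subsingleton P := (rankAtStalk_eq_zero_iff_subsingleton (R := R)).1 (funext fun q => by rw [hr q, h0]; rfl)
    exact ⟨1, le_rfl, Module.Free.of_subsingleton R _⟩
  obtain ⟨d, hd⟩ : ∃ d : ℕ, ringKrullDim R ≤ d := by
    obtain ⟨x, hx⟩ := WithBot.ne_bot_iff_exists.1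
      (show ringKrullDim R ≠ ⊥ from fun hb => by
        have := ringKrullDim_nonneg_of_nontrivial (R := R)
        simp [hb] at this)
    rw [← hx] at hdim ⊢
    obtain ⟨d, hd⟩ := ENat.ne_top_iff_exists.1 (WithBot.coe_lt_coe.1 hdim).ne
    exact ⟨d, by rw [← hd]; rfl⟩
  have hrk : ∀ q : PrimeSpectrum R, rankAtStalk (Fin N → P) q = N * r := fun q => by
    rw [rankAtStalk_pi, finsum_eq_sum_of_fintype]
    simp [hr q]
  haveI : Module.Projective R (Fin N → P) := by
    obtain ⟨k, π, hπ⟩ := Module.Finite.exists_fin' R P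
    obtain ⟨ι, hι⟩ := Module.projective_lifting_property π LinearMap.id hπ
    exact Module.Projective.of_split (LinearMap.compLeft ι (Fin N)) (LinearMap.compLeft π (Fin N))
      (LinearMap.ext fun w => funext fun i => LinearMap.congr_fun hι (w i))
  obtain ⟨M, hM, ⟨e'⟩⟩ := SerreBass.power_iso hd (N * r) (Fin N → P) (Fin (N * r) → R) hrk
    (fun q => by simp) s e
  refine ⟨M * N, Nat.one_le_iff_ne_zero.2 (Nat.mul_ne_zero (by omega) (by omega)), ?_⟩
  exact Module.Free.of_equiv (e'.symm ≪≫ₗ (LinearEquiv.curry R P (Fin M) (Fin N)).symm ≪≫ₗ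
    LinearEquiv.funCongrLeft R P finProdFinEquiv.symm)

end Groth.Agent.H22.KNilp
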