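import Mathlib.RingTheory.Flat.Equalizer
import Mathlib.RingTheory.LocalRing.Module
import Mathlib.LinearAlgebra.TensorProduct.Quotient
import Mathlib.RingTheory.Nilpotent.Lemmas
import Mathlib.RingTheory.Idempotents
import Mathlib.RingTheory.Noetherian.Nilpotent

/-! Nakayama for nilpotent ideals, lifting along nilpotent ideals, flat two-out-of-three. -/

open TensorProduct LinearMap

namespace Groth.Agent.H22.Nil

universe u v w

variable {A : Type u} [CommRing A] {I : Ideal A}
variable {M : Type v} [AddCommGroup M] [Module A M] {N : Type w} [AddCommGroup N] [Module A N]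

theorem top_le_of_le_sup_smul (hI : IsNilpotent I) {S : Submodule A M}
    (h : ⊤ ≤ S ⊔ I • (⊤ : Submodule A M)) : S = ⊤ := by
  obtain ⟨n, hn⟩ := hI
  have : ∀ k, ⊤ ≤ S ⊔ I ^ k • (⊤ : Submodule A M) := by
    intro k
    induction k with
    | zero => simp
    | succ k ih =>
      calc (⊤ : Submodule A M) ≤ S ⊔ I • ⊤ := h
        _ ≤ S ⊔ I • (S ⊔ I ^ k • ⊤) := sup_le_sup_left (Submodule.smul_mono le_rfl ih) _
        _ ≤ S ⊔ I ^ (k + 1) • ⊤ := by
          rw [Submodule.smul_sup, pow_succ', Submodule.mul_smul]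
          exact sup_le le_sup_left (sup_le (le_sup_of_le_left Submodule.smul_le_right) le_sup_right)
  simpa [hn] using this n

theorem subsingleton_of_smul_top (hI : IsNilpotent I)
    (h : I • (⊤ : Submodule A M) = ⊤) : Subsingleton M := by
  have := top_le_of_le_sup_smul hI (S := (⊥ : Submodule A M)) (by simp [h])
  exact (Submodule.subsingleton_iff A).1 (subsingleton_of_bot_eq_top this)

theorem subsingleton_of_tensor (hI : IsNilpotent I) [Subsingleton ((A ⧸ I) ⊗[A] M)] :
    Subsingleton M := by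
  refine subsingleton_of_smul_top hI ?_
  have := (TensorProduct.quotTensorEquivQuotSMul M I).symm.injective.subsingleton
  exact Submodule.Quotient.subsingleton_iff.1 this

/-- reduction of a map modulo `I`, elementwise surjectivity criterion -/
theorem surjective_of_lTensor (hI : IsNilpotent I) (f : M →ₗ[A] N)
    (hf : Function.Surjective (f.lTensor (A ⧸ I))) : Function.Surjective f := by
  have : Subsingleton ((A ⧸ I) ⊗[A] (N ⧸ range f)) := by
    refine subsingleton_of_forall_eq 0 fun x => ?_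
    obtain ⟨y, rfl⟩ := (lTensor_surjective (A ⧸ I) (Submodule.mkQ_surjective (range f))) x
    obtain ⟨z, rfl⟩ := hf y
    rw [← lTensor_comp_apply, show (range f).mkQ ∘ₗ f = 0 from LinearMap.ext fun m => by simp]
    simp
  have := subsingleton_of_tensor hI (M := N ⧸ range f)
  exact range_eq_top.1 (Submodule.Quotient.subsingleton_iff.1 this)

theorem bijective_of_lTensor (hI : IsNilpotent I) [Module.Flat A N] (f : M →ₗ[A] N)
    (hf : Function.Bijective (f.lTensor (A ⧸ I))) : Function.Bijective f := by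
  have hs := surjective_of_lTensor hI f hf.2
  refine ⟨?_, hs⟩
  have : Subsingleton ((A ⧸ I) ⊗[A] ker f) := by
    have inj := lTensor_injective_of_exact_of_flat f hs _ (ker f).subtype_injective
      (exact_subtype_ker_map f) (A ⧸ I)
    refine subsingleton_of_forall_eq 0 fun x => inj (hf.1 ?_)
    rw [← lTensor_comp_apply, comp_ker_subtype]
    simp
  have := subsingleton_of_tensor hI (M := ker f)
  exact ker_eq_bot.1 (Submodule.eq_bot_of_subsingleton)

theorem baseChange_eq_lTensor (B : Type*) [CommRing B] [Algebra A B] (f : M →ₗ[A] N) :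
    ⇑(f.baseChange B) = ⇑(f.lTensor B) := rfl

/-- A map between base changes from a projective module comes from a map of modules. -/
theorem exists_lift (B : Type*) [CommRing B] [Algebra A B]
    (hB : Function.Surjective (algebraMap A B)) [Module.Projective A M]
    (g : B ⊗[A] M →ₗ[B] B ⊗[A] N) : ∃ f : M →ₗ[A] N, f.baseChange B = g := by
  have hmk : Function.Surjective (TensorProduct.mk A B N 1) :=
    TensorProduct.mk_surjective A N B hB
  obtain ⟨f, hf⟩ := Module.projective_lifting_property (TensorProduct.mk A B N 1)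
    ((g.restrictScalars A) ∘ₗ TensorProduct.mk A B M 1) hmk
  refine ⟨f, TensorProduct.AlgebraTensorModule.ext fun b m => ?_⟩
  have := LinearMap.congr_fun hf m
  simp only [coe_comp, Function.comp_apply, mk_apply, coe_restrictScalars] at this
  rw [baseChange_tmul, show (b ⊗ₜ[A] f m) = b • ((1 : B) ⊗ₜ[A] f m) by simp [smul_tmul'],
    this, ← map_smul]
  simp [smul_tmul']

theorem nonempty_equiv_of_baseChange (hI : IsNilpotent I) [Module.Projective A M] [Module.Flat A N]
    (e : (A ⧸ I) ⊗[A] M ≃ₗ[A ⧸ I] (A ⧸ I) ⊗[A] N) :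
    ∃ f : M ≃ₗ[A] N, f.toLinearMap.baseChange (A ⧸ I) = e.toLinearMap := by
  obtain ⟨f, hf⟩ := exists_lift (A ⧸ I) Ideal.Quotient.mk_surjective e.toLinearMap
  have : Function.Bijective (f.baseChange (A ⧸ I)) := by rw [hf]; exact e.bijective
  exact ⟨LinearEquiv.ofBijective f (bijective_of_lTensor hI f this), hf⟩

/-- base change of endomorphisms, as a ring homomorphism -/
noncomputable def endHom (B : Type*) [CommRing B] [Algebra A B] (M : Type v) [AddCommGroup M]
    [Module A M] : Module.End A M →+* Module.End B (B ⊗[A] M) where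
  toFun f := f.baseChange B
  map_one' := baseChange_id
  map_mul' f g := baseChange_comp g f
  map_zero' := baseChange_zero
  map_add' f g := baseChange_add f g

theorem isNilpotent_of_range_le (hI : IsNilpotent I) (f : Module.End A M)
    (h1 : range f ≤ I • (⊤ : Submodule A M)) : IsNilpotent f := by
  obtain ⟨n, hn⟩ := hI
  refine ⟨n, ?_⟩
  have : ∀ k, range (f ^ k) ≤ I ^ k • (⊤ : Submodule A M) := by
    intro k
    induction k with
    | zero => simp
    | succ k ih =>
      rw [pow_succ', Module.End.mul_eq_comp, range_comp]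
      refine (Submodule.map_mono ih).trans ?_
      rw [Submodule.map_smul'', Submodule.map_top, pow_succ, Submodule.mul_smul]
      exact Submodule.smul_mono le_rfl h1
  simpa [hn, range_eq_bot] using this n

theorem range_le_of_mem_ker_endHom (f : Module.End A M)
    (hf : f ∈ RingHom.ker (endHom (A ⧸ I) M)) : range f ≤ I • (⊤ : Submodule A M) := by
  rintro _ ⟨x, rfl⟩
  have h2 : (f.baseChange (A ⧸ I)) ((1 : A ⧸ I) ⊗ₜ x) = 0 :=
    LinearMap.congr_fun hf ((1 : A ⧸ I) ⊗ₜ x)
  rw [baseChange_tmul] at h2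
  have h3 := congrArg (TensorProduct.quotTensorEquivQuotSMul M I) h2
  rw [map_zero] at h3
  have h4 : TensorProduct.quotTensorEquivQuotSMul M I ((1 : A ⧸ I) ⊗ₜ f x) =
      Submodule.Quotient.mk (f x) :=
    TensorProduct.quotTensorEquivQuotSMul_mk_one_tmul I (f x)
  exact (Submodule.Quotient.mk_eq_zero _).1 (h4.symm.trans h3)

theorem endHom_ker_nilpotent (hI : IsNilpotent I) (f : Module.End A M)
    (hf : f ∈ RingHom.ker (endHom (A ⧸ I) M)) : IsNilpotent f :=
  isNilpotent_of_range_le hI f (range_le_of_mem_ker_endHom f hf)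

theorem exists_fg_range_le [Module.Finite A M] (f : Module.End A M)
    (h : range f ≤ I • (⊤ : Submodule A M)) :
    ∃ J ≤ I, J.FG ∧ range f ≤ J • (⊤ : Submodule A M) := by
  obtain ⟨s, hs⟩ := Module.Finite.fg_top (R := A) (M := range f) |>.map (range f).subtype
  have : ∀ x ∈ I • (⊤ : Submodule A M), ∃ J ≤ I, J.FG ∧ x ∈ J • (⊤ : Submodule A M) := by
    intro x hx
    induction hx using Submodule.smul_induction_on' with
    | smul r hr m hm =>
      exact ⟨Ideal.span {r}, by simpa [Ideal.span_le] using hr, ⟨{r}, by simp⟩,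
        Submodule.smul_mem_smul (Ideal.mem_span_singleton_self r) hm⟩
    | add x _ y _ hx hy =>
      obtain ⟨J, hJ, hJf, hxJ⟩ := hx
      obtain ⟨K, hK, hKf, hyK⟩ := hy
      exact ⟨J ⊔ K, sup_le hJ hK, Submodule.FG.sup hJf hKf,
        add_mem (Submodule.smul_mono le_sup_left le_rfl hxJ)
          (Submodule.smul_mono le_sup_right le_rfl hyK)⟩
  classical
  choose J hJ hJf hxJ using fun x : s => this x (h (by
    have : (x : M) ∈ Submodule.span A (s : Set M) := Submodule.subset_span x.2
    rw [hs, Submodule.map_subtype_top] at this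
    exact this))
  refine ⟨Finset.univ.sup J, Finset.sup_le fun x _ => hJ x, ?_, ?_⟩
  · exact Submodule.fg_finset_sup _ _ fun x _ => hJf x
  · rw [← Submodule.map_subtype_top (range f), ← hs, Submodule.span_le]
    intro x hx
    exact Submodule.smul_mono (Finset.le_sup (f := J) (Finset.mem_univ (⟨x, hx⟩ : s))) le_rfl (hxJ (⟨x, hx⟩ : s))

theorem endHom_ker_nilpotent_of_nil (hI : ∀ x ∈ I, IsNilpotent x) [Module.Finite A M]
    (f : Module.End A M) (hf : f ∈ RingHom.ker (endHom (A ⧸ I) M)) : IsNilpotent f := by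
  obtain ⟨J, hJI, hJf, hJ⟩ := exists_fg_range_le f (range_le_of_mem_ker_endHom f hf)
  refine isNilpotent_of_range_le (I := J) ?_ f hJ
  exact (Ideal.FG.isNilpotent_iff_le_nilradical hJf).2 fun x hx => hI x (hJI hx)

theorem exists_idem_lift {B : Type*} [CommRing B] {M₀ : Type*} [AddCommGroup M₀] [Module B M₀]
    (ρ : Module.End A M →+* Module.End B M₀) (hρ : ∀ f ∈ RingHom.ker ρ, IsNilpotent f)
    (e₀ : Module.End B M₀) (he : IsIdempotentElem e₀) (g : Module.End A M) (hg : ρ g = e₀) :
    ∃ e : Module.End A M, IsIdempotentElem e ∧ ρ e = e₀ :=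
  exists_isIdempotentElem_eq_of_ker_isNilpotent ρ hρ e₀ ⟨g, hg⟩ he

/-- A split idempotent of a base change lifts to a direct summand. -/
theorem exists_summand_lift [Module.Projective A M] (hker : ∀ f ∈ RingHom.ker (endHom (A := A) (A ⧸ I) M), IsNilpotent f)
    (P₀ : Type*) [AddCommGroup P₀] [Module (A ⧸ I) P₀]
    (q : (A ⧸ I) ⊗[A] M →ₗ[A ⧸ I] P₀) (s : P₀ →ₗ[A ⧸ I] (A ⧸ I) ⊗[A] M)
    (hqs : ∀ x, q (s x) = x) :
    ∃ (P : Submodule A M), Module.Projective A P ∧ (Module.Finite A M → Module.Finite A P) ∧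
      Nonempty ((A ⧸ I) ⊗[A] P ≃ₗ[A ⧸ I] P₀) := by
  have he : IsIdempotentElem (s ∘ₗ q : Module.End (A ⧸ I) ((A ⧸ I) ⊗[A] M)) := by
    refine LinearMap.ext fun x => ?_
    simp [hqs]
  obtain ⟨g, hg⟩ := exists_lift (A ⧸ I) Ideal.Quotient.mk_surjective (s ∘ₗ q)
  obtain ⟨e, he2, hee⟩ := exists_idem_lift (endHom (A ⧸ I) M)
    hker (s ∘ₗ q) he g hg
  let P := range e
  have hret : e.rangeRestrict ∘ₗ P.subtype = LinearMap.id := by
    refine LinearMap.ext fun z => Subtype.ext ?_
    obtain ⟨x, hx⟩ := z.2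
    change e (z : M) = (z : M)
    rw [← hx]
    exact LinearMap.congr_fun he2 x
  refine ⟨P, Module.Projective.of_split _ _ hret, fun _ => Module.Finite.range e, ?_⟩
  let i := P.subtype.baseChange (A ⧸ I)
  let r := e.rangeRestrict.baseChange (A ⧸ I)
  have hri : ∀ z, r (i z) = z := fun z => by
    simp only [i, r]
    rw [← LinearMap.comp_apply, ← baseChange_comp, hret, baseChange_id]; rfl
  have hir : ∀ z, i (r z) = s (q z) := fun z => by
    simp only [i, r]
    rw [← LinearMap.comp_apply, ← baseChange_comp]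
    exact LinearMap.congr_fun hee z
  refine ⟨LinearEquiv.ofLinearMap (q ∘ₗ i) (r ∘ₗ s) ?_ ?_⟩
  · refine LinearMap.ext fun x => ?_
    simp [hir, hqs]
  · refine LinearMap.ext fun z => ?_
    simp only [coe_comp, Function.comp_apply, id_coe, id_eq]
    rw [← hir, hri, hri]

/-- Projective modules lift along nilpotent ideals. -/
theorem exists_projective_lift (hI : IsNilpotent I)
    (P₀ : Type v) [AddCommGroup P₀] [Module (A ⧸ I) P₀] [Module.Projective (A ⧸ I) P₀] :
    ∃ (P : Submodule A (P₀ →₀ A)), Module.Projective A P ∧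
      Nonempty ((A ⧸ I) ⊗[A] P ≃ₗ[A ⧸ I] P₀) := by
  classical
  let q : (A ⧸ I) ⊗[A] (P₀ →₀ A) →ₗ[A ⧸ I] P₀ :=
    Finsupp.linearCombination (A ⧸ I) id ∘ₗ
      (TensorProduct.finsuppScalarRight A (A ⧸ I) (A ⧸ I) P₀).toLinearMap
  have hq : Function.Surjective q :=
    (Finsupp.linearCombination_surjective (A ⧸ I) Function.surjective_id).comp
      (TensorProduct.finsuppScalarRight A (A ⧸ I) (A ⧸ I) P₀).surjective
  obtain ⟨s, hs⟩ := Module.projective_lifting_property q (LinearMap.id : P₀ →ₗ[A ⧸ I] P₀) hq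
  obtain ⟨P, h1, -, h2⟩ :=
    exists_summand_lift (endHom_ker_nilpotent hI) P₀ q s fun x => LinearMap.congr_fun hs x
  exact ⟨P, h1, h2⟩

theorem exists_finite_projective_lift (hI : ∀ x ∈ I, IsNilpotent x)
    (P₀ : Type v) [AddCommGroup P₀] [Module (A ⧸ I) P₀] [Module.Projective (A ⧸ I) P₀]
    [Module.Finite (A ⧸ I) P₀] :
    ∃ (n : ℕ) (P : Submodule A (Fin n → A)), Module.Projective A P ∧ Module.Finite A P ∧
      Nonempty ((A ⧸ I) ⊗[A] P ≃ₗ[A ⧸ I] P₀) := by
  obtain ⟨n, π, hπ⟩ := Module.Finite.exists_fin' (A ⧸ I) P₀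
  let q : (A ⧸ I) ⊗[A] (Fin n → A) →ₗ[A ⧸ I] P₀ :=
    π ∘ₗ (TensorProduct.piScalarRight A (A ⧸ I) (A ⧸ I) (Fin n)).toLinearMap
  obtain ⟨s, hs⟩ := Module.projective_lifting_property q (LinearMap.id : P₀ →ₗ[A ⧸ I] P₀)
    (hπ.comp (TensorProduct.piScalarRight A (A ⧸ I) (A ⧸ I) (Fin n)).surjective)
  obtain ⟨P, h1, h2, h3⟩ :=
    exists_summand_lift (endHom_ker_nilpotent_of_nil hI) P₀ q s fun x => LinearMap.congr_fun hs x
  exact ⟨n, P, h1, h2 inferInstance, h3⟩

theorem projective_of_quotient (hI : IsNilpotent I) [Module.Flat A N]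
    [Module.Projective (A ⧸ I) ((A ⧸ I) ⊗[A] N)] : Module.Projective A N := by
  obtain ⟨P, hP, ⟨e⟩⟩ := exists_projective_lift hI ((A ⧸ I) ⊗[A] N)
  obtain ⟨f, -⟩ := nonempty_equiv_of_baseChange hI (M := P) e
  exact Module.Projective.of_equiv f

theorem finite_of_quotient (hI : IsNilpotent I)
    [Module.Finite (A ⧸ I) ((A ⧸ I) ⊗[A] M)] : Module.Finite A M := by
  have : Module.Finite A ((A ⧸ I) ⊗[A] M) := Module.Finite.trans (A ⧸ I) _
  obtain ⟨n, f, hf⟩ := Module.Finite.exists_fin' A ((A ⧸ I) ⊗[A] M)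
  obtain ⟨g, hg⟩ := Module.projective_lifting_property (TensorProduct.mk A (A ⧸ I) M 1) f
    (TensorProduct.mk_surjective A M (A ⧸ I) Ideal.Quotient.mk_surjective)
  refine Module.Finite.of_surjective g (surjective_of_lTensor hI g ?_)
  intro x
  obtain ⟨m, rfl⟩ := hf x
  refine ⟨(1 : A ⧸ I) ⊗ₜ m, ?_⟩
  simpa using LinearMap.congr_fun hg m

theorem flat_of_exact {M' : Type*} [AddCommGroup M'] [Module A M'] (f : M' →ₗ[A] M)
    (g : M →ₗ[A] N) (hf : Function.Injective f) (hex : Function.Exact f g)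
    (hg : Function.Surjective g) [Module.Flat A M'] [Module.Flat A N] : Module.Flat A M := by
  refine Module.Flat.iff_rTensor_injective'.2 fun J => ?_
  rw [injective_iff_map_eq_zero]
  intro x hx
  have h1 : g.lTensor J x = 0 := by
    apply Module.Flat.rTensor_preserves_injective_linearMap (M := N) J.subtype J.subtype_injective
    rw [map_zero, ← LinearMap.comp_apply, rTensor_comp_lTensor, ← lTensor_comp_rTensor,
      LinearMap.comp_apply, hx, map_zero]
  obtain ⟨y, rfl⟩ := (lTensor_exact J hex hg x).1 h1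
  have : J.subtype.rTensor M' y = 0 := by
    apply lTensor_injective_of_exact_of_flat g hg f hf hex A
    rw [map_zero, ← LinearMap.comp_apply, lTensor_comp_rTensor, ← rTensor_comp_lTensor,
      LinearMap.comp_apply, hx]
  rw [Module.Flat.rTensor_preserves_injective_linearMap (M := M') J.subtype J.subtype_injective
    (this.trans (map_zero _).symm), map_zero]

theorem flat_left_of_exact {M' : Type*} [AddCommGroup M'] [Module A M'] (f : M' →ₗ[A] M)
    (g : M →ₗ[A] N) (hf : Function.Injective f) (hex : Function.Exact f g)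
    (hg : Function.Surjective g) [Module.Flat A M] [Module.Flat A N] : Module.Flat A M' := by
  refine Module.Flat.iff_rTensor_injective'.2 fun J => ?_
  have inj := (Module.Flat.rTensor_preserves_injective_linearMap (M := M) J.subtype
    J.subtype_injective).comp (lTensor_injective_of_exact_of_flat g hg f hf hex J)
  rw [← coe_comp, rTensor_comp_lTensor, ← lTensor_comp_rTensor, coe_comp] at inj
  exact inj.of_comp

theorem ker_mk_one (B : Type*) [CommRing B] [Algebra A B]
    (hB : Function.Surjective (algebraMap A B)) :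
    ker (TensorProduct.mk A B M 1) = RingHom.ker (algebraMap A B) • (⊤ : Submodule A M) := by
  let e : (A ⧸ RingHom.ker (Algebra.ofId A B)) ≃ₐ[A] B :=
    Ideal.quotientKerAlgEquivOfSurjective hB
  have : TensorProduct.mk A B M 1 =
      (LinearEquiv.rTensor M e.toLinearEquiv).toLinearMap ∘ₗ TensorProduct.mk A _ M 1 := by
    refine LinearMap.ext fun m => ?_
    simp
  rw [this, LinearEquiv.ker_comp, LinearMap.ker_tensorProductMk]
  rfl

theorem exists_section_lift (B : Type*) [CommRing B] [Algebra A B]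
    (hB : Function.Surjective (algebraMap A B)) [Module.Projective A N]
    (π : M →ₗ[A] N) (hπ : Function.Surjective π)
    (σ' : B ⊗[A] N →ₗ[B] B ⊗[A] M) (hσ' : (π.baseChange B).comp σ' = LinearMap.id) :
    ∃ σ : N →ₗ[A] M, π.comp σ = LinearMap.id ∧ σ.baseChange B = σ' := by
  obtain ⟨σ₀, rfl⟩ := exists_lift B hB σ'
  let J := RingHom.ker (algebraMap A B)
  let π' : (J • (⊤ : Submodule A M) : Submodule A M) →ₗ[A] (J • (⊤ : Submodule A N) : Submodule A N) :=
    π.restrict fun x hx => by
      have := Submodule.mem_map_of_mem (f := π) hx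
      rw [Submodule.map_smul'', Submodule.map_top, range_eq_top.2 hπ] at this
      exact this
  have hπ' : Function.Surjective π' := by
    rintro ⟨y, hy⟩
    rw [← range_eq_top.2 hπ, ← Submodule.map_top, ← Submodule.map_smul''] at hy
    obtain ⟨x, hx, rfl⟩ := hy
    exact ⟨⟨x, hx⟩, rfl⟩
  have hd : ∀ x, (LinearMap.id - π.comp σ₀ : N →ₗ[A] N) x ∈ J • (⊤ : Submodule A N) := by
    intro x
    rw [← ker_mk_one B hB]
    have := LinearMap.congr_fun hσ' ((1 : B) ⊗ₜ[A] x)
    rw [LinearMap.comp_apply, LinearMap.baseChange_tmul, LinearMap.baseChange_tmul,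
      LinearMap.id_apply] at this
    simp [LinearMap.mem_ker, tmul_sub, this]
  obtain ⟨r, hr⟩ := Module.projective_lifting_property π' (LinearMap.codRestrict _ _ hd) hπ'
  let r' := (J • (⊤ : Submodule A M)).subtype ∘ₗ r
  have hπr : ∀ x, π (r' x) = x - π (σ₀ x) := fun x =>
    congrArg Subtype.val (LinearMap.congr_fun hr x)
  refine ⟨σ₀ + r', LinearMap.ext fun x => ?_, ?_⟩
  · simp [hπr]
  · have : r'.baseChange B = 0 := by
      refine TensorProduct.AlgebraTensorModule.ext fun b x => ?_
      have h0 : (1 : B) ⊗ₜ[A] r' x = 0 := by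
        have hx : r' x ∈ J • (⊤ : Submodule A M) := (r x).2
        rw [← ker_mk_one B hB] at hx
        exact hx
      rw [baseChange_tmul, show b ⊗ₜ[A] r' x = b • ((1 : B) ⊗ₜ[A] r' x) by simp [smul_tmul'], h0]
      simp
    rw [baseChange_add, this, add_zero]

end Groth.Agent.H22.Nil
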