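import Groth.Prelude.Def_W4c4lgringredgrpLG
import Groth.Agent.H22.Nil
import Mathlib.RingTheory.Spectrum.Prime.FreeLocus
import Mathlib.LinearAlgebra.Matrix.ToLin
import Mathlib.LinearAlgebra.Matrix.NonsingularInverse
import Mathlib.LinearAlgebra.Dimension.Free
import Mathlib.LinearAlgebra.Determinant
import Mathlib.LinearAlgebra.FreeModule.Finite.Matrix
import Mathlib.LinearAlgebra.Charpoly.BaseChange
import Mathlib.RingTheory.MvPolynomial.Tower

/-! Finite projective modules over LG-rings. -/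

open TensorProduct LinearMap

namespace Groth.Agent.H22.LG

universe u v

variable {R : Type u} [CommRing R]

theorem exists_unit_value (hR : LGRing.IsLGRing R) {σ : Type} [Finite σ] (f : MvPolynomial σ R)
    (h : ∀ (m : Ideal R) [m.IsMaximal], ∃ x : σ → R, MvPolynomial.eval x f ∉ m) :
    ∃ x : σ → R, IsUnit (MvPolynomial.eval x f) := by
  obtain ⟨n, ⟨e⟩⟩ := Finite.exists_equiv_fin σ
  obtain ⟨s, hs⟩ := hR n (MvPolynomial.rename e f) fun m hm => by
    obtain ⟨x, hx⟩ := h m
    refine ⟨fun i => algebraMap R (R ⧸ m) (x (e.symm i)), ?_⟩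
    let _ : Field (R ⧸ m) := Ideal.Quotient.field m
    rw [MvPolynomial.aeval_rename]
    refine Ne.isUnit ?_
    have : MvPolynomial.aeval ((fun i => algebraMap R (R ⧸ m) (x (e.symm i))) ∘ e) f =
        algebraMap R (R ⧸ m) (MvPolynomial.eval x f) := by
      rw [← MvPolynomial.aeval_eq_eval, ← MvPolynomial.aeval_algebraMap_apply]
      simp [Function.comp_def]
    rw [this]
    exact fun h0 => hx (Ideal.Quotient.eq_zero_iff_mem.1 h0)
  refine ⟨s ∘ e, ?_⟩
  rwa [MvPolynomial.aeval_rename, MvPolynomial.aeval_eq_eval] at hs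

/-- A bilinear family of endomorphisms which is bijective somewhere at each maximal ideal, encoded
through a matrix presentation, is bijective somewhere. -/
theorem exists_isUnit_det (hR : LGRing.IsLGRing R) {p q n k : ℕ}
    (A₁ : Matrix (Fin n) (Fin n) R) (B₁ : Fin p → Fin q → Matrix (Fin n) (Fin n) R)
    (A₂ : Matrix (Fin k) (Fin k) R) (B₂ : Fin p → Fin q → Matrix (Fin k) (Fin k) R)
    (h : ∀ (m : Ideal R) [m.IsMaximal], ∃ (x : Fin p → R) (y : Fin q → R),
      (A₁ + ∑ i, ∑ j, (x i * y j) • B₁ i j).det ∉ m ∧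
      (A₂ + ∑ i, ∑ j, (x i * y j) • B₂ i j).det ∉ m) :
    ∃ (x : Fin p → R) (y : Fin q → R),
      IsUnit (A₁ + ∑ i, ∑ j, (x i * y j) • B₁ i j).det ∧
      IsUnit (A₂ + ∑ i, ∑ j, (x i * y j) • B₂ i j).det := by
  let P := MvPolynomial (Fin p ⊕ Fin q) R
  let G : {n : ℕ} → Matrix (Fin n) (Fin n) R → (Fin p → Fin q → Matrix (Fin n) (Fin n) R) →
      P := fun {n} A B => (A.map MvPolynomial.C +
        ∑ i, ∑ j, (MvPolynomial.X (Sum.inl i) * MvPolynomial.X (Sum.inr j) : P) •
          (B i j).map MvPolynomial.C).det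
  have hG : ∀ {n : ℕ} (A : Matrix (Fin n) (Fin n) R) B (x : Fin p ⊕ Fin q → R),
      MvPolynomial.eval x (G A B) =
        (A + ∑ i, ∑ j, (x (Sum.inl i) * x (Sum.inr j)) • B i j).det := by
    intro n A B x
    rw [RingHom.map_det]
    congr 1
    ext a b
    simp [Matrix.sum_apply]
  obtain ⟨x, hx⟩ := exists_unit_value hR (G A₁ B₁ * G A₂ B₂) fun m hm => by
    obtain ⟨x, y, h1, h2⟩ := h m
    refine ⟨Sum.elim x y, ?_⟩
    rw [map_mul, hG, hG]
    exact fun h => (hm.isPrime.mem_or_mem h).elim h1 h2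
  rw [map_mul, hG, hG, IsUnit.mul_iff] at hx
  exact ⟨fun i => x (Sum.inl i), fun j => x (Sum.inr j), hx⟩

variable {M : Type v} [AddCommGroup M] [Module R M]

/-- Extend an endomorphism of `M` to the ambient free module and read it as a matrix. -/
noncomputable def mat {n : ℕ} (s : M →ₗ[R] (Fin n → R)) (π : (Fin n → R) →ₗ[R] M) :
    Module.End R M →ₗ[R] Matrix (Fin n) (Fin n) R :=
  (LinearMap.toMatrix' : _ ≃ₗ[R] Matrix (Fin n) (Fin n) R).toLinearMap ∘ₗ
    (LinearMap.llcomp R _ _ _ s) ∘ₗ (LinearMap.llcomp R _ _ _).flip π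

theorem mat_add_eq {n : ℕ} (s : M →ₗ[R] (Fin n → R)) (π : (Fin n → R) →ₗ[R] M) (c : Module.End R M) :
    LinearMap.toMatrix' (LinearMap.id - s ∘ₗ π) + mat s π c =
      LinearMap.toMatrix' (LinearMap.id - s ∘ₗ π + s ∘ₗ c ∘ₗ π) := by
  rw [map_add]; rfl

theorem bijective_of_isUnit_det {n : ℕ} (s : M →ₗ[R] (Fin n → R)) (π : (Fin n → R) →ₗ[R] M)
    (hs : ∀ x, π (s x) = x) (c : Module.End R M)
    (h : IsUnit (LinearMap.toMatrix' (LinearMap.id - s ∘ₗ π) + mat s π c).det) :
    Function.Bijective c := by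
  rw [mat_add_eq] at h
  let T := LinearMap.id - s ∘ₗ π + s ∘ₗ c ∘ₗ π
  have hT : Function.Bijective T := by
    obtain ⟨B, hB1, hB2⟩ : ∃ B, LinearMap.toMatrix' T * B = 1 ∧ B * LinearMap.toMatrix' T = 1 :=
      ⟨_, Matrix.mul_nonsing_inv _ h, Matrix.nonsing_inv_mul _ h⟩
    have : Function.Bijective (Matrix.toLin' (LinearMap.toMatrix' T)) :=
      Function.bijective_iff_has_inverse.2 ⟨Matrix.toLin' B,
        fun x => by rw [← Matrix.toLin'_mul_apply, hB2, Matrix.toLin'_one]; rfl,
        fun x => by rw [← Matrix.toLin'_mul_apply, hB1, Matrix.toLin'_one]; rfl⟩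
    have e : T = Matrix.toLin' (LinearMap.toMatrix' T) := (Matrix.toLin'_toMatrix' T).symm
    rw [e]
    exact this
  have hTs : ∀ x, T (s x) = s (c x) := fun x => by simp [T, hs]
  refine ⟨fun a b hab => ?_, fun y => ?_⟩
  · have := hT.1 (a₁ := s a) (a₂ := s b) (by rw [hTs, hTs, hab])
    rw [← hs a, this, hs]
  · obtain ⟨z, hz⟩ := hT.2 (s y)
    refine ⟨π z, ?_⟩
    have := congrArg π hz
    simpa [T, hs] using this

theorem det_not_mem {n : ℕ} (s : M →ₗ[R] (Fin n → R)) (π : (Fin n → R) →ₗ[R] M)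
    (hs : ∀ x, π (s x) = x) (m : Ideal R) [m.IsMaximal] (c : Module.End R M)
    (hc : c.baseChange (R ⧸ m) = LinearMap.id) :
    (LinearMap.toMatrix' (LinearMap.id - s ∘ₗ π) + mat s π c).det ∉ m := by
  rw [mat_add_eq, ← LinearMap.det_toLin', Matrix.toLin'_toMatrix']
  set T := LinearMap.id - s ∘ₗ π + s ∘ₗ c ∘ₗ π with hTdef
  have hT : T.baseChange (R ⧸ m) = LinearMap.id := by
    rw [hTdef, baseChange_add, baseChange_sub, baseChange_comp, baseChange_comp, baseChange_comp,
      hc, LinearMap.id_comp, baseChange_id]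
    exact sub_add_cancel (LinearMap.id : Module.End (R ⧸ m) ((R ⧸ m) ⊗[R] (Fin n → R))) _
  intro hmem
  have := LinearMap.det_baseChange T (A := R ⧸ m)
  rw [hT, LinearMap.det_id, Ideal.Quotient.algebraMap_eq, Ideal.Quotient.eq_zero_iff_mem.2 hmem]
    at this
  exact one_ne_zero this

variable {N : Type*} [AddCommGroup N] [Module R N]

/-- Over an LG-ring, finite projective modules with equal ranks are isomorphic. -/
theorem nonempty_linearEquiv (hR : LGRing.IsLGRing R) [Module.Finite R M] [Module.Projective R M]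
    [Module.Finite R N] [Module.Projective R N]
    (h : ∀ p : PrimeSpectrum R, Module.rankAtStalk M p = Module.rankAtStalk N p) :
    Nonempty (M ≃ₗ[R] N) := by
  classical
  obtain ⟨n, π, hπ⟩ := Module.Finite.exists_fin' R M
  obtain ⟨s, hs⟩ := Module.projective_lifting_property π (LinearMap.id : M →ₗ[R] M) hπ
  obtain ⟨k, π', hπ'⟩ := Module.Finite.exists_fin' R N
  obtain ⟨s', hs'⟩ := Module.projective_lifting_property π' (LinearMap.id : N →ₗ[R] N) hπ'
  have : Module.FinitePresentation R M := Module.finitePresentation_of_projective R M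
  have : Module.FinitePresentation R N := Module.finitePresentation_of_projective R N
  have hfin₁ : Module.Finite R (M →ₗ[R] N) :=
    Module.Finite.of_surjective ((LinearMap.llcomp R M (Fin n → R) N).flip s) fun f =>
      ⟨f ∘ₗ π, LinearMap.ext fun x => congrArg f (LinearMap.congr_fun hs x)⟩
  have hfin₂ : Module.Finite R (N →ₗ[R] M) :=
    Module.Finite.of_surjective ((LinearMap.llcomp R N (Fin k → R) M).flip s') fun f =>
      ⟨f ∘ₗ π', LinearMap.ext fun x => congrArg f (LinearMap.congr_fun hs' x)⟩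
  obtain ⟨p, a, ha⟩ := Module.Finite.exists_fin' R (M →ₗ[R] N)
  obtain ⟨q, b, hb⟩ := Module.Finite.exists_fin' R (N →ₗ[R] M)
  let α := fun i => a (Pi.single i 1)
  let β := fun j => b (Pi.single j 1)
  have hsum : ∀ (x : Fin p → R) (y : Fin q → R),
      a x = ∑ i, x i • α i ∧ b y = ∑ j, y j • β j := fun x y => by
    constructor
    · conv_lhs => rw [pi_eq_sum_univ' x]
      simp [α]
    · conv_lhs => rw [pi_eq_sum_univ' y]
      simp [β]
  have e₁ : ∀ (x : Fin p → R) (y : Fin q → R),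
      mat s π (b y ∘ₗ a x) = ∑ i, ∑ j, (x i * y j) • mat s π (β j ∘ₗ α i) := by
    intro x y
    have : b y ∘ₗ a x = ∑ i, ∑ j, (x i * y j) • (β j ∘ₗ α i) := by
      ext v
      simp [(hsum x y).1, (hsum x y).2, LinearMap.sum_apply, map_sum, Finset.smul_sum, smul_smul]
      try rw [Finset.sum_comm]
      try simp only [mul_comm]
    simp only [this, map_sum, map_smul]
  have e₂ : ∀ (x : Fin p → R) (y : Fin q → R),
      mat s' π' (a x ∘ₗ b y) = ∑ i, ∑ j, (x i * y j) • mat s' π' (α i ∘ₗ β j) := by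
    intro x y
    have : a x ∘ₗ b y = ∑ i, ∑ j, (x i * y j) • (α i ∘ₗ β j) := by
      ext v
      simp [(hsum x y).1, (hsum x y).2, LinearMap.sum_apply, map_sum, Finset.smul_sum, smul_smul]
      try rw [Finset.sum_comm]
      try simp only [mul_comm]
    simp only [this, map_sum, map_smul]
  obtain ⟨x, y, hu₁, hu₂⟩ := exists_isUnit_det hR
    (LinearMap.toMatrix' (LinearMap.id - s ∘ₗ π)) (fun i j => mat s π (β j ∘ₗ α i))
    (LinearMap.toMatrix' (LinearMap.id - s' ∘ₗ π')) (fun i j => mat s' π' (α i ∘ₗ β j))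
    fun m hm => by
      let _ : Field (R ⧸ m) := Ideal.Quotient.field m
      let P : PrimeSpectrum R := ⟨m, hm.isPrime⟩
      have hrank : Module.finrank (R ⧸ m) ((R ⧸ m) ⊗[R] M) =
          Module.finrank (R ⧸ m) ((R ⧸ m) ⊗[R] N) := by
        have hM := Module.rankAtStalk_baseChange (R := R) (M := M) (S := R ⧸ m)
          ⟨⊥, Ideal.isPrime_bot⟩
        have hN := Module.rankAtStalk_baseChange (R := R) (M := N) (S := R ⧸ m)
          ⟨⊥, Ideal.isPrime_bot⟩
        rw [Module.rankAtStalk_eq_finrank_of_free] at hM hN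
        simp only [Pi.natCast_apply, Nat.cast_id] at hM hN
        rw [hM, hN, h]
      let e := LinearEquiv.ofFinrankEq _ _ hrank
      obtain ⟨f, hf⟩ := Nil.exists_lift (R ⧸ m) Ideal.Quotient.mk_surjective e.toLinearMap
      obtain ⟨g, hg⟩ := Nil.exists_lift (R ⧸ m) Ideal.Quotient.mk_surjective e.symm.toLinearMap
      obtain ⟨x, rfl⟩ := ha f
      obtain ⟨y, rfl⟩ := hb g
      refine ⟨x, y, ?_, ?_⟩
      · rw [← e₁]
        refine det_not_mem s π (LinearMap.congr_fun hs) m _ ?_
        rw [baseChange_comp, hf, hg]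
        exact LinearMap.ext e.symm_apply_apply
      · rw [← e₂]
        refine det_not_mem s' π' (LinearMap.congr_fun hs') m _ ?_
        rw [baseChange_comp, hf, hg]
        exact LinearMap.ext e.apply_symm_apply
  rw [← e₁] at hu₁
  rw [← e₂] at hu₂
  have h1 := bijective_of_isUnit_det s π (LinearMap.congr_fun hs) _ hu₁
  have h2 := bijective_of_isUnit_det s' π' (LinearMap.congr_fun hs') _ hu₂
  rw [coe_comp] at h1 h2
  exact ⟨LinearEquiv.ofBijective (a x) ⟨h1.1.of_comp, h2.2.of_comp⟩⟩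

theorem rankAtStalk_pos [Module.Finite R M] [Module.Projective R M] [FaithfulSMul R M]
    (p : PrimeSpectrum R) : 0 < Module.rankAtStalk M p := by
  rw [Module.rankAtStalk_pos_iff_mem_support]
  rw [Module.support_eq_zeroLocus, Module.annihilator_eq_bot.2 inferInstance]
  simp

theorem exists_unimodular (hR : LGRing.IsLGRing R) [Module.Finite R M] [Module.Projective R M]
    [FaithfulSMul R M] : ∃ (x : M) (φ : Module.Dual R M), φ x = 1 := by
  classical
  obtain ⟨n, π, hπ⟩ := Module.Finite.exists_fin' R M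
  obtain ⟨s, hs⟩ := Module.projective_lifting_property π (LinearMap.id : M →ₗ[R] M) hπ
  -- the functionals are combinations of the coordinates of `s`
  let g : MvPolynomial (Fin n ⊕ Fin n) R := ∑ i, ∑ j,
    MvPolynomial.C ((s (π (Pi.single j 1))) i) *
      (MvPolynomial.X (Sum.inl i) * MvPolynomial.X (Sum.inr j))
  have hg : ∀ x : Fin n ⊕ Fin n → R, MvPolynomial.eval x g =
      ∑ i, x (Sum.inl i) * (s (π (fun j => x (Sum.inr j)))) i := by
    intro x
    simp only [g, map_sum, map_mul, MvPolynomial.eval_C, MvPolynomial.eval_X]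
    refine Finset.sum_congr rfl fun i _ => ?_
    conv_rhs => rw [pi_eq_sum_univ' (fun j => x (Sum.inr j))]
    simp only [map_sum, map_smul, Finset.sum_apply, Pi.smul_apply, smul_eq_mul, Finset.mul_sum]
    exact Finset.sum_congr rfl fun j _ => by ring
  obtain ⟨x, hx⟩ := exists_unit_value hR g fun m hm => by
    by_contra hcon
    push Not at hcon
    have htop : m • (⊤ : Submodule R M) = ⊤ := by
      refine eq_top_iff.2 fun y _ => ?_
      obtain ⟨z, rfl⟩ := hπ y
      have hi : ∀ i, (s (π z)) i ∈ m := fun i => by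
        have := hcon (Sum.elim (Pi.single i 1) z)
        rw [hg] at this
        simpa [Pi.single_apply] using this
      have hz : π z = π (s (π z)) := (LinearMap.congr_fun hs (π z)).symm
      rw [hz, pi_eq_sum_univ' (s (π z)), map_sum]
      exact sum_mem fun i _ => by
        rw [map_smul]
        exact Submodule.smul_mem_smul (hi i) trivial
    obtain ⟨r, hr, hr0⟩ := Submodule.exists_sub_one_mem_and_smul_eq_zero_of_fg_of_le_smul m
      (⊤ : Submodule R M) Module.Finite.fg_top htop.ge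
    have : r = 0 := FaithfulSMul.eq_of_smul_eq_smul (M := R) (α := M) fun y => by
      rw [hr0 y trivial, zero_smul]
    rw [this, zero_sub] at hr
    exact hm.ne_top ((Ideal.eq_top_iff_one m).2 (by simpa using m.neg_mem hr))
  rw [hg] at hx
  obtain ⟨u, hu⟩ := hx
  refine ⟨π (fun j => x (Sum.inr j)),
    ((↑u⁻¹ : R) • ∑ i, x (Sum.inl i) • (LinearMap.proj i ∘ₗ s)), ?_⟩
  simp only [LinearMap.smul_apply, LinearMap.sum_apply, LinearMap.comp_apply, LinearMap.proj_apply,
    smul_eq_mul]
  rw [← hu, u.inv_mul]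

end Groth.Agent.H22.LG
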