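import Groth.Agent.H22.LG
import Mathlib.AlgebraicGeometry.Scheme
import Mathlib.LinearAlgebra.SymmetricAlgebra.Basic

/-! Rational points in quasi-compact opens of vector bundles over LG-rings. -/

open AlgebraicGeometry CategoryTheory

namespace Groth.Agent.H22.LGPoints

universe u

variable {R : Type u} [CommRing R]

theorem exists_unit_ideal_value (hR : LGRing.IsLGRing R) {k l : ℕ}
    (f : Fin l → MvPolynomial (Fin k) R)
    (h : ∀ (m : Ideal R) [m.IsMaximal], ∃ (x : Fin k → R) (i : Fin l),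
      MvPolynomial.eval x (f i) ∉ m) :
    ∃ x : Fin k → R, Ideal.span (Set.range fun i => MvPolynomial.eval x (f i)) = ⊤ := by
  obtain ⟨z, hz⟩ := LG.exists_unit_value hR
    (∑ i, MvPolynomial.X (Sum.inr i) * MvPolynomial.rename Sum.inl (f i) :
      MvPolynomial (Fin k ⊕ Fin l) R) fun m hm => by
    obtain ⟨x, i, hi⟩ := h m
    refine ⟨Sum.elim x (Pi.single i 1), ?_⟩
    simpa [MvPolynomial.eval_rename, Pi.single_apply] using hi
  refine ⟨z ∘ Sum.inl, Ideal.eq_top_of_isUnit_mem _ ?_ hz⟩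
  simp only [map_sum, map_mul, MvPolynomial.eval_X, MvPolynomial.eval_rename]
  exact sum_mem fun i _ => Ideal.mul_mem_left _ _ (Ideal.subset_span ⟨i, rfl⟩)

variable {S : Type u} [CommRing S] [Algebra R S]

theorem exists_fin_basicOpen_cover (U : (Spec (CommRingCat.of S)).Opens)
    (hU : IsCompact (U : Set (Spec (CommRingCat.of S)))) :
    ∃ (l : ℕ) (f : Fin l → S), ∀ P : PrimeSpectrum S,
      P ∈ (U : Set (Spec (CommRingCat.of S))) ↔ ∃ i, f i ∉ P.asIdeal := by
  classical
  obtain ⟨t, ht⟩ := (PrimeSpectrum.isCompact_isOpen_iff (s := (U : Set (Spec (CommRingCat.of S))))).1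
    ⟨hU, U.isOpen⟩
  refine ⟨t.card, fun i => ((t.equivFin.symm i).1 : S), fun P => ?_⟩
  rw [← ht]
  change ¬ ((t : Set S) ⊆ (P.asIdeal : Set S)) ↔ _
  rw [Set.not_subset]
  exact ⟨fun ⟨a, ha, h⟩ => ⟨t.equivFin ⟨a, ha⟩, by simpa using h⟩,
    fun ⟨i, h⟩ => ⟨_, (t.equivFin.symm i).2, h⟩⟩

theorem range_subset_iff {T : Type u} [CommRing T] (φ : S →+* T)
    (U : (Spec (CommRingCat.of S)).Opens) {l : ℕ} (f : Fin l → S)
    (hf : ∀ P : PrimeSpectrum S, P ∈ (U : Set (Spec (CommRingCat.of S))) ↔ ∃ i, f i ∉ P.asIdeal) :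
    Set.range (Spec.map (CommRingCat.ofHom φ)).base ⊆ (U : Set (Spec (CommRingCat.of S))) ↔
      Ideal.span (Set.range fun i => φ (f i)) = ⊤ := by
  constructor
  · intro h
    by_contra hne
    obtain ⟨m, hm, hle⟩ := Ideal.exists_le_maximal _ hne
    have hmem : (Spec.map (CommRingCat.ofHom φ)).base ⟨m, hm.isPrime⟩ ∈
        (U : Set (Spec (CommRingCat.of S))) := h ⟨_, rfl⟩
    obtain ⟨i, hi⟩ := (hf _).1 hmem
    exact hi (hle (Ideal.subset_span ⟨i, rfl⟩) : φ (f i) ∈ m)
  · rintro h _ ⟨P, rfl⟩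
    refine (hf _).2 ?_
    by_contra hcon
    push Not at hcon
    refine (P : PrimeSpectrum T).isPrime.ne_top (top_le_iff.1 (h ▸ Ideal.span_le.2 ?_))
    rintro _ ⟨i, rfl⟩
    exact hcon i

/-- Points of opens in `Spec S`, where the `R`-algebra maps `S →ₐ R` are parametrised by `R^k`. -/
theorem exists_point_iff (hR : LGRing.IsLGRing R) {k : ℕ} (ev : (Fin k → R) → (S →+* R))
    (poly : S → MvPolynomial (Fin k) R)
    (hpoly : ∀ a x, MvPolynomial.eval x (poly a) = ev x a)
    (U : (Spec (CommRingCat.of S)).Opens)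
    (hU : IsCompact (U : Set (Spec (CommRingCat.of S))))
    (h : ∀ (m : Ideal R) [m.IsMaximal], ∃ x : Fin k → R,
      Set.range (Spec.map (CommRingCat.ofHom ((Ideal.Quotient.mk m).comp (ev x)))).base ⊆
        (U : Set (Spec (CommRingCat.of S)))) :
    ∃ x : Fin k → R, Set.range (Spec.map (CommRingCat.ofHom (ev x))).base ⊆
      (U : Set (Spec (CommRingCat.of S))) := by
  obtain ⟨l, f, hf⟩ := exists_fin_basicOpen_cover U hU
  obtain ⟨x, hx⟩ := exists_unit_ideal_value hR (fun i => poly (f i)) fun m hm => by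
    obtain ⟨x, hx⟩ := h m
    rw [range_subset_iff _ U f hf] at hx
    refine ⟨x, ?_⟩
    by_contra hcon
    push Not at hcon
    refine bot_ne_top (α := Ideal (R ⧸ m)) (eq_top_iff.2 (hx ▸ Ideal.span_le.2 ?_))
    rintro _ ⟨i, rfl⟩
    have := hcon i
    rw [hpoly] at this
    simpa [Ideal.Quotient.eq_zero_iff_mem] using this
  refine ⟨x, ?_⟩
  rw [range_subset_iff _ U f hf]
  simpa [hpoly] using hx

theorem exists_affine_point (hR : LGRing.IsLGRing R) (n : ℕ)
    (U : (Spec (CommRingCat.of (MvPolynomial (Fin n) R))).Opens)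
    (hU : IsCompact (U : Set ↥(Spec (CommRingCat.of (MvPolynomial (Fin n) R)))))
    (h : ∀ (m : Ideal R) [m.IsMaximal], ∃ x : Fin n → R ⧸ m,
      Set.range (Spec.map (CommRingCat.ofHom
          (MvPolynomial.eval₂Hom (Ideal.Quotient.mk m) x))).base ⊆
        (U : Set ↥(Spec (CommRingCat.of (MvPolynomial (Fin n) R))))) :
    ∃ x : Fin n → R, Set.range (Spec.map (CommRingCat.ofHom (MvPolynomial.eval x))).base ⊆
      (U : Set ↥(Spec (CommRingCat.of (MvPolynomial (Fin n) R)))) := by
  refine exists_point_iff hR (fun x => MvPolynomial.eval x) id (fun _ _ => rfl) U hU fun m hm => ?_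
  obtain ⟨x, hx⟩ := h m
  choose y hy using fun i => Ideal.Quotient.mk_surjective (x i)
  refine ⟨y, ?_⟩
  have : (Ideal.Quotient.mk m).comp (MvPolynomial.eval y) =
      MvPolynomial.eval₂Hom (Ideal.Quotient.mk m) x := by
    ext <;> simp [hy]
  rwa [this]

theorem exists_bundle_point_iff (hR : LGRing.IsLGRing R) (M : Type u) [AddCommGroup M] [Module R M]
    [Module.Finite R M] [Module.Projective R M]
    (U : (Spec (CommRingCat.of (SymmetricAlgebra R (Module.Dual R M)))).Opens)
    (hU : IsCompact (U : Set ↥(Spec (CommRingCat.of (SymmetricAlgebra R (Module.Dual R M)))))) :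
    (∃ φ : Module.Dual R M →ₗ[R] R,
      Set.range (Spec.map (CommRingCat.ofHom (SymmetricAlgebra.lift φ).toRingHom)).base ⊆
        (U : Set ↥(Spec (CommRingCat.of (SymmetricAlgebra R (Module.Dual R M)))))) ↔
    ∀ (m : Ideal R) [m.IsMaximal], ∃ φ : Module.Dual R M →ₗ[R] (R ⧸ m),
      Set.range (Spec.map (CommRingCat.ofHom (SymmetricAlgebra.lift φ).toRingHom)).base ⊆
        (U : Set ↥(Spec (CommRingCat.of (SymmetricAlgebra R (Module.Dual R M))))) := by
  classical
  have hcomp : ∀ (m : Ideal R) (φ : Module.Dual R M →ₗ[R] R),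
      (SymmetricAlgebra.lift ((Ideal.Quotient.mkₐ R m).toLinearMap ∘ₗ φ)).toRingHom =
        (Ideal.Quotient.mk m).comp (SymmetricAlgebra.lift φ).toRingHom := by
    intro m φ
    have : SymmetricAlgebra.lift ((Ideal.Quotient.mkₐ R m).toLinearMap ∘ₗ φ) =
        (Ideal.Quotient.mkₐ R m).comp (SymmetricAlgebra.lift φ) := by
      refine SymmetricAlgebra.algHom_ext ?_
      ext v
      simp
    rw [this]
    rfl
  constructor
  · rintro ⟨φ, hφ⟩ m hm
    refine ⟨(Ideal.Quotient.mkₐ R m).toLinearMap ∘ₗ φ, ?_⟩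
    rw [hcomp, CommRingCat.ofHom_comp, Spec.map_comp]
    refine Set.Subset.trans ?_ hφ
    rintro _ ⟨x, rfl⟩
    exact ⟨_, rfl⟩
  · intro h
    obtain ⟨n, π, hπ⟩ := Module.Finite.exists_fin' R M
    obtain ⟨s, hs⟩ := Module.projective_lifting_property π (LinearMap.id : M →ₗ[R] M) hπ
    -- points of `M` are images of `π`, and `δ ↦ Σ δ(π e_i) X_i` is the polynomial of `δ`
    let L : Module.Dual R M →ₗ[R] MvPolynomial (Fin n) R :=
      ∑ i, (LinearMap.toSpanSingleton R (MvPolynomial (Fin n) R) (MvPolynomial.X i)) ∘ₗ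
        Module.Dual.eval R M (π (Pi.single i 1))
    obtain ⟨x, hx⟩ := exists_point_iff hR
      (fun x => (SymmetricAlgebra.lift (Module.Dual.eval R M (π x))).toRingHom)
      (fun a => SymmetricAlgebra.lift L a)
      (fun a x => by
        have : (MvPolynomial.aeval x).comp (SymmetricAlgebra.lift L) =
            SymmetricAlgebra.lift (Module.Dual.eval R M (π x)) := by
          refine SymmetricAlgebra.algHom_ext ?_
          ext δ
          conv_rhs => simp only [LinearMap.comp_apply, AlgHom.toLinearMap_apply,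
            SymmetricAlgebra.lift_ι_apply, Module.Dual.eval_apply]; rw [pi_eq_sum_univ' x]
          simp [L, mul_comm]
        have := congrArg (fun g => g a) this
        simpa [MvPolynomial.aeval_eq_eval] using this)
      U hU (fun m hm => by
        obtain ⟨φ, hφ⟩ := h m
        choose y hy using fun i =>
          Ideal.Quotient.mk_surjective (φ ((LinearMap.proj i : (Fin n → R) →ₗ[R] R) ∘ₗ s))
        refine ⟨y, ?_⟩
        rw [← hcomp]
        suffices (Ideal.Quotient.mkₐ R m).toLinearMap ∘ₗ Module.Dual.eval R M (π y) = φ by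
          rwa [this]
        ext δ
        have hδ : δ = ∑ i, δ (π (Pi.single i 1)) • ((LinearMap.proj i : (Fin n → R) →ₗ[R] R) ∘ₗ s) := by
          ext v
          conv_lhs => rw [← LinearMap.id_apply (R := R) v, ← hs, LinearMap.comp_apply,
            pi_eq_sum_univ' (s v)]
          simp [mul_comm]
        conv_rhs => rw [hδ]
        simp only [LinearMap.comp_apply, AlgHom.toLinearMap_apply, Module.Dual.eval_apply,
          Ideal.Quotient.mkₐ_eq_mk, map_sum, map_smul, ← hy]
        conv_lhs => rw [pi_eq_sum_univ' y]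
        simp only [map_sum, map_smul, smul_eq_mul, map_mul]
        refine Finset.sum_congr rfl fun i _ => ?_
        simp [Algebra.smul_def, mul_comm])
    exact ⟨_, hx⟩

end Groth.Agent.H22.LGPoints
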