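import Mathlib

set_option autoImplicit false
universe u

open CategoryTheory CategoryTheory.Limits

namespace Groth.Agent.H22.Lazard

variable (R M : Type u) [CommRing R] [AddCommGroup M] [Module R M]

/-- A finite free module over `M`. -/
structure Obj : Type u where
  n : ℕ
  y : (Fin n → R) →ₗ[R] M

variable {R M}

instance : Category (Obj R M) where
  Hom X Y := {a : (Fin X.n → R) →ₗ[R] (Fin Y.n → R) // Y.y ∘ₗ a = X.y}
  id X := ⟨LinearMap.id, LinearMap.comp_id _⟩
  comp f g := ⟨g.1 ∘ₗ f.1, by rw [← LinearMap.comp_assoc, g.2, f.2]⟩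

theorem exists_factor [Module.Flat R M] (X : Obj R M) {K : Type u} [AddCommGroup K] [Module R K]
    [Module.Finite R K] (f : K →ₗ[R] (Fin X.n → R)) (hf : X.y ∘ₗ f = 0) :
    ∃ (Y : Obj R M) (a : X ⟶ Y), a.1 ∘ₗ f = 0 := by
  obtain ⟨k, a, y, hy, ha⟩ := Module.Flat.exists_factorization_of_comp_eq_zero_of_free hf
  let e := (Finsupp.linearEquivFunOnFinite R R (Fin k))
  refine ⟨⟨k, y ∘ₗ e.symm.toLinearMap⟩, ⟨e.toLinearMap ∘ₗ a, ?_⟩, ?_⟩
  · ext x
    simp [hy]
  · ext x : 1
    have := LinearMap.congr_fun ha x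
    simp only [LinearMap.comp_apply, LinearMap.zero_apply] at this ⊢
    simp [this]

instance : Nonempty (Obj R M) := ⟨⟨0, 0⟩⟩

noncomputable def sum (X Y : Obj R M) : Obj R M :=
  ⟨X.n + Y.n, X.y.comp (LinearMap.funLeft R R (Fin.castAdd Y.n)) +
    Y.y.comp (LinearMap.funLeft R R (Fin.natAdd X.n))⟩

noncomputable def appendL (m n : ℕ) : (Fin m → R) →ₗ[R] (Fin (m + n) → R) where
  toFun v := Fin.append v 0
  map_add' a b := by ext i; induction i using Fin.addCases <;> simp
  map_smul' c a := by ext i; induction i using Fin.addCases <;> simp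

noncomputable def appendR (m n : ℕ) : (Fin n → R) →ₗ[R] (Fin (m + n) → R) where
  toFun v := Fin.append 0 v
  map_add' a b := by ext i; induction i using Fin.addCases <;> simp
  map_smul' c a := by ext i; induction i using Fin.addCases <;> simp

noncomputable def inl (X Y : Obj R M) : X ⟶ sum X Y :=
  ⟨appendL X.n Y.n, by
    refine LinearMap.ext fun v => ?_
    show X.y (fun i => Fin.append v 0 (Fin.castAdd _ i)) + Y.y (fun i => Fin.append v 0 (Fin.natAdd _ i)) = _
    simp only [Fin.append_left, Fin.append_right]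
    rw [show (fun _ : Fin Y.n => (0 : Fin Y.n → R) _) = 0 from rfl, map_zero, add_zero]⟩

noncomputable def inr (X Y : Obj R M) : Y ⟶ sum X Y :=
  ⟨appendR X.n Y.n, by
    refine LinearMap.ext fun v => ?_
    show X.y (fun i => Fin.append 0 v (Fin.castAdd _ i)) + Y.y (fun i => Fin.append 0 v (Fin.natAdd _ i)) = _
    simp only [Fin.append_left, Fin.append_right]
    rw [show (fun _ : Fin X.n => (0 : Fin X.n → R) _) = 0 from rfl, map_zero, zero_add]⟩

instance [Module.Flat R M] : IsFiltered (Obj R M) where
  cocone_objs X Y := ⟨sum X Y, inl X Y, inr X Y, trivial⟩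
  cocone_maps X Y f g := by
    obtain ⟨Z, a, ha⟩ := exists_factor Y (f.1 - g.1) (by rw [LinearMap.comp_sub, f.2, g.2, sub_self])
    refine ⟨Z, a, Subtype.ext ?_⟩
    rw [LinearMap.comp_sub, sub_eq_zero] at ha
    exact ha

variable (R M) in
noncomputable def diagram : Obj R M ⥤ ModuleCat.{u} R where
  obj X := ModuleCat.of R (Fin X.n → R)
  map f := ModuleCat.ofHom f.1

variable (R M) in
noncomputable def cocone : Cocone (diagram R M) where
  pt := ModuleCat.of R M
  ι := { app := fun X => ModuleCat.ofHom X.y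
         naturality := fun X Y f => ModuleCat.hom_ext f.2 }

theorem isIso_desc [Module.Flat R M] : IsIso (colimit.desc (diagram R M) (cocone R M)) := by
  rw [ConcreteCategory.isIso_iff_bijective]
  refine ⟨fun a b hab => ?_, fun m => ?_⟩
  · have key : ∀ c, (colimit.desc (diagram R M) (cocone R M)) c = 0 → c = 0 := by
      intro c hc
      obtain ⟨X, v, rfl⟩ := Concrete.colimit_exists_rep (diagram R M) c
      have h1 : X.y v = 0 := by
        rw [← ModuleCat.comp_apply, colimit.ι_desc] at hc
        exact hc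
      obtain ⟨Y, a, ha⟩ := exists_factor X (LinearMap.toSpanSingleton R (Fin X.n → R) v)
        (LinearMap.ext fun r => by simp [h1])
      rw [← colimit.w (diagram R M) a, ModuleCat.comp_apply]
      have h2 : a.1 v = 0 := by simpa using LinearMap.congr_fun ha 1
      show (colimit.ι (diagram R M) Y) (a.1 v) = 0
      rw [h2]
      exact map_zero ((colimit.ι (diagram R M) Y).hom)
    refine sub_eq_zero.1 (key _ ?_)
    rw [map_sub, hab, sub_self]
  · refine ⟨colimit.ι (diagram R M) ⟨1, (LinearMap.toSpanSingleton R M m).comp (LinearMap.proj 0)⟩ (fun _ => (1 : R)), ?_⟩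
    rw [← ModuleCat.comp_apply, colimit.ι_desc]
    exact one_smul R m

theorem exists_directed [Module.Flat R M] :
    ∃ (J : Type u) (_ : Preorder J) (_ : IsDirected J (fun a b => a ≤ b)) (_ : Nonempty J)
      (F : J ⥤ ModuleCat.{u} R), (∀ j, Module.Finite R (F.obj j) ∧ Module.Free R (F.obj j)) ∧
      Nonempty (colimit F ≅ ModuleCat.of R M) := by
  obtain ⟨α, _, hdir, hne, G, _⟩ := IsFiltered.exists_directed (Obj R M)
  let e := @asIso _ _ _ _ (colimit.desc (diagram R M) (cocone R M)) (isIso_desc (R := R) (M := M))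
  refine ⟨α, inferInstance, hdir, hne, G ⋙ diagram R M, fun j => ?_, ⟨Functor.Final.colimitIso G (diagram R M) ≪≫ e⟩⟩
  exact ⟨inferInstanceAs (Module.Finite R (Fin (G.obj j).n → R)), inferInstanceAs (Module.Free R (Fin (G.obj j).n → R))⟩

theorem flat_of_colimit {J : Type u} [SmallCategory J] [IsFiltered J] (F : J ⥤ ModuleCat.{u} R)
    (hF : ∀ j, Module.Flat R (F.obj j)) (e : colimit F ≅ ModuleCat.of R M) : Module.Flat R M := by
  classical
  haveI : Module.Flat R (colimit F : ModuleCat.{u} R) := by
    refine Module.Flat.of_forall_isTrivialRelation fun {l f x} hx => ?_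
    choose j v hv using fun i => Concrete.colimit_exists_rep F (x i)
    obtain ⟨k, hk⟩ := IsFiltered.sup_objs_exists (Finset.univ.image j)
    have t : ∀ i, j i ⟶ k := fun i => (hk (Finset.mem_image_of_mem j (Finset.mem_univ i))).some
    let w : Fin l → F.obj k := fun i => F.map (t i) (v i)
    have hw : ∀ i, colimit.ι F k (w i) = x i := fun i => by
      show colimit.ι F k (F.map (t i) (v i)) = _
      rw [← ModuleCat.comp_apply, colimit.w, hv]
    have h0 : colimit.ι F k (∑ i, f i • w i) = colimit.ι F k 0 := by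
      rw [map_sum, map_zero]
      simp only [map_smul, hw, hx]
    obtain ⟨k', g, g', hg⟩ := Concrete.colimit_exists_of_rep_eq F _ _ h0
    rw [map_zero, map_sum] at hg
    simp only [map_smul] at hg
    haveI := hF k'
    obtain ⟨m, b, y, hy, hb⟩ := Module.Flat.isTrivialRelation_of_sum_smul_eq_zero hg
    refine ⟨m, b, fun p => colimit.ι F k' (y p), fun i => ?_, hb⟩
    have := congrArg (colimit.ι F k') (hy i)
    rw [← ModuleCat.comp_apply, colimit.w, hw, map_sum] at this
    simpa only [map_smul] using this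
  exact Module.Flat.of_linearEquiv e.symm.toLinearEquiv

end Groth.Agent.H22.Lazard
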