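import Mathlib

/-!
Properties of morphisms of schemes over a base which are etale local on the source, smooth local on
the base and stable under postcomposition with open immersions: postcomposition with etale maps.
-/

set_option maxHeartbeats 1000000
universe u

namespace Groth.Agent.H22.LocST

open AlgebraicGeometry CategoryTheory Limits

/-- A property of morphisms `f : X ⟶ Y` with `Y` over `S`, local in the etale-smooth sense. -/
structure LocProp (S : Scheme.{u}) where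
  P : ∀ {X Y : Scheme.{u}}, (Y ⟶ S) → (X ⟶ Y) → Prop
  pre : ∀ {X' X Y : Scheme.{u}} {sY : Y ⟶ S} (g : X' ⟶ X) [Etale g] {f : X ⟶ Y},
    P sY f → P sY (g ≫ f)
  glue : ∀ {X Y : Scheme.{u}} {sY : Y ⟶ S} (f : X ⟶ Y) {ι : Type u} (Xi : ι → Scheme.{u})
    (g : ∀ i, Xi i ⟶ X) (_ : ∀ i, Etale (g i)) (_ : ∀ x, ∃ i, x ∈ Set.range (g i)),
    (∀ i, P sY (g i ≫ f)) → P sY f
  bc : ∀ {X Y X' Y' : Scheme.{u}} {sY : Y ⟶ S} {f : X ⟶ Y} {q : X' ⟶ X} {p : X' ⟶ Y'}
    {b : Y' ⟶ Y} [Smooth b], IsPullback q p f b → P sY f → P (b ≫ sY) p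
  desc : ∀ {X Y X' Y' : Scheme.{u}} {sY : Y ⟶ S} {f : X ⟶ Y} {q : X' ⟶ X} {p : X' ⟶ Y'}
    {b : Y' ⟶ Y} [Smooth b] [Surjective b], IsPullback q p f b → P (b ≫ sY) p → P sY f
  openPost : ∀ {X Y Z : Scheme.{u}} {sZ : Z ⟶ S} (j : Y ⟶ Z) [IsOpenImmersion j] {f : X ⟶ Y},
    P (j ≫ sZ) f → P sZ (f ≫ j)

/-- At most `n` geometric points in each fibre. -/
def Bound {Y Z : Scheme.{u}} (g : Y ⟶ Z) (n : ℕ) : Prop :=
  ∀ (K : Type u) [Field K] [IsAlgClosed K] (s : Fin (n + 1) → (Spec (.of K) ⟶ Y)),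
    (∀ i j, s i ≫ g = s j ≫ g) → ¬ Function.Injective s

theorem isEmpty_of_bound_zero {Y Z : Scheme.{u}} (g : Y ⟶ Z) (h : Bound g 0) : IsEmpty Y :=
  ⟨fun y => h (AlgebraicClosure (Y.residueField y))
    (fun _ => Spec.map (CommRingCat.ofHom (algebraMap (Y.residueField y) (AlgebraicClosure _))) ≫
      Y.fromSpecResidueField y) (fun _ _ => rfl) (fun a b _ => Fin.ext (by omega))⟩

theorem bound_of_comp {Y Z Z' : Scheme.{u}} (g : Y ⟶ Z') (j : Z' ⟶ Z) {n : ℕ}
    (h : Bound (g ≫ j) n) : Bound g n :=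
  fun K _ _ s hs => h K s fun i k => by simp [← Category.assoc, hs i k]

theorem bound_spec_standardEtale (R T : CommRingCat.{u}) (φ : R ⟶ T)
    (h : letI := φ.hom.toAlgebra; Algebra.IsStandardEtale R T) : ∃ n, Bound (Spec.map φ) n := by
  algebraize [φ.hom]
  obtain ⟨Q⟩ := (h : Algebra.IsStandardEtale R T).nonempty_standardEtalePresentation
  refine ⟨Q.P.f.natDegree, fun K _ _ s hs hinj => ?_⟩
  choose σ hσ using fun i => (Spec.map_surjective (s i))
  have hσ0 : ∀ i, φ ≫ σ i = φ ≫ σ 0 := fun i => Spec.map_injective (by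
    rw [Spec.map_comp, Spec.map_comp, hσ, hσ]; exact hs i 0)
  let _ : Algebra R K := (φ ≫ σ 0).hom.toAlgebra
  let τ : Fin (Q.P.f.natDegree + 1) → (T →ₐ[R] K) := fun i =>
    { (σ i).hom with commutes' := fun r => congrArg (fun ψ => ψ.hom r) (hσ0 i) }
  have hτ : Function.Injective τ := fun a b hab => hinj (by
    rw [← hσ a, ← hσ b]
    congr 1
    exact CommRingCat.hom_ext (congrArg AlgHom.toRingHom hab))
  have hroot : ∀ i, τ i Q.x ∈ (Q.P.f.map (algebraMap R K)).rootSet K := fun i => by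
    rw [Polynomial.mem_rootSet]
    refine ⟨(Q.P.monic_f.map _).ne_zero, ?_⟩
    rw [Polynomial.aeval_map_algebraMap, Polynomial.aeval_algHom_apply, Q.hasMap.1, map_zero]
  have hx : Function.Injective fun i => (⟨τ i Q.x, hroot i⟩ :
      (Q.P.f.map (algebraMap R K)).rootSet K) := fun a b hab => hτ (by
    have h1 : (τ a).comp (Q.P.lift _ Q.hasMap) = (τ b).comp (Q.P.lift _ Q.hasMap) :=
      Q.P.hom_ext (by simpa using congrArg Subtype.val hab)
    refine AlgHom.ext fun t => ?_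
    obtain ⟨z, rfl⟩ := Q.lift_bijective.surjective t
    exact AlgHom.congr_fun h1 z)
  have hcard := Nat.card_le_card_of_injective _ hx
  rw [Nat.card_eq_fintype_card, Fintype.card_fin, Nat.card_coe_set_eq] at hcard
  have hle := Polynomial.ncard_rootSet_le (Q.P.f.map (algebraMap R K)) K
  have hdeg : (Q.P.f.map (algebraMap R K)).natDegree ≤ Q.P.f.natDegree :=
    Polynomial.natDegree_map_le
  omega

variable {S : Scheme.{u}} (Φ : LocProp S)

namespace LocProp

variable {X Y Z : Scheme.{u}}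

theorem of_isEmpty {sY : Y ⟶ S} (f : X ⟶ Y) [IsEmpty X] : Φ.P sY f :=
  Φ.glue f (PEmpty.elim : PEmpty.{u + 1} → Scheme.{u}) (fun i => i.elim) (fun i => i.elim)
    (fun x => isEmptyElim x) fun i => i.elim

theorem zar {sY : Y ⟶ S} (f : X ⟶ Y) (h : ∀ x, ∃ U : X.Opens, x ∈ U ∧ Φ.P sY (U.ι ≫ f)) :
    Φ.P sY f := by
  choose U hU hP using h
  exact Φ.glue f (fun x => (U x : Scheme.{u})) (fun x => (U x).ι) (fun x => inferInstance)
    (fun x => ⟨x, ⟨x, hU x⟩, rfl⟩) hP

theorem factor {sY : Y ⟶ S} {f : X ⟶ Y} (j : Z ⟶ Y) [IsOpenImmersion j] {f' : X ⟶ Z}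
    (w : f' ≫ j = f) (h : Φ.P sY f) : Φ.P (j ≫ sY) f' :=
  Φ.bc (IsPullback.of_horiz_isIso_mono (fst := 𝟙 X) ⟨by rw [w, Category.id_comp]⟩) h

theorem glue_one {X' : Scheme.{u}} {sY : Y ⟶ S} (f : X ⟶ Y) (g : X' ⟶ X) [Etale g] [Surjective g]
    (h : Φ.P sY (g ≫ f)) : Φ.P sY f :=
  Φ.glue f (fun _ : PUnit.{u + 1} => X') (fun _ => g) (fun _ => inferInstance)
    (fun x => ⟨⟨⟩, g.surjective x⟩) fun _ => h

/-- The property on the open image of an etale morphism. -/
theorem image {X' : Scheme.{u}} {sY : Y ⟶ S} (f : X ⟶ Y) (g : X' ⟶ X) [Etale g]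
    (h : Φ.P sY (g ≫ f)) :
    Φ.P sY (Scheme.Opens.ι (X := X) ⟨Set.range g, g.isOpenMap.isOpen_range⟩ ≫ f) := by
  let U : X.Opens := ⟨Set.range g, g.isOpenMap.isOpen_range⟩
  have hr : Set.range g ⊆ Set.range U.ι := by rw [Scheme.Opens.range_ι]; exact subset_rfl
  let g' : X' ⟶ U := IsOpenImmersion.lift U.ι g hr
  have hg' : g' ≫ U.ι = g := IsOpenImmersion.lift_fac _ _ _
  have : Etale (g' ≫ U.ι) := by rw [hg']; infer_instance
  have : Etale g' := Etale.of_comp g' U.ι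
  have : Surjective g' := ⟨fun z => by
    obtain ⟨x, hx⟩ := z.2
    refine ⟨x, U.ι.isOpenEmbedding.injective ?_⟩
    rw [← Scheme.Hom.comp_apply, hg']
    exact hx⟩
  refine Φ.glue_one _ g' ?_
  rwa [← Category.assoc, hg']

theorem post_of_bound (n : ℕ) : ∀ {X Y Z : Scheme.{u}} (sZ : Z ⟶ S) (f : X ⟶ Y) (g : Y ⟶ Z)
    [Etale g] [IsSeparated g], Bound g n → Φ.P (g ≫ sZ) f → Φ.P sZ (f ≫ g) := by
  induction n with
  | zero =>
    intro X Y Z sZ f g _ _ hb _
    have := isEmpty_of_bound_zero g hb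
    have : IsEmpty X := Function.isEmpty f
    exact Φ.of_isEmpty _
  | succ n IH =>
    intro X Y Z sZ f g _ _ hb hf
    let U : Z.Opens := ⟨Set.range g, g.isOpenMap.isOpen_range⟩
    have hr : Set.range g ⊆ Set.range U.ι := by rw [Scheme.Opens.range_ι]; exact subset_rfl
    let g' : Y ⟶ U := IsOpenImmersion.lift U.ι g hr
    have hg' : g' ≫ U.ι = g := IsOpenImmersion.lift_fac _ _ _
    have : Etale (g' ≫ U.ι) := by rw [hg']; infer_instance
    have : Etale g' := Etale.of_comp g' U.ι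
    have : IsSeparated (g' ≫ U.ι) := by rw [hg']; infer_instance
    have : IsSeparated g' := IsSeparated.of_comp g' U.ι
    have : Surjective g' := ⟨fun z => by
      obtain ⟨y, hy⟩ := z.2
      refine ⟨y, U.ι.isOpenEmbedding.injective ?_⟩
      rw [← Scheme.Hom.comp_apply, hg']
      exact hy⟩
    have hbg : Bound g' (n + 1) := bound_of_comp g' U.ι (hg'.symm ▸ hb)
    rw [← hg', ← Category.assoc]
    refine Φ.openPost U.ι ?_
    have hs : g ≫ sZ = g' ≫ U.ι ≫ sZ := by rw [← Category.assoc, hg']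
    rw [hs] at hf
    refine Φ.desc (IsPullback.of_hasPullback (f ≫ g') g') ?_
    -- the map to the fibre square
    let m : pullback (f ≫ g') g' ⟶ pullback g' g' :=
      pullback.lift (pullback.fst _ _ ≫ f) (pullback.snd _ _)
        (by rw [Category.assoc, pullback.condition])
    have hm1 : m ≫ pullback.fst g' g' = pullback.fst (f ≫ g') g' ≫ f := pullback.lift_fst _ _ _
    have hm2 : m ≫ pullback.snd g' g' = pullback.snd (f ≫ g') g' := pullback.lift_snd _ _ _
    have hsq : IsPullback (pullback.fst (f ≫ g') g') m f (pullback.fst g' g') := by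
      refine IsPullback.of_bot ?_ hm1.symm (IsPullback.of_hasPullback g' g').flip.flip |>.flip.flip
      rw [hm2]
      exact IsPullback.of_hasPullback _ _
    let γ : X ⟶ pullback (f ≫ g') g' := pullback.lift (𝟙 X) f (by simp)
    have hγ1 : γ ≫ pullback.fst (f ≫ g') g' = 𝟙 X := pullback.lift_fst _ _ _
    have hγ2 : γ ≫ pullback.snd (f ≫ g') g' = f := pullback.lift_snd _ _ _
    have : Etale (γ ≫ pullback.fst (f ≫ g') g') := by rw [hγ1]; infer_instance
    have : Etale γ := Etale.of_comp γ (pullback.fst (f ≫ g') g')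
    have hγm : γ ≫ m = f ≫ pullback.diagonal g' := by
      apply pullback.hom_ext
      · simp [hm1, reassoc_of% hγ1]
      · simp [hm2, hγ2]
    have hγsq : IsPullback γ f m (pullback.diagonal g') := by
      refine IsPullback.of_right (h₁₂ := pullback.fst (f ≫ g') g') (v₁₃ := f)
        (h₂₂ := pullback.fst g' g') ?_ hγm hsq
      rw [hγ1, pullback.diagonal_fst]
      exact IsPullback.of_horiz_isIso ⟨by simp⟩
    let R : (pullback g' g').Opens := ⟨(Set.range (pullback.diagonal g'))ᶜ,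
      (pullback.diagonal g').isClosedEmbedding.isClosed_range.isOpen_compl⟩
    let r1 : (R : Scheme.{u}) ⟶ Y := R.ι ≫ pullback.fst g' g'
    let r2 : (R : Scheme.{u}) ⟶ Y := R.ι ≫ pullback.snd g' g'
    have hsqR : IsPullback ((m ⁻¹ᵁ R).ι ≫ pullback.fst (f ≫ g') g') (m ∣_ R) f r1 :=
      (isPullback_morphismRestrict m R).flip.paste_horiz hsq
    have hP1 : Φ.P (r1 ≫ g' ≫ U.ι ≫ sZ) (m ∣_ R) := Φ.bc hsqR hf
    have hr12 : r1 ≫ g' ≫ U.ι ≫ sZ = r2 ≫ g' ≫ U.ι ≫ sZ := by
      simp [r1, r2, pullback.condition_assoc]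
    rw [hr12] at hP1
    have hbR : Bound r2 n := by
      intro K _ _ s hs hinj
      refine hbg K (Fin.cons (s 0 ≫ r2) (fun i => s i ≫ r1)) ?_ ?_
      · have key : ∀ i, Fin.cons (α := fun _ => Spec (.of K) ⟶ Y) (s 0 ≫ r2)
            (fun i => s i ≫ r1) i ≫ g' = s 0 ≫ r2 ≫ g' := by
          refine Fin.cases (by simp) fun i => ?_
          rw [Fin.cons_succ]
          simp only [r1, r2, Category.assoc, pullback.condition]
          have := hs i 0
          simp only [r2] at this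
          rw [reassoc_of% this]
        intro i j
        rw [key, key]
      · rw [Fin.cons_injective_iff]
        refine ⟨?_, fun a b hab => hinj ?_⟩
        · rintro ⟨i, hi⟩
          let pt : ↥(Spec (.of K)) := Classical.arbitrary _
          have he : s i ≫ R.ι = (s i ≫ r1) ≫ pullback.diagonal g' := by
            apply pullback.hom_ext
            · simp [r1]
            · simp only [Category.assoc, pullback.diagonal_snd, Category.comp_id]
              exact (hs i 0).trans hi.symm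
          have : R.ι (s i pt) ∈ Set.range (pullback.diagonal g') :=
            ⟨(s i ≫ r1) pt, by rw [← Scheme.Hom.comp_apply, ← he]; rfl⟩
          exact (s i pt).2 this
        · rw [← cancel_mono R.ι]
          apply pullback.hom_ext
          · simpa [r1] using hab
          · simpa [r2] using hs a b
    have hP2 : Φ.P (g' ≫ U.ι ≫ sZ) ((m ∣_ R) ≫ r2) := IH _ _ r2 hbR hP1
    refine Φ.glue _ (fun i : ULift.{u} Bool => cond i.down X ((m ⁻¹ᵁ R) : Scheme.{u}))
      (fun ⟨i⟩ => match i with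
        | true => γ
        | false => (m ⁻¹ᵁ R).ι) ?_ ?_ ?_
    · rintro ⟨_ | _⟩
      · exact inferInstanceAs (Etale (m ⁻¹ᵁ R).ι)
      · exact ‹Etale γ›
    · intro p
      by_cases hp : p ∈ m ⁻¹ᵁ R
      · exact ⟨⟨false⟩, ⟨p, hp⟩, rfl⟩
      · obtain ⟨y, hy⟩ : m p ∈ Set.range (pullback.diagonal g') := not_not.mp hp
        obtain ⟨x, hx, -⟩ := Scheme.exists_preimage_of_isPullback hγsq p y hy.symm
        exact ⟨⟨true⟩, x, hx⟩
    · rintro ⟨_ | _⟩
      · show Φ.P _ ((m ⁻¹ᵁ R).ι ≫ pullback.snd (f ≫ g') g')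
        have : (m ∣_ R) ≫ r2 = (m ⁻¹ᵁ R).ι ≫ pullback.snd (f ≫ g') g' := by
          simp [r2, ← hm2]
        rwa [← this]
      · show Φ.P _ (γ ≫ pullback.snd (f ≫ g') g')
        rwa [hγ2]

theorem post_etale {X Y Z : Scheme.{u}} (sZ : Z ⟶ S) (f : X ⟶ Y) (g : Y ⟶ Z) [Etale g]
    (h : Φ.P (g ≫ sZ) f) : Φ.P sZ (f ≫ g) := by
  refine Φ.zar _ fun x => ?_
  obtain ⟨_, ⟨V, hV, rfl⟩, hyV, -⟩ :=
    Z.isBasis_affineOpens.exists_subset_of_mem_open (Set.mem_univ (g (f x))) isOpen_univ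
  obtain ⟨_, ⟨U, hU, rfl⟩, hyU, hUV⟩ :=
    Y.isBasis_affineOpens.exists_subset_of_mem_open (show f x ∈ (g ⁻¹ᵁ V : Set Y) from hyV)
      (g ⁻¹ᵁ V).2
  have het : (g.appLE V U hUV).hom.Etale :=
    HasRingHomProperty.appLE (P := @Etale) g inferInstance ⟨V, hV⟩ ⟨U, hU⟩ hUV
  algebraize [(g.appLE V U hUV).hom]
  have : Algebra.Etale Γ(Z, V) Γ(Y, U) := het
  let q : PrimeSpectrum Γ(Y, U) := hU.primeIdealOf ⟨f x, hyU⟩
  obtain ⟨t, ht, hst⟩ := Algebra.IsEtaleAt.exists_isStandardEtale (R := Γ(Z, V)) q.asIdeal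
  let L : CommRingCat.{u} := .of (Localization.Away t)
  let loc : Γ(Y, U) ⟶ L := CommRingCat.ofHom (algebraMap _ _)
  have : IsOpenImmersion (Spec.map loc) := IsOpenImmersion.of_isLocalization t
  let i : Spec L ⟶ Y := Spec.map loc ≫ hU.fromSpec
  let φ : Γ(Z, V) ⟶ L := CommRingCat.ofHom (algebraMap Γ(Z, V) (Localization.Away t))
  have hφ : i ≫ g = Spec.map φ ≫ hV.fromSpec := by
    simp only [i, Category.assoc, ← IsAffineOpen.SpecMap_appLE_fromSpec g hV hU hUV,
      ← Spec.map_comp_assoc]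
    congr 2
  have hstd : letI := φ.hom.toAlgebra; Algebra.IsStandardEtale Γ(Z, V) L := by
    convert hst using 1
    exact Algebra.algebra_ext _ _ fun r => rfl
  obtain ⟨n, hn⟩ := bound_spec_standardEtale _ _ φ hstd
  have : Etale (Spec.map φ) := by
    rw [HasRingHomProperty.Spec_iff (P := @Etale)]
    exact RingHom.etale_algebraMap.mpr inferInstance
  have hmem : f x ∈ Set.range i := by
    have h1 : q ∈ Set.range (Spec.map loc) := by
      show q ∈ Set.range (PrimeSpectrum.comap (algebraMap Γ(Y, U) (Localization.Away t)))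
      rw [PrimeSpectrum.localization_away_comap_range _ t]
      exact ht
    obtain ⟨z, hz⟩ := h1
    refine ⟨z, ?_⟩
    simp only [i, Scheme.Hom.comp_apply, hz]
    exact hU.fromSpec_primeIdealOf ⟨f x, hyU⟩
  let X1 : X.Opens := f ⁻¹ᵁ i.opensRange
  refine ⟨X1, hmem, ?_⟩
  let f1 : (X1 : Scheme.{u}) ⟶ Spec L := IsOpenImmersion.lift i (X1.ι ≫ f) (by
    rintro _ ⟨z, rfl⟩; exact z.2)
  have hf1 : f1 ≫ i = X1.ι ≫ f := IsOpenImmersion.lift_fac _ _ _
  have h1 : Φ.P (i ≫ g ≫ sZ) f1 := Φ.factor i hf1 (Φ.pre X1.ι h)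
  rw [reassoc_of% hφ] at h1
  have h2 := Φ.openPost hV.fromSpec (Φ.post_of_bound n _ f1 (Spec.map φ) hn h1)
  rwa [Category.assoc, ← hφ, reassoc_of% hf1] at h2

end LocProp

end Groth.Agent.H22.LocST
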