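import Mathlib
import Groth.Agent.H22.LocSTBasic

/-!
The locality on source and target for properties local in the etale-smooth sense: reduction to
affine space and saturation by translations.
-/

set_option maxHeartbeats 1000000
universe u

namespace Groth.Agent.H22.LocST

open AlgebraicGeometry CategoryTheory Limits MvPolynomial

section ring

variable {A A' : Type u} [CommRing A] [CommRing A'] [Algebra A A'] {n : ℕ}

/-- translation by `t` on `A'[T]`. -/
noncomputable def translate (t : Fin n → A') :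
    MvPolynomial (Fin n) A' ≃ₐ[A'] MvPolynomial (Fin n) A' :=
  AlgEquiv.ofAlgHom (aeval fun i => X i + C (t i)) (aeval fun i => X i - C (t i))
    (MvPolynomial.algHom_ext fun i => by simp) (MvPolynomial.algHom_ext fun i => by simp)

end ring

/-- The square `Spec B[T] → Spec A[T]` over `Spec B → Spec A`. -/
theorem isPullback_polynomial (A B : Type u) [CommRing A] [CommRing B] [Algebra A B] (n : ℕ) :
    IsPullback (Spec.map (CommRingCat.ofHom (C : B →+* MvPolynomial (Fin n) B)))
      (Spec.map (CommRingCat.ofHom (MvPolynomial.map (σ := Fin n) (algebraMap A B))))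
      (Spec.map (CommRingCat.ofHom (algebraMap A B)))
      (Spec.map (CommRingCat.ofHom (C : A →+* MvPolynomial (Fin n) A))) := by
  let _ := MvPolynomial.algebraMvPolynomial (R := A) (S := B) (σ := Fin n)
  exact isPullback_SpecMap_of_isPushout _ _ _ _
    (CommRingCat.isPushout_iff_isPushout.mpr
      (inferInstanceAs (Algebra.IsPushout A B (MvPolynomial (Fin n) A) (MvPolynomial (Fin n) B))))

variable {S : Scheme.{u}} (Φ : LocProp S)

theorem LocProp.saturate (A B : Type u) [CommRing A] [CommRing B] [Algebra A B] {n : ℕ}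
    (sA : Spec (.of A) ⟶ S) (F : MvPolynomial (Fin n) B)
    (h : Φ.P (Spec.map (CommRingCat.ofHom (C : A →+* MvPolynomial (Fin n) A)) ≫ sA)
      (Scheme.Opens.ι (X := Spec (.of (MvPolynomial (Fin n) B))) (PrimeSpectrum.basicOpen F) ≫
        Spec.map (CommRingCat.ofHom (MvPolynomial.map (σ := Fin n) (algebraMap A B)))))
    (P : PrimeSpectrum (MvPolynomial (Fin n) B)) (hP : ∃ d, C (F.coeff d) ∉ P.asIdeal) :
    ∃ O : (Spec (.of (MvPolynomial (Fin n) B))).Opens, P ∈ O ∧
      Φ.P (Spec.map (CommRingCat.ofHom (C : A →+* MvPolynomial (Fin n) A)) ≫ sA)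
        (O.ι ≫ Spec.map (CommRingCat.ofHom (MvPolynomial.map (σ := Fin n) (algebraMap A B)))) := by
  classical
  let Ω := AlgebraicClosure P.asIdeal.ResidueField
  let ev : MvPolynomial (Fin n) B →+* Ω :=
    (algebraMap P.asIdeal.ResidueField Ω).comp (algebraMap _ P.asIdeal.ResidueField)
  have hker : ∀ x, ev x = 0 ↔ x ∈ P.asIdeal := fun x => by
    simp [ev, Ideal.algebraMap_residueField_eq_zero]
  let β : B →+* Ω := ev.comp C
  let w : Fin n → Ω := fun i => ev (X i)
  let G : MvPolynomial (Fin n) Ω := translate w (MvPolynomial.map β F)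
  have hG : G ≠ 0 := by
    obtain ⟨d, hd⟩ := hP
    refine (map_ne_zero_iff _ (translate w).injective).mpr fun h0 => ?_
    have := congrArg (MvPolynomial.coeff d) h0
    rw [coeff_map, coeff_zero] at this
    exact hd ((hker _).mp this)
  let N : ℕ := (Finset.univ.sup fun i => G.degreeOf i) + 1
  obtain ⟨m, hmN, hm⟩ : ∃ m, N ≤ m ∧ (m : Ω) ≠ 0 := by
    by_cases h0 : (N : Ω) = 0
    · exact ⟨N + 1, N.le_succ, by simp [h0]⟩
    · exact ⟨N, le_rfl, h0⟩
  have hm0 : m ≠ 0 := by omega
  have : NeZero (m : Ω) := ⟨hm⟩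
  obtain ⟨ζ, hζ⟩ := HasEnoughRootsOfUnity.exists_primitiveRoot Ω m
  obtain ⟨e, he⟩ : ∃ e : Fin n → ℕ, MvPolynomial.eval (fun i => ζ ^ e i) G ≠ 0 := by
    by_contra! hall
    refine hG (MvPolynomial.eq_zero_of_eval_zero_at_prod_finset G
      (fun _ => (Finset.range m).image (ζ ^ ·)) (fun i => ?_) fun x hx => ?_)
    · have hc : ((Finset.range m).image (ζ ^ ·)).card = m := by
        rw [Finset.card_image_of_injOn, Finset.card_range]
        intro a ha b hb hab
        exact hζ.pow_inj (Finset.mem_range.mp ha) (Finset.mem_range.mp hb) hab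
      rw [hc]
      have := Finset.le_sup (f := fun i => G.degreeOf i) (Finset.mem_univ i)
      simp only [N] at hmN
      omega
    · choose e _ he using fun i => Finset.mem_image.mp (hx i)
      simp only [← funext he]
      exact hall e
  let Q : StandardEtalePair A :=
    { f := Polynomial.X ^ m - 1
      monic_f := by simpa using Polynomial.monic_X_pow_sub_C (1 : A) hm0
      g := Polynomial.C (m : A)
      cond := by
        refine ⟨Polynomial.X, -Polynomial.C (m : A), 1, ?_⟩
        simp only [Polynomial.derivative_sub, Polynomial.derivative_X_pow, Polynomial.derivative_one,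
          sub_zero, pow_one]
        rw [mul_assoc, ← pow_succ, Nat.sub_add_cancel (Nat.one_le_iff_ne_zero.mpr hm0)]
        ring }
  let _ : Algebra A Ω := (β.comp (algebraMap A B)).toAlgebra
  have hmap : Q.HasMap ζ := ⟨by simp [Q, hζ.pow_eq_one], by
    show IsUnit (Polynomial.aeval ζ (Polynomial.C (m : A)))
    rw [Polynomial.aeval_C, map_natCast]
    exact IsUnit.mk0 _ hm⟩
  let ψ : Q.Ring →ₐ[A] Ω := Q.lift ζ hmap
  let t : Fin n → Q.Ring := fun i => Q.X ^ e i
  have hψt : ∀ i, ψ (t i) = ζ ^ e i := fun i => by simp [t, ψ]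
  let AT := MvPolynomial (Fin n) A
  let QT := MvPolynomial (Fin n) Q.Ring
  let cR : AT →+* QT := MvPolynomial.map (algebraMap A Q.Ring)
  let θR : AT →+* QT := (translate t).toRingEquiv.toRingHom.comp cR
  let fB := Spec.map (CommRingCat.ofHom (algebraMap A B))
  let pA := Spec.map (CommRingCat.ofHom (C : A →+* AT))
  let πB := Spec.map (CommRingCat.ofHom (C : B →+* MvPolynomial (Fin n) B))
  let πT := Spec.map (CommRingCat.ofHom (MvPolynomial.map (σ := Fin n) (algebraMap A B)))
  let c : Spec (.of QT) ⟶ Spec (.of AT) := Spec.map (CommRingCat.ofHom cR)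
  let θ : Spec (.of QT) ⟶ Spec (.of AT) := Spec.map (CommRingCat.ofHom θR)
  have hcC : ∀ a : A, cR (C a) = C (algebraMap A Q.Ring a) := fun a => MvPolynomial.map_C _ a
  have hcX : ∀ i, cR (X i) = X i := fun i => MvPolynomial.map_X _ i
  have hθC : ∀ a : A, θR (C a) = C (algebraMap A Q.Ring a) := fun a => by
    show translate t (cR (C a)) = _
    rw [hcC]; simp [translate]
  have hθX : ∀ i, θR (X i) = X i + C (t i) := fun i => by
    show translate t (cR (X i)) = _
    rw [hcX]; simp [translate]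
  have hθc : θ ≫ pA = c ≫ pA := by
    simp only [θ, c, pA, ← Spec.map_comp]
    congr 1
    refine CommRingCat.hom_ext (RingHom.ext fun a => ?_)
    show θR (C a) = cR (C a)
    rw [hθC, hcC]
  have hsq : IsPullback πB πT fB pA := isPullback_polynomial A B n
  have hc : Etale c := by
    have he : Etale (Spec.map (CommRingCat.ofHom (algebraMap A Q.Ring))) := by
      rw [HasRingHomProperty.Spec_iff (P := @Etale)]
      exact RingHom.etale_algebraMap.mpr inferInstance
    exact MorphismProperty.of_isPullback (isPullback_polynomial A Q.Ring n) he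
  have hθ : Etale θ := by
    have : θ = Spec.map (CommRingCat.ofHom (translate t).toRingEquiv.toRingHom) ≫ c := by
      simp only [θ, θR, c, ← Spec.map_comp]
      rfl
    have hi : IsIso (CommRingCat.ofHom (translate t).toRingEquiv.toRingHom) :=
      (translate t).toRingEquiv.toCommRingCatIso.isIso_hom
    rw [this]
    infer_instance
  let W' := pullback fB (θ ≫ pA)
  let γθ : W' ⟶ Spec (.of (MvPolynomial (Fin n) B)) :=
    hsq.lift (pullback.fst _ _) (pullback.snd _ _ ≫ θ) (by rw [Category.assoc]; exact pullback.condition)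
  let γc : W' ⟶ Spec (.of (MvPolynomial (Fin n) B)) :=
    hsq.lift (pullback.fst _ _) (pullback.snd _ _ ≫ c)
      (by rw [Category.assoc, ← hθc]; exact pullback.condition)
  have hsqθ : IsPullback γθ (pullback.snd fB (θ ≫ pA)) πT θ :=
    IsPullback.of_right (by rw [hsq.lift_fst]; exact IsPullback.of_hasPullback _ _)
      (hsq.lift_snd _ _ _) hsq
  have hsqc : IsPullback γc (pullback.snd fB (θ ≫ pA)) πT c :=
    IsPullback.of_right (by rw [hsq.lift_fst, ← hθc]; exact IsPullback.of_hasPullback _ _)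
      (hsq.lift_snd _ _ _) hsq
  have : Etale γc := MorphismProperty.of_isPullback hsqc.flip hc
  let D : (Spec (.of (MvPolynomial (Fin n) B))).Opens := PrimeSpectrum.basicOpen F
  have hP1 : Φ.P (θ ≫ pA ≫ sA) ((γθ ⁻¹ᵁ D).ι ≫ pullback.snd fB (θ ≫ pA)) :=
    Φ.bc ((isPullback_morphismRestrict γθ D).paste_vert hsqθ) h
  rw [reassoc_of% hθc] at hP1
  have hP2 := Φ.post_etale (pA ≫ sA) _ c hP1
  have hfac : ((γθ ⁻¹ᵁ D).ι ≫ pullback.snd fB (θ ≫ pA)) ≫ c = ((γθ ⁻¹ᵁ D).ι ≫ γc) ≫ πT := by
    simp [hsqc.w]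
  rw [hfac] at hP2
  have hP3 := Φ.image πT ((γθ ⁻¹ᵁ D).ι ≫ γc) hP2
  refine ⟨_, ?_, hP3⟩
  let ev' : QT →+* Ω := eval₂Hom ψ.toRingHom w
  have hev'C : ∀ a, ev' (C (algebraMap A Q.Ring a)) = β (algebraMap A B a) := fun a => by
    show eval₂Hom ψ.toRingHom w (C (algebraMap A Q.Ring a)) = _
    rw [eval₂Hom_C]
    exact ψ.commutes a
  let pt : Spec (.of Ω) ⟶ W' := pullback.lift (Spec.map (CommRingCat.ofHom β))
    (Spec.map (CommRingCat.ofHom ev')) (by
      simp only [fB, θ, pA, ← Spec.map_comp]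
      congr 1
      refine CommRingCat.hom_ext (RingHom.ext fun a => ?_)
      show β (algebraMap A B a) = ev' (θR (C a))
      rw [hθC, hev'C])
  have hγc : pt ≫ γc = Spec.map (CommRingCat.ofHom ev) := by
    apply hsq.hom_ext
    · rw [Category.assoc, hsq.lift_fst, pullback.lift_fst, ← Spec.map_comp]
      rfl
    · rw [Category.assoc, hsq.lift_snd, pullback.lift_snd_assoc]
      simp only [c, πT, ← Spec.map_comp]
      congr 1
      refine CommRingCat.hom_ext (MvPolynomial.ringHom_ext (fun a => ?_) (fun i => ?_))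
      · show ev' (cR (C a)) = ev (MvPolynomial.map _ (C a))
        rw [hcC, hev'C, MvPolynomial.map_C]
        rfl
      · show ev' (cR (X i)) = ev (MvPolynomial.map _ (X i))
        rw [hcX, MvPolynomial.map_X]
        exact eval₂Hom_X' _ _ i
  let ev2 : MvPolynomial (Fin n) B →+* Ω := eval₂Hom β fun i => w i + ζ ^ e i
  have hγθ : pt ≫ γθ = Spec.map (CommRingCat.ofHom ev2) := by
    apply hsq.hom_ext
    · rw [Category.assoc, hsq.lift_fst, pullback.lift_fst, ← Spec.map_comp]
      congr 1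
      refine CommRingCat.hom_ext (RingHom.ext fun a => ?_)
      show β a = ev2 (C a)
      simp [ev2]
    · rw [Category.assoc, hsq.lift_snd, pullback.lift_snd_assoc]
      simp only [θ, πT, ← Spec.map_comp]
      congr 1
      refine CommRingCat.hom_ext (MvPolynomial.ringHom_ext (fun a => ?_) (fun i => ?_))
      · show ev' (θR (C a)) = ev2 (MvPolynomial.map _ (C a))
        rw [hθC, hev'C, MvPolynomial.map_C]
        simp [ev2]
      · show ev' (θR (X i)) = ev2 (MvPolynomial.map _ (X i))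
        rw [hθX, MvPolynomial.map_X]
        rw [map_add, show ev' (X i) = w i from eval₂Hom_X' _ _ i,
          show ev' (C (t i)) = ψ (t i) from eval₂Hom_C _ _ _, hψt,
          show ev2 (X i) = w i + ζ ^ e i from eval₂Hom_X' _ _ i]
  have hev2F : ev2 F ≠ 0 := by
    have : (MvPolynomial.eval fun i => ζ ^ e i).comp
        ((translate w).toRingEquiv.toRingHom.comp (MvPolynomial.map β)) = ev2 :=
      MvPolynomial.ringHom_ext (fun a => by simp [translate, ev2])
        (fun i => by simp [translate, ev2, add_comm])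
    rw [← this]
    exact he
  let z : ↥(Spec (.of Ω)) := Classical.arbitrary _
  have hzθ : pt z ∈ γθ ⁻¹ᵁ D := by
    show γθ (pt z) ∈ D
    rw [← Scheme.Hom.comp_apply, hγθ]
    show F ∉ Ideal.comap ev2 z.asIdeal
    rw [Ideal.mem_comap]
    intro hmem
    exact z.isPrime.ne_top (Ideal.eq_top_of_isUnit_mem _ hmem (IsUnit.mk0 _ hev2F))
  refine ⟨⟨pt z, hzθ⟩, ?_⟩
  show γc (pt z) = P
  rw [← Scheme.Hom.comp_apply, hγc]
  refine PrimeSpectrum.ext (Ideal.ext fun x => ?_)
  show ev x ∈ z.asIdeal ↔ x ∈ P.asIdeal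
  rw [← hker]
  refine ⟨fun hx => ?_, fun hx => by rw [hx]; exact z.asIdeal.zero_mem⟩
  by_contra hne
  exact z.isPrime.ne_top (Ideal.eq_top_of_isUnit_mem _ hx (IsUnit.mk0 _ hne))

/-- An affine open through a point lying over a given affine open. -/
theorem exists_spec_over {X Y : Scheme.{u}} {A : CommRingCat.{u}} (f : X ⟶ Y) (j : Spec A ⟶ Y)
    [IsOpenImmersion j] (x : X) (hx : f x ∈ Set.range j) :
    ∃ (B : CommRingCat.{u}) (i : Spec B ⟶ X) (φ : A ⟶ B) (_ : IsOpenImmersion i),
      x ∈ Set.range i ∧ i ≫ f = Spec.map φ ≫ j := by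
  obtain ⟨_, ⟨U, hU, rfl⟩, hxU, hUV⟩ :=
    X.isBasis_affineOpens.exists_subset_of_mem_open (show x ∈ (f ⁻¹ᵁ j.opensRange : Set X) from hx)
      (f ⁻¹ᵁ j.opensRange).2
  have hr : Set.range (hU.fromSpec ≫ f) ⊆ Set.range j := by
    rintro _ ⟨z, rfl⟩
    exact hUV (by rw [← hU.range_fromSpec]; exact ⟨z, rfl⟩)
  refine ⟨_, hU.fromSpec, Spec.preimage (IsOpenImmersion.lift j _ hr), inferInstance,
    by rw [hU.range_fromSpec]; exact hxU, by simp⟩

/-- The property holds near `x` given the etale-smooth data at `x`. -/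
theorem LocProp.local_at {X Y V W U : Scheme.{u}} {sY : Y ⟶ S} (f : X ⟶ Y) (x : X) (b : V ⟶ Y)
    [Smooth b] (p : W ⟶ X) (q : W ⟶ V) (hpq : IsPullback p q f b) (e : U ⟶ W) [Etale e] (u : U)
    (hu : p (e u) = x) (h : Φ.P (b ≫ sY) (e ≫ q)) :
    ∃ X1 : X.Opens, x ∈ X1 ∧ Φ.P sY (X1.ι ≫ f) := by
  obtain ⟨_, ⟨Y1, hY1, rfl⟩, hyY1, -⟩ :=
    Y.isBasis_affineOpens.exists_subset_of_mem_open (Set.mem_univ (f x)) isOpen_univ
  let j := hY1.fromSpec
  have hjr : f x ∈ Set.range j := by rw [hY1.range_fromSpec]; exact hyY1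
  obtain ⟨B, iX, φB, _, hxi, hiX⟩ := exists_spec_over f j x hjr
  have hbv : b (q (e u)) = f x := by
    rw [← hu, ← Scheme.Hom.comp_apply, ← hpq.w, Scheme.Hom.comp_apply]
  obtain ⟨R0, iR, φR, _, hvi, hiR⟩ := exists_spec_over b j (q (e u)) (hbv ▸ hjr)
  obtain ⟨r0, hr0⟩ := hvi
  obtain ⟨xb, rfl⟩ := hxi
  -- standard smooth chart
  have hsm : φR.hom.Smooth := by
    have h1 : Smooth (Spec.map φR) :=
      MorphismProperty.of_isPullback (P := @Smooth)
        (show IsPullback (𝟙 _) (Spec.map φR) (Spec.map φR ≫ j) j from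
          IsPullback.of_horiz_isIso_mono ⟨by simp⟩)
        (by rw [← hiR]; infer_instance)
    exact (HasRingHomProperty.Spec_iff (P := @Smooth)).mp h1
  algebraize [φR.hom]
  have : Algebra.Smooth Γ(Y, Y1) R0 := hsm
  have : Algebra.IsSmoothAt Γ(Y, Y1) r0.asIdeal := inferInstance
  obtain ⟨g, hg, n, algT, htow, hstd⟩ :=
    Algebra.IsSmoothAt.exists_isStandardEtale_mvPolynomial (R := Γ(Y, Y1)) (p := r0.asIdeal)
  let A : CommRingCat.{u} := Γ(Y, Y1)
  let AT : CommRingCat.{u} := .of (MvPolynomial (Fin n) A)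
  let R : CommRingCat.{u} := .of (Localization.Away g)
  let loc : R0 ⟶ R := CommRingCat.ofHom (algebraMap R0 (Localization.Away g))
  have : IsOpenImmersion (Spec.map loc) := IsOpenImmersion.of_isLocalization g
  let α : Spec R ⟶ Spec AT :=
    Spec.map (CommRingCat.ofHom (algebraMap (MvPolynomial (Fin n) A) (Localization.Away g)))
  have : Etale α := by
    rw [HasRingHomProperty.Spec_iff (P := @Etale)]
    exact RingHom.etale_algebraMap.mpr inferInstance
  let pA : Spec AT ⟶ Spec A := Spec.map (CommRingCat.ofHom (C : A →+* MvPolynomial (Fin n) A))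
  let iV : Spec R ⟶ V := Spec.map loc ≫ iR
  have hiV : iV ≫ b = α ≫ pA ≫ j := by
    simp only [iV, Category.assoc, hiR, α, pA, ← Spec.map_comp_assoc]
    congr 2
    ext a
    exact ((IsScalarTower.algebraMap_apply A R0 (Localization.Away g) a).symm.trans
      (IsScalarTower.algebraMap_apply A (MvPolynomial (Fin n) A) (Localization.Away g) a))
  algebraize [φB.hom]
  let fB : Spec B ⟶ Spec A := Spec.map φB
  let πB := Spec.map (CommRingCat.ofHom (C : B →+* MvPolynomial (Fin n) B))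
  let πT := Spec.map (CommRingCat.ofHom (MvPolynomial.map (σ := Fin n) (algebraMap A B)))
  have hsq : IsPullback πB πT fB pA := isPullback_polynomial A B n
  have hW1 : IsPullback (pullback.fst πT α ≫ πB) (pullback.snd πT α) fB (α ≫ pA) :=
    (IsPullback.of_hasPullback πT α).paste_horiz hsq
  let m : pullback πT α ⟶ W :=
    hpq.lift (pullback.fst πT α ≫ πB ≫ iX) (pullback.snd πT α ≫ iV) (by
      have hw := hW1.w
      simp only [Category.assoc] at hw
      simp only [Category.assoc, hiX, hiV]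
      exact (reassoc_of% hw) j)
  have hm : m = hW1.isoPullback.hom ≫ pullback.map fB (α ≫ pA) f b iX iV j hiX.symm
      (by rw [hiV, Category.assoc]) ≫ hpq.isoPullback.inv := by
    rw [← Category.assoc, Iso.eq_comp_inv]
    apply pullback.hom_ext <;> simp [m, pullback.lift_fst, pullback.lift_snd]
  have : IsOpenImmersion m := by rw [hm]; infer_instance
  have hxR : r0 ∈ Set.range (Spec.map loc) := by
    show r0 ∈ Set.range (PrimeSpectrum.comap (algebraMap R0 (Localization.Away g)))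
    rw [PrimeSpectrum.localization_away_comap_range _ g]
    exact hg
  have hmem : e u ∈ Set.range m := by
    obtain ⟨rv, hrv⟩ := hxR
    have hrange : hpq.isoPullback.hom (e u) ∈ Set.range (pullback.map fB (α ≫ pA) f b iX iV j hiX.symm
        (by rw [hiV, Category.assoc])) := by
      rw [Scheme.Pullback.range_map]
      refine ⟨?_, ?_⟩
      · refine ⟨xb, ?_⟩
        rw [← hu, ← Scheme.Hom.comp_apply hpq.isoPullback.hom, hpq.isoPullback_hom_fst]
      · refine ⟨rv, ?_⟩
        rw [← Scheme.Hom.comp_apply hpq.isoPullback.hom, hpq.isoPullback_hom_snd]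
        simp only [iV, Scheme.Hom.comp_apply, hrv, hr0]
    obtain ⟨z, hz⟩ := hrange
    refine ⟨hW1.isoPullback.inv z, ?_⟩
    rw [hm]
    simp only [← Scheme.Hom.comp_apply, Iso.inv_hom_id_assoc]
    rw [Scheme.Hom.comp_apply, hz, ← Scheme.Hom.comp_apply, Iso.hom_inv_id]
    rfl
  obtain ⟨w1, hw1⟩ := hmem
  obtain ⟨u1, hu1, -⟩ := Scheme.Pullback.exists_preimage_pullback (f := m) (g := e) w1 u hw1
  let e1 := pullback.fst m e
  have h1 : Φ.P (b ≫ sY) ((e1 ≫ pullback.snd πT α) ≫ iV) := by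
    have : (e1 ≫ pullback.snd πT α) ≫ iV = pullback.snd m e ≫ e ≫ q := by
      rw [← pullback.condition_assoc]
      simp [e1, m]
    rw [this]
    exact Φ.pre _ h
  have h2 : Φ.P (iV ≫ b ≫ sY) (e1 ≫ pullback.snd πT α) := Φ.factor iV rfl h1
  rw [reassoc_of% hiV] at h2
  have h3 := Φ.post_etale (pA ≫ j ≫ sY) _ α h2
  have hfac : (e1 ≫ pullback.snd πT α) ≫ α = (e1 ≫ pullback.fst πT α) ≫ πT := by
    simp [pullback.condition]
  rw [hfac] at h3
  have h4 := Φ.image πT (e1 ≫ pullback.fst πT α) h3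
  let O : (Spec (.of (MvPolynomial (Fin n) B))).Opens :=
    ⟨Set.range (e1 ≫ pullback.fst πT α), (e1 ≫ pullback.fst πT α).isOpenMap.isOpen_range⟩
  let w0 : ↥(Spec (.of (MvPolynomial (Fin n) B))) := (e1 ≫ pullback.fst πT α) u1
  obtain ⟨_, ⟨F, rfl⟩, hw0F, hFO⟩ :=
    PrimeSpectrum.isTopologicalBasis_basic_opens.exists_subset_of_mem_open
      (show w0 ∈ (O : Set _) from ⟨u1, rfl⟩) O.2
  let D : (Spec (.of (MvPolynomial (Fin n) B))).Opens := PrimeSpectrum.basicOpen F
  have hDO : D ≤ O := hFO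
  have hD : Φ.P (pA ≫ j ≫ sY) (D.ι ≫ πT) := by
    rw [← Scheme.homOfLE_ι _ hDO, Category.assoc]
    exact Φ.pre _ h4
  have hw0x : iX (πB w0) = iX xb := by
    rw [← hu]
    have : p (m ((pullback.fst m e) u1)) = iX (πB (pullback.fst πT α ((pullback.fst m e) u1))) := by
      simp only [← Scheme.Hom.comp_apply]
      simp [m]
    show iX (πB w0) = p (e u)
    rw [← hw1, ← hu1, this]
    rfl
  obtain ⟨d, hd⟩ : ∃ d, F.coeff d ∉ (πB w0).asIdeal := by
    by_contra! hall
    refine hw0F ?_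
    have : F ∈ Ideal.map C (πB w0).asIdeal := MvPolynomial.mem_map_C_iff.mpr hall
    exact Ideal.map_comap_le this
  let Bb : (Spec B).Opens := PrimeSpectrum.basicOpen (F.coeff d)
  have hsat : Φ.P (pA ≫ j ≫ sY) ((πB ⁻¹ᵁ Bb).ι ≫ πT) := by
    refine Φ.zar _ fun z => ?_
    obtain ⟨O', hzO', hO'⟩ := Φ.saturate A B (j ≫ sY) F hD z.1 ⟨d, z.2⟩
    refine ⟨(πB ⁻¹ᵁ Bb).ι ⁻¹ᵁ O', hzO', ?_⟩
    have := Φ.pre ((πB ⁻¹ᵁ Bb).ι ∣_ O') hO'
    rwa [morphismRestrict_ι_assoc] at this
  have : Surjective pA := ⟨fun z => ⟨Spec.map (CommRingCat.ofHom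
    (MvPolynomial.eval₂Hom (RingHom.id A) (fun _ : Fin n => (0 : A)))) z, by
    rw [← Scheme.Hom.comp_apply, ← Spec.map_comp]
    have : CommRingCat.ofHom (C : A →+* MvPolynomial (Fin n) A) ≫ CommRingCat.ofHom
        (MvPolynomial.eval₂Hom (RingHom.id A) (fun _ : Fin n => (0 : A))) = 𝟙 A := by
      ext a; simp; rfl
    erw [this, Spec.map_id]
    rfl⟩⟩
  have : Smooth pA := by
    rw [HasRingHomProperty.Spec_iff (P := @Smooth)]
    exact RingHom.smooth_algebraMap.mpr
      (Algebra.Smooth.mk (R := A) (A := MvPolynomial (Fin n) A) inferInstance inferInstance)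
  have h5 : Φ.P (j ≫ sY) (Bb.ι ≫ fB) :=
    Φ.desc ((isPullback_morphismRestrict πB Bb).paste_vert hsq) hsat
  have h6 := Φ.openPost j h5
  rw [Category.assoc, ← hiX, ← Category.assoc] at h6
  refine ⟨(Bb.ι ≫ iX).opensRange, ⟨⟨πB w0, hd⟩, hw0x⟩, ?_⟩
  have := Φ.pre (Bb.ι ≫ iX).isoOpensRange.inv h6
  rwa [← Category.assoc, Scheme.Hom.isoOpensRange_inv_comp] at this

theorem LocProp.locality {X Y : Scheme.{u}} {sY : Y ⟶ S} (f : X ⟶ Y)
    (h : ∀ x : X, ∃ (V W U : Scheme.{u}) (b : V ⟶ Y) (p : W ⟶ X) (q : W ⟶ V) (e : U ⟶ W) (u : U),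
      Smooth b ∧ IsPullback p q f b ∧ Etale e ∧ p (e u) = x ∧ Φ.P (b ≫ sY) (e ≫ q)) :
    Φ.P sY f :=
  Φ.zar f fun x => by
    obtain ⟨V, W, U, b, p, q, e, u, hb, hsq, he, hu, hP⟩ := h x
    exact Φ.local_at f x b p q hsq e u hu hP

end Groth.Agent.H22.LocST
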