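import Groth.Agent.Lib.AlgSpFpqc.ST
import Groth.Agent.H22.LocSTLocal

/-!
Algebraic spaces: a property etale local on the source, smooth local on the base and stable under
postcomposition with open immersions is etale-smooth local on the source-and-target.
-/

set_option autoImplicit false
set_option maxHeartbeats 1000000
set_option backward.isDefEq.respectTransparency false
set_option backward.isDefEq.respectTransparency.types false

universe u

open CategoryTheory CategoryTheory.Limits AlgebraicGeometry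

namespace Groth.Agent.H22.LocSTSpace

open AlgSp (Sp yon IsAlgSpace RepWith LocP Points IsEtaleMor)
open Groth.Agent.Lib.AlgSpace Groth.Agent.Lib
open Groth.Agent.Lib.AlgSpFpqc

variable {S : Scheme.{u}} {P : MorphismProperty (Sp S)}
  (h1 : AlgSp.IsLocalOnSource (AlgSp.IsEtCover (S := S)) P)
  (h2 : AlgSp.IsLocalOnBase (AlgSp.IsSmCover (S := S)) P)
  (h3 : ∀ ⦃X Y Z : AlgSp.Space S⦄ (f : X ⟶ Y) (j : Y ⟶ Z), P f.hom →
    AlgSp.RepWith @IsOpenImmersion j.hom → P (f ≫ j).hom)

theorem smooth_yon {A B : Over S} (φ : A ⟶ B) [Smooth φ.left] : LocP @Smooth ((yon S).map φ) :=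
  AlgSpMor.LocP.locP_of_repWith SourceDescent.Scheme.smooth
    ((AlgSp.repWith_yon_map_iff _ _).2 inferInstance)

theorem etale_yon {A B : Over S} (φ : A ⟶ B) [Etale φ.left] : IsEtaleMor ((yon S).map φ) :=
  (AlgSp.isEtaleMor_yon_map_iff φ).2 inferInstance

include h1 in
theorem of_pre {A B : Over S} {Z : Sp S} (hZ : IsAlgSpace Z) (g : A ⟶ B) [Etale g.left]
    {f : (yon S).obj B ⟶ Z} (h : P f) : P ((yon S).map g ≫ f) :=
  ST.precomp_of_source h1 (IsAlgSpace.yon_obj A) (IsAlgSpace.yon_obj B) hZ (etale_yon g)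
    (ST.etale_id (IsAlgSpace.yon_obj B)) h

/-- The morphism over `S` attached to a morphism of schemes into a scheme over `S`. -/
abbrev hm {X Y : Scheme.{u}} (sY : Y ⟶ S) (f : X ⟶ Y) : Over.mk (f ≫ sY) ⟶ Over.mk sY :=
  Over.homMk f rfl

include h1 in
theorem iff_hm {A B : Over S} (φ : A ⟶ B) : P ((yon S).map φ) ↔ P ((yon S).map (hm B.hom φ.left)) := by
  let e : A ≅ Over.mk (φ.left ≫ B.hom) := Over.isoMk (Iso.refl _) (by simp)
  have : Etale e.hom.left := inferInstanceAs (Etale (𝟙 _))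
  have : Etale e.inv.left := inferInstanceAs (Etale (𝟙 _))
  have he : φ = e.hom ≫ hm B.hom φ.left := by ext; simp [e]
  constructor
  · intro h
    have := of_pre h1 (IsAlgSpace.yon_obj B) e.inv h
    rw [← Functor.map_comp] at this
    have h' : e.inv ≫ φ = hm B.hom φ.left := by ext; simp [e]
    rwa [h'] at this
  · intro h
    have := of_pre h1 (IsAlgSpace.yon_obj B) e.hom
      (f := (yon S).map (hm B.hom φ.left)) h
    rw [← Functor.map_comp, ← he] at this
    exact this

theorem points_surjective {T : Over S} (y : Points ((yon S).obj T)) :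
    ∃ t, AlgSp.Points.schemeHomeo T t = y :=
  (AlgSp.Points.schemeHomeo T).surjective y

/-- The induced property of morphisms of schemes. -/
noncomputable def locProp (h1 : AlgSp.IsLocalOnSource (AlgSp.IsEtCover (S := S)) P)
    (h2 : AlgSp.IsLocalOnBase (AlgSp.IsSmCover (S := S)) P)
    (h3 : ∀ ⦃X Y Z : AlgSp.Space S⦄ (f : X ⟶ Y) (j : Y ⟶ Z), P f.hom →
      AlgSp.RepWith @IsOpenImmersion j.hom → P (f ≫ j).hom) : H22.LocST.LocProp S where
  P sY f := P ((yon S).map (hm sY f))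
  pre {X' X Y sY} g _ f h := by
    let gH : Over.mk (g ≫ f ≫ sY) ⟶ Over.mk (f ≫ sY) := Over.homMk g rfl
    have : Etale gH.left := inferInstanceAs (Etale g)
    have := of_pre h1 (IsAlgSpace.yon_obj _) gH h
    rw [← Functor.map_comp, iff_hm h1] at this
    exact this
  glue {X Y sY} f ι Xi g hg hcov h := by
    let gH : ∀ i, Over.mk (g i ≫ f ≫ sY) ⟶ Over.mk (f ≫ sY) := fun i => Over.homMk (g i) rfl
    refine (h1 (fun i => (yon S).obj (Over.mk (g i ≫ f ≫ sY))) (fun i => (yon S).map (gH i))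
      (IsAlgSpace.yon_obj _) (fun i => IsAlgSpace.yon_obj _) ⟨fun i => ?_, fun x => ?_⟩ _
      (IsAlgSpace.yon_obj _)).2 fun i => ?_
    · have : Etale (gH i).left := hg i
      exact etale_yon _
    · obtain ⟨t, rfl⟩ := points_surjective x
      obtain ⟨i, t', rfl⟩ := hcov t
      exact ⟨i, AlgSp.Points.schemeHomeo _ t', AlgSp.Points.map_yon_map_apply _ _⟩
    · rw [← Functor.map_comp, iff_hm h1]
      exact h i
  bc {X Y X' Y' sY f q p b} _ sq h := by
    let bH : Over.mk (b ≫ sY) ⟶ Over.mk sY := Over.homMk b rfl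
    let qH : Over.mk (p ≫ b ≫ sY) ⟶ Over.mk (f ≫ sY) := Over.homMk q (by simp [sq.w_assoc])
    have : Smooth bH.left := inferInstanceAs (Smooth b)
    have sq' : IsPullback qH (hm (b ≫ sY) p) (hm sY f) bH :=
      IsPullback.of_map (Over.forget S) (by ext; exact sq.w) sq
    exact ST.baseChange_of_base h2 (IsAlgSpace.yon_obj _) (IsAlgSpace.yon_obj _)
      (IsAlgSpace.yon_obj _) (IsAlgSpace.yon_obj _) (isPullback_yon sq') (smooth_yon bH)
      (ST.smooth_id _) h
  desc {X Y X' Y' sY f q p b} _ _ sq h := by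
    let bH : Over.mk (b ≫ sY) ⟶ Over.mk sY := Over.homMk b rfl
    let qH : Over.mk (p ≫ b ≫ sY) ⟶ Over.mk (f ≫ sY) := Over.homMk q (by simp [sq.w_assoc])
    have : Smooth bH.left := inferInstanceAs (Smooth b)
    have sq' : IsPullback qH (hm (b ≫ sY) p) (hm sY f) bH :=
      IsPullback.of_map (Over.forget S) (by ext; exact sq.w) sq
    refine (h2 (fun _ : PUnit.{u + 1} => (yon S).obj (Over.mk (b ≫ sY)))
      (fun _ => (yon S).map bH) (IsAlgSpace.yon_obj _) (fun _ => IsAlgSpace.yon_obj _)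
      ⟨fun _ => smooth_yon bH, fun y => ?_⟩ _ (IsAlgSpace.yon_obj _) (fun _ => _)
      (fun _ => (yon S).map (hm (b ≫ sY) p)) (fun _ => (yon S).map qH)
      (fun _ => IsAlgSpace.yon_obj _) fun _ => isPullback_yon sq').2 fun _ => h
    obtain ⟨t, rfl⟩ := points_surjective y
    obtain ⟨t', ht'⟩ := b.surjective t
    refine ⟨⟨⟩, AlgSp.Points.schemeHomeo _ t', ?_⟩
    rw [AlgSp.Points.map_yon_map_apply]
    exact congrArg _ ht'
  openPost {X Y Z sZ} j _ f h := by
    let jH : Over.mk (j ≫ sZ) ⟶ Over.mk sZ := Over.homMk j rfl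
    have := h3 (X := ⟨_, IsAlgSpace.yon_obj _⟩) (Y := ⟨_, IsAlgSpace.yon_obj _⟩)
      (Z := ⟨_, IsAlgSpace.yon_obj _⟩) ⟨(yon S).map (hm (j ≫ sZ) f)⟩ ⟨(yon S).map jH⟩ h
      ((AlgSp.repWith_yon_map_iff _ _).2 (inferInstanceAs (IsOpenImmersion j)))
    change P ((yon S).map (hm (j ≫ sZ) f) ≫ (yon S).map jH) at this
    rw [← Functor.map_comp, iff_hm h1] at this
    exact this

theorem etale_of_locP {A B : Over S} {φ : A ⟶ B} (h : LocP @Etale ((yon S).map φ)) : Etale φ.left :=
  h (𝟙 _) (𝟙 _) φ (AlgSp.repWith_id _ A) (AlgSp.repWith_id _ B)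
    (by rw [Category.id_comp, Category.comp_id])

theorem smooth_of_locP {A B : Over S} {φ : A ⟶ B} (h : LocP @Smooth ((yon S).map φ)) :
    Smooth φ.left :=
  h (𝟙 _) (𝟙 _) φ (AlgSp.repWith_id _ A) (AlgSp.repWith_id _ B)
    (by rw [Category.id_comp, Category.comp_id])

theorem locP_etale_of_rep {X Y : Sp S} {f : X ⟶ Y} (h : RepWith @Etale f) : LocP @Etale f :=
  AlgSpMor.LocP.locP_of_repWith SourceDescent.Scheme.etale h

theorem locP_smooth_of_rep {X Y : Sp S} {f : X ⟶ Y} (h : RepWith @Etale f) : LocP @Smooth f :=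
  AlgSpMor.LocP.locP_of_repWith SourceDescent.Scheme.smooth
    (repWith_mono h fun _ _ g (_ : Etale g) => inferInstanceAs (Smooth g))

include h1 h2 h3 in
theorem locality {X Y : Sp S} (hX : IsAlgSpace X) (hY : IsAlgSpace Y) (f : X ⟶ Y)
    (hf : ∀ x : Points X, ∃ (V W U : Sp S) (b : V ⟶ Y) (p : W ⟶ X) (q : W ⟶ V) (e : U ⟶ W)
      (v : Points U), IsAlgSpace V ∧ IsAlgSpace W ∧ IsAlgSpace U ∧ LocP @Smooth b ∧
      IsPullback p q f b ∧ IsEtaleMor e ∧ Points.map (e ≫ p) v = x ∧ P (e ≫ q)) : P f := by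
  have het := SourceDescent.Scheme.etale.{u}
  have hsm := SourceDescent.Scheme.smooth.{u}
  obtain ⟨Y0, c0, hc0, hc0s⟩ := hY.atlas
  have sqX := IsPullback.of_hasPullback f c0
  have hX' : IsAlgSpace (pullback f c0) :=
    isAlgSpace_of_isPullback sqX hY.diag hX (IsAlgSpace.yon_obj Y0)
  refine (h2 (fun _ : PUnit.{u + 1} => (yon S).obj Y0) (fun _ => c0) hY
    (fun _ => IsAlgSpace.yon_obj Y0) ⟨fun _ => locP_smooth_of_rep hc0, fun y => ?_⟩ f hX
    (fun _ => pullback f c0) (fun _ => pullback.snd f c0) (fun _ => pullback.fst f c0)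
    (fun _ => hX') fun _ => sqX).2 fun _ => ?_
  · obtain ⟨t, ht⟩ := surjective_map hc0s y
    exact ⟨⟨⟩, t, ht⟩
  obtain ⟨A, a, ha, has⟩ := hX'.atlas
  refine (h1 (fun _ : PUnit.{u + 1} => (yon S).obj A) (fun _ => a) hX'
    (fun _ => IsAlgSpace.yon_obj A) ⟨fun _ => (AlgStack.Source.isEtaleMor_iff
      (IsAlgSpace.yon_obj A) hX' a).2 (locP_etale_of_rep ha), fun y => ?_⟩ _
    (IsAlgSpace.yon_obj Y0)).2 fun _ => ?_
  · obtain ⟨t, ht⟩ := surjective_map has y
    exact ⟨⟨⟩, t, ht⟩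
  obtain ⟨φ, hφ⟩ := (yon S).map_surjective (a ≫ pullback.snd f c0)
  rw [← hφ, iff_hm h1]
  refine (locProp h1 h2 h3).locality φ.left fun z => ?_
  obtain ⟨V, W, U, b, p, q, e, v, hV, hW, hU, hb, sqW, he, hv, hP⟩ :=
    hf (Points.map (a ≫ pullback.fst f c0) (AlgSp.Points.schemeHomeo A z))
  have sqV := IsPullback.of_hasPullback b c0
  have hV' : IsAlgSpace (pullback b c0) :=
    isAlgSpace_of_isPullback sqV hY.diag hV (IsAlgSpace.yon_obj Y0)
  obtain ⟨V1, cV, hcV, hcVs⟩ := hV'.atlas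
  obtain ⟨b1, hb1⟩ := (yon S).map_surjective (cV ≫ pullback.snd b c0)
  let k : (yon S).obj V1 ⟶ V := cV ≫ pullback.fst b c0
  have hk : LocP @Etale k :=
    AlgSpMor.LocP.locP_comp het (IsAlgSpace.yon_obj V1) hV' hV (locP_etale_of_rep hcV)
      (AlgSpMor.LocP.locP_of_isPullback het (IsAlgSpace.yon_obj Y0) hY hV sqV.flip
        (locP_etale_of_rep hc0))
  have hks : LocP @Smooth k :=
    ST.smooth_of_etale (IsAlgSpace.yon_obj V1) hV
      ((AlgStack.Source.isEtaleMor_iff (IsAlgSpace.yon_obj V1) hV k).2 hk)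
  have hb1s : Smooth b1.left := smooth_of_locP (by
    rw [hb1]
    exact AlgSpMor.LocP.locP_comp hsm (IsAlgSpace.yon_obj V1) hV' (IsAlgSpace.yon_obj Y0)
      (locP_smooth_of_rep hcV)
      (AlgSpMor.LocP.locP_of_isPullback hsm hV hY (IsAlgSpace.yon_obj Y0) sqV hb))
  -- the scheme `W1`
  have sqO := IsPullback.of_hasPullback φ b1
  have sq1 := isPullback_yon sqO
  have sqW' := IsPullback.of_hasPullback q k
  have hkb : k ≫ b = (yon S).map b1 ≫ c0 := by
    rw [hb1]; simp [k, pullback.condition]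
  have sqWY : IsPullback (pullback.fst q k ≫ p) (pullback.snd q k) f ((yon S).map b1 ≫ c0) := by
    rw [← hkb]; exact sqW'.paste_horiz sqW
  have hW' : IsAlgSpace (pullback q k) :=
    isAlgSpace_of_isPullback sqW' hV.diag hW (IsAlgSpace.yon_obj V1)
  let π : pullback q k ⟶ pullback f c0 :=
    sqX.lift (pullback.fst q k ≫ p) (pullback.snd q k ≫ (yon S).map b1)
      (by rw [sqWY.w, Category.assoc])
  have sqπ : IsPullback π (pullback.snd q k) (pullback.snd f c0) ((yon S).map b1) :=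
    IsPullback.of_right (by rw [sqX.lift_fst]; exact sqWY) (sqX.lift_snd _ _ _) sqX
  let ω' : (yon S).obj (pullback φ b1) ⟶ pullback q k :=
    sqπ.lift ((yon S).map (pullback.fst φ b1) ≫ a) ((yon S).map (pullback.snd φ b1))
      (by rw [Category.assoc, ← hφ, sq1.w])
  have sqω : IsPullback ((yon S).map (pullback.fst φ b1)) ω' a π :=
    IsPullback.of_bot (by rw [sqπ.lift_snd, ← hφ]; exact sq1) (sqπ.lift_fst _ _ _).symm sqπ
  have hω' : LocP @Etale ω' :=
    AlgSpMor.LocP.locP_of_isPullback het (IsAlgSpace.yon_obj A) hX' hW' sqω (locP_etale_of_rep ha)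
  let ω : (yon S).obj (pullback φ b1) ⟶ W := ω' ≫ pullback.fst q k
  have hω : LocP @Etale ω :=
    AlgSpMor.LocP.locP_comp het (IsAlgSpace.yon_obj _) hW' hW hω'
      (AlgSpMor.LocP.locP_of_isPullback het (IsAlgSpace.yon_obj V1) hV hW sqW'.flip hk)
  have hωp : ω ≫ p = (yon S).map (pullback.fst φ b1) ≫ a ≫ pullback.fst f c0 := by
    have h' : π ≫ pullback.fst f c0 = pullback.fst q k ≫ p := sqX.lift_fst _ _ _
    simp only [ω, Category.assoc, ← h']
    rw [← Category.assoc ω', sqπ.lift_fst, Category.assoc]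
  have hωq : ω ≫ q = (yon S).map (pullback.snd φ b1) ≫ k := by
    simp only [ω, Category.assoc, sqW'.w]
    rw [← Category.assoc ω', sqπ.lift_snd]
  -- a point of `W1` over `z` and over the point of `U`
  obtain ⟨t, ht1, ht2⟩ := exists_of_isPullback (IsPullback.of_hasPullback (a ≫ pullback.fst f c0) p)
    (AlgSp.Points.schemeHomeo A z) (Points.map e v)
    (by rw [← hv, Points.map_comp])
  let τ : pullback (a ≫ pullback.fst f c0) p ⟶ pullback b c0 :=
    pullback.lift (pullback.snd _ _ ≫ q) (pullback.fst _ _ ≫ (yon S).map φ) (by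
      simp only [Category.assoc, ← sqW.w, hφ, ← pullback.condition, ← pullback.condition_assoc])
  obtain ⟨v1, hv1⟩ := surjective_map hcVs (Points.map τ t)
  obtain ⟨t1, ht11, -⟩ := exists_of_isPullback (IsPullback.of_hasPullback τ cV) t v1 hv1.symm
  let σ : pullback τ cV ⟶ (yon S).obj (pullback φ b1) :=
    sq1.lift (pullback.fst τ cV ≫ pullback.fst _ _) (pullback.snd τ cV) (by
      have : τ ≫ pullback.snd b c0 = pullback.fst _ _ ≫ (yon S).map φ := pullback.lift_snd _ _ _
      rw [Category.assoc, ← this, pullback.condition_assoc, hb1])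
  have hσω : σ ≫ ω = pullback.fst τ cV ≫ pullback.snd (a ≫ pullback.fst f c0) p := by
    apply sqW.hom_ext
    · rw [Category.assoc, hωp, ← Category.assoc σ, sq1.lift_fst]
      simp only [Category.assoc]
      rw [← pullback.condition]
    · rw [Category.assoc, hωq, ← Category.assoc σ, sq1.lift_snd]
      have : τ ≫ pullback.fst b c0 = pullback.snd _ _ ≫ q := pullback.lift_fst _ _ _
      simp only [k, Category.assoc]
      rw [← pullback.condition_assoc, this]
  have hw1ω : Points.map ω (Points.map σ t1) = Points.map e v := by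
    rw [← Points.map_comp, hσω, Points.map_comp, ht11, ht2]
  have hw1A : Points.map ((yon S).map (pullback.fst φ b1)) (Points.map σ t1) =
      AlgSp.Points.schemeHomeo A z := by
    rw [← Points.map_comp, sq1.lift_fst, Points.map_comp, ht11, ht1]
  -- the chart of `U ×_W W1`
  have sqU := IsPullback.of_hasPullback e ω
  have hU1 : IsAlgSpace (pullback e ω) :=
    isAlgSpace_of_isPullback sqU hW.diag hU (IsAlgSpace.yon_obj _)
  have he' := (AlgStack.Source.isEtaleMor_iff hU hW e).1 he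
  obtain ⟨u, hu1, hu2⟩ := exists_of_isPullback sqU v (Points.map σ t1) hw1ω.symm
  obtain ⟨U2, cU, hcU, hcUs⟩ := hU1.atlas
  obtain ⟨u2, hu2'⟩ := surjective_map hcUs u
  obtain ⟨ψ, hψ⟩ := (yon S).map_surjective (cU ≫ pullback.snd e ω)
  have hψe : Etale ψ.left := etale_of_locP (by
    rw [hψ]
    exact AlgSpMor.LocP.locP_comp het (IsAlgSpace.yon_obj U2) hU1 (IsAlgSpace.yon_obj _)
      (locP_etale_of_rep hcU)
      (AlgSpMor.LocP.locP_of_isPullback het hU hW (IsAlgSpace.yon_obj _) sqU he'))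
  obtain ⟨z2, rfl⟩ := points_surjective u2
  refine ⟨V1.left, (pullback φ b1).left, U2.left, b1.left, (pullback.fst φ b1).left,
    (pullback.snd φ b1).left, ψ.left, z2, hb1s, sqO.map (Over.forget S), hψe, ?_, ?_⟩
  · apply (AlgSp.Points.schemeHomeo A).injective
    rw [← AlgSp.Points.map_yon_map_apply, ← AlgSp.Points.map_yon_map_apply, hψ,
      Points.map_comp, hu2', hu2, hw1A]
  · -- the property of `U2 ⟶ V1`
    have sqU' := IsPullback.of_hasPullback (e ≫ q) k
    have hU' : IsAlgSpace (pullback (e ≫ q) k) :=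
      isAlgSpace_of_isPullback sqU' hV.diag hU (IsAlgSpace.yon_obj V1)
    have hPU' : P (pullback.snd (e ≫ q) k) :=
      ST.baseChange_of_base h2 hU hV (IsAlgSpace.yon_obj V1) hU' sqU' hks (ST.smooth_id _) hP
    have hfac : (cU ≫ pullback.fst e ω) ≫ e ≫ q = (yon S).map (ψ ≫ pullback.snd φ b1) ≫ k := by
      rw [Functor.map_comp, hψ]
      simp only [Category.assoc, ← hωq]
      rw [pullback.condition_assoc]
    let g : (yon S).obj U2 ⟶ pullback (e ≫ q) k := pullback.lift (cU ≫ pullback.fst e ω) _ hfac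
    have hg : IsEtaleMor g := by
      refine (AlgStack.Source.isEtaleMor_iff (IsAlgSpace.yon_obj U2) hU' g).2
        (AlgSpMor.LocP.locP_of_comp (P := @Etale) (R := @Etale) het
          (fun a b (_ : Etale (a ≫ b)) (_ : Etale b) ↦ Etale.of_comp a b) (IsAlgSpace.yon_obj U2)
          hU' hU ?_ (AlgSpMor.LocP.locP_of_isPullback het (IsAlgSpace.yon_obj V1) hV hU
            sqU'.flip hk))
      rw [pullback.lift_fst]
      exact AlgSpMor.LocP.locP_comp het (IsAlgSpace.yon_obj U2) hU1 hU (locP_etale_of_rep hcU)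
        (AlgSpMor.LocP.locP_of_isPullback het (IsAlgSpace.yon_obj _) hW hU sqU.flip hω)
    have := ST.precomp_of_source h1 (IsAlgSpace.yon_obj U2) hU' (IsAlgSpace.yon_obj V1) hg
      (ST.etale_id hU') hPU'
    rw [pullback.lift_snd, iff_hm h1] at this
    show P ((yon S).map (hm (b1.left ≫ Y0.hom) (ψ.left ≫ (pullback.snd φ b1).left)))
    rw [Over.w b1]
    exact this

include h1 h2 h3 in
theorem etST_of_local : AlgSp.IsEtaleSmoothLocalST P where
  precomp _ Y _ hX hY hZ _ _ hf hg := ST.precomp_of_source h1 hX hY hZ hf (ST.etale_id hY) hg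
  baseChange _ Y _ _ hX hY hX' hY' _ _ _ _ sq hg hf :=
    ST.baseChange_of_base h2 hX hY hY' hX' sq hg (ST.smooth_id Y) hf
  locality X Y hX hY f := by
    refine ⟨fun hf x ↦ ⟨Y, X, X, 𝟙 Y, 𝟙 X, f, 𝟙 X, x, hY, hX, hX, ST.smooth_id Y,
      ST.isPullback_id f, ST.etale_id hX, by rw [Category.id_comp]; exact ST.points_map_id x,
      by rw [Category.id_comp]; exact hf⟩, fun h ↦ locality h1 h2 h3 hX hY f h⟩

end Groth.Agent.H22.LocSTSpace
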