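import Groth.Agent.H22.Nil
import Mathlib.RingTheory.Artinian.Ring
import Mathlib.LinearAlgebra.Basis.VectorSpace
import Mathlib.RingTheory.Ideal.Quotient.Operations

/-! Flat modules over a local ring with nilpotent maximal ideal. -/

open TensorProduct LinearMap IsLocalRing

namespace Groth.Agent.H22.NilLocal

universe u v w

variable {A : Type u} [CommRing A] [IsLocalRing A]
variable {M : Type v} [AddCommGroup M] [Module A M] {N : Type w} [AddCommGroup N] [Module A N]

theorem isNilpotent_maximal [IsArtinianRing A] : IsNilpotent (maximalIdeal A) := by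
  have := IsArtinianRing.isNilpotent_jacobson_bot (R := A)
  rwa [IsLocalRing.jacobson_eq_maximalIdeal (⊥ : Ideal A) bot_ne_top] at this

theorem projective_quotient (V : Type*) [AddCommGroup V] [Module (A ⧸ maximalIdeal A) V] :
    Module.Projective (A ⧸ maximalIdeal A) V := by
  let _ : Field (A ⧸ maximalIdeal A) := Ideal.Quotient.field _
  infer_instance

theorem exists_retraction (hA : IsNilpotent (maximalIdeal A)) [Module.Flat A M] [Module.Flat A N]
    (f : M →ₗ[A] N) (hf : Function.Injective (f.lTensor (A ⧸ maximalIdeal A))) :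
    ∃ r : N →ₗ[A] M, r ∘ₗ f = LinearMap.id := by
  let _ : Field (A ⧸ maximalIdeal A) := Ideal.Quotient.field _
  obtain ⟨r₀, hr₀⟩ := (f.baseChange (A ⧸ maximalIdeal A)).exists_leftInverse_of_injective
    (ker_eq_bot.2 hf)
  have : Module.Projective A N := by
    have := projective_quotient (A := A) ((A ⧸ maximalIdeal A) ⊗[A] N)
    exact Nil.projective_of_quotient hA
  obtain ⟨r, hr⟩ := Nil.exists_lift (A ⧸ maximalIdeal A) Ideal.Quotient.mk_surjective r₀
  have : Function.Bijective (r ∘ₗ f) := by
    refine Nil.bijective_of_lTensor hA _ ?_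
    rw [← Nil.baseChange_eq_lTensor, baseChange_comp, hr, hr₀]
    exact Function.bijective_id
  exact ⟨(LinearEquiv.ofBijective _ this).symm.toLinearMap ∘ₗ r,
    LinearMap.ext fun x => (LinearEquiv.ofBijective _ this).symm_apply_apply x⟩

theorem injective_of_lTensor (hA : IsNilpotent (maximalIdeal A)) [Module.Flat A M] [Module.Flat A N]
    (f : M →ₗ[A] N) (hf : Function.Injective (f.lTensor (A ⧸ maximalIdeal A))) :
    Function.Injective f := by
  obtain ⟨r, hr⟩ := exists_retraction hA f hf
  exact (LinearMap.congr_fun hr : ∀ x, r (f x) = x) |> Function.LeftInverse.injective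

theorem baseChange_linearCombination {ι : Type*} [DecidableEq ι] (I : Ideal A) (v : ι → M) :
    (Finsupp.linearCombination A v).baseChange (A ⧸ I) =
      Finsupp.linearCombination (A ⧸ I) (fun i => (1 : A ⧸ I) ⊗ₜ[A] v i) ∘ₗ
        (TensorProduct.finsuppScalarRight A (A ⧸ I) (A ⧸ I) ι).toLinearMap := by
  refine TensorProduct.AlgebraTensorModule.ext fun b x => ?_
  induction x using Finsupp.induction_linear with
  | zero => simp
  | add x y hx hy => simp only [tmul_add, map_add, hx, hy]
  | single i a =>
    rw [baseChange_tmul, LinearMap.comp_apply, LinearEquiv.coe_coe,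
      TensorProduct.finsuppScalarRight_apply_tmul, Finsupp.sum_single_index (by simp),
      Finsupp.linearCombination_single, Finsupp.linearCombination_single, tmul_smul, smul_tmul',
      smul_tmul' (a • b), smul_eq_mul, mul_one]

theorem bijective_linearCombination_of_mod (hA : IsNilpotent (maximalIdeal A)) [Module.Flat A M]
    {ι : Type*} (v : ι → M)
    (h : LinearIndependent (A ⧸ maximalIdeal A)
        (fun i => (1 : A ⧸ maximalIdeal A) ⊗ₜ[A] v i) ∧
      Submodule.span (A ⧸ maximalIdeal A)
        (Set.range fun i => (1 : A ⧸ maximalIdeal A) ⊗ₜ[A] v i) = ⊤) :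
    Function.Bijective (Finsupp.linearCombination A v) := by
  classical
  refine Nil.bijective_of_lTensor hA _ ?_
  rw [← Nil.baseChange_eq_lTensor, baseChange_linearCombination, coe_comp]
  refine Function.Bijective.comp ⟨h.1, ?_⟩ (LinearEquiv.bijective _)
  rw [← range_eq_top, Finsupp.range_linearCombination]
  exact h.2

theorem basis_iff (hA : IsNilpotent (maximalIdeal A)) [Module.Flat A M] {ι : Type*} (v : ι → M) :
    (LinearIndependent A v ∧ Submodule.span A (Set.range v) = ⊤) ↔
      (LinearIndependent (A ⧸ maximalIdeal A) (fun i => (1 : A ⧸ maximalIdeal A) ⊗ₜ[A] v i) ∧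
        Submodule.span (A ⧸ maximalIdeal A)
          (Set.range fun i => (1 : A ⧸ maximalIdeal A) ⊗ₜ[A] v i) = ⊤) := by
  constructor
  · rintro ⟨h1, h2⟩
    let b := (Module.Basis.mk h1 h2.ge).baseChange (A ⧸ maximalIdeal A)
    have : (fun i => (1 : A ⧸ maximalIdeal A) ⊗ₜ[A] v i) = b := by
      funext i; simp [b]
    rw [this]
    exact ⟨b.linearIndependent, b.span_eq⟩
  · intro h
    have := bijective_linearCombination_of_mod hA v h
    exact ⟨this.1, by rw [← Finsupp.range_linearCombination]; exact range_eq_top.2 this.2⟩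

theorem flat_coker_of_lTensor_injective (hA : IsNilpotent (maximalIdeal A))
    {P : Type*} [AddCommGroup P] [Module A P] [Module.Flat A N]
    (f : M →ₗ[A] N) (g : N →ₗ[A] P)
    (hg : Function.Surjective g) (hfg : Function.Exact f g)
    (hinj : Function.Injective (f.lTensor (A ⧸ maximalIdeal A))) : Module.Flat A P := by
  classical
  let _ : Field (A ⧸ maximalIdeal A) := Ideal.Quotient.field _
  let b := Module.Free.chooseBasis (A ⧸ maximalIdeal A) ((A ⧸ maximalIdeal A) ⊗[A] M)
  choose v hv using fun i =>
    TensorProduct.mk_surjective A M (A ⧸ maximalIdeal A) Ideal.Quotient.mk_surjective (b i)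
  let φ := Finsupp.linearCombination A v
  have hφs : Function.Surjective φ := by
    refine Nil.surjective_of_lTensor hA φ ?_
    rw [← Nil.baseChange_eq_lTensor, baseChange_linearCombination, coe_comp]
    refine Function.Surjective.comp ?_ (LinearEquiv.surjective _)
    rw [← range_eq_top, Finsupp.range_linearCombination]
    convert b.span_eq with i
    exact hv i
  have hφb : Function.Injective (φ.lTensor (A ⧸ maximalIdeal A)) := by
    rw [← Nil.baseChange_eq_lTensor, baseChange_linearCombination, coe_comp]
    refine Function.Injective.comp ?_ (LinearEquiv.injective _)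
    have : (fun i => (1 : A ⧸ maximalIdeal A) ⊗ₜ[A] v i) = b := funext hv
    rw [this]
    exact b.linearIndependent
  obtain ⟨r, hr⟩ := exists_retraction hA (f ∘ₗ φ)
    (by rw [lTensor_comp, coe_comp]; exact hinj.comp hφb)
  -- `id - f φ r` factors through `g` and splits it
  let s₀ := LinearMap.id - (f ∘ₗ φ) ∘ₗ r
  have hs₀ : ker g ≤ ker s₀ := by
    intro x hx
    obtain ⟨m, rfl⟩ := (hfg x).1 hx
    obtain ⟨y, rfl⟩ := hφs m
    have : r (f (φ y)) = y := LinearMap.congr_fun hr y
    simp [s₀, this]
  let s := (ker g).liftQ s₀ hs₀ ∘ₗ (g.quotKerEquivOfSurjective hg).symm.toLinearMap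
  refine Module.Flat.of_retract s g ?_
  refine LinearMap.ext fun p => ?_
  obtain ⟨x, rfl⟩ := hg p
  have : (g.quotKerEquivOfSurjective hg).symm (g x) = Submodule.Quotient.mk x :=
    (LinearEquiv.symm_apply_eq _).2 rfl
  simp [s, this, s₀, hfg.apply_apply_eq_zero]

end Groth.Agent.H22.NilLocal
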