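import Mathlib

set_option autoImplicit false
universe u

namespace Groth.Agent.H22.NormLoc

variable {k : Type u} [Field k]

theorem det_blockDiagonal' {R : Type u} [CommRing R] {ι : Type u} [Fintype ι] [DecidableEq ι]
    {m : ι → Type u} [∀ i, Fintype (m i)] [∀ i, DecidableEq (m i)] (d : ∀ i, Matrix (m i) (m i) R) :
    (Matrix.blockDiagonal' d).det = ∏ i, (d i).det := by
  letI : LinearOrder ι := LinearOrder.lift' (Fintype.equivFin ι) (Fintype.equivFin ι).injective
  rw [(Matrix.blockTriangular_blockDiagonal' d).det_fintype]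
  refine Finset.prod_congr rfl fun i _ => ?_
  let e : m i ≃ {a : Σ j, m j // a.1 = i} :=
    { toFun := fun a => ⟨⟨i, a⟩, rfl⟩
      invFun := fun a => a.2 ▸ a.1.2
      left_inv := fun a => rfl
      right_inv := by rintro ⟨⟨j, a⟩, rfl⟩; rfl }
  rw [← Matrix.det_submatrix_equiv_self e]
  congr 1
  ext a b
  exact Matrix.blockDiagonal'_apply_eq d i a b

theorem norm_pi {ι : Type u} [Fintype ι] {B : ι → Type u} [∀ i, CommRing (B i)] [∀ i, Algebra k (B i)]
    [∀ i, Module.Finite k (B i)] (x : ∀ i, B i) :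
    Algebra.norm k x = ∏ i, Algebra.norm k (x i) := by
  classical
  let b := fun i => Module.Free.chooseBasis k (B i)
  rw [Algebra.norm_eq_matrix_det (Pi.basis b),
    show Algebra.leftMulMatrix (Pi.basis b) x =
      Matrix.blockDiagonal' fun i => Algebra.leftMulMatrix (b i) (x i) from ?_,
    det_blockDiagonal']
  · exact Finset.prod_congr rfl fun i _ => (Algebra.norm_eq_matrix_det (b i) (x i)).symm
  ext ⟨i, a⟩ ⟨j, c⟩
  rw [Algebra.leftMulMatrix_eq_repr_mul, Pi.basis_repr, Pi.mul_apply, Matrix.blockDiagonal'_apply,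
    Pi.basis_apply]
  by_cases h : i = j
  · subst h
    rw [dif_pos rfl, Pi.single_eq_same, Algebra.leftMulMatrix_eq_repr_mul]
    rfl
  · rw [dif_neg h, Pi.single_eq_of_ne h]
    simp

theorem norm_eq_pow {B : Type u} [CommRing B] [Algebra k B] [IsLocalRing B] [Module.Finite k B]
    (ψ : B →ₐ[k] k) (b : B) : Algebra.norm k b = ψ b ^ Module.finrank k B := by
  haveI : IsArtinianRing B := IsArtinianRing.of_finite k B
  let N := b - algebraMap k B (ψ b)
  have hker : RingHom.ker ψ = IsLocalRing.maximalIdeal B :=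
    IsLocalRing.eq_maximalIdeal (RingHom.ker_isMaximal_of_surjective ψ fun c => ⟨algebraMap k B c, ψ.commutes c⟩)
  have hN : IsNilpotent N := by
    obtain ⟨n, hn⟩ := IsArtinianRing.isNilpotent_jacobson_bot (R := B)
    refine ⟨n, ?_⟩
    have hmem : N ∈ (⊥ : Ideal B).jacobson := by
      rw [IsLocalRing.jacobson_eq_maximalIdeal _ bot_ne_top, ← hker]
      simp [N, RingHom.mem_ker]
    have := Ideal.pow_mem_pow hmem n
    rw [hn] at this
    simpa using this
  have hneg : IsNilpotent (-(Algebra.lmul k B N) : Module.End k B) := (hN.map (Algebra.lmul k B)).neg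
  have h := LinearMap.eval_charpoly (-(Algebra.lmul k B N) : Module.End k B) (ψ b)
  rw [hneg.charpoly_eq_X_pow_finrank, Polynomial.eval_pow, Polynomial.eval_X] at h
  rw [Algebra.norm_apply, h]
  congr 1
  rw [sub_neg_eq_add, ← AlgHom.commutes (Algebra.lmul k B) (ψ b), ← map_add]
  congr 1
  simp [N]

theorem norm_eq_finprod {A : Type u} [IsAlgClosed k] [CommRing A] [Algebra k A] [Module.Finite k A] (f : A) :
    Algebra.norm k f =
      ∏ᶠ φ : A →ₐ[k] k, φ f ^ Module.finrank k (Localization.AtPrime (Ideal.comap φ ⊥)) := by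
  classical
  haveI : IsArtinianRing A := IsArtinianRing.of_finite k A
  have hmax : ∀ φ : A →ₐ[k] k, (Ideal.comap φ ⊥).IsMaximal := fun φ =>
    RingHom.ker_isMaximal_of_surjective φ fun c => ⟨algebraMap k A c, φ.commutes c⟩
  let Φ : (A →ₐ[k] k) → MaximalSpectrum A := fun φ => ⟨Ideal.comap φ ⊥, hmax φ⟩
  have hΦ : Function.Bijective Φ := by
    constructor
    · intro φ χ h
      have hI : Ideal.comap φ ⊥ = Ideal.comap χ ⊥ := congrArg MaximalSpectrum.asIdeal h
      ext a
      have h1 : a - algebraMap k A (φ a) ∈ Ideal.comap φ ⊥ := by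
        rw [Ideal.mem_comap, map_sub, AlgHom.commutes, Algebra.algebraMap_self, RingHom.id_apply, sub_self]
        exact Submodule.zero_mem _
      rw [hI, Ideal.mem_comap, map_sub, AlgHom.commutes, Algebra.algebraMap_self, RingHom.id_apply] at h1
      exact (sub_eq_zero.1 ((Submodule.mem_bot k).1 h1)).symm
    · intro I
      haveI := I.isMaximal
      haveI : Module.Finite k (A ⧸ I.asIdeal) :=
        Module.Finite.of_surjective (Ideal.Quotient.mkₐ k I.asIdeal).toLinearMap Ideal.Quotient.mk_surjective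
      let : Field (A ⧸ I.asIdeal) := Ideal.Quotient.field _
      let e := AlgEquiv.ofBijective (Algebra.ofId k (A ⧸ I.asIdeal))
        IsAlgClosed.algebraMap_bijective_of_isIntegral
      refine ⟨(e.symm : _ →ₐ[k] k).comp (Ideal.Quotient.mkₐ k I.asIdeal), MaximalSpectrum.ext ?_⟩
      ext a
      show e.symm (Ideal.Quotient.mk I.asIdeal a) ∈ (⊥ : Ideal k) ↔ _
      rw [Ideal.mem_bot, EmbeddingLike.map_eq_zero_iff, Ideal.Quotient.eq_zero_iff_mem]
  haveI : Fintype (MaximalSpectrum A) := Fintype.ofFinite _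
  haveI : Fintype (A →ₐ[k] k) := Fintype.ofBijective _ (Equiv.ofBijective Φ hΦ).symm.bijective
  haveI hfin : ∀ I : MaximalSpectrum A, Module.Finite k (Localization.AtPrime I.asIdeal) := fun I =>
    Module.Finite.of_surjective (IsScalarTower.toAlgHom k A (Localization.AtPrime I.asIdeal)).toLinearMap
      fun z => by
        obtain ⟨a, ha⟩ := (MaximalSpectrum.toPiLocalizationEquiv A).surjective (Pi.single I z)
        exact ⟨a, by
          have := congrFun ha I
          rw [MaximalSpectrum.toPiLocalizationEquiv_apply_apply, Pi.single_eq_same] at this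
          exact this⟩
  have h1 : Algebra.norm k f = Algebra.norm k (MaximalSpectrum.toPiLocalizationEquiv A f) :=
    (Algebra.norm_eq_of_algEquiv ((MaximalSpectrum.toPiLocalizationEquiv A).restrictScalars k) f).symm
  rw [h1]
  erw [norm_pi (k := k) (B := fun I : MaximalSpectrum A => Localization.AtPrime I.asIdeal)]
  rw [finprod_eq_prod_of_fintype]
  refine (Fintype.prod_bijective Φ hΦ _ _ fun φ => ?_).symm
  let ψ : Localization.AtPrime (Ideal.comap φ ⊥) →ₐ[k] k :=
    IsLocalization.liftAlgHom (M := (Ideal.comap φ ⊥).primeCompl) (f := φ) fun y =>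
      isUnit_iff_ne_zero.2 fun h => y.2 h
  haveI : Module.Finite k (Localization.AtPrime (Ideal.comap φ ⊥)) := hfin (Φ φ)
  have h2 := norm_eq_pow ψ (algebraMap A _ f)
  have h3 : ψ (algebraMap A _ f) = φ f := IsLocalization.lift_eq _ _
  rw [h3] at h2
  exact h2.symm

end Groth.Agent.H22.NormLoc
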