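import Groth.Agent.H22.Nil
import Groth.Agent.H22.FlatMod
import Mathlib.Algebra.Module.Torsion.Basic
import Mathlib.RingTheory.Flat.TorsionFree
import Mathlib.LinearAlgebra.TensorProduct.Prod
import Mathlib.RingTheory.TensorProduct.Basic

/-! Projectivity of `P / J P` over `R / J` as a lifting property, without change of rings. -/

open TensorProduct LinearMap

namespace Groth.Agent.H22.ProjMod

universe u

variable {R : Type u} [CommRing R]

/-- Maps out of `P` lift through surjections of modules killed by `J`. -/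
def ProjAt (P : Type u) [AddCommGroup P] [Module R P] (J : Ideal R) : Prop :=
  ∀ (X Y : Type u) [AddCommGroup X] [Module R X] [AddCommGroup Y] [Module R Y] (g : X →ₗ[R] Y),
    Function.Surjective g → (∀ r ∈ J, ∀ x : X, r • x = 0) → ∀ f : P →ₗ[R] Y, ∃ h, g ∘ₗ h = f

variable {P : Type u} [AddCommGroup P] [Module R P]

theorem mono {I J : Ideal R} (hIJ : I ≤ J) (h : ProjAt P I) : ProjAt P J :=
  fun X Y _ _ _ _ g hg hX f => h X Y g hg (fun r hr => hX r (hIJ hr)) f

theorem of_projective (J : Ideal R) [Module.Projective (R ⧸ J) ((R ⧸ J) ⊗[R] P)] : ProjAt P J := by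
  intro X Y _ _ _ _ g hg hX f
  have hY : ∀ r ∈ J, ∀ y : Y, r • y = 0 := by
    intro r hr y
    obtain ⟨x, rfl⟩ := hg y
    rw [← map_smul, hX r hr, map_zero]
  have hTX : Module.IsTorsionBySet R X J := fun x r => hX r.1 r.2 x
  have hTY : Module.IsTorsionBySet R Y J := fun y r => hY r.1 r.2 y
  let _ : Module (R ⧸ J) X := hTX.module
  let _ : Module (R ⧸ J) Y := hTY.module
  have : IsScalarTower R (R ⧸ J) X := hTX.isScalarTower
  have : IsScalarTower R (R ⧸ J) Y := hTY.isScalarTower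
  let g' : X →ₗ[R ⧸ J] Y :=
    { toFun := g
      map_add' := map_add g
      map_smul' := fun c x => by
        obtain ⟨c, rfl⟩ := Ideal.Quotient.mk_surjective c
        exact map_smul g c x }
  obtain ⟨h, hh⟩ := Module.projective_lifting_property g' (f.liftBaseChange (R ⧸ J)) hg
  refine ⟨(h.restrictScalars R) ∘ₗ TensorProduct.mk R (R ⧸ J) P 1, LinearMap.ext fun x => ?_⟩
  have := LinearMap.congr_fun hh ((1 : R ⧸ J) ⊗ₜ[R] x)
  simp only [LinearMap.comp_apply, LinearMap.liftBaseChange_tmul, one_smul] at this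
  exact this

theorem projective_of_bot (h : ProjAt P (⊥ : Ideal R)) : Module.Projective R P := by
  refine Module.Projective.of_lifting_property fun {X Y} _ _ _ _ g f hg => ?_
  exact h X Y g hg (fun r hr x => by rw [(Submodule.mem_bot R).1 hr, zero_smul]) f

theorem projective_quotient {J : Ideal R} (h : ProjAt P J) :
    Module.Projective (R ⧸ J) ((R ⧸ J) ⊗[R] P) := by
  refine Module.Projective.of_lifting_property fun {X Y} _ _ _ _ g f hg => ?_
  let _ : Module R X := Module.compHom X (Ideal.Quotient.mk J)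
  let _ : Module R Y := Module.compHom Y (Ideal.Quotient.mk J)
  have : IsScalarTower R (R ⧸ J) X := IsScalarTower.of_algebraMap_smul fun _ _ => rfl
  have : IsScalarTower R (R ⧸ J) Y := IsScalarTower.of_algebraMap_smul fun _ _ => rfl
  obtain ⟨k, hk⟩ := h X Y (g.restrictScalars R) hg (fun r hr x => by
    show Ideal.Quotient.mk J r • x = 0
    rw [Ideal.Quotient.eq_zero_iff_mem.2 hr, zero_smul])
    ((f.restrictScalars R) ∘ₗ TensorProduct.mk R (R ⧸ J) P 1)
  refine ⟨k.liftBaseChange (R ⧸ J), TensorProduct.AlgebraTensorModule.ext fun c p => ?_⟩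
  have h2 : g (k p) = f ((1 : R ⧸ J) ⊗ₜ[R] p) := LinearMap.congr_fun hk p
  rw [LinearMap.comp_apply, LinearMap.liftBaseChange_tmul, map_smul, h2, ← map_smul, smul_tmul',
    smul_eq_mul, mul_one]

theorem inf_smul_eq [Module.Flat R P] (I J : Ideal R) :
    (I • ⊤ : Submodule R P) ⊓ (J • ⊤) = (I ⊓ J) • (⊤ : Submodule R P) := by
  refine le_antisymm ?_
    (le_inf (Submodule.smul_mono inf_le_left le_rfl) (Submodule.smul_mono inf_le_right le_rfl))
  rintro x ⟨hI, hJ⟩
  let φ : (R ⧸ (I ⊓ J)) →ₗ[R] (R ⧸ I) × (R ⧸ J) :=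
    (Submodule.factor inf_le_left).prod (Submodule.factor inf_le_right)
  have hφ : Function.Injective φ := by
    rw [injective_iff_map_eq_zero]
    intro y hy
    obtain ⟨y, rfl⟩ := Submodule.mkQ_surjective _ y
    rw [Submodule.mkQ_apply, Submodule.Quotient.mk_eq_zero]
    exact ⟨(Submodule.Quotient.mk_eq_zero I).1 (congrArg Prod.fst hy),
      (Submodule.Quotient.mk_eq_zero J).1 (congrArg Prod.snd hy)⟩
  have hone : ∀ (K : Ideal R), x ∈ (K • ⊤ : Submodule R P) → x ⊗ₜ[R] (1 : R ⧸ K) = 0 := by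
    intro K hK
    apply (TensorProduct.tensorQuotEquivQuotSMul P K).injective
    rw [map_zero, show (1 : R ⧸ K) = Ideal.Quotient.mk K 1 from rfl,
      TensorProduct.tensorQuotEquivQuotSMul_tmul_mk, one_smul]
    exact (Submodule.Quotient.mk_eq_zero _).2 hK
  have h0 : x ⊗ₜ[R] (1 : R ⧸ (I ⊓ J)) = 0 := by
    apply Module.Flat.lTensor_preserves_injective_linearMap (M := P) φ hφ
    apply (TensorProduct.prodRight R R P (R ⧸ I) (R ⧸ J)).injective
    rw [map_zero, lTensor_tmul, TensorProduct.prodRight_tmul, map_zero]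
    exact Prod.ext (hone I hI) (hone J hJ)
  have h1 := congrArg (TensorProduct.tensorQuotEquivQuotSMul P (I ⊓ J)) h0
  rw [map_zero, show (1 : R ⧸ (I ⊓ J)) = Ideal.Quotient.mk _ 1 from rfl,
    TensorProduct.tensorQuotEquivQuotSMul_tmul_mk, one_smul] at h1
  exact (Submodule.Quotient.mk_eq_zero _).1 h1

theorem inf [Module.Flat R P] {I J : Ideal R} (hI : ProjAt P I) (hJ : ProjAt P J) :
    ProjAt P (I ⊓ J) := by
  classical
  let F := P →₀ R
  let π : F →ₗ[R] P := Finsupp.linearCombination R id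
  have hπ : Function.Surjective π := Finsupp.linearCombination_id_surjective R P
  let SF : Ideal R → Submodule R F := fun K => K • ⊤
  let SP : Ideal R → Submodule R P := fun K => K • ⊤
  have hmap : ∀ K, SF K ≤ (SP K).comap π := fun K => by
    refine Submodule.map_le_iff_le_comap.1 ?_
    rw [Submodule.map_smul'']
    exact Submodule.smul_mono le_rfl le_top
  let πb : ∀ K, (F ⧸ SF K) →ₗ[R] P ⧸ SP K := fun K => Submodule.mapQ _ _ π (hmap K)
  have hπb : ∀ K, Function.Surjective (πb K) := fun K y => by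
    obtain ⟨y, rfl⟩ := Submodule.mkQ_surjective _ y
    obtain ⟨z, rfl⟩ := hπ y
    exact ⟨Submodule.Quotient.mk z, rfl⟩
  have hkill : ∀ (K : Ideal R), ∀ r ∈ K, ∀ y : F ⧸ SF K, r • y = 0 := by
    intro K r hr y
    obtain ⟨y, rfl⟩ := Submodule.mkQ_surjective _ y
    rw [← map_smul, Submodule.mkQ_apply, Submodule.Quotient.mk_eq_zero]
    exact Submodule.smul_mem_smul hr trivial
  obtain ⟨a, ha⟩ := hI _ _ (πb I) (hπb I) (hkill I) (SP I).mkQ
  obtain ⟨b, hb⟩ := hJ _ _ (πb J) (hπb J) (hkill J) (SP J).mkQ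
  have hle₁ : SF I ≤ SF (I ⊔ J) := Submodule.smul_mono le_sup_left le_rfl
  have hle₂ : SF J ≤ SF (I ⊔ J) := Submodule.smul_mono le_sup_right le_rfl
  have hle₁' : SP I ≤ SP (I ⊔ J) := Submodule.smul_mono le_sup_left le_rfl
  have hle₂' : SP J ≤ SP (I ⊔ J) := Submodule.smul_mono le_sup_right le_rfl
  let qI := Submodule.factor hle₁
  let qJ := Submodule.factor hle₂
  let d : P →ₗ[R] F ⧸ SF (I ⊔ J) := qI ∘ₗ a - qJ ∘ₗ b
  -- the image of the kernel
  let D : Submodule R (F ⧸ SF (I ⊔ J)) := (LinearMap.ker π).map (SF (I ⊔ J)).mkQ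
  let KI : Submodule R (F ⧸ SF I) := (LinearMap.ker π).map (SF I).mkQ
  have hd : ∀ p, d p ∈ D := by
    intro p
    obtain ⟨x, hx⟩ := Submodule.mkQ_surjective _ (a p)
    obtain ⟨y, hy⟩ := Submodule.mkQ_surjective _ (b p)
    have hx' : π x - p ∈ SP (I ⊔ J) := by
      refine hle₁' ((Submodule.Quotient.eq _).1 ?_)
      have := LinearMap.congr_fun ha p
      rw [LinearMap.comp_apply, ← hx] at this
      exact this
    have hy' : π y - p ∈ SP (I ⊔ J) := by
      refine hle₂' ((Submodule.Quotient.eq _).1 ?_)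
      have := LinearMap.congr_fun hb p
      rw [LinearMap.comp_apply, ← hy] at this
      exact this
    have hxy : π (x - y) ∈ (I ⊔ J) • (⊤ : Submodule R P) := by
      have := sub_mem hx' hy'
      rwa [sub_sub_sub_cancel_right, ← map_sub] at this
    rw [← range_eq_top.2 hπ, ← Submodule.map_top, ← Submodule.map_smul''] at hxy
    obtain ⟨z, hz, hzeq⟩ := hxy
    refine ⟨x - y - z, by simp [LinearMap.mem_ker, hzeq], ?_⟩
    rw [map_sub, map_sub, show (SF (I ⊔ J)).mkQ z = 0 from (Submodule.Quotient.mk_eq_zero _).2 hz,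
      sub_zero]
    simp only [d, LinearMap.sub_apply, LinearMap.comp_apply, ← hx, ← hy]
    rfl
  let qK : KI →ₗ[R] D := qI.restrict (p := KI) (q := D) fun z hz => by
    obtain ⟨k, hk, rfl⟩ := hz
    exact ⟨k, hk, rfl⟩
  have hqK : Function.Surjective qK := by
    rintro ⟨_, k, hk, rfl⟩
    exact ⟨⟨_, k, hk, rfl⟩, rfl⟩
  obtain ⟨d', hd'⟩ := hI KI D qK hqK (fun r hr x => Subtype.ext (hkill I r hr x.1))
    (d.codRestrict D hd)
  let a' : P →ₗ[R] F ⧸ SF I := a - KI.subtype ∘ₗ d'
  have ha' : ∀ p, πb I (a' p) = (SP I).mkQ p := by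
    intro p
    simp only [a', LinearMap.sub_apply, LinearMap.comp_apply, map_sub]
    obtain ⟨k, hk, hkd⟩ := (d' p).2
    rw [show KI.subtype (d' p) = (d' p : F ⧸ SF I) from rfl, ← hkd]
    rw [show πb I ((SF I).mkQ k) = (SP I).mkQ (π k) from rfl, LinearMap.mem_ker.1 hk, map_zero,
      sub_zero]
    exact LinearMap.congr_fun ha p
  have hcompat : ∀ p, qI (a' p) = qJ (b p) := by
    intro p
    have h1 : (qK (d' p) : F ⧸ SF (I ⊔ J)) = d p :=
      congrArg Subtype.val (LinearMap.congr_fun hd' p)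
    simp only [a', LinearMap.sub_apply, LinearMap.comp_apply, map_sub]
    rw [show qI (KI.subtype (d' p)) = (qK (d' p) : F ⧸ SF (I ⊔ J)) from rfl, h1]
    simp only [d, LinearMap.sub_apply, LinearMap.comp_apply, sub_sub_cancel]
  -- glue
  let hKI : SF (I ⊓ J) ≤ SF I := Submodule.smul_mono inf_le_left le_rfl
  let hKJ : SF (I ⊓ J) ≤ SF J := Submodule.smul_mono inf_le_right le_rfl
  let Δ : (F ⧸ SF (I ⊓ J)) →ₗ[R] (F ⧸ SF I) × (F ⧸ SF J) :=
    (Submodule.factor hKI).prod (Submodule.factor hKJ)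
  have hΔ : Function.Injective Δ := by
    rw [injective_iff_map_eq_zero]
    intro y hy
    obtain ⟨y, rfl⟩ := Submodule.mkQ_surjective _ y
    rw [Submodule.mkQ_apply, Submodule.Quotient.mk_eq_zero]
    rw [show SF (I ⊓ J) = SF I ⊓ SF J from (inf_smul_eq I J).symm]
    exact ⟨(Submodule.Quotient.mk_eq_zero _).1 (congrArg Prod.fst hy),
      (Submodule.Quotient.mk_eq_zero _).1 (congrArg Prod.snd hy)⟩
  have hrange : ∀ p, ((a' p, b p) : (F ⧸ SF I) × (F ⧸ SF J)) ∈ range Δ := by
    intro p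
    obtain ⟨x, hx⟩ := Submodule.mkQ_surjective _ (a' p)
    obtain ⟨y, hy⟩ := Submodule.mkQ_surjective _ (b p)
    have h0 : x - y ∈ (I ⊔ J) • (⊤ : Submodule R F) := by
      have := hcompat p
      rw [← hx, ← hy] at this
      exact (Submodule.Quotient.eq _).1 this
    rw [Submodule.sup_smul] at h0
    obtain ⟨i, hi, j, hj, hij⟩ := Submodule.mem_sup.1 h0
    refine ⟨Submodule.Quotient.mk (x - i), Prod.ext ?_ ?_⟩
    · show (SF I).mkQ (x - i) = a' p
      rw [map_sub, show (SF I).mkQ i = 0 from (Submodule.Quotient.mk_eq_zero _).2 hi, sub_zero, hx]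
    · show (SF J).mkQ (x - i) = b p
      rw [← hy, show x - i = y + j from by rw [eq_add_of_sub_eq hij.symm]; abel, map_add,
        show (SF J).mkQ j = 0 from (Submodule.Quotient.mk_eq_zero _).2 hj, add_zero]
  let t : P →ₗ[R] F ⧸ SF (I ⊓ J) := (LinearEquiv.ofInjective Δ hΔ).symm.toLinearMap ∘ₗ
    LinearMap.codRestrict _ (a'.prod b) hrange
  have hΔt : ∀ p, Δ (t p) = (a' p, b p) := fun p =>
    congrArg Subtype.val ((LinearEquiv.ofInjective Δ hΔ).apply_symm_apply
      ⟨(a' p, b p), hrange p⟩)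
  have hπt : ∀ p, πb (I ⊓ J) (t p) = (SP (I ⊓ J)).mkQ p := by
    intro p
    obtain ⟨x, hx⟩ := Submodule.mkQ_surjective _ (t p)
    rw [← hx]
    refine (Submodule.Quotient.eq _).2 ?_
    rw [show SP (I ⊓ J) = SP I ⊓ SP J from (inf_smul_eq I J).symm]
    have h := hΔt p
    rw [← hx] at h
    refine ⟨(Submodule.Quotient.eq _).1 ?_, (Submodule.Quotient.eq _).1 ?_⟩
    · have := ha' p
      have h' : (Submodule.Quotient.mk x : F ⧸ SF I) = a' p := congrArg Prod.fst h
      rw [← h'] at this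
      exact this
    · have := LinearMap.congr_fun hb p
      have h' : (Submodule.Quotient.mk x : F ⧸ SF J) = b p := congrArg Prod.snd h
      rw [LinearMap.comp_apply, ← h'] at this
      exact this
  intro X Y _ _ _ _ g hg hX f
  obtain ⟨h₀, hh₀⟩ := Module.projective_lifting_property g (f ∘ₗ π) hg
  have hk₀ : SF (I ⊓ J) ≤ LinearMap.ker h₀ := Submodule.smul_le.2 fun r hr z _ => by
    rw [LinearMap.mem_ker, map_smul, hX r hr]
  refine ⟨(SF (I ⊓ J)).liftQ h₀ hk₀ ∘ₗ t, LinearMap.ext fun p => ?_⟩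
  obtain ⟨x, hx⟩ := Submodule.mkQ_surjective _ (t p)
  have h1 : π x - p ∈ SP (I ⊓ J) := by
    refine (Submodule.Quotient.eq _).1 ?_
    have := hπt p
    rw [← hx] at this
    exact this
  have h2 : SP (I ⊓ J) ≤ LinearMap.ker f := Submodule.smul_le.2 fun r hr z _ => by
    obtain ⟨w, hw⟩ := hg (f z)
    rw [LinearMap.mem_ker, map_smul, ← hw, ← map_smul, hX r hr, map_zero]
  have h3 := LinearMap.mem_ker.1 (h2 h1)
  rw [map_sub, sub_eq_zero] at h3
  simp only [LinearMap.comp_apply, ← hx, Submodule.mkQ_apply, Submodule.liftQ_apply]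
  exact (LinearMap.congr_fun hh₀ x).trans h3

/-- A flat module which is near projective at a regular `c` and projective mod `c` is projective. -/
theorem projective_of_near [Module.Flat R P] (c : R) (hc : IsRegular c)
    (hmod : ProjAt P (Ideal.span {c})) {Q : Type u} [AddCommGroup Q] [Module R Q]
    [Module.Projective R Q] (u : P →ₗ[R] Q) (v : Q →ₗ[R] P) (huv : ∀ p, v (u p) = c • p) :
    Module.Projective R P := by
  classical
  let F := P →₀ R
  let π : F →ₗ[R] P := Finsupp.linearCombination R id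
  have hπ : Function.Surjective π := Finsupp.linearCombination_id_surjective R P
  let SF : Submodule R F := Ideal.span {c} • ⊤
  let SP : Submodule R P := Ideal.span {c} • ⊤
  have hmap : SF ≤ SP.comap π := Submodule.map_le_iff_le_comap.1 (by
    rw [Submodule.map_smul'']; exact Submodule.smul_mono le_rfl le_top)
  let πb : (F ⧸ SF) →ₗ[R] P ⧸ SP := Submodule.mapQ _ _ π hmap
  have hπb : Function.Surjective πb := fun y => by
    obtain ⟨y, rfl⟩ := Submodule.mkQ_surjective _ y
    obtain ⟨z, rfl⟩ := hπ y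
    exact ⟨Submodule.Quotient.mk z, rfl⟩
  have hkill : ∀ r ∈ Ideal.span {c}, ∀ y : F ⧸ SF, r • y = 0 := by
    intro r hr y
    obtain ⟨y, rfl⟩ := Submodule.mkQ_surjective _ y
    rw [← map_smul, Submodule.mkQ_apply, Submodule.Quotient.mk_eq_zero]
    exact Submodule.smul_mem_smul hr trivial
  obtain ⟨t, ht⟩ := hmod _ _ πb hπb hkill SP.mkQ
  let F' : Submodule R F := LinearMap.ker (SF.mkQ - t ∘ₗ π)
  have hF' : Function.Surjective (π ∘ₗ F'.subtype) := by
    intro p
    obtain ⟨f, hf⟩ := Submodule.mkQ_surjective _ (t p)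
    have h1 : π f - p ∈ SP := by
      refine (Submodule.Quotient.eq _).1 ?_
      have := LinearMap.congr_fun ht p
      rw [LinearMap.comp_apply, ← hf] at this
      exact this
    have h1' : p - π f ∈ SP := by simpa using neg_mem h1
    simp only [SP, Submodule.ideal_span_singleton_smul] at h1'
    obtain ⟨w, -, hw⟩ := h1'
    obtain ⟨w, rfl⟩ := hπ w
    have hw' : c • π w = p - π f := hw
    have hπf : π (f + c • w) = p := by rw [map_add, map_smul, hw']; abel
    refine ⟨⟨f + c • w, ?_⟩, hπf⟩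
    show SF.mkQ (f + c • w) - t (π (f + c • w)) = 0
    rw [hπf, map_add, show SF.mkQ (c • w) = 0 from (Submodule.Quotient.mk_eq_zero _).2
      (Submodule.smul_mem_smul (Ideal.mem_span_singleton_self c) trivial), add_zero, hf, sub_self]
  obtain ⟨l, hl⟩ := Module.projective_lifting_property (π ∘ₗ F'.subtype) v hF'
  let σ : P →ₗ[R] F := F'.subtype ∘ₗ l ∘ₗ u
  have hσ : ∀ p, π (σ p) = c • p := fun p => (LinearMap.congr_fun hl (u p)).trans (huv p)
  have hσc : ∀ p, σ p ∈ range (c • LinearMap.id : F →ₗ[R] F) := by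
    intro p
    have h1 : SF.mkQ (σ p) = t (π (σ p)) := sub_eq_zero.1 (l (u p)).2
    rw [hσ, map_smul, hkill c (Ideal.mem_span_singleton_self c)] at h1
    have h2 : σ p ∈ SF := (Submodule.Quotient.mk_eq_zero _).1 h1
    simp only [SF, Submodule.ideal_span_singleton_smul] at h2
    obtain ⟨w, -, hw⟩ := h2
    exact ⟨w, hw⟩
  have hcF : Function.Injective (c • LinearMap.id : F →ₗ[R] F) :=
    Module.Flat.isSMulRegular_of_isRegular hc
  let σ' : P →ₗ[R] F :=
    (LinearEquiv.ofInjective _ hcF).symm.toLinearMap ∘ₗ LinearMap.codRestrict _ σ hσc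
  have hσ' : ∀ p, c • σ' p = σ p := fun p =>
    congrArg Subtype.val ((LinearEquiv.ofInjective _ hcF).apply_symm_apply ⟨σ p, hσc p⟩)
  refine Module.Projective.of_split σ' π (LinearMap.ext fun p => ?_)
  refine Module.Flat.isSMulRegular_of_isRegular (M := P) hc ?_
  show c • π (σ' p) = c • p
  rw [← map_smul, hσ', hσ]

end Groth.Agent.H22.ProjMod
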