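import Groth.Agent.H22.Ferrand
import Groth.Agent.H22.ProjMod
import Mathlib.LinearAlgebra.LinearIndependent.Lemmas
import Mathlib.LinearAlgebra.Finsupp.LinearCombination
import Mathlib.Algebra.Module.Projective
import Mathlib.RingTheory.TensorProduct.Free

/-! Descent of projectivity along finite injective maps of Noetherian rings. -/

open TensorProduct LinearMap

namespace Groth.Agent.H22.ProjDescent

universe u

/-- `P` is projective over `R` as soon as it is projective after a finite injective extension. -/
def Descends (R : Type u) [CommRing R] : Prop :=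
  ∀ (S : Type u) [CommRing S] [Algebra R S] [Module.Finite R S],
    Function.Injective (algebraMap R S) → ∀ (P : Type u) [AddCommGroup P] [Module R P],
      Module.Projective S (S ⊗[R] P) → Module.Projective R P

variable {R : Type u} [CommRing R]

/-- A finite torsion-free module over a domain is squeezed between copies of a free module. -/
theorem exists_squeeze [IsDomain R] (T : Type u) [AddCommGroup T] [Module R T] [Module.Finite R T]
    [Module.IsTorsionFree R T] :
    ∃ (n : ℕ) (v : (Fin n → R) →ₗ[R] T) (j : T →ₗ[R] (Fin n → R)) (a : R),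
      a ≠ 0 ∧ ∀ t, v (j t) = a • t := by
  classical
  obtain ⟨m, π, hπ⟩ := Module.Finite.exists_fin' R T
  let g : Fin m → T := fun i => π (Pi.single i 1)
  obtain ⟨s, hs, hmax⟩ := exists_maximal_linearIndepOn R g
  let S : Submodule R T := Submodule.span R (g '' s)
  have ha : ∀ i, ∃ a : R, a ≠ 0 ∧ a • g i ∈ S := by
    intro i
    by_cases hi : i ∈ s
    · exact ⟨1, one_ne_zero, by rw [one_smul]; exact Submodule.subset_span ⟨i, hi, rfl⟩⟩
    · exact hmax i hi
  choose a ha0 ha using ha
  have hmem : ∀ t, (∏ i, a i) • t ∈ S := by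
    intro t
    obtain ⟨w, rfl⟩ := hπ t
    rw [pi_eq_sum_univ' w, map_sum, Finset.smul_sum]
    refine Submodule.sum_mem _ fun i _ => ?_
    rw [map_smul, smul_comm]
    refine Submodule.smul_mem _ _ ?_
    rw [← Finset.prod_erase_mul _ _ (Finset.mem_univ i), mul_smul]
    exact Submodule.smul_mem _ _ (ha i)
  let n := Fintype.card s
  let e := (Fintype.equivFin s).symm
  have hli : LinearIndependent R (fun k : Fin n => g (e k)) :=
    (show LinearIndependent R (fun i : s => g i) from hs).comp e e.injective
  let v : (Fin n → R) →ₗ[R] T := Fintype.linearCombination R fun k => g (e k)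
  have hv : Function.Injective v := by
    rw [← LinearMap.ker_eq_bot, LinearMap.ker_eq_bot']
    intro w hw
    funext k
    exact Fintype.linearIndependent_iff.1 hli w hw k
  have hS : S ≤ range v := by
    rw [Submodule.span_le]
    rintro _ ⟨i, hi, rfl⟩
    exact ⟨Pi.single (Fintype.equivFin s ⟨i, hi⟩) 1, by
      simp [v, Fintype.linearCombination_apply_single, e]⟩
  let j : T →ₗ[R] (Fin n → R) := (LinearEquiv.ofInjective v hv).symm.toLinearMap ∘ₗ
    LinearMap.codRestrict _ ((∏ i, a i) • LinearMap.id) fun t => hS (hmem t)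
  refine ⟨n, v, j, ∏ i, a i, Finset.prod_ne_zero_iff.2 fun i _ => ha0 i, fun t => ?_⟩
  exact congrArg Subtype.val ((LinearEquiv.ofInjective v hv).apply_symm_apply
    ⟨((∏ i, a i) • LinearMap.id : T →ₗ[R] T) t, hS (hmem t)⟩)

variable [IsNoetherianRing R]

theorem projAt_of_descends {S : Type u} [CommRing S] [Algebra R S] [Module.Finite R S]
    {P : Type u} [AddCommGroup P] [Module R P] (hP : Module.Projective S (S ⊗[R] P))
    (J : Ideal R) (L : Ideal S) (hJ : L.comap (algebraMap R S) = J) (h : Descends (R ⧸ J)) :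
    ProjMod.ProjAt P J := by
  subst hJ
  have : Module.Finite (R ⧸ L.comap (algebraMap R S)) (S ⧸ L) :=
    Module.Finite.of_restrictScalars_finite R _ _
  have := h (S ⧸ L) Ideal.algebraMap_quotient_injective ((R ⧸ L.comap (algebraMap R S)) ⊗[R] P)
    (Module.Projective.of_equiv
      ((AlgebraTensorModule.cancelBaseChange R (R ⧸ L.comap (algebraMap R S)) (S ⧸ L) (S ⧸ L) P) ≪≫ₗ
        (AlgebraTensorModule.cancelBaseChange R S (S ⧸ L) (S ⧸ L) P).symm).symm)
  exact ProjMod.of_projective _

theorem projAt_inf_finset {P : Type u} [AddCommGroup P] [Module R P] [Module.Flat R P]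
    {ι : Type*} (s : Finset ι) (I : ι → Ideal R) (h : ∀ i ∈ s, ProjMod.ProjAt P (I i)) :
    ProjMod.ProjAt P (s.inf I) := by
  classical
  induction s using Finset.induction with
  | empty =>
    intro X Y _ _ _ _ g hg hX f
    refine ⟨0, LinearMap.ext fun p => ?_⟩
    obtain ⟨x, hx⟩ := hg (f p)
    have := hX 1 (by simp) x
    rw [one_smul] at this
    simp [← hx, this]
  | insert a s _ ih =>
    rw [Finset.inf_insert]
    exact ProjMod.inf (h a (Finset.mem_insert_self _ _))
      (ih fun i hi => h i (Finset.mem_insert_of_mem hi))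

theorem descends_domain [IsDomain R] (IH : ∀ J : Ideal R, J ≠ ⊥ → Descends (R ⧸ J))
    (T : Type u) [CommRing T] [IsDomain T] [Algebra R T] [Module.Finite R T]
    (hinj : Function.Injective (algebraMap R T)) (P : Type u) [AddCommGroup P] [Module R P]
    [hPT : Module.Projective T (T ⊗[R] P)] : Module.Projective R P := by
  classical
  have : Module.Flat R P := Ferrand.flat_of_finite_injective T hinj P
  have : FaithfulSMul R T := (faithfulSMul_iff_algebraMap_injective R T).2 hinj
  have : Module.IsTorsionFree R T := inferInstance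
  obtain ⟨n, v, j, a, ha0, hvj⟩ := exists_squeeze (R := R) T
  have hj1 : j 1 ≠ 0 := by
    intro h
    have := hvj 1
    rw [h, map_zero, Algebra.smul_def, mul_one] at this
    exact ha0 (hinj (by rw [← this, map_zero]))
  obtain ⟨i₀, hi₀⟩ := Function.ne_iff.1 hj1
  let φ : T →ₗ[R] R := LinearMap.proj i₀ ∘ₗ j
  let b := j 1 i₀
  let c := a * b
  have hc0 : c ≠ 0 := mul_ne_zero ha0 hi₀
  -- projective at `c`
  obtain ⟨k, hk⟩ := AdicIso.exists_comap_le (Ideal.span {c}) (Algebra.linearMap R T)
  let J : Ideal R := ((Ideal.span {c} ^ (1 + k)).map (algebraMap R T)).comap (algebraMap R T)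
  have hJ0 : J ≠ ⊥ := by
    intro h0
    have hmem : c ^ (1 + k) ∈ J :=
      Ideal.mem_map_of_mem _ (Ideal.pow_mem_pow (Ideal.mem_span_singleton_self c) _)
    rw [h0, Ideal.mem_bot] at hmem
    exact pow_ne_zero _ hc0 hmem
  have hJle : J ≤ Ideal.span {c} := by
    intro x hx
    have hx' : algebraMap R T x ∈ (Ideal.span {c} ^ (1 + k) • ⊤ : Submodule R T) := by
      rw [Ideal.smul_top_eq_map]; exact hx
    have := hk 1 hx'
    rw [show LinearMap.ker (Algebra.linearMap R T) = ⊥ from ker_eq_bot.2 hinj, bot_sup_eq] at this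
    simpa using this
  have hmod : ProjMod.ProjAt P (Ideal.span {c}) :=
    ProjMod.mono hJle (projAt_of_descends (S := T) hPT J _ rfl (IH J hJ0))
  -- near projective at `c`
  let ι := T ⊗[R] P
  let r : (ι →₀ T) →ₗ[T] T ⊗[R] P := Finsupp.linearCombination T _root_.id
  have hr : Function.Surjective r := Finsupp.linearCombination_id_surjective T _
  obtain ⟨s, hs⟩ := Module.projective_lifting_property r (LinearMap.id : T ⊗[R] P →ₗ[T] _) hr
  let u : P →ₗ[R] (ι →₀ (Fin n → R)) :=
    Finsupp.mapRange.linearMap j ∘ₗ (s.restrictScalars R) ∘ₗ TensorProduct.mk R T P 1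
  let w : (ι →₀ (Fin n → R)) →ₗ[R] P :=
    (TensorProduct.lid R P).toLinearMap ∘ₗ φ.rTensor P ∘ₗ (r.restrictScalars R) ∘ₗ
      Finsupp.mapRange.linearMap v
  refine ProjMod.projective_of_near c (IsRegular.of_ne_zero hc0) hmod u w fun p => ?_
  have h1 : Finsupp.mapRange.linearMap v (Finsupp.mapRange.linearMap j (s ((1 : T) ⊗ₜ[R] p))) =
      a • s ((1 : T) ⊗ₜ[R] p) := by
    refine Finsupp.ext fun i => ?_
    simp [hvj]
  simp only [u, w, LinearMap.comp_apply, LinearEquiv.coe_coe, TensorProduct.mk_apply,
    LinearMap.coe_restrictScalars, h1, LinearMap.map_smul_of_tower, map_smul]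
  rw [show r (s ((1 : T) ⊗ₜ[R] p)) = (1 : T) ⊗ₜ[R] p from LinearMap.congr_fun hs _, rTensor_tmul,
    TensorProduct.lid_tmul, smul_smul]
  rfl

/-- Descent of projectivity along finite injective maps. -/
theorem descends_of_surjective (I : Ideal R) : ∀ (D : Type u) [CommRing D] [Algebra R D],
    Function.Surjective (algebraMap R D) → RingHom.ker (algebraMap R D) = I → Descends D := by
  induction I using WellFoundedGT.induction with
  | _ I IH =>
  intro D _ _ hsurj hker
  have : IsNoetherianRing D := isNoetherianRing_of_surjective R D _ hsurj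
  have IH' : ∀ J : Ideal D, J ≠ ⊥ → Descends (D ⧸ J) := by
    intro J hJ
    refine IH (J.comap (algebraMap R D)) ?_ (D ⧸ J) ?_ ?_
    · rw [← hker, RingHom.ker_eq_comap_bot]
      refine lt_of_le_of_ne (Ideal.comap_mono bot_le) fun h => hJ ?_
      exact (Ideal.comap_injective_of_surjective _ hsurj h).symm
    · rw [IsScalarTower.algebraMap_eq R D (D ⧸ J), RingHom.coe_comp]
      exact Ideal.Quotient.mk_surjective.comp hsurj
    · rw [IsScalarTower.algebraMap_eq R D (D ⧸ J), ← RingHom.comap_ker,
        Ideal.Quotient.algebraMap_eq, Ideal.mk_ker]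
  intro S _ _ _ hS M _ _ hM
  classical
  rcases subsingleton_or_nontrivial D with hD | hD
  · have := Module.subsingleton D M
    infer_instance
  have : Algebra.IsIntegral D S := Algebra.IsIntegral.of_finite _ _
  have hbot : Ideal.comap (algebraMap D S) ⊥ = ⊥ := by
    rw [← RingHom.ker_eq_comap_bot, (RingHom.injective_iff_ker_eq_bot _).1 hS]
  by_cases hdom : (⊥ : Ideal D).IsPrime
  · have : IsDomain D := by
      have := (Ideal.Quotient.isDomain_iff_prime (⊥ : Ideal D)).2 hdom
      exact (RingEquiv.quotientBot D).symm.toMulEquiv.isDomain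
    obtain ⟨q, -, hq, hqc⟩ := Ideal.exists_ideal_over_prime_of_isIntegral (⊥ : Ideal D)
      (⊥ : Ideal S) hbot.le
    have hinj : Function.Injective (algebraMap D (S ⧸ q)) := by
      rw [RingHom.injective_iff_ker_eq_bot, ← hqc, IsScalarTower.algebraMap_eq D S (S ⧸ q),
        ← RingHom.comap_ker, Ideal.Quotient.algebraMap_eq, Ideal.mk_ker]
    have : Module.Projective (S ⧸ q) ((S ⧸ q) ⊗[D] M) := Module.Projective.of_equiv
      (AlgebraTensorModule.cancelBaseChange D S (S ⧸ q) (S ⧸ q) M)
    exact descends_domain IH' (S ⧸ q) hinj M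
  · have : Module.Flat S (S ⊗[D] M) := inferInstance
    have : Module.Flat D M := Ferrand.flat_of_finite_injective S hS M
    have hfin := minimalPrimes.finite_of_isNoetherianRing D
    have h1 : ∀ P ∈ hfin.toFinset, ProjMod.ProjAt M P := by
      intro P hP
      have hP' : P ∈ minimalPrimes D := hfin.mem_toFinset.1 hP
      have hPprime : P.IsPrime := hP'.1.1
      obtain ⟨q, -, hq, hqc⟩ := Ideal.exists_ideal_over_prime_of_isIntegral P
        (⊥ : Ideal S) (hbot.le.trans bot_le)
      exact projAt_of_descends hM P q hqc (IH' P fun h => hdom (h ▸ inferInstance))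
    have h2 := ProjMod.projective_quotient (projAt_inf_finset _ _root_.id h1)
    refine Nil.projective_of_quotient (I := hfin.toFinset.inf _root_.id) ?_
    refine (Ideal.FG.isNilpotent_iff_le_nilradical (IsNoetherian.noetherian _)).2 fun x hx => ?_
    rw [nilradical_eq_sInf, Submodule.mem_sInf]
    intro P hP
    have hPprime : Ideal.IsPrime (α := D) P := hP
    obtain ⟨P', hP', hle⟩ := Ideal.exists_minimalPrimes_le (bot_le : ⊥ ≤ P)
    exact hle (Submodule.mem_finsetInf.1 hx P' (hfin.mem_toFinset.2 hP'))

theorem projective_of_finite_injective (S : Type u) [CommRing S] [Algebra R S] [Module.Finite R S]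
    (hinj : Function.Injective (algebraMap R S)) (P : Type u) [AddCommGroup P] [Module R P]
    [Module.Projective S (S ⊗[R] P)] : Module.Projective R P :=
  descends_of_surjective _ R Function.surjective_id rfl S hinj P inferInstance

end Groth.Agent.H22.ProjDescent
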