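import Mathlib.Algebra.Module.Projective
import Mathlib.LinearAlgebra.Dual.Lemmas
import Mathlib.RingTheory.Finiteness.Prod

/-!
Rings in which every proper finitely generated ideal has a nonzero annihilator.
-/

universe u v w

namespace Groth.Agent.H22.PropP

variable {R : Type u} [CommRing R]

theorem exists_retraction_pi (hP : ∀ I : Ideal R, I.FG → I ≠ ⊤ → I.annihilator ≠ ⊥) :
    ∀ (n : ℕ) (P : Type w) [AddCommGroup P] [Module R P] [Module.Finite R P] [Module.Projective R P]
      (u : (Fin n → R) →ₗ[R] P), Function.Injective u → ∃ r : P →ₗ[R] (Fin n → R), r ∘ₗ u = LinearMap.id := by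
  intro n
  induction n with
  | zero => intro P _ _ _ _ u _; exact ⟨0, Subsingleton.elim _ _⟩
  | succ n ih =>
    intro P _ _ _ _ u hu
    classical
    let v := u (Pi.single 0 1)
    let J : Ideal R := LinearMap.range (Module.Dual.eval R P v)
    have hfg : J.FG := by
      simp only [J, LinearMap.range_eq_map]
      exact Module.Finite.fg_top.map _
    have hJ : J = ⊤ := by
      by_contra hne
      obtain ⟨a, ha, ha0⟩ := Submodule.exists_mem_ne_zero_of_ne_bot (hP J hfg hne)
      have hav : a • v = 0 := by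
        refine (Module.forall_dual_apply_eq_zero_iff R (a • v)).1 fun φ => ?_
        rw [map_smul]
        exact Submodule.mem_annihilator.1 ha _ ⟨φ, rfl⟩
      have h : a • Pi.single (M := fun _ : Fin (n + 1) => R) 0 1 = 0 := hu (by rw [map_smul, map_zero]; exact hav)
      exact ha0 (by simpa using congrFun h 0)
    obtain ⟨φ, hφ⟩ : (1 : R) ∈ J := hJ ▸ Submodule.mem_top
    have hφv : φ v = 1 := hφ
    let p : P →ₗ[R] LinearMap.ker φ :=
      LinearMap.codRestrict _ (LinearMap.id - φ.smulRight v) fun x => by simp [hφv]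
    have hp : p ∘ₗ (LinearMap.ker φ).subtype = LinearMap.id := by
      refine LinearMap.ext fun x => Subtype.ext ?_
      have hx : φ x = 0 := x.2
      simp [p, hx]
    have : Module.Projective R (LinearMap.ker φ) := Module.Projective.of_split _ p hp
    have : Module.Finite R (LinearMap.ker φ) :=
      Module.Finite.of_surjective p (LinearMap.surjective_of_comp_eq_id _ _ hp)
    let c : (Fin n → R) →ₗ[R] (Fin (n + 1) → R) :=
      (Fin.consLinearEquiv R fun _ => R).toLinearMap ∘ₗ LinearMap.inr R R (Fin n → R)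
    have hdec : ∀ w : Fin (n + 1) → R, w = w 0 • Pi.single 0 1 + c (Fin.tail w) := by
      intro w
      ext i
      induction i using Fin.cases with
      | zero => simp [c]
      | succ i => simp [c, Fin.tail, Fin.succ_ne_zero]
    have hinj : Function.Injective (p ∘ₗ u ∘ₗ c) := by
      rw [← LinearMap.ker_eq_bot, LinearMap.ker_eq_bot']
      intro z hz
      have h1 : u (c z) - φ (u (c z)) • v = 0 := congrArg Subtype.val hz
      rw [← map_smul, ← map_sub] at h1
      have h2 := hu (h1.trans (map_zero u).symm)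
      ext i
      simpa [c, Fin.succ_ne_zero] using congrFun h2 i.succ
    obtain ⟨r', hr'⟩ := ih (LinearMap.ker φ) (p ∘ₗ u ∘ₗ c) hinj
    let r : P →ₗ[R] (Fin (n + 1) → R) := (Fin.consLinearEquiv R fun _ => R).toLinearMap ∘ₗ
      (φ - φ ∘ₗ u ∘ₗ c ∘ₗ r' ∘ₗ p).prod (r' ∘ₗ p)
    refine ⟨r, LinearMap.ext fun w => ?_⟩
    have hx : u w = w 0 • v + u (c (Fin.tail w)) := by
      conv_lhs => rw [hdec w, map_add, map_smul]
    have hpv : p v = 0 := Subtype.ext (by simp [p, hφv])
    have h1 : r' (p (u w)) = Fin.tail w := by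
      rw [hx, map_add, map_smul, hpv, smul_zero, zero_add]
      exact LinearMap.congr_fun hr' _
    have h2 : φ (u w) - φ (u (c (Fin.tail w))) = w 0 := by
      rw [hx, map_add, map_smul, hφv]; simp
    show Fin.cons (φ (u w) - φ (u (c (r' (p (u w)))))) (r' (p (u w))) = w
    rw [h1, h2, Fin.cons_self_tail]

theorem projective_coker (hP : ∀ I : Ideal R, I.FG → I ≠ ⊤ → I.annihilator ≠ ⊥)
    (N M : Type v) [AddCommGroup N] [Module R N] [Module.Finite R N] [Module.Projective R N]
    [AddCommGroup M] [Module R M] [Module.Finite R M] [Module.Projective R M]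
    (u : N →ₗ[R] M) (hu : Function.Injective u) :
    Module.Projective R (M ⧸ LinearMap.range u) := by
  classical
  obtain ⟨n, π, hπ⟩ := Module.Finite.exists_fin' R N
  obtain ⟨s, hs⟩ := Module.projective_lifting_property π LinearMap.id hπ
  let U : (Fin n → R) →ₗ[R] M × (Fin n → R) := (u ∘ₗ π).prod (LinearMap.id - s ∘ₗ π)
  have hU : Function.Injective U := by
    rw [← LinearMap.ker_eq_bot, LinearMap.ker_eq_bot']
    intro w hw
    obtain ⟨h1, h2⟩ := Prod.ext_iff.1 hw
    have h3 : π w = 0 := hu (h1.trans (map_zero u).symm)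
    simpa [U, h3] using h2
  obtain ⟨r, hr⟩ := exists_retraction_pi hP n (M × (Fin n → R)) U hU
  let rM : M →ₗ[R] N := π ∘ₗ r ∘ₗ LinearMap.inl R M (Fin n → R)
  have hrM : ∀ y, rM (u y) = y := by
    intro y
    have hy : π (s y) = y := LinearMap.congr_fun hs y
    have h1 : U (s y) = (u y, 0) := Prod.ext (by simp [U, hy]) (by simp [U, hy])
    have h2 := LinearMap.congr_fun hr (s y)
    rw [LinearMap.comp_apply, h1, LinearMap.id_apply] at h2
    show π (r (u y, 0)) = y
    rw [h2, hy]
  refine Module.Projective.of_split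
    ((LinearMap.range u).liftQ (LinearMap.id - u ∘ₗ rM) ?_) (LinearMap.range u).mkQ ?_
  · rintro _ ⟨y, rfl⟩
    simp [hrM]
  · refine Submodule.linearMap_qext _ (LinearMap.ext fun x => ?_)
    simp

end Groth.Agent.H22.PropP
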