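import Mathlib.LinearAlgebra.Dimension.Localization
import Mathlib.LinearAlgebra.Dimension.Constructions
import Mathlib.LinearAlgebra.FreeModule.Finite.Matrix
import Mathlib.RingTheory.Localization.BaseChange
import Mathlib.Algebra.Module.FinitePresentation

/-!
Ranks over a domain computed over the fraction field.
-/

universe u

open TensorProduct nonZeroDivisors

namespace Groth.Agent.H22.Rank

variable (R : Type u) [CommRing R] [IsDomain R]

theorem rank_fractionRing (M : Type u) [AddCommGroup M] [Module R M] :
    Module.rank (FractionRing R) (FractionRing R ⊗[R] M) = Module.rank R M :=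
  (IsLocalization.rank_eq (FractionRing R) R⁰ le_rfl).trans
    (IsLocalizedModule.rank_eq R⁰ le_rfl (TensorProduct.mk R (FractionRing R) M 1))

theorem rank_linearMap (M N : Type u) [AddCommGroup M] [Module R M] [AddCommGroup N] [Module R N]
    [Module.FinitePresentation R M] :
    Module.rank R (M →ₗ[R] N) = Module.rank R M * Module.rank R N := by
  let K := FractionRing R
  let g := IsLocalizedModule.mapExtendScalars R⁰ (TensorProduct.mk R K M 1)
    (TensorProduct.mk R K N 1) K
  have hg : IsLocalizedModule R⁰ g :=
    Module.FinitePresentation.isLocalizedModule_mapExtendScalars _ _ _ _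
  rw [← IsLocalizedModule.rank_eq (N := (K ⊗[R] M) →ₗ[K] (K ⊗[R] N)) R⁰ le_rfl g,
    ← IsLocalization.rank_eq (N := (K ⊗[R] M) →ₗ[K] (K ⊗[R] N)) K R⁰ le_rfl,
    Module.rank_linearMap, Cardinal.lift_id, Cardinal.lift_id, rank_fractionRing R M,
    rank_fractionRing R N]

end Groth.Agent.H22.Rank
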