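import Mathlib

/-!
Serre's splitting theorem and Bass' cancellation theorem, by the general position argument of
Eisenbud and Evans.
-/

set_option autoImplicit false
universe u

open Module Submodule

namespace Groth.Agent.H22.SerreBass

variable {R : Type u} [CommRing R]

/-- Evaluation of a vector at a prime. -/
noncomputable def ev {N : ℕ} (p : PrimeSpectrum R) : (Fin N → R) →ₗ[R] (Fin N → p.asIdeal.ResidueField) :=
  LinearMap.compLeft (Algebra.linearMap R p.asIdeal.ResidueField) (Fin N)

theorem ev_apply {N : ℕ} (p : PrimeSpectrum R) (v : Fin N → R) (i : Fin N) :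
    ev p v i = algebraMap R p.asIdeal.ResidueField (v i) := rfl

theorem algebraMap_ne_zero {p : PrimeSpectrum R} {r : R} (hr : r ∉ p.asIdeal) :
    algebraMap R p.asIdeal.ResidueField r ≠ 0 := by
  rwa [ne_eq, Ideal.algebraMap_residueField_eq_zero]

/-- The rank at `p` of a family of vectors. -/
noncomputable def rk {N : ℕ} (p : PrimeSpectrum R) {ι : Type} (v : ι → (Fin N → R)) : ℕ :=
  finrank p.asIdeal.ResidueField (span p.asIdeal.ResidueField (Set.range fun i => ev p (v i)))

theorem rk_le_of_le {N : ℕ} (p : PrimeSpectrum R) {ι κ : Type} {v : ι → (Fin N → R)} {w : κ → (Fin N → R)}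
    (h : ∀ i, ev p (v i) ∈ span p.asIdeal.ResidueField (Set.range fun j => ev p (w j))) :
    rk p v ≤ rk p w :=
  Submodule.finrank_mono (span_le.2 (by rintro _ ⟨i, rfl⟩; exact h i))

theorem rk_le_card {N : ℕ} (p : PrimeSpectrum R) {ι : Type} [Fintype ι] (v : ι → (Fin N → R)) :
    rk p v ≤ Fintype.card ι := finrank_range_le_card _

theorem rk_add_one {N m : ℕ} (p : PrimeSpectrum R) (v : Fin (m + 1) → (Fin N → R)) (r : Fin m → R) :
    rk p v ≤ rk p (fun i : Fin m => v i.castSucc + r i • v (Fin.last m)) + 1 := by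
  classical
  set K := p.asIdeal.ResidueField
  set w := ev p (v (Fin.last m))
  set S := span K (Set.range fun i : Fin m => ev p (v i.castSucc + r i • v (Fin.last m)))
  have hle : span K (Set.range fun i => ev p (v i)) ≤ S ⊔ span K {w} := by
    rw [span_le]
    rintro _ ⟨i, rfl⟩
    induction i using Fin.lastCases with
    | last => exact mem_sup_right (mem_span_singleton_self _)
    | cast i =>
      have h : ev p (v i.castSucc) = ev p (v i.castSucc + r i • v (Fin.last m)) - algebraMap R K (r i) • w := by
        rw [map_add, map_smul, algebraMap_smul, add_sub_cancel_right]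
      change ev p (v i.castSucc) ∈ S ⊔ span K {w}
      rw [h]
      exact sub_mem (mem_sup_left (subset_span ⟨i, rfl⟩))
        (mem_sup_right (smul_mem _ _ (mem_span_singleton_self _)))
  refine (Submodule.finrank_mono hle).trans ((Submodule.finrank_add_le_finrank_add_finrank _ _).trans ?_)
  exact Nat.add_le_add le_rfl ((finrank_span_le_card ({w} : Set (Fin N → K))).trans (by simp))

theorem exists_det {N k : ℕ} (p : PrimeSpectrum R) (u : Fin k → (Fin N → R))
    (h : LinearIndependent p.asIdeal.ResidueField fun i => ev p (u i)) :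
    ∃ C : Matrix (Fin k) (Fin N) R, (C * (Matrix.of u).transpose).det ∉ p.asIdeal := by
  classical
  set K := p.asIdeal.ResidueField
  let L : (Fin k → K) →ₗ[K] (Fin N → K) := Fintype.linearCombination K fun i => ev p (u i)
  have hL : Function.Injective L := LinearIndependent.fintypeLinearCombination_injective h
  obtain ⟨G, hG⟩ := L.exists_leftInverse_of_injective (LinearMap.ker_eq_bot.2 hL)
  have hGu : ∀ i, G (ev p (u i)) = Pi.single i 1 := by
    intro i
    have hLi : L (Pi.single i 1) = ev p (u i) := by
      simp [L]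
    rw [← hLi, ← LinearMap.comp_apply, hG, LinearMap.id_apply]
  -- clear denominators in the matrix of `G`
  let C0 : Fin k → Fin N → K := fun a b => G (Pi.single b 1) a
  obtain ⟨⟨b, hb⟩, hbC⟩ := IsLocalization.exist_integer_multiples (nonZeroDivisors (R ⧸ p.asIdeal))
    (Finset.univ : Finset (Fin k × Fin N)) (fun ab => C0 ab.1 ab.2)
  choose cbar hcbar using fun a c => hbC (a, c) (Finset.mem_univ _)
  choose C hC using fun a c => Ideal.Quotient.mk_surjective (cbar a c)
  obtain ⟨s, rfl⟩ := Ideal.Quotient.mk_surjective b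
  have hs : s ∉ p.asIdeal := fun h => nonZeroDivisors.ne_zero hb (Ideal.Quotient.eq_zero_iff_mem.2 h)
  have hCK : ∀ a c, algebraMap R K (C a c) = algebraMap R K s * C0 a c := by
    intro a c
    have := hcbar a c
    rw [Algebra.smul_def, ← hC a c] at this
    simpa [← Ideal.Quotient.algebraMap_eq, ← IsScalarTower.algebraMap_apply] using this
  refine ⟨Matrix.of C, fun hdet => ?_⟩
  have hM : (Matrix.of C * (Matrix.of u).transpose).map (algebraMap R K) =
      Matrix.diagonal fun _ => algebraMap R K s := by
    ext a i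
    rw [Matrix.map_apply, Matrix.mul_apply, map_sum]
    simp only [Matrix.of_apply, Matrix.transpose_apply, map_mul, hCK, mul_assoc]
    rw [← Finset.mul_sum]
    have hsum : ∑ c, C0 a c * algebraMap R K (u i c) = G (ev p (u i)) a := by
      conv_rhs => rw [pi_eq_sum_univ' (ev p (u i))]
      rw [map_sum, Finset.sum_apply]
      refine Finset.sum_congr rfl fun c _ => ?_
      rw [map_smul, Pi.smul_apply, smul_eq_mul, mul_comm]
      rfl
    rw [hsum, hGu, Matrix.diagonal_apply, Pi.single_apply]
    split <;> simp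
  have h0 : algebraMap R K (Matrix.of C * (Matrix.of u).transpose).det = 0 :=
    Ideal.algebraMap_residueField_eq_zero.2 hdet
  rw [RingHom.map_det, RingHom.mapMatrix_apply, hM, Matrix.det_diagonal, Finset.prod_const] at h0
  exact algebraMap_ne_zero hs (eq_zero_of_pow_eq_zero h0)

theorem linearIndependent_of_det {N k : ℕ} (p : PrimeSpectrum R) (u : Fin k → (Fin N → R))
    (C : Matrix (Fin k) (Fin N) R) (h : (C * (Matrix.of u).transpose).det ∉ p.asIdeal) :
    LinearIndependent p.asIdeal.ResidueField fun i => ev p (u i) := by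
  classical
  set K := p.asIdeal.ResidueField
  rw [Fintype.linearIndependent_iff]
  intro g hg
  have hdet : ((C * (Matrix.of u).transpose).map (algebraMap R K)).det ≠ 0 := by
    rw [← RingHom.mapMatrix_apply, ← RingHom.map_det]
    exact algebraMap_ne_zero h
  have : ((C * (Matrix.of u).transpose).map (algebraMap R K)).mulVec g = 0 := by
    rw [Matrix.map_mul, ← Matrix.mulVec_mulVec]
    have h2 : ((Matrix.of u).transpose.map (algebraMap R K)).mulVec g = 0 := by
      funext c
      have := congrFun hg c
      simp only [Finset.sum_apply, Pi.smul_apply, ev_apply, smul_eq_mul, Pi.zero_apply] at this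
      simp only [Matrix.mulVec, dotProduct, Matrix.map_apply, Matrix.transpose_apply, Matrix.of_apply,
        Pi.zero_apply]
      rw [← this]
      exact Finset.sum_congr rfl fun i _ => mul_comm _ _
    rw [h2, Matrix.mulVec_zero]
  exact fun i => congrFun (Matrix.eq_zero_of_mulVec_eq_zero hdet this) i

theorem isOpen_lt_rk {N : ℕ} {ι : Type} [Fintype ι] (v : ι → (Fin N → R)) (j : ℕ) :
    IsOpen {p : PrimeSpectrum R | j < rk p v} := by
  refine isOpen_iff_forall_mem_open.2 fun p hp => ?_
  obtain ⟨κ', f, hf, hsp, hli⟩ := exists_linearIndependent' p.asIdeal.ResidueField (fun i => ev p (v i))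
  haveI : Finite κ' := Finite.of_injective f hf
  haveI := Fintype.ofFinite κ'
  have hcard : j < Fintype.card κ' := by
    have h1 := finrank_span_eq_card hli
    rw [hsp] at h1
    exact lt_of_lt_of_eq hp h1
  let g : Fin (j + 1) → κ' := fun i => (Fintype.equivFin κ').symm ⟨i, by omega⟩
  have hg : Function.Injective g := fun a b h => by
    simpa [g, Fin.ext_iff] using h
  obtain ⟨C, hC⟩ := exists_det p (fun i => v (f (g i))) (hli.comp g hg)
  refine ⟨PrimeSpectrum.basicOpen ((C * (Matrix.of fun i => v (f (g i))).transpose).det), fun q hq => ?_,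
    (PrimeSpectrum.basicOpen _).2, hC⟩
  have h1 : rk q (fun i => v (f (g i))) = j + 1 :=
    (finrank_span_eq_card (linearIndependent_of_det q _ C hq)).trans (by simp)
  have h2 : rk q (fun i => v (f (g i))) ≤ rk q v := rk_le_of_le q fun i => subset_span ⟨_, rfl⟩
  show j < rk q v; omega

variable [IsNoetherianRing R]

/-- `dim R/p + 1`. -/
noncomputable def fdim (p : PrimeSpectrum R) : ℕ := (Order.coheight p).toNat + 1

theorem coheight_le {d : ℕ} (hd : ringKrullDim R ≤ d) (p : PrimeSpectrum R) : Order.coheight p ≤ d :=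
  WithBot.coe_le_coe.1 ((Order.coheight_le_krullDim p).trans hd)

theorem fdim_le {d : ℕ} (hd : ringKrullDim R ≤ d) (p : PrimeSpectrum R) : fdim p ≤ d + 1 := by
  have h := ENat.toNat_le_toNat (coheight_le hd p) (by simp)
  simp only [fdim, ENat.toNat_coe] at h ⊢
  omega

theorem fdim_lt {d : ℕ} (hd : ringKrullDim R ≤ d) {p q : PrimeSpectrum R} (h : q < p) : fdim p < fdim q := by
  have hp : Order.coheight p < ⊤ := (coheight_le hd p).trans_lt (ENat.coe_lt_top d)
  have hq : Order.coheight q < ⊤ := (coheight_le hd q).trans_lt (ENat.coe_lt_top d)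
  have h' := Order.coheight_strictAnti h hp
  obtain ⟨a, ha⟩ := ENat.ne_top_iff_exists.1 hp.ne
  obtain ⟨b, hb⟩ := ENat.ne_top_iff_exists.1 hq.ne
  rw [← ha, ← hb, ENat.coe_lt_coe] at h'
  simp only [fdim, ← ha, ← hb, ENat.toNat_coe]
  omega

/-- The finitely many primes at which a reduction step needs care. -/
theorem finite_bad {d N m : ℕ} (hd : ringKrullDim R ≤ d) (a : R) (v : Fin (m + 1) → (Fin N → R))
    (hv : ∀ p : PrimeSpectrum R, a ∉ p.asIdeal → min (m + 1) (fdim p) ≤ rk p v) :
    {p : PrimeSpectrum R | a ∉ p.asIdeal ∧ fdim p ≤ m ∧ rk p v = fdim p}.Finite := by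
  let Z : ℕ → Set (PrimeSpectrum R) := fun j => {p | j < rk p v}ᶜ
  have hZ : ∀ j, ∃ I : Ideal R, Z j = PrimeSpectrum.zeroLocus I := fun j =>
    (PrimeSpectrum.isClosed_iff_zeroLocus_ideal _).1 (isOpen_lt_rk v j).isClosed_compl
  choose I hI using hZ
  refine ((Finset.range (m + 1)).finite_toSet.biUnion fun j _ =>
    ((I j).finite_minimalPrimes_of_isNoetherianRing R).preimage
      (f := fun p : PrimeSpectrum R => p.asIdeal) ?_).subset ?_
  · intro p _ q _ h
    exact PrimeSpectrum.ext h
  rintro p ⟨hap, hfm, hrk⟩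
  simp only [Set.mem_iUnion]
  refine ⟨fdim p, Finset.mem_coe.2 (Finset.mem_range.2 (by omega)), ?_⟩
  have hpZ : p ∈ Z (fdim p) := fun h => (lt_irrefl _ (hrk ▸ h : fdim p < fdim p))
  rw [hI] at hpZ
  refine ⟨⟨p.isPrime, hpZ⟩, fun q hq hqp => ?_⟩
  by_contra hne
  have hlt : (⟨q, hq.1⟩ : PrimeSpectrum R) < p := lt_of_le_not_ge hqp hne
  have hqZ : (⟨q, hq.1⟩ : PrimeSpectrum R) ∈ Z (fdim p) := by
    rw [hI]; exact hq.2
  have h1 := hv ⟨q, hq.1⟩ (fun h => hap (hqp h))
  have h2 := fdim_lt hd hlt
  have h3 : ¬ fdim p < rk (⟨q, hq.1⟩ : PrimeSpectrum R) v := hqZ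
  omega

omit [IsNoetherianRing R] in
/-- A single step of the general position argument. -/
theorem exists_step {N m : ℕ} (v : Fin (m + 1) → (Fin N → R)) (F : Finset (PrimeSpectrum R))
    (hF : ∀ p ∈ F, rk p v ≤ m) :
    ∃ r : Fin m → R, ∀ p ∈ F, rk p v ≤ rk p (fun i : Fin m => v i.castSucc + r i • v (Fin.last m)) := by
  classical
  induction F using Finset.strongInduction with
  | _ F ih =>
  rcases F.eq_empty_or_nonempty with rfl | hne
  · exact ⟨0, by simp⟩
  obtain ⟨p, hp, hpmin⟩ := F.exists_minimal hne
  obtain ⟨r, hr⟩ := ih (F.erase p) (Finset.erase_ssubset hp) fun q hq => hF q (Finset.mem_of_mem_erase hq)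
  by_cases hgood : rk p v ≤ rk p (fun i : Fin m => v i.castSucc + r i • v (Fin.last m))
  · exact ⟨r, fun q hq => (eq_or_ne q p).elim (fun h => h ▸ hgood) fun h =>
      hr q (Finset.mem_erase.2 ⟨h, hq⟩)⟩
  -- an element outside `p` in all other primes
  have hnot : ¬ ((F.erase p).inf fun q => q.asIdeal) ≤ p.asIdeal := by
    intro h
    obtain ⟨q, hq, hqp⟩ := (p.isPrime.inf_le').1 h
    exact (Finset.mem_erase.1 hq).1 (le_antisymm hqp (hpmin (Finset.mem_of_mem_erase hq) hqp))
  obtain ⟨s, hs, hsp⟩ := SetLike.not_le_iff_exists.1 hnot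
  set K := p.asIdeal.ResidueField
  set w := ev p (v (Fin.last m))
  let u : Fin m → (Fin N → K) := fun i => ev p (v i.castSucc + r i • v (Fin.last m))
  have hdep : ∃ i, u i ∈ span K (u '' {i}ᶜ) := by
    by_contra hno
    simp only [not_exists] at hno
    have hli : LinearIndependent K u := by
      rw [linearIndependent_iff_notMem_span]
      intro i h
      exact hno i (by simpa [Set.compl_eq_univ_diff] using h)
    have h1 : rk p (fun i : Fin m => v i.castSucc + r i • v (Fin.last m)) = m :=
      (finrank_span_eq_card hli).trans (Fintype.card_fin m)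
    have := hF p hp
    omega
  obtain ⟨i, hi⟩ := hdep
  refine ⟨Function.update r i (r i + s), fun q hq => ?_⟩
  rcases eq_or_ne q p with rfl | hqp
  · refine rk_le_of_le _ fun l => ?_
    set S := span K (Set.range fun j : Fin m =>
      ev q (v j.castSucc + Function.update r i (r i + s) j • v (Fin.last m)))
    have hu : ∀ j, j ≠ i → u j ∈ S := fun j hj => subset_span ⟨j, by simp [u, Function.update_of_ne hj]⟩
    have hui : u i ∈ S := (span_le.2 (by rintro _ ⟨j, hj, rfl⟩; exact hu j hj) : span K (u '' {i}ᶜ) ≤ S) hi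
    have hsw : algebraMap R K s • w ∈ S := by
      have hnew : ev q (v i.castSucc + Function.update r i (r i + s) i • v (Fin.last m)) ∈ S :=
        subset_span ⟨i, rfl⟩
      have heq : algebraMap R K s • w =
          ev q (v i.castSucc + Function.update r i (r i + s) i • v (Fin.last m)) - u i := by
        rw [Function.update_self, algebraMap_smul]
        simp only [u, w, ← map_sub, ← map_smul]
        congr 1
        rw [add_smul]
        abel
      exact heq ▸ sub_mem hnew hui
    have hw : w ∈ S := (S.smul_mem_iff (algebraMap_ne_zero hsp)).1 hsw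
    induction l using Fin.lastCases with
    | last => exact hw
    | cast l =>
      have hl : u l ∈ S := if h : l = i then h ▸ hui else hu l h
      have : ev q (v l.castSucc) = u l - algebraMap R K (r l) • w := by
        simp only [u, w, map_add, map_smul, algebraMap_smul, add_sub_cancel_right]
      exact this ▸ sub_mem hl (smul_mem _ _ hw)
  · have hsq : s ∈ q.asIdeal := (Finset.inf_le (f := fun q : PrimeSpectrum R => q.asIdeal)
      (Finset.mem_erase.2 ⟨hqp, hq⟩) : _ ≤ q.asIdeal) hs
    have h0 : algebraMap R q.asIdeal.ResidueField s = 0 := Ideal.algebraMap_residueField_eq_zero.2 hsq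
    have hkill : ev q (s • v (Fin.last m)) = 0 := by
      rw [map_smul, ← algebraMap_smul q.asIdeal.ResidueField s, h0, zero_smul]
    refine (hr q (Finset.mem_erase.2 ⟨hqp, hq⟩)).trans (le_of_eq ?_)
    have hfun : (fun j : Fin m => ev q (v j.castSucc + r j • v (Fin.last m))) =
        fun j : Fin m => ev q (v j.castSucc + Function.update r i (r i + s) j • v (Fin.last m)) := by
      funext j
      rcases eq_or_ne j i with rfl | hj
      · rw [Function.update_self, add_smul, ← add_assoc, map_add _ (v j.castSucc + r j • v (Fin.last m)), hkill,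
          add_zero]
      · rw [Function.update_of_ne hj]
    exact congrArg (fun f : Fin m → (Fin N → q.asIdeal.ResidueField) =>
      finrank q.asIdeal.ResidueField (span q.asIdeal.ResidueField (Set.range f))) hfun

/-- General position: `x` can be moved by multiples of `a` to a nowhere vanishing vector. -/
theorem exists_nowhere_zero {d N : ℕ} (hd : ringKrullDim R ≤ d) (a : R) :
    ∀ (m : ℕ) (x : Fin N → R) (g : Fin m → (Fin N → R)),
      (∀ p : PrimeSpectrum R, a ∈ p.asIdeal → ev p x ≠ 0) →
      (∀ p : PrimeSpectrum R, a ∉ p.asIdeal → min (m + 1) (fdim p) ≤ rk p (Fin.cons x fun i => a • g i)) →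
      ∃ c : Fin m → R, ∀ p : PrimeSpectrum R, ev p (x + a • ∑ i, c i • g i) ≠ 0 := by
  intro m
  induction m with
  | zero =>
    intro x g hxa hv
    refine ⟨0, fun p => ?_⟩
    simp only [Finset.univ_eq_empty, Finset.sum_empty, smul_zero, add_zero]
    by_cases hap : a ∈ p.asIdeal
    · exact hxa p hap
    intro h0
    have h1 := hv p hap
    have h2 : rk p (Fin.cons x fun i => a • g i : Fin 1 → (Fin N → R)) = 0 := by
      unfold rk
      have : (Set.range fun i : Fin 1 => ev p ((Fin.cons x fun i => a • g i : Fin 1 → (Fin N → R)) i)) ⊆ {0} := by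
        rintro _ ⟨i, rfl⟩
        obtain rfl : i = 0 := Subsingleton.elim _ _
        simpa using h0
      rw [Submodule.span_eq_bot.2 fun z hz => this hz, finrank_bot]
    have h3 : 1 ≤ fdim p := Nat.le_add_left 1 _
    omega
  | succ m ih =>
    intro x g hxa hv
    let v : Fin (m + 1 + 1) → (Fin N → R) := Fin.cons x fun i => a • g i
    obtain ⟨r, hr⟩ := exists_step v (finite_bad hd a v hv).toFinset fun p hp => by
      obtain ⟨-, h1, h2⟩ := (finite_bad hd a v hv).mem_toFinset.1 hp
      omega
    have hlast : v (Fin.last (m + 1)) = a • g (Fin.last m) := by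
      rw [← Fin.succ_last]; simp [v]
    let x' := x + a • (r 0 • g (Fin.last m))
    let g' : Fin m → (Fin N → R) := fun i => g i.castSucc + r i.succ • g (Fin.last m)
    have heq : (Fin.cons x' fun i => a • g' i : Fin (m + 1) → (Fin N → R)) =
        fun i => v i.castSucc + r i • v (Fin.last (m + 1)) := by
      funext i
      rw [hlast]
      induction i using Fin.cases with
      | zero => simp [v, x', smul_comm a (r 0)]
      | succ i =>
        simp only [Fin.cons_succ, ← Fin.succ_castSucc, v, g', smul_add, smul_comm a (r i.succ)]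
    obtain ⟨c, hc⟩ := ih x' g' (fun p hap => by
      have h0 : algebraMap R p.asIdeal.ResidueField a = 0 := Ideal.algebraMap_residueField_eq_zero.2 hap
      rw [map_add, map_smul, ← algebraMap_smul p.asIdeal.ResidueField a, h0, zero_smul, add_zero]
      exact hxa p hap) (fun p hap => by
      rw [heq]
      have h1 : min (m + 1 + 1) (fdim p) ≤ rk p v := hv p hap
      have h2 := rk_add_one p v r
      by_cases hbad : fdim p ≤ m + 1 ∧ rk p v = fdim p
      · have h3 := hr p ((finite_bad hd a v hv).mem_toFinset.2 ⟨hap, hbad⟩)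
        omega
      · omega)
    refine ⟨Fin.snoc c (r 0 + ∑ i, c i * r i.succ), fun p => ?_⟩
    have : x + a • ∑ i, (Fin.snoc c (r 0 + ∑ i, c i * r i.succ) : Fin (m + 1) → R) i • g i =
        x' + a • ∑ i, c i • g' i := by
      simp only [Fin.sum_univ_castSucc, Fin.snoc_castSucc, Fin.snoc_last, x', g', smul_add,
        Finset.sum_add_distrib, add_smul, Finset.sum_smul, mul_smul]
      abel
    exact this ▸ hc p

variable {P : Type u} [AddCommGroup P] [Module R P] [Module.Finite R P] [Module.Projective R P]

theorem exists_unimodular {d : ℕ} (hd : ringKrullDim R ≤ d)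
    (hrk : ∀ p : PrimeSpectrum R, d < rankAtStalk P p) (x : P) (a : R)
    (hxa : ∀ p : PrimeSpectrum R, a ∈ p.asIdeal → ∃ φ : P →ₗ[R] R, φ x ∉ p.asIdeal) :
    ∃ (y : P) (φ : P →ₗ[R] R), φ (x + a • y) = 1 := by
  classical
  obtain ⟨N, π, hπ⟩ := Module.Finite.exists_fin' R P
  obtain ⟨ι, hι⟩ := Module.projective_lifting_property π LinearMap.id hπ
  let g : Fin N → P := fun i => π (Pi.single i 1)
  have hxa' : ∀ p : PrimeSpectrum R, a ∈ p.asIdeal → ev p (ι x) ≠ 0 := by
    intro p hap h0
    obtain ⟨φ, hφ⟩ := hxa p hap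
    refine hφ ?_
    rw [← Ideal.algebraMap_residueField_eq_zero]
    have hx : x = π (ι x) := (LinearMap.congr_fun hι x).symm
    rw [hx, pi_eq_sum_univ' (ι x), map_sum, map_sum, map_sum]
    refine Finset.sum_eq_zero fun i _ => ?_
    rw [map_smul, map_smul, smul_eq_mul, map_mul, ← ev_apply, h0, Pi.zero_apply, zero_mul]
  obtain ⟨c, hc⟩ := exists_nowhere_zero hd a N (ι x) (fun i => ι (g i)) hxa' (fun p hap => by
    set K := p.asIdeal.ResidueField
    let L : p.asIdeal.Fiber P →ₗ[K] (Fin N → K) :=
      (TensorProduct.piScalarRight R K K (Fin N)).toLinearMap ∘ₗ ι.baseChange K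
    have hL : Function.Injective L := by
      refine (TensorProduct.piScalarRight R K K (Fin N)).injective.comp ?_
      have : π.baseChange K ∘ₗ ι.baseChange K = LinearMap.id := by
        rw [← LinearMap.baseChange_comp, hι, LinearMap.baseChange_id]
      exact fun z w h => by simpa [← LinearMap.comp_apply, this] using congrArg (π.baseChange K) h
    have hL1 : ∀ z, L (1 ⊗ₜ[R] z) = ev p (ι z) := by
      intro z; ext i
      simp [L, ev_apply, Algebra.algebraMap_eq_smul_one]
    have hle : LinearMap.range L ≤
        span K (Set.range fun i => ev p ((Fin.cons (ι x) fun i => a • ι (g i) : Fin (N + 1) → (Fin N → R)) i)) := by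
      rintro _ ⟨z, rfl⟩
      induction z using TensorProduct.induction_on with
      | zero => rw [map_zero]; exact zero_mem _
      | add y z hy hz => rw [map_add]; exact add_mem hy hz
      | tmul k z =>
        obtain ⟨z, rfl⟩ := hπ z
        have hk : k ⊗ₜ[R] π z = k • ((1 : K) ⊗ₜ[R] π z) := by
          rw [TensorProduct.smul_tmul', smul_eq_mul, mul_one]
        rw [hk, map_smul, hL1, pi_eq_sum_univ' z, map_sum, map_sum, map_sum]
        refine smul_mem _ _ (sum_mem fun i _ => ?_)
        rw [map_smul, map_smul, map_smul, ← algebraMap_smul K (z i)]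
        refine smul_mem _ _ ((smul_mem_iff _ (algebraMap_ne_zero hap)).1 ?_)
        rw [algebraMap_smul, ← map_smul]
        exact subset_span ⟨i.succ, by simp [g]⟩
    have h1 : rankAtStalk P p ≤ rk p (Fin.cons (ι x) fun i => a • ι (g i) : Fin (N + 1) → (Fin N → R)) := by
      rw [rankAtStalk_eq, ← LinearMap.finrank_range_of_inj hL]
      exact Submodule.finrank_mono hle
    have h2 := fdim_le hd p
    have h3 := hrk p
    omega)
  set z := x + a • ∑ i, c i • g i
  have hz : ι z = ι x + a • ∑ i, c i • ι (g i) := by simp [z, map_sum]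
  have htop : Ideal.span (Set.range (ι z)) = ⊤ := by
    by_contra hne
    obtain ⟨m, hm, hle⟩ := Ideal.exists_le_maximal _ hne
    refine hc ⟨m, hm.isPrime⟩ ?_
    funext i
    rw [← hz, ev_apply, Pi.zero_apply, Ideal.algebraMap_residueField_eq_zero]
    exact hle (Ideal.subset_span ⟨i, rfl⟩)
  obtain ⟨b, hb⟩ := (Submodule.mem_span_range_iff_exists_fun R).1 (htop ▸ Submodule.mem_top : (1 : R) ∈ Ideal.span (Set.range (ι z)))
  exact ⟨∑ i, c i • g i, (∑ i, b i • LinearMap.proj i) ∘ₗ ι, by simpa [LinearMap.sum_apply, z] using hb⟩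

end Groth.Agent.H22.SerreBass
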