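import Groth.Agent.H22.SerreBass
import Mathlib

/-!
Serre's splitting theorem on the maximal spectrum, for finitely presented modules.
-/

set_option autoImplicit false
set_option maxHeartbeats 1000000
universe u

open Module Submodule TopologicalSpace

namespace Groth.Agent.H22.SerreMax

open Groth.Agent.H22.SerreBass (ev rk)

variable {R : Type u} [CommRing R]

/-- The maximal points of `V(p)`. -/
def VI (p : PrimeSpectrum R) : Set (MaximalSpectrum R) :=
  MaximalSpectrum.toPrimeSpectrum ⁻¹' PrimeSpectrum.zeroLocus p.asIdeal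

theorem mem_VI {p : PrimeSpectrum R} {m : MaximalSpectrum R} : m ∈ VI p ↔ p.asIdeal ≤ m.asIdeal := Iff.rfl

/-- `p` is an intersection of maximal ideals. -/
def IsJ (p : PrimeSpectrum R) : Prop := ∀ r : R, (∀ m ∈ VI p, r ∈ m.asIdeal) → r ∈ p.asIdeal

theorem isClosed_VI (p : PrimeSpectrum R) : IsClosed (VI p) :=
  (PrimeSpectrum.isClosed_zeroLocus _).preimage continuous_induced_dom

theorem isJ_of_maximal (m : MaximalSpectrum R) : IsJ m.toPrimeSpectrum :=
  fun _ h => h m (mem_VI.2 le_rfl)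

theorem IsJ.isIrreducible {p : PrimeSpectrum R} (hp : IsJ p) : IsIrreducible (VI p) := by
  refine ⟨?_, isPreirreducible_iff_isClosed_union_isClosed.2 fun z z' hz hz' h => ?_⟩
  · rw [Set.nonempty_iff_ne_empty]
    intro h
    exact p.isPrime.ne_top ((Ideal.eq_top_iff_one _).2 (hp 1 (by simp [h])))
  · obtain ⟨Z, hZ, rfl⟩ := isClosed_induced_iff.1 hz
    obtain ⟨Z', hZ', rfl⟩ := isClosed_induced_iff.1 hz'
    obtain ⟨I, rfl⟩ := (PrimeSpectrum.isClosed_iff_zeroLocus_ideal _).1 hZ
    obtain ⟨J, rfl⟩ := (PrimeSpectrum.isClosed_iff_zeroLocus_ideal _).1 hZ'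
    have hIJ : I * J ≤ p.asIdeal := fun r hr => hp r fun m hm => by
      rcases h hm with h1 | h1
      · exact (show I ≤ m.asIdeal from h1) (Ideal.mul_le_left (J := J) (I := I) hr)
      · exact (show J ≤ m.asIdeal from h1) (Ideal.mul_le_right (I := I) (J := J) hr)
    rcases p.isPrime.mul_le.1 hIJ with h1 | h1
    · exact Or.inl fun m hm => show I ≤ m.asIdeal from le_trans (b := p.asIdeal) h1 hm
    · exact Or.inr fun m hm => show J ≤ m.asIdeal from le_trans (b := p.asIdeal) h1 hm

theorem exists_isJ_of_isIrreducible {W : Set (MaximalSpectrum R)} (hW : IsIrreducible W) :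
    ∃ q : PrimeSpectrum R, IsJ q ∧ W ⊆ VI q ∧ ∀ r : R, (∀ m ∈ W, r ∈ m.asIdeal) → r ∈ q.asIdeal := by
  have h : (PrimeSpectrum.vanishingIdeal (MaximalSpectrum.toPrimeSpectrum '' W)).IsPrime :=
    PrimeSpectrum.isIrreducible_iff_vanishingIdeal_isPrime.1 (hW.image _ continuous_induced_dom.continuousOn)
  have key : ∀ r, r ∈ PrimeSpectrum.vanishingIdeal (MaximalSpectrum.toPrimeSpectrum '' W) ↔
      ∀ m ∈ W, r ∈ m.asIdeal := fun r => by
    simp only [PrimeSpectrum.mem_vanishingIdeal, Set.forall_mem_image]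
    rfl
  refine ⟨⟨_, h⟩, fun r hr => (key r).2 fun m hm => hr m ?_, fun m hm => ?_, fun r hr => (key r).2 hr⟩ <;>
  · exact mem_VI.2 fun x hx => (key x).1 hx m hm

open Classical in
/-- `dim V(p) + 1` in the maximal spectrum. -/
noncomputable def fdim (p : PrimeSpectrum R) : ℕ :=
  if h : IsJ p then
    (Order.height (⟨VI p, h.isIrreducible, isClosed_VI p⟩ : IrreducibleCloseds (MaximalSpectrum R))).toNat + 1
  else 0

variable {d : ℕ}

theorem height_le (hd : topologicalKrullDim (MaximalSpectrum R) ≤ d)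
    (W : IrreducibleCloseds (MaximalSpectrum R)) : Order.height W ≤ d :=
  WithBot.coe_le_coe.1 ((Order.height_le_krullDim W).trans hd)

theorem fdim_le (hd : topologicalKrullDim (MaximalSpectrum R) ≤ d) (p : PrimeSpectrum R) : fdim p ≤ d + 1 := by
  unfold fdim
  split_ifs with h
  · have h1 := ENat.toNat_le_toNat (height_le hd ⟨VI p, h.isIrreducible, isClosed_VI p⟩) (by simp)
    simp only [ENat.toNat_coe] at h1
    omega
  · omega

theorem fdim_lt (hd : topologicalKrullDim (MaximalSpectrum R) ≤ d) {p q : PrimeSpectrum R} (hp : IsJ p)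
    (hq : IsJ q) (h : q < p) : fdim p < fdim q := by
  let Wp : IrreducibleCloseds (MaximalSpectrum R) := ⟨VI p, hp.isIrreducible, isClosed_VI p⟩
  let Wq : IrreducibleCloseds (MaximalSpectrum R) := ⟨VI q, hq.isIrreducible, isClosed_VI q⟩
  have hlt : Wp < Wq := by
    refine lt_of_le_not_ge (fun m hm => le_trans (a := q.asIdeal) h.le hm) fun hle => ?_
    exact h.not_ge fun r hr => hq r fun m hm => (mem_VI.1 (hle hm)) hr
  have h1 : Order.height Wp < ⊤ := (height_le hd Wp).trans_lt (ENat.coe_lt_top d)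
  have h2 : Order.height Wq < ⊤ := (height_le hd Wq).trans_lt (ENat.coe_lt_top d)
  have h' := Order.height_strictMono hlt h1
  obtain ⟨a, ha⟩ := ENat.ne_top_iff_exists.1 h1.ne
  obtain ⟨b, hb⟩ := ENat.ne_top_iff_exists.1 h2.ne
  rw [← ha, ← hb, ENat.coe_lt_coe] at h'
  simp only [fdim, dif_pos hp, dif_pos hq]
  rw [show Order.height _ = (a : ℕ∞) from ha.symm, show Order.height _ = (b : ℕ∞) from hb.symm]
  simpa using h'

theorem one_le_fdim {p : PrimeSpectrum R} (hp : IsJ p) : 1 ≤ fdim p := by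
  rw [fdim, dif_pos hp]; omega

variable [NoetherianSpace (MaximalSpectrum R)]

theorem finite_bad {N m : ℕ} (hd : topologicalKrullDim (MaximalSpectrum R) ≤ d)
    (v : Fin (m + 1) → (Fin N → R)) (hv : ∀ p : PrimeSpectrum R, IsJ p → min (m + 1) (fdim p) ≤ rk p v) :
    {p : PrimeSpectrum R | IsJ p ∧ fdim p ≤ m ∧ rk p v = fdim p}.Finite := by
  let Z : ℕ → Set (PrimeSpectrum R) := fun j => {p | j < rk p v}ᶜ
  rcases isEmpty_or_nonempty (PrimeSpectrum R) with hE | ⟨⟨p0⟩⟩
  · exact Set.toFinite _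
  have hmin : ∀ j, {p : PrimeSpectrum R | IsJ p ∧ p ∈ Z j ∧ ∀ q, IsJ q → q < p → q ∉ Z j}.Finite := by
    intro j
    have hcl : IsClosed (Z j) := (Groth.Agent.H22.SerreBass.isOpen_lt_rk v j).isClosed_compl
    obtain ⟨S, hSf, hSc, hSi, hS⟩ :=
      NoetherianSpace.exists_finite_set_isClosed_irreducible
        (hcl.preimage (continuous_induced_dom (f := MaximalSpectrum.toPrimeSpectrum)))
    have hex : ∀ W : Set (MaximalSpectrum R), ∃ q : PrimeSpectrum R, W ∈ S → IsJ q ∧ W ⊆ VI q ∧
        ∀ r : R, (∀ m ∈ W, r ∈ m.asIdeal) → r ∈ q.asIdeal := fun W => by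
      by_cases hW : W ∈ S
      · obtain ⟨q, hq⟩ := exists_isJ_of_isIrreducible (hSi W hW)
        exact ⟨q, fun _ => hq⟩
      · exact ⟨p0, fun h => absurd h hW⟩
    choose q hq using hex
    have hqJ := fun W hW => (hq W hW).1
    have hWq := fun W hW => (hq W hW).2.1
    have hqW := fun W hW => (hq W hW).2.2
    refine (hSf.image q).subset fun p hp => ?_
    obtain ⟨hpJ, hpZ, hpmin⟩ := hp
    obtain ⟨I, hI⟩ := (PrimeSpectrum.isClosed_iff_zeroLocus_ideal _).1 hcl
    rw [hI] at hpZ
    have hsub : VI p ⊆ MaximalSpectrum.toPrimeSpectrum ⁻¹' Z j := by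
      rw [hI]; exact fun x hx => le_trans (a := I) hpZ hx
    rw [hS] at hsub
    obtain ⟨W, hW, hpW⟩ := isIrreducible_iff_sUnion_isClosed.1 hpJ.isIrreducible hSf.toFinset
      (fun t ht => hSc t (hSf.mem_toFinset.1 ht)) (by rwa [Set.Finite.coe_toFinset])
    rw [hSf.mem_toFinset] at hW
    refine ⟨W, hW, ?_⟩
    have hle : q W ≤ p := fun r hr => hpJ r fun x hx => mem_VI.1 (hWq W hW (hpW hx)) hr
    refine hle.eq_or_lt.resolve_right fun hlt => hpmin _ (hqJ W hW) hlt ?_
    rw [hI]
    intro r hr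
    refine hqW W hW r fun x hx => ?_
    have : x ∈ MaximalSpectrum.toPrimeSpectrum ⁻¹' Z j := by rw [hS]; exact ⟨W, hW, hx⟩
    rw [hI] at this
    exact this hr
  refine ((Finset.range (m + 1)).finite_toSet.biUnion fun j _ => hmin j).subset ?_
  rintro p ⟨hpJ, hfm, hrk⟩
  simp only [Set.mem_iUnion]
  refine ⟨fdim p, Finset.mem_coe.2 (Finset.mem_range.2 (by omega)), hpJ,
    fun h => lt_irrefl _ (hrk ▸ h : fdim p < fdim p), fun q hqJ hqp hqZ => ?_⟩
  have h1 := hv q hqJ
  have h2 := fdim_lt hd hpJ hqJ hqp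
  have h3 : ¬ fdim p < rk q v := hqZ
  omega

/-- General position on the maximal spectrum. -/
theorem exists_nowhere_zero {N : ℕ} (hd : topologicalKrullDim (MaximalSpectrum R) ≤ d) :
    ∀ (m : ℕ) (v : Fin (m + 1) → (Fin N → R)),
      (∀ p : PrimeSpectrum R, IsJ p → min (m + 1) (fdim p) ≤ rk p v) →
      ∃ c : Fin (m + 1) → R, ∀ x : MaximalSpectrum R, ev x.toPrimeSpectrum (∑ i, c i • v i) ≠ 0 := by
  intro m
  induction m with
  | zero =>
    intro v hv
    refine ⟨1, fun x h0 => ?_⟩
    have h1 := hv _ (isJ_of_maximal x)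
    have h2 : rk x.toPrimeSpectrum v = 0 := by
      unfold rk
      have : (Set.range fun i => ev x.toPrimeSpectrum (v i)) ⊆ {0} := by
        rintro _ ⟨i, rfl⟩
        obtain rfl : i = 0 := Fin.ext (by omega)
        simpa using h0
      rw [Submodule.span_eq_bot.2 fun z hz => this hz, finrank_bot]
    have h3 := one_le_fdim (isJ_of_maximal x)
    omega
  | succ m ih =>
    intro v hv
    obtain ⟨r, hr⟩ := Groth.Agent.H22.SerreBass.exists_step v (finite_bad hd v hv).toFinset fun p hp => by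
      obtain ⟨-, h1, h2⟩ := (finite_bad hd v hv).mem_toFinset.1 hp
      omega
    obtain ⟨c, hc⟩ := ih (fun i => v i.castSucc + r i • v (Fin.last (m + 1))) fun p hp => by
      have h1 := hv p hp
      have h2 := Groth.Agent.H22.SerreBass.rk_add_one p v r
      by_cases hbad : fdim p ≤ m + 1 ∧ rk p v = fdim p
      · have h3 := hr p ((finite_bad hd v hv).mem_toFinset.2 ⟨hp, hbad⟩)
        omega
      · omega
    refine ⟨Fin.snoc c (∑ i, c i * r i), fun x => ?_⟩
    have heq : ∑ i, (Fin.snoc c (∑ i, c i * r i) : Fin (m + 1 + 1) → R) i • v i =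
        ∑ i, c i • (v i.castSucc + r i • v (Fin.last (m + 1))) := by
      rw [Fin.sum_univ_castSucc]
      simp [smul_add, Finset.sum_add_distrib, Finset.sum_smul, mul_smul]
    exact heq ▸ hc x

variable {M : Type u} [AddCommGroup M] [Module R M] [Module.FinitePresentation R M]

theorem exists_split (hd : topologicalKrullDim (MaximalSpectrum R) ≤ d)
    (hM : ∀ (m : Ideal R) [m.IsMaximal],
      ∃ (f : (Fin (d + 1) → Localization.AtPrime m) →ₗ[Localization.AtPrime m] LocalizedModule m.primeCompl M)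
        (g : LocalizedModule m.primeCompl M →ₗ[Localization.AtPrime m] (Fin (d + 1) → Localization.AtPrime m)),
        g ∘ₗ f = LinearMap.id) :
    ∃ (s : M) (φ : M →ₗ[R] R), φ s = 1 := by
  classical
  have hloc : ∀ x : MaximalSpectrum R, ∃ (φ : Fin (d + 1) → (M →ₗ[R] R)) (y : Fin (d + 1) → M),
      (Matrix.of fun i j => φ i (y j)).det ∉ x.asIdeal := by
    intro x
    haveI := x.isMaximal
    set Rm := Localization.AtPrime x.asIdeal
    obtain ⟨f, g, hfg⟩ := hM x.asIdeal
    let mk := LocalizedModule.mkLinearMap x.asIdeal.primeCompl M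
    choose φ t ht using fun i => Module.FinitePresentation.exists_lift_of_isLocalizedModule
      x.asIdeal.primeCompl (Algebra.linearMap R Rm)
      (((LinearMap.proj i : (Fin (d + 1) → Rm) →ₗ[Rm] Rm) ∘ₗ g).restrictScalars R ∘ₗ mk)
    choose y hy using fun j => IsLocalizedModule.surj x.asIdeal.primeCompl mk (f (Pi.single j 1))
    refine ⟨φ, fun j => (y j).1, fun hdet => ?_⟩
    have hmap : (Matrix.of fun i j => φ i (y j).1).map (algebraMap R Rm) =
        Matrix.diagonal fun i => algebraMap R Rm ((t i : R) * (y i).2) := by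
      ext i j
      have h1 := LinearMap.congr_fun (ht i) (y j).1
      simp only [LinearMap.comp_apply, Algebra.linearMap_apply, LinearMap.smul_apply,
        LinearMap.restrictScalars_apply, LinearMap.proj_apply] at h1
      rw [Matrix.map_apply, Matrix.of_apply, h1, ← hy j]
      rw [Submonoid.smul_def, Submonoid.smul_def, ← algebraMap_smul Rm ((y j).2 : R), map_smul,
        ← LinearMap.comp_apply g f, hfg, LinearMap.id_apply, Pi.smul_apply, Matrix.diagonal_apply,
        Pi.single_apply]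
      split_ifs with h
      · subst h
        simp [Algebra.smul_def]
      · simp
    have hu : IsUnit ((Matrix.of fun i j => φ i (y j).1).map (algebraMap R Rm)).det := by
      rw [hmap, Matrix.det_diagonal]
      exact Finset.prod_induction _ IsUnit (fun _ _ => IsUnit.mul) isUnit_one fun i _ =>
        IsLocalization.map_units Rm (t i * (y i).2)
    rw [← RingHom.mapMatrix_apply, ← RingHom.map_det] at hu
    exact ((IsLocalization.AtPrime.isUnit_to_map_iff Rm x.asIdeal _).1 hu) hdet
  choose φ y hφ using hloc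
  have htop : Ideal.span (Set.range fun x => (Matrix.of fun i j => φ x i (y x j)).det) = ⊤ := by
    by_contra hne
    obtain ⟨m, hm, hle⟩ := Ideal.exists_le_maximal _ hne
    exact hφ ⟨m, hm⟩ (hle (Ideal.subset_span ⟨_, rfl⟩))
  obtain ⟨S, hS, hStop⟩ := (Ideal.span_eq_top_iff_finite _).1 htop
  choose X hX using fun s : S => hS s.2
  let ε := Fintype.equivFin (S × Fin (d + 1))
  let Φ : M →ₗ[R] (Fin (Fintype.card (S × Fin (d + 1))) → R) :=
    LinearMap.pi fun k => φ (X (ε.symm k).1) (ε.symm k).2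
  obtain ⟨n, gen, hgen⟩ := Module.Finite.exists_fin (R := R) (M := M)
  let v : Fin (n + 1) → (Fin _ → R) := fun i => Φ ((Fin.cons 0 gen : Fin (n + 1) → M) i)
  have hv : ∀ p : PrimeSpectrum R, d + 1 ≤ rk p v := by
    intro p
    obtain ⟨s, hs⟩ : ∃ s : S, (s : R) ∉ p.asIdeal := by
      by_contra hne
      simp only [not_exists, not_not] at hne
      exact p.isPrime.ne_top (eq_top_iff.2 (hStop ▸ Ideal.span_le.2 fun r hr => hne ⟨r, hr⟩))
    let C : Matrix (Fin (d + 1)) (Fin (Fintype.card (S × Fin (d + 1)))) R :=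
      Matrix.of fun i => Pi.single (ε (s, i)) 1
    have hC : (C * (Matrix.of fun j => Φ (y (X s) j)).transpose).det ∉ p.asIdeal := by
      convert hs using 2
      rw [← hX s]
      congr 1
      ext i j
      simp [C, Φ, Matrix.mul_apply, Pi.single_apply]
    have hli := Groth.Agent.H22.SerreBass.linearIndependent_of_det p _ C hC
    calc d + 1 = rk p fun j => Φ (y (X s) j) := by
            rw [rk, finrank_span_eq_card hli, Fintype.card_fin]
      _ ≤ rk p v := Groth.Agent.H22.SerreBass.rk_le_of_le p fun j => by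
          have hmem : y (X s) j ∈ span R (Set.range gen) := by rw [hgen]; trivial
          obtain ⟨c, hc⟩ := (Submodule.mem_span_range_iff_exists_fun R).1 hmem
          rw [← hc, map_sum, map_sum]
          refine sum_mem fun i _ => ?_
          rw [map_smul, map_smul, ← algebraMap_smul p.asIdeal.ResidueField]
          exact smul_mem _ _ (subset_span ⟨i.succ, by simp [v]⟩)
  obtain ⟨c, hc⟩ := exists_nowhere_zero hd n v fun p _ =>
    (min_le_right _ _).trans ((fdim_le hd p).trans (hv p))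
  refine ⟨∑ i, c i • (Fin.cons 0 gen : Fin (n + 1) → M) i, ?_⟩
  set s := ∑ i, c i • (Fin.cons 0 gen : Fin (n + 1) → M) i
  have hs : Φ s = ∑ i, c i • v i := by simp [s, v, map_sum]
  have h1 : Ideal.span (Set.range (Φ s)) = ⊤ := by
    by_contra hne
    obtain ⟨m, hm, hle⟩ := Ideal.exists_le_maximal _ hne
    refine hc ⟨m, hm⟩ (funext fun i => ?_)
    rw [← hs, Groth.Agent.H22.SerreBass.ev_apply, Pi.zero_apply, Ideal.algebraMap_residueField_eq_zero]
    exact hle (Ideal.subset_span ⟨i, rfl⟩)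
  obtain ⟨b, hb⟩ := (Submodule.mem_span_range_iff_exists_fun R).1
    (h1 ▸ Submodule.mem_top : (1 : R) ∈ Ideal.span (Set.range (Φ s)))
  exact ⟨(∑ i, b i • LinearMap.proj i) ∘ₗ Φ, by simpa [LinearMap.sum_apply] using hb⟩

end Groth.Agent.H22.SerreMax
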