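import Groth.Agent.H97.GlueLine
import Groth.Agent.Lib.Ample.GenLocus
import Groth.Agent.Lib.Ample.Pow
import Groth.Prelude.Def_MoreMor

/-!
# Sections of invertible modules glued along a star of opens
-/

set_option autoImplicit false
set_option maxHeartbeats 1000000

noncomputable section

universe u

open CategoryTheory AlgebraicGeometry TopologicalSpace Opposite
open Groth.Agent.Lib Groth.Agent.Lib.TensorMod Groth.Agent.Lib.TensorMod.Dual
  Groth.Agent.Lib.TensorMod.Gen Groth.Agent.H97.GlueLine Groth.Agent.Lib.Ample.GenLocus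

namespace Groth.Agent.H22.StarGlue

variable {X : Scheme.{u}}

/-- Functions on the members of a star agreeing up to units on the centre define a section of an
invertible module. -/
theorem exists_sec_star (O : X.Opens) {ι : Type u} (W : ι → X.Opens)
    (hdisj : ∀ i j, i ≠ j → W i ⊓ W j ≤ O) (hcov : ∀ x : X, x ∈ O ∨ ∃ i, x ∈ W i)
    (f₀ : Γ(X, O)) (f : ∀ i, Γ(X, W i)) (τ : ∀ i, Γ(X, W i ⊓ O)) (hτ : ∀ i, IsUnit (τ i))
    (hf : ∀ i, rf inf_le_left (f i) = τ i * rf inf_le_right f₀) :
    ∃ (L : X.Modules) (s : Coh.structureModule X ⟶ L), PicF.IsInvertible L ∧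
      CohB1.genLocus L s = X.basicOpen f₀ ⊔ ⨆ i, X.basicOpen (f i) := by
  classical
  let V : Option ι → X.Opens := fun o => o.elim O W
  let F : ∀ o, Γ(X, V o) := fun o => match o with
    | none => f₀
    | some i => f i
  let σ : ∀ o, Γ(X, V o ⊓ O) := fun o => match o with
    | none => 1
    | some i => (((hτ i).unit⁻¹ : Γ(X, W i ⊓ O)ˣ) : Γ(X, W i ⊓ O))
  have hσu : ∀ o, IsUnit (σ o) := by
    rintro (_ | i)
    · exact isUnit_one
    · exact Units.isUnit ((hτ i).unit⁻¹ : Γ(X, W i ⊓ O)ˣ)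
  have hσ : ∀ o, rf inf_le_left (F o) * σ o = rf inf_le_right f₀ := by
    rintro (_ | i)
    · show rf _ f₀ * 1 = rf _ f₀
      rw [mul_one]
    · show rf (inf_le_left : W i ⊓ O ≤ W i) (f i) * (((hτ i).unit⁻¹ : Γ(X, W i ⊓ O)ˣ) : Γ(X, W i ⊓ O)) = rf (inf_le_right : W i ⊓ O ≤ O) f₀
      rw [hf, mul_comm (τ i), mul_assoc, IsUnit.mul_val_inv, mul_one]
  have hd : ∀ o o', o ≠ o' → V o ⊓ V o' ≤ O := by
    rintro (_ | i) (_ | j) hne
    · exact absurd rfl hne
    · exact inf_le_left
    · exact inf_le_right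
    · exact hdisj i j fun h => hne (congrArg some h)
  have hg : ∀ o, IsGen (Coh.structureModule X) (V o ⊓ O) (σ o • one X (V o ⊓ O)) := fun o =>
    IsGen_smul_isUnit (isGen_one _) (hσu o)
  obtain ⟨c, hc⟩ := exists_cocycle (O := O) hd (fun o => σ o • one X (V o ⊓ O)) hg
  have hsup : iSup V = ⊤ := top_unique fun x _ => by
    rcases hcov x with h | ⟨i, h⟩
    · exact Opens.mem_iSup.2 ⟨none, h⟩
    · exact Opens.mem_iSup.2 ⟨some i, h⟩
  have htr : ∀ (o o' : Option ι) (T : X.Opens) (ho : T ≤ V o) (ho' : T ≤ V o'),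
      rf ho (F o) = c.tr o o' ho ho' * rf ho' (F o') := by
    intro o o' T ho ho'
    by_cases hne : o = o'
    · subst hne
      rw [c.tr_self, one_mul]
    have hO : T ≤ O := (le_inf ho ho').trans (hd o o' hne)
    have h1 := hc o o' T ho ho' hO
    rw [rs_smul, rs_smul, smul_smul] at h1
    have h2 : rf (le_inf ho' hO) (σ o') = c.tr o o' ho ho' * rf (le_inf ho hO) (σ o) := by
      have e1 : ∀ (U : X.Opens) (h : T ≤ U), rs (Coh.structureModule X) h (one X U) = one X T :=
        fun U h => map_one (X.presheaf.map (homOfLE h).op).hom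
      rw [e1, e1] at h1
      refine ((isGen_one T) T le_rfl).1 ?_
      show rf _ (σ o') • rs (Coh.structureModule X) le_rfl (one X T) =
        (c.tr o o' ho ho' * rf _ (σ o)) • rs (Coh.structureModule X) le_rfl (one X T)
      rw [e1]
      exact h1
    have e : ∀ (q : Option ι) (hq : T ≤ V q), rf hq (F q) * rf (le_inf hq hO) (σ q) = rf hO f₀ := by
      intro q hq
      have := congrArg (rf (le_inf hq hO)) (hσ q)
      rwa [rf, map_mul, ← rf, rf_rf, rf_rf] at this
    refine ((hσu o).map (X.presheaf.map (homOfLE (le_inf ho hO)).op).hom).mul_right_cancel ?_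
    show rf ho (F o) * rf _ (σ o) = c.tr o o' ho ho' * rf ho' (F o') * rf _ (σ o)
    rw [e o ho, ← e o' ho', h2]
    ring
  obtain ⟨s, hs⟩ := HomGlue.exists_hom_of_gen (L := Coh.structureModule X) (M := glue c) hsup
    (fun o => one X (V o)) (fun o => isGen_one _) (fun o => F o • gen c o)
    fun o o' T ho ho' r hr => by
      have hr' : r = 1 := by
        have : (X.presheaf.map (homOfLE ho).op 1 : Γ(X, T)) = r * X.presheaf.map (homOfLE ho').op 1 := hr
        rwa [map_one, map_one, mul_one, eq_comm] at this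
      subst hr'
      rw [one_smul, rs_smul, rs_smul, rs_gen c o o' ho ho', smul_smul, mul_comm, ← htr o o' T ho ho']
  refine ⟨glue c, s, isInvertible_glue c hsup, ?_⟩
  have key : ∀ o, CohB1.genLocus (glue c) s ⊓ V o = X.basicOpen (F o) := fun o =>
    genLocus_inf_eq (isGen_gen c o) s (hs o)
  refine le_antisymm (fun x hx => ?_) (sup_le ((key none).ge.trans inf_le_left)
    (iSup_le fun i => (key (some i)).ge.trans inf_le_left))
  rcases hcov x with h | ⟨i, h⟩
  · exact Or.inl ((key none).le ⟨hx, h⟩)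
  · exact Or.inr (Opens.mem_iSup.2 ⟨i, (key (some i)).le ⟨hx, h⟩⟩)

/-- Units restricted from a member to the centre. -/
theorem isUnit_rf_of_le_basicOpen {T U : X.Opens} (h : T ≤ U) (a : Γ(X, U))
    (hT : T ≤ X.basicOpen a) : IsUnit (rf h a) := by
  have hu : IsUnit (rf (X.basicOpen_le a) a) := RingedSpace.isUnit_res_basicOpen _ a
  have h2 := hu.map (X.presheaf.map (homOfLE hT).op).hom
  change IsUnit (rf hT (rf (X.basicOpen_le a) a)) at h2
  rwa [rf_rf] at h2

/-- A star of affines, each meeting the centre in a principal open of both, has an ample family. -/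
theorem hasAmpleFamily_of_star (O : X.Opens) (hO : IsAffineOpen O) {ι : Type u} [Finite ι]
    (W : ι → X.Opens) (hW : ∀ i, IsAffineOpen (W i))
    (hdisj : ∀ i j, i ≠ j → W i ⊓ W j ≤ O) (hcov : ∀ x : X, x ∈ O ∨ ∃ i, x ∈ W i)
    (g : ι → Γ(X, O)) (hg : ∀ i, X.basicOpen (g i) = W i ⊓ O)
    (t : ∀ i, Γ(X, W i)) (ht : ∀ i, X.basicOpen (t i) = W i ⊓ O) :
    MoreMor.HasAmpleFamily X := by
  classical
  haveI : CompactSpace X := ⟨by
    have hu : (Set.univ : Set X) = (O : Set X) ∪ ⋃ i, (W i : Set X) := by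
      refine (Set.eq_univ_of_forall fun x => ?_).symm
      rcases hcov x with h | ⟨i, h⟩
      exacts [Or.inl h, Or.inr (Set.mem_iUnion.2 ⟨i, h⟩)]
    rw [hu]
    exact hO.isCompact.union (isCompact_iUnion fun i => (hW i).isCompact)⟩
  refine ⟨inferInstance, fun x => ?_⟩
  suffices ∃ (L : X.Modules) (s : Coh.structureModule X ⟶ L), PicF.IsInvertible L ∧
      x ∈ CohB1.genLocus L s ∧ IsAffineOpen (CohB1.genLocus L s) by
    obtain ⟨L, s, hL, hx, hs⟩ := this
    refine ⟨L, 1, s ≫ (Ample.Pow.powOne L).symm.hom, hL, le_rfl, ?_, ?_⟩ <;>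
      rwa [genLocus_comp_iso]
  rcases hcov x with hx | ⟨i, hx⟩
  · obtain ⟨L, s, hL, hs⟩ := exists_sec_star O W hdisj hcov 1 t
      (fun i => rf inf_le_left (t i))
      (fun i => isUnit_rf_of_le_basicOpen _ _ (ht i).ge)
      (fun i => by rw [rf, rf, map_one, mul_one])
    have heq : CohB1.genLocus L s = O := by
      rw [hs, Scheme.basicOpen_of_isUnit _ (show IsUnit (1 : Γ(X, O)) from isUnit_one)]
      exact sup_eq_left.2 (iSup_le fun i => (ht i).le.trans inf_le_right)
    exact ⟨L, s, hL, heq ▸ hx, heq ▸ hO⟩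
  · have hloc : ∀ j, ∃ (n : ℕ) (c : Γ(X, W j)),
        rf inf_le_left c = rf (inf_le_left : W j ⊓ O ≤ W j) (t j) ^ n *
          rf (inf_le_right : W j ⊓ O ≤ O) (g i) := by
      intro j
      have hle : X.basicOpen (t j) ≤ W j := X.basicOpen_le _
      have hle' : X.basicOpen (t j) ≤ O := (ht j).le.trans inf_le_right
      haveI := (hW j).isLocalization_basicOpen (t j)
      obtain ⟨⟨c, _, n, rfl⟩, hc⟩ := IsLocalization.surj (Submonoid.powers (t j))
        (rf hle' (g i) : Γ(X, X.basicOpen (t j)))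
      refine ⟨n, c, ?_⟩
      have h := congrArg (rf (ht j).ge) hc
      rw [rf, map_mul] at h
      change rf (ht j).ge (rf hle' (g i)) * rf (ht j).ge (rf hle (t j ^ n)) = rf (ht j).ge (rf hle c) at h
      rw [rf_rf, rf_rf, rf_rf] at h
      rw [← h, rf, rf, rf, map_pow, mul_comm]
    choose n c hc using hloc
    let f : ∀ j, Γ(X, W j) := fun j => if j = i then 1 else c j * t j
    have hu : ∀ j, IsUnit (rf (inf_le_left : W j ⊓ O ≤ W j) (t j)) :=
      fun j => isUnit_rf_of_le_basicOpen _ _ (ht j).ge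
    have hgu : ∀ h : W i ⊓ O ≤ O, IsUnit (rf h (g i)) :=
      fun h => isUnit_rf_of_le_basicOpen h _ (hg i).ge
    let τ : ∀ j, Γ(X, W j ⊓ O) := fun j =>
      if h : j = i then ((isUnit_rf_of_le_basicOpen (inf_le_right : W j ⊓ O ≤ O) (g i)
        (h ▸ (hg i).ge)).unit⁻¹ : _ˣ)
      else rf inf_le_left (t j) ^ (n j + 1)
    obtain ⟨L, s, hL, hs⟩ := exists_sec_star O W hdisj hcov (g i) f τ
      (fun j => by
        by_cases h : j = i
        · simp only [τ, dif_pos h]; exact Units.isUnit _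
        · simp only [τ, dif_neg h]; exact (hu j).pow _)
      (fun j => by
        by_cases h : j = i
        · simp only [τ, f, dif_pos h, if_pos h]
          rw [IsUnit.val_inv_mul, rf, map_one]
        · simp only [τ, f, dif_neg h, if_neg h]
          rw [rf, map_mul, ← rf, ← rf, hc, pow_succ]
          ring)
    have heq : CohB1.genLocus L s = W i := by
      rw [hs]
      refine le_antisymm (sup_le ((hg i).le.trans inf_le_left) (iSup_le fun j => ?_)) ?_
      · by_cases h : j = i
        · subst h; exact X.basicOpen_le _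
        · intro y hy
          simp only [f, if_neg h, Scheme.basicOpen_mul] at hy
          have hyO : y ∈ W j ⊓ O := (ht j).le hy.2
          have h1 : y ∈ X.basicOpen (rf (inf_le_left : W j ⊓ O ≤ W j) (c j)) := by
            rw [rf, Scheme.basicOpen_res]; exact ⟨hyO, hy.1⟩
          rw [hc, Scheme.basicOpen_mul] at h1
          have h2 := h1.2
          rw [rf, Scheme.basicOpen_res] at h2
          exact ((hg i).le h2.2).1
      · refine le_sup_of_le_right (le_trans ?_ (le_iSup _ i))
        simp only [f, if_pos rfl]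
        rw [Scheme.basicOpen_of_isUnit _ (show IsUnit (1 : Γ(X, W i)) from isUnit_one)]
    exact ⟨L, s, hL, heq ▸ hx, heq ▸ hW i⟩

end Groth.Agent.H22.StarGlue
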