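import Mathlib.RingTheory.Flat.Basic
import Mathlib.LinearAlgebra.Dual.Lemmas
import Mathlib.LinearAlgebra.LinearIndependent.Lemmas
import Mathlib.RingTheory.TensorProduct.Pi
import Mathlib.LinearAlgebra.Dimension.Finite
import Mathlib.LinearAlgebra.TensorProduct.Finiteness
import Mathlib.RingTheory.Noetherian.Basic

/-!
Finite modules over domains: squeezing between free modules, torsion-free and reflexive modules.
-/

universe u v

open TensorProduct LinearMap

namespace Groth.Agent.H22.TFree

variable {R : Type u} [CommRing R] [IsDomain R]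

/-- A finite module over a domain contains a free submodule with bounded torsion quotient, and maps
to a free module with bounded torsion kernel. -/
theorem exists_squeeze (T : Type v) [AddCommGroup T] [Module R T] [Module.Finite R T] :
    ∃ (n : ℕ) (v : (Fin n → R) →ₗ[R] T) (j : T →ₗ[R] (Fin n → R)) (a : R),
      a ≠ 0 ∧ Function.Injective v ∧ (∀ t, v (j t) = a • t) ∧ ∀ w, j (v w) = a • w := by
  classical
  obtain ⟨m, π, hπ⟩ := Module.Finite.exists_fin' R T
  let g : Fin m → T := fun i => π (Pi.single i 1)
  obtain ⟨s, hs, hmax⟩ := exists_maximal_linearIndepOn R g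
  let S : Submodule R T := Submodule.span R (g '' s)
  have ha : ∀ i, ∃ a : R, a ≠ 0 ∧ a • g i ∈ S := by
    intro i
    by_cases hi : i ∈ s
    · exact ⟨1, one_ne_zero, by rw [one_smul]; exact Submodule.subset_span ⟨i, hi, rfl⟩⟩
    · exact hmax i hi
  choose a ha0 ha using ha
  have hmem : ∀ t, (∏ i, a i) • t ∈ S := by
    intro t
    obtain ⟨w, rfl⟩ := hπ t
    rw [pi_eq_sum_univ' w, map_sum, Finset.smul_sum]
    refine Submodule.sum_mem _ fun i _ => ?_
    rw [map_smul, smul_comm]
    refine Submodule.smul_mem _ _ ?_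
    rw [← Finset.prod_erase_mul _ _ (Finset.mem_univ i), mul_smul]
    exact Submodule.smul_mem _ _ (ha i)
  let n := Fintype.card s
  let e := (Fintype.equivFin s).symm
  have hli : LinearIndependent R (fun k : Fin n => g (e k)) :=
    (show LinearIndependent R (fun i : s => g i) from hs).comp e e.injective
  let v : (Fin n → R) →ₗ[R] T := Fintype.linearCombination R fun k => g (e k)
  have hv : Function.Injective v := by
    rw [← LinearMap.ker_eq_bot, LinearMap.ker_eq_bot']
    intro w hw
    funext k
    exact Fintype.linearIndependent_iff.1 hli w hw k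
  have hS : S ≤ range v := by
    rw [Submodule.span_le]
    rintro _ ⟨i, hi, rfl⟩
    exact ⟨Pi.single (Fintype.equivFin s ⟨i, hi⟩) 1, by
      simp [v, Fintype.linearCombination_apply_single, e]⟩
  let j : T →ₗ[R] (Fin n → R) := (LinearEquiv.ofInjective v hv).symm.toLinearMap ∘ₗ
    LinearMap.codRestrict _ ((∏ i, a i) • LinearMap.id) fun t => hS (hmem t)
  have hvj : ∀ t, v (j t) = (∏ i, a i) • t := fun t =>
    congrArg Subtype.val ((LinearEquiv.ofInjective v hv).apply_symm_apply
      ⟨((∏ i, a i) • LinearMap.id : T →ₗ[R] T) t, hS (hmem t)⟩)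
  exact ⟨n, v, j, ∏ i, a i, Finset.prod_ne_zero_iff.2 fun i _ => ha0 i, hv, hvj,
    fun w => hv (by rw [hvj, map_smul])⟩

theorem exists_injective_of_isTorsionFree (T : Type v) [AddCommGroup T] [Module R T]
    [Module.Finite R T] [Module.IsTorsionFree R T] :
    ∃ (n : ℕ) (f : T →ₗ[R] (Fin n → R)), Function.Injective f := by
  obtain ⟨n, v, j, a, ha, -, hvj, -⟩ := exists_squeeze (R := R) T
  refine ⟨n, j, fun x y h => ?_⟩
  have h' := congrArg v h
  rw [hvj, hvj] at h'
  exact smul_right_injective T ha h'

theorem isTorsionFree_of_injective {M N : Type*} [AddCommGroup M] [Module R M] [AddCommGroup N]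
    [Module R N] [Module.IsTorsionFree R N] (f : M →ₗ[R] N) (hf : Function.Injective f) :
    Module.IsTorsionFree R M :=
  hf.moduleIsTorsionFree f (fun r m => f.map_smul r m)

theorem eval_injective_of_isTorsionFree (T : Type v) [AddCommGroup T] [Module R T]
    [Module.Finite R T] [Module.IsTorsionFree R T] : Function.Injective (Module.Dual.eval R T) := by
  obtain ⟨n, f, hf⟩ := exists_injective_of_isTorsionFree (R := R) T
  intro x y h
  refine hf (funext fun k => ?_)
  exact LinearMap.congr_fun h ((LinearMap.proj k) ∘ₗ f)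

/-- A single nonzero scalar kills kernel and cokernel of the evaluation map. -/
theorem exists_eval_torsion (M : Type v) [AddCommGroup M] [Module R M] [Module.Finite R M] :
    ∃ c : R, c ≠ 0 ∧ (∀ x : M, Module.Dual.eval R M x = 0 → c • x = 0) ∧
      ∀ y : Module.Dual R (Module.Dual R M), c • y ∈ LinearMap.range (Module.Dual.eval R M) := by
  classical
  obtain ⟨n, v, j, a, ha, -, hvj, -⟩ := exists_squeeze (R := R) M
  refine ⟨a, ha, fun x hx => ?_, fun y => ⟨v fun k => y (LinearMap.proj k ∘ₗ j), ?_⟩⟩
  · rw [← hvj, show j x = 0 from funext fun k => LinearMap.congr_fun hx ((LinearMap.proj k : (Fin n → R) →ₗ[R] R) ∘ₗ j),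
      map_zero]
  · ext φ
    rw [Module.Dual.eval_apply, LinearMap.smul_apply, smul_eq_mul]
    have h1 : a • φ = ∑ k, φ (v (Pi.single k 1)) • (LinearMap.proj k ∘ₗ j) := by
      ext x
      have h2 : v (j x) = ∑ k, j x k • v (Pi.single k 1) := by
        conv_lhs => rw [pi_eq_sum_univ' (j x), map_sum]
        simp_rw [map_smul]
      rw [LinearMap.smul_apply, ← map_smul, ← hvj, h2, map_sum, LinearMap.sum_apply]
      refine Finset.sum_congr rfl fun k _ => ?_
      rw [LinearMap.smul_apply, LinearMap.comp_apply, LinearMap.proj_apply, map_smul, smul_eq_mul,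
        smul_eq_mul, mul_comm]
    conv_rhs => rw [← smul_eq_mul, ← map_smul, h1, map_sum]
    conv_lhs => rw [pi_eq_sum_univ' (fun k => y (LinearMap.proj k ∘ₗ j)), map_sum, map_sum]
    refine Finset.sum_congr rfl fun k _ => ?_
    rw [map_smul, map_smul, map_smul, smul_eq_mul, smul_eq_mul, mul_comm]

theorem isTorsionFree_baseChange (R' : Type*) [CommRing R'] [IsDomain R'] [Algebra R R']
    [Module.Flat R R'] (M : Type v) [AddCommGroup M] [Module R M] [Module.IsTorsionFree R M] :
    Module.IsTorsionFree R' (R' ⊗[R] M) := by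
  refine Module.IsTorsionFree.mk fun r hr => ?_
  replace hr : r ≠ 0 := hr.ne_zero
  intro z₁ z₂ hz
  rw [← sub_eq_zero] at hz ⊢
  have hz' : r • (z₁ - z₂) = 0 := (smul_sub r z₁ z₂).trans hz
  obtain ⟨N, hN, hmem⟩ := TensorProduct.exists_finite_submodule_right_of_setFinite
    ({z₁ - z₂} : Set (R' ⊗[R] M)) (Set.finite_singleton _)
  obtain ⟨w, hw⟩ := hmem (Set.mem_singleton _)
  have : Module.IsTorsionFree R N := isTorsionFree_of_injective N.subtype N.injective_subtype
  obtain ⟨n, f, hf⟩ := exists_injective_of_isTorsionFree (R := R) N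
  have hi : Function.Injective (f.baseChange R') :=
    Module.Flat.lTensor_preserves_injective_linearMap f hf
  have hs : Function.Injective (N.subtype.baseChange R') :=
    Module.Flat.lTensor_preserves_injective_linearMap N.subtype N.injective_subtype
  have hw' : N.subtype.baseChange R' w = z₁ - z₂ := hw
  rw [← hw'] at hz' ⊢
  rw [← map_smul] at hz'
  have h0 : r • w = 0 := hs (hz'.trans (map_zero _).symm)
  have h1 : TensorProduct.piScalarRight R R' R' (Fin n) (f.baseChange R' w) = 0 := by
    have h2 : r • TensorProduct.piScalarRight R R' R' (Fin n) (f.baseChange R' w) = 0 := by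
      rw [← map_smul, ← map_smul, h0, map_zero, map_zero]
    exact (smul_eq_zero.1 h2).resolve_left hr
  rw [hi ((LinearEquiv.map_eq_zero_iff _).1 h1 |>.trans (map_zero _).symm), map_zero]

/-- The kernel of a map from a reflexive module to a finite torsion-free module is reflexive. -/
theorem isReflexive_of_exact {M M' M'' : Type*} [AddCommGroup M] [Module R M] [AddCommGroup M']
    [Module R M'] [AddCommGroup M''] [Module R M''] [Module.Finite R M'] [Module.Finite R M'']
    (f : M →ₗ[R] M') (g : M' →ₗ[R] M'') (hf : Function.Injective f) (hfg : Function.Exact f g)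
    [Module.IsReflexive R M'] [Module.IsTorsionFree R M''] : Module.IsReflexive R M := by
  classical
  refine ⟨⟨fun x y h => hf ((Module.bijective_dual_eval R M').1
    (LinearMap.ext fun ψ => LinearMap.congr_fun h (ψ ∘ₗ f))), fun y => ?_⟩⟩
  obtain ⟨m', hm'⟩ := (Module.bijective_dual_eval R M').2 (y ∘ₗ f.dualMap)
  have hgm : g m' = 0 := by
    refine eval_injective_of_isTorsionFree (R := R) M'' ?_
    rw [map_zero]
    ext ψ
    have h := LinearMap.congr_fun hm' (ψ ∘ₗ g)
    rw [Module.Dual.eval_apply, LinearMap.comp_apply, LinearMap.comp_apply] at h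
    rw [Module.Dual.eval_apply, LinearMap.zero_apply, h, ← map_zero y]
    congr 1
    ext z
    simp [LinearMap.dualMap_apply, hfg.apply_apply_eq_zero]
  obtain ⟨x, rfl⟩ := (hfg m').1 hgm
  refine ⟨x, LinearMap.ext fun φ => ?_⟩
  obtain ⟨q, v, j, a, ha, -, hvj, -⟩ := exists_squeeze (R := R) (M' ⧸ range f)
  obtain ⟨s, hs⟩ := Module.projective_lifting_property _ v (range f).mkQ_surjective
  have hrange : ∀ z, (a • LinearMap.id - s ∘ₗ j ∘ₗ (range f).mkQ : M' →ₗ[R] M') z ∈ range f := by
    intro z
    rw [← (Submodule.Quotient.mk_eq_zero (range f))]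
    have h := LinearMap.congr_fun hs (j ((range f).mkQ z))
    simp only [LinearMap.comp_apply, Submodule.mkQ_apply, hvj] at h
    simp only [LinearMap.sub_apply, LinearMap.smul_apply, LinearMap.id_apply, LinearMap.comp_apply,
      Submodule.mkQ_apply, Submodule.Quotient.mk_sub, Submodule.Quotient.mk_smul, h, sub_self]
  let p : M' →ₗ[R] M := (LinearEquiv.ofInjective f hf).symm.toLinearMap ∘ₗ
    LinearMap.codRestrict _ (a • LinearMap.id - s ∘ₗ j ∘ₗ (range f).mkQ) hrange
  have hp : ∀ z, f (p z) = a • z - s (j ((range f).mkQ z)) := fun z =>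
    congrArg Subtype.val ((LinearEquiv.ofInjective f hf).apply_symm_apply ⟨_, hrange z⟩)
  have hpf : ∀ z, p (f z) = a • z := fun z => hf (by
    rw [hp, map_smul, Submodule.mkQ_apply,
      (Submodule.Quotient.mk_eq_zero _).2 (LinearMap.mem_range_self f z), map_zero, map_zero,
      sub_zero])
  have h1 : f.dualMap (φ ∘ₗ p) = a • φ := by
    ext z
    simp [LinearMap.dualMap_apply, hpf]
  have h2 := LinearMap.congr_fun hm' (φ ∘ₗ p)
  have h3 : φ (p (f x)) = y (f.dualMap (φ ∘ₗ p)) := h2
  rw [hpf, h1, map_smul, map_smul] at h3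
  exact smul_right_injective R ha h3

theorem isReflexive_iff_exists [IsNoetherianRing R] (M : Type v) [AddCommGroup M] [Module R M]
    [Module.Finite R M] :
    Module.IsReflexive R M ↔ ∃ (n : ℕ) (f : M →ₗ[R] (Fin n → R)), Function.Injective f ∧
      Module.IsTorsionFree R ((Fin n → R) ⧸ LinearMap.range f) := by
  classical
  constructor
  · intro hM
    have : Module.Finite R (Module.Dual R M) := by
      obtain ⟨m, π, hπ⟩ := Module.Finite.exists_fin' R M
      exact Module.Finite.of_injective (LinearMap.lcomp R R π)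
        (LinearMap.lcomp_injective_of_surjective π hπ)
    obtain ⟨n, π, hπ⟩ := Module.Finite.exists_fin' R (Module.Dual R M)
    refine ⟨n, LinearMap.pi fun k => π (Pi.single k 1), ?_, ?_⟩
    · intro x y h
      refine (Module.bijective_dual_eval R M).1 (LinearMap.ext fun φ => ?_)
      obtain ⟨r, rfl⟩ := hπ φ
      rw [pi_eq_sum_univ' r]
      simp only [map_sum, map_smul, Module.Dual.eval_apply, LinearMap.sum_apply,
        LinearMap.smul_apply]
      exact Finset.sum_congr rfl fun k _ => congrArg (r k • ·) (congrFun h k)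
    · refine Module.IsTorsionFree.mk fun c hc => ?_
      replace hc : c ≠ 0 := hc.ne_zero
      intro w₁ w₂ hw
      rw [← sub_eq_zero] at hw ⊢
      have hw' : c • (w₁ - w₂) = 0 := (smul_sub c w₁ w₂).trans hw
      obtain ⟨w, hweq⟩ := Submodule.mkQ_surjective _ (w₁ - w₂)
      rw [← hweq] at hw' ⊢
      rw [← map_smul, Submodule.mkQ_apply, Submodule.Quotient.mk_eq_zero] at hw'
      rw [Submodule.mkQ_apply, Submodule.Quotient.mk_eq_zero]
      obtain ⟨x, hx⟩ := hw'
      let W : (Fin n → R) →ₗ[R] R := Fintype.linearCombination R w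
      have hW : ∀ r, π r x = c * W r := by
        intro r
        conv_lhs => rw [pi_eq_sum_univ' r]
        simp only [map_sum, map_smul, LinearMap.sum_apply, LinearMap.smul_apply, smul_eq_mul, W,
          Fintype.linearCombination_apply, Finset.mul_sum]
        refine Finset.sum_congr rfl fun k _ => ?_
        have h := congrFun hx k
        simp only [LinearMap.pi_apply, Pi.smul_apply, smul_eq_mul] at h
        rw [h]
        ring
      have hker : ker π ≤ ker W := fun r hr => by
        have h := hW r
        rw [LinearMap.mem_ker.1 hr, LinearMap.zero_apply] at h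
        exact (mul_eq_zero.1 h.symm).resolve_left hc
      let y : Module.Dual R M →ₗ[R] R := (ker π).liftQ W hker ∘ₗ
        (π.quotKerEquivOfSurjective hπ).symm.toLinearMap
      obtain ⟨z, hz⟩ := (Module.bijective_dual_eval R M).2 y
      refine ⟨z, funext fun k => ?_⟩
      have h := LinearMap.congr_fun hz (π (Pi.single k 1))
      rw [Module.Dual.eval_apply] at h
      rw [LinearMap.pi_apply, h]
      have h' : (π.quotKerEquivOfSurjective hπ).symm (π (Pi.single k 1)) =
          Submodule.Quotient.mk (Pi.single k 1) := by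
        rw [LinearEquiv.symm_apply_eq]
        rfl
      simp only [y, LinearMap.comp_apply, LinearEquiv.coe_coe, h', Submodule.liftQ_apply]
      simp [W, Fintype.linearCombination_apply_single]
  · rintro ⟨n, f, hf, hT⟩
    exact isReflexive_of_exact f (range f).mkQ hf (LinearMap.exact_map_mkQ_range f)

theorem isReflexive_baseChange [IsNoetherianRing R] (R' : Type*) [CommRing R'] [IsDomain R']
    [Algebra R R'] [Module.Flat R R'] (M : Type v) [AddCommGroup M] [Module R M]
    [Module.Finite R M] [Module.IsReflexive R M] : Module.IsReflexive R' (R' ⊗[R] M) := by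
  obtain ⟨n, f, hf, hT⟩ := (isReflexive_iff_exists (R := R) M).1 inferInstance
  have : Module.IsReflexive R' (R' ⊗[R] (Fin n → R)) :=
    Module.IsReflexive.of_split
      (TensorProduct.piScalarRight R R' R' (Fin n)).toLinearMap
      (TensorProduct.piScalarRight R R' R' (Fin n)).symm.toLinearMap
      (LinearMap.ext fun z => (TensorProduct.piScalarRight R R' R' (Fin n)).symm_apply_apply z)
  have : Module.IsTorsionFree R' (R' ⊗[R] ((Fin n → R) ⧸ range f)) := isTorsionFree_baseChange R' _
  exact isReflexive_of_exact (f.baseChange R') ((range f).mkQ.baseChange R')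
    (Module.Flat.lTensor_preserves_injective_linearMap f hf)
    (Module.Flat.lTensor_exact R' (LinearMap.exact_map_mkQ_range f))

theorem isReflexive_fin_pi (n : ℕ) (N : Type u) [AddCommGroup N] [Module R N]
    [Module.IsReflexive R N] : Module.IsReflexive R (Fin n → N) := by
  refine ⟨⟨fun x y h => funext fun k => (Module.bijective_dual_eval R N).1
    (LinearMap.ext fun ψ => LinearMap.congr_fun h (ψ ∘ₗ LinearMap.proj k)), fun y => ?_⟩⟩
  choose x hx using fun k : Fin n =>
    (Module.bijective_dual_eval R N).2 (y ∘ₗ (LinearMap.proj k : (Fin n → N) →ₗ[R] N).dualMap)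
  refine ⟨x, LinearMap.ext fun φ => ?_⟩
  have h1 : φ = ∑ k, (φ ∘ₗ LinearMap.single R (fun _ => N) k) ∘ₗ LinearMap.proj k := by
    ext k z
    simp only [LinearMap.comp_apply, LinearMap.sum_apply, LinearMap.proj_apply]
    rw [Finset.sum_eq_single k (fun b _ hb => ?_) (by simp)]
    · simp
    · simp [hb]
  rw [h1, map_sum, map_sum]
  exact Finset.sum_congr rfl fun k _ =>
    LinearMap.congr_fun (hx k) (φ ∘ₗ LinearMap.single R (fun _ => N) k)

theorem isReflexive_linearMap [IsNoetherianRing R] (M N : Type u) [AddCommGroup M] [Module R M]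
    [Module.Finite R M] [AddCommGroup N] [Module R N] [Module.Finite R N]
    [Module.IsReflexive R N] : Module.IsReflexive R (M →ₗ[R] N) := by
  classical
  obtain ⟨b, π, hπ⟩ := Module.Finite.exists_fin' R M
  obtain ⟨a, π', hπ'⟩ := Module.Finite.exists_fin' R (ker π)
  have : Module.IsReflexive R (Fin b → N) := isReflexive_fin_pi b N
  have hcol : Module.IsTorsionFree R (Fin a → N) :=
    (isReflexive_fin_pi a N).to_isTorsionFree
  let F : (M →ₗ[R] N) →ₗ[R] (Fin b → N) :=
    LinearMap.pi fun k => LinearMap.applyₗ (π (Pi.single k 1))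
  let rel : Fin a → (Fin b → R) := fun i => (π' (Pi.single i 1) : Fin b → R)
  let G : (Fin b → N) →ₗ[R] (Fin a → N) :=
    LinearMap.pi fun i => ∑ k, rel i k • LinearMap.proj k
  refine isReflexive_of_exact F G (fun φ ψ h => ?_) (fun w => ⟨fun hw => ?_, ?_⟩)
  · ext z
    obtain ⟨r, rfl⟩ := hπ z
    rw [pi_eq_sum_univ' r]
    simp only [map_sum, map_smul]
    exact Finset.sum_congr rfl fun k _ => congrArg (r k • ·) (congrFun h k)
  · let W : (Fin b → R) →ₗ[R] N := Fintype.linearCombination R w
    have h0 : W ∘ₗ (ker π).subtype ∘ₗ π' = 0 := by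
      ext i
      have h := congrFun hw i
      simpa [G, W, rel, Fintype.linearCombination_apply] using h
    have hker : ker π ≤ ker W := fun r hr => by
      obtain ⟨s, hs⟩ := hπ' ⟨r, hr⟩
      rw [LinearMap.mem_ker]
      have h := LinearMap.congr_fun h0 s
      simpa [hs] using h
    refine ⟨(ker π).liftQ W hker ∘ₗ (π.quotKerEquivOfSurjective hπ).symm.toLinearMap,
      funext fun k => ?_⟩
    have h' : (π.quotKerEquivOfSurjective hπ).symm (π (Pi.single k 1)) =
        Submodule.Quotient.mk (Pi.single k 1) := by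
      rw [LinearEquiv.symm_apply_eq]
      rfl
    simp [F, W, h', Fintype.linearCombination_apply_single]
  · rintro ⟨φ, rfl⟩
    ext i
    have h : π (rel i) = 0 := (π' (Pi.single i 1)).2
    rw [pi_eq_sum_univ' (rel i), map_sum] at h
    simp only [map_smul] at h
    simpa [G, F, map_sum, map_smul] using congrArg φ h

end Groth.Agent.H22.TFree
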