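import Groth.Agent.H22.StarGlue
import Groth.Agent.H22.AdmissibleAmple
import Groth.Agent.Lib.Ferrand.Finite

/-!
# Opens with ample families containing all points of codimension at most one
-/

set_option autoImplicit false
set_option maxHeartbeats 1000000

noncomputable section

universe u

open CategoryTheory CategoryTheory.Limits AlgebraicGeometry TopologicalSpace

namespace Groth.Agent.H22.ThickOpen

variable {X : Scheme.{u}}

/-- No other point specialises to `g`. -/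
def IsGeneric (g : X) : Prop := ∀ y : X, y ⤳ g → y = g

theorem isGeneric_of_specializes {y y' : X} (hy : ringKrullDim (X.presheaf.stalk y) ≤ 1)
    (h : y' ⤳ y) (hne : y' ≠ y) : IsGeneric y' := by
  rw [ringKrullDim_stalk_eq_coheight] at hy
  have hy1 : Order.coheight y ≤ 1 := by exact_mod_cast hy
  have hlt : y < y' := lt_of_le_not_ge (Scheme.le_iff_specializes.2 h)
    fun h' => hne ((h.antisymm (Scheme.le_iff_specializes.1 h')).eq)
  have h0 : Order.coheight y' = 0 := by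
    have h1 := (Order.coheight_add_one_le hlt).trans hy1
    revert h1
    cases Order.coheight y' with
    | top => simp
    | coe m =>
      intro h1
      norm_cast at h1 ⊢
      omega
  have hmax : IsMax y' := Order.coheight_eq_zero.1 h0
  exact fun z hz => (hz.antisymm (Scheme.le_iff_specializes.1
    (hmax (Scheme.le_iff_specializes.2 hz)))).eq

theorem finite_setOf_maximal [NoetherianSpace X] (s : Set X) (hs : IsClosed s) :
    {e ∈ s | ∀ c ∈ s, c ⤳ e → c = e}.Finite := by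
  obtain ⟨S, hS, hcl, hirr, rfl⟩ := NoetherianSpace.exists_finite_set_isClosed_irreducible hs
  haveI : Finite S := hS.to_subtype
  choose c hc using fun C : S => QuasiSober.sober (S := (C.1 : Set X)) (hirr C.1 C.2) (hcl C.1 C.2)
  refine (Set.finite_range c).subset fun e he => ?_
  obtain ⟨C, hC, heC⟩ := he.1
  refine ⟨⟨C, hC⟩, he.2 _ ?_ ((hc ⟨C, hC⟩).specializes heC)⟩
  exact ⟨C, hC, by simpa [(hc ⟨C, hC⟩).def] using (hc ⟨C, hC⟩).mem⟩

theorem finite_setOf_isGeneric [NoetherianSpace X] : {g : X | IsGeneric g}.Finite :=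
  (finite_setOf_maximal Set.univ isClosed_univ).subset fun _ hg =>
    ⟨trivial, fun c _ hc => hg c hc⟩

theorem mem_of_isGeneric [NoetherianSpace X] {U : X.Opens} (hU : Dense (U : Set X)) {g : X}
    (hg : IsGeneric g) : g ∈ U := by
  obtain ⟨o, ho, hne, hsub⟩ := NoetherianSpace.exists_isOpen_nonempty_subset_irreducibleComponent
    (Z := irreducibleComponent g) (irreducibleComponent_mem_irreducibleComponents g)
  obtain ⟨p, hpo, hpU⟩ := hU.inter_open_nonempty o ho hne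
  obtain ⟨η, hη⟩ := QuasiSober.sober (S := irreducibleComponent g) isIrreducible_irreducibleComponent
    isClosed_irreducibleComponent
  obtain rfl : η = g := hg η (hη.specializes mem_irreducibleComponent)
  exact (hη.specializes (hsub hpo)).mem_open U.2 hpU

variable [IsNoetherian X]

/-- A principal affine neighbourhood of a point of codimension one outside a dense affine open. -/
theorem exists_branch (U : X.Opens) (hU : IsAffineOpen U)
    (hUgen : ∀ g : X, IsGeneric g → g ∈ U) (e : X) (he : e ∉ U)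
    (hdim : ringKrullDim (X.presheaf.stalk e) ≤ 1) (C : Set X) (hC : IsClosed C) (heC : e ∉ C) :
    ∃ W : X.Opens, IsAffineOpen W ∧ e ∈ W ∧ Disjoint (W : Set X) C ∧
      (∀ z ∈ W, z ∉ U → e ⤳ z) ∧ (∃ g : Γ(X, U), X.basicOpen g = W ⊓ U) ∧
      ∃ t : Γ(X, W), X.basicOpen t = W ⊓ U := by
  obtain ⟨W₀, hW₀, heW₀, -⟩ := exists_isAffineOpen_mem_and_subset (X := X)
    (TopologicalSpace.Opens.mem_top e)
  let G : Set X := {y | y ⤳ e ∧ y ≠ e}
  have hG : G.Finite :=
    finite_setOf_isGeneric.subset fun y hy => isGeneric_of_specializes hdim hy.1 hy.2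
  have hGU : G ⊆ (U : Set X) := fun y hy => hUgen y (isGeneric_of_specializes hdim hy.1 hy.2)
  have hGW : G ⊆ (W₀ : Set X) := fun y hy => hy.1.mem_open W₀.2 heW₀
  obtain ⟨g₀, hg₀W, hGg₀⟩ := Lib.Ferrand.exists_basicOpen_finite_le hU hG hGU W₀ hGW
  -- avoid the points of `U` outside `U_{g₀}`, and the given closed set
  let B : Set X := closure ((U : Set X) \ X.basicOpen g₀) ∪ C
  have heB : e ∉ B := by
    rintro (h | h)
    · have hcl : IsClosed (((U : Set X)ᶜ) ∪ ((U : Set X) \ X.basicOpen g₀)) := by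
        have : ((U : Set X)ᶜ) ∪ ((U : Set X) \ X.basicOpen g₀) = ((U ⊓ X.basicOpen g₀ : X.Opens) : Set X)ᶜ := by
          ext y; simp only [Opens.coe_inf, Set.mem_union, Set.mem_compl_iff, Set.mem_diff,
            Set.mem_inter_iff, SetLike.mem_coe]; tauto
        rw [this]
        exact (U ⊓ X.basicOpen g₀).2.isClosed_compl
      obtain ⟨S, hS, hScl, hSirr, hSeq⟩ := NoetherianSpace.exists_finite_set_isClosed_irreducible hcl
      -- some point of `U ∖ U_{g₀}` specialises to `e`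
      have hfin : (closure ((U : Set X) \ X.basicOpen g₀)) ⊆
          ⋃ C₀ ∈ {C₀ ∈ S | (C₀ ∩ (U : Set X)).Nonempty}, C₀ := by
        refine closure_minimal (fun y hy => ?_) ((hS.subset fun C₀ h => h.1).isClosed_biUnion
          fun C₀ h => hScl C₀ h.1)
        have : y ∈ ⋃₀ S := hSeq ▸ Or.inr hy
        obtain ⟨C₀, hC₀, hyC₀⟩ := this
        exact Set.mem_biUnion (x := C₀) ⟨hC₀, y, hyC₀, hy.1⟩ hyC₀
      obtain ⟨C₀, ⟨hC₀, p, hpC₀, hpU⟩, heC₀⟩ := Set.mem_iUnion₂.1 (hfin h)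
      obtain ⟨c, hc⟩ := QuasiSober.sober (S := C₀) (hSirr C₀ hC₀) (hScl C₀ hC₀)
      have hcU : c ∈ U := (hc.specializes hpC₀).mem_open U.2 hpU
      have hcg : c ∉ X.basicOpen g₀ := by
        have : c ∈ ⋃₀ S := ⟨C₀, hC₀, hc.mem⟩
        rw [← hSeq] at this
        rcases this with h' | h'
        exacts [absurd hcU h', h'.2]
      exact hcg (hGg₀ ⟨hc.specializes heC₀, fun hce => he (hce ▸ hcU)⟩)
    · exact heC h
  have hBcl : IsClosed B := isClosed_closure.union hC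
  obtain ⟨h, hhB, hhe⟩ := Lib.Ferrand.exists_basicOpen_finite_le hW₀ (Set.finite_singleton e)
    (Set.singleton_subset_iff.2 heW₀) ⟨Bᶜ, hBcl.isOpen_compl⟩ (Set.singleton_subset_iff.2 heB)
  let W₁ := X.basicOpen h
  have hW₁ : IsAffineOpen W₁ := hW₀.basicOpen h
  have heW₁ : e ∈ W₁ := hhe rfl
  have hW₁U : W₁ ⊓ U ≤ X.basicOpen g₀ := fun y hy => by_contra fun hn =>
    hhB hy.1 (Or.inl (subset_closure ⟨hy.2, hn⟩))
  -- the equation of the complement near `e`
  have hGW₁ : G ⊆ ((W₁ ⊓ U : X.Opens) : Set X) := fun y hy =>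
    ⟨hy.1.mem_open W₁.2 heW₁, hGU hy⟩
  obtain ⟨t, htW, hGt⟩ := Lib.Ferrand.exists_basicOpen_finite_le hW₁ hG
    (fun y hy => (hGW₁ hy).1) (W₁ ⊓ U) hGW₁
  let R : Set X := ⋃ c ∈ {c ∈ (X.basicOpen t : Set X)ᶜ |
      (∀ c' ∈ (X.basicOpen t : Set X)ᶜ, c' ⤳ c → c' = c) ∧ ¬ c ⤳ e}, closure {c}
  have hRfin : {c ∈ (X.basicOpen t : Set X)ᶜ |
      (∀ c' ∈ (X.basicOpen t : Set X)ᶜ, c' ⤳ c → c' = c) ∧ ¬ c ⤳ e}.Finite :=
    (finite_setOf_maximal _ (X.basicOpen t).2.isClosed_compl).subset fun c hc => ⟨hc.1, hc.2.1⟩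
  have hRcl : IsClosed R := hRfin.isClosed_biUnion fun _ _ => isClosed_closure
  have heR : e ∉ R := by
    intro h'
    obtain ⟨c, hc, hec⟩ := Set.mem_iUnion₂.1 h'
    exact hc.2.2 (specializes_iff_mem_closure.2 hec)
  obtain ⟨s, hsR, hse⟩ := Lib.Ferrand.exists_basicOpen_finite_le hW₁ (Set.finite_singleton e)
    (Set.singleton_subset_iff.2 heW₁) ⟨Rᶜ, hRcl.isOpen_compl⟩ (Set.singleton_subset_iff.2 heR)
  let W := X.basicOpen s
  have hWW₁ : W ≤ W₁ := X.basicOpen_le s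
  have hspec : ∀ z ∈ W, z ∉ X.basicOpen t → e ⤳ z := by
    intro z hz hzt
    obtain ⟨S, hS, hScl, hSirr, hSeq⟩ := NoetherianSpace.exists_finite_set_isClosed_irreducible
      (X.basicOpen t).2.isClosed_compl
    have hzS : z ∈ ⋃₀ S := hSeq ▸ (hzt : z ∈ (X.basicOpen t : Set X)ᶜ)
    -- a maximal generalisation of `z` in the complement
    obtain ⟨c, hcmax, hcz⟩ : ∃ c ∈ {c ∈ (X.basicOpen t : Set X)ᶜ |
        ∀ c' ∈ (X.basicOpen t : Set X)ᶜ, c' ⤳ c → c' = c}, c ⤳ z := by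
      obtain ⟨C₁, hC₁, hzC₁⟩ := hzS
      obtain ⟨C₂, hle, hC₂⟩ := (hS.exists_le_maximal hC₁)
      obtain ⟨c, hc⟩ := QuasiSober.sober (S := C₂) (hSirr C₂ hC₂.1) (hScl C₂ hC₂.1)
      refine ⟨c, ⟨hSeq.ge ⟨C₂, hC₂.1, hc.mem⟩, fun c' hc' hcc' => ?_⟩, hc.specializes (hle hzC₁)⟩
      obtain ⟨C₃, hC₃, hc'3⟩ : c' ∈ ⋃₀ S := hSeq ▸ hc'
      have h23 : C₂ ⊆ C₃ := by
        rw [← hc.def]
        exact (hScl C₃ hC₃).closure_subset_iff.2 (Set.singleton_subset_iff.2
          (hcc'.mem_closed (hScl C₃ hC₃) hc'3))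
      have := (hC₂.2 hC₃ h23) hc'3
      exact (hcc'.antisymm (hc.specializes this)).eq
    have hce : c ⤳ e := by
      by_contra hn
      exact hsR hz (Set.mem_iUnion₂.2 ⟨c, ⟨hcmax.1, hcmax.2, hn⟩, specializes_iff_mem_closure.1 hcz⟩)
    by_cases hceq : c = e
    · exact hceq ▸ hcz
    · exact absurd (hGt ⟨hce, hceq⟩) hcmax.1
  have hWU : X.basicOpen (X.presheaf.map (homOfLE hWW₁).op t) = W ⊓ U := by
    rw [Scheme.basicOpen_res]
    refine le_antisymm (inf_le_inf_left _ (htW.trans inf_le_right)) fun y hy => ⟨hy.1, ?_⟩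
    by_contra hyt
    exact he (((hspec y hy.1 hyt)).mem_open U.2 hy.2)
  have hWg : W ⊓ U ≤ X.basicOpen g₀ := (inf_le_inf_right _ hWW₁).trans hW₁U
  refine ⟨W, hW₁.basicOpen s, hse rfl, ?_, fun z hz hzU => hspec z hz fun h' => hzU (htW h').2,
    ?_, _, hWU⟩
  · rw [Set.disjoint_left]
    exact fun y hy hyC => hhB (hWW₁ hy) (Or.inr hyC)
  · -- `W ∩ U` is principal in `U`
    obtain ⟨g₁, hg₁⟩ : ∃ g₁ : Γ(X, U), X.basicOpen g₁ = X.basicOpen g₀ ⊓ W₁ := by
      obtain ⟨g₁, hg₁⟩ := hU.basicOpen_basicOpen_is_basicOpen g₀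
        (X.presheaf.map (homOfLE hg₀W).op h)
      exact ⟨g₁, hg₁.trans (Scheme.basicOpen_res _ _ _)⟩
    have hle₁ : X.basicOpen g₁ ≤ W₁ := hg₁.le.trans inf_le_right
    obtain ⟨g, hg⟩ := hU.basicOpen_basicOpen_is_basicOpen g₁ (X.presheaf.map (homOfLE hle₁).op s)
    refine ⟨g, hg.trans ?_⟩
    rw [Scheme.basicOpen_res, hg₁]
    refine le_antisymm (fun y hy => ⟨hy.2, X.basicOpen_le g₀ hy.1.1⟩) fun y hy => ?_
    exact ⟨⟨hWg hy, hWW₁ hy.1⟩, hy.1⟩

/-- The open. -/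
theorem exists_thick_open (x : X) :
    ∃ V : X.Opens, x ∈ V ∧ (∀ y : X, ringKrullDim (X.presheaf.stalk y) ≤ 1 → y ∈ V) ∧
      MoreMor.HasAmpleFamily (V : Scheme.{u}) := by
  obtain ⟨U₀, m, Us, -, hU₀, hUs, hcov, hle⟩ := AdmissibleAmple.exists_dense_cover (X := X)
    (NoetherianSpace.finite_irreducibleComponents)
  obtain ⟨i, hxU⟩ := hcov x
  let U := Us i
  have hUgen : ∀ g : X, IsGeneric g → g ∈ U := fun g hg => hle i (mem_of_isGeneric hU₀ hg)
  let E : Set X := {e | e ∉ U ∧ ringKrullDim (X.presheaf.stalk e) ≤ 1}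
  have hE : E.Finite := (finite_setOf_maximal _ U.2.isClosed_compl).subset fun e he =>
    ⟨he.1, fun c hc hce => by_contra fun hne => hc (hUgen c (isGeneric_of_specializes he.2 hce hne))⟩
  haveI : Finite E := hE.to_subtype
  have hmax : ∀ e₁ e₂ : E, e₁.1 ⤳ e₂.1 → e₁ = e₂ := fun e₁ e₂ h => by_contra fun hne =>
    e₁.2.1 (hUgen _ (isGeneric_of_specializes e₂.2.2 h fun h' => hne (Subtype.ext h')))
  have hb := fun e : E => exists_branch U (hUs i) hUgen e.1 e.2.1 e.2.2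
    (⋃ e' ∈ {e' : E | e' ≠ e}, closure {e'.1})
    ((Set.toFinite _).isClosed_biUnion fun _ _ => isClosed_closure) (fun h => by
      obtain ⟨e', hne, h'⟩ := Set.mem_iUnion₂.1 h
      exact hne (hmax e' e (specializes_iff_mem_closure.2 h')))
  choose W hWa heW hWC hWspec hexg hext using hb
  choose g hg using hexg
  choose t ht using hext
  let V : X.Opens := U ⊔ ⨆ e, W e
  refine ⟨V, Or.inl hxU, fun y hy => ?_, ?_⟩
  · by_cases hyU : y ∈ U
    · exact Or.inl hyU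
    · exact Or.inr (Opens.mem_iSup.2 ⟨⟨y, hyU, hy⟩, heW _⟩)
  have hdisj : ∀ e e' : E, e ≠ e' → W e ⊓ W e' ≤ U := fun e e' hne z hz => by_contra fun hzU =>
    Set.disjoint_left.1 (hWC e') hz.2
      (Set.mem_iUnion₂.2 ⟨e, hne, specializes_iff_mem_closure.1 (hWspec e z hz.1 hzU)⟩)
  have haff : ∀ {O : X.Opens}, O ≤ V → IsAffineOpen O → IsAffineOpen (V.ι ⁻¹ᵁ O) := fun {O} hO hOa =>
    (V.ι.isAffineOpen_iff_of_isOpenImmersion).1 (by
      rwa [Scheme.Hom.image_preimage_eq_opensRange_inf, Scheme.Opens.opensRange_ι, inf_eq_right.2 hO])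
  refine StarGlue.hasAmpleFamily_of_star (V.ι ⁻¹ᵁ U) (haff le_sup_left (hUs i))
    (fun e => V.ι ⁻¹ᵁ W e) (fun e => haff (le_sup_of_le_right (le_iSup W e)) (hWa e))
    (fun e e' hne z hz => hdisj e e' hne hz) (fun z => ?_)
    (fun e => V.ι.app U (g e)) (fun e => ?_) (fun e => V.ι.app (W e) (t e)) (fun e => ?_)
  · rcases z.2 with h | h
    · exact Or.inl h
    · obtain ⟨e, he⟩ := Opens.mem_iSup.1 h
      exact Or.inr ⟨e, he⟩
  · rw [← Scheme.preimage_basicOpen, hg]; rfl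
  · rw [← Scheme.preimage_basicOpen, ht]; rfl

end Groth.Agent.H22.ThickOpen
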