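import Mathlib

/-!
Flat base change is the identity on `I`-power torsion modules when `R ⧸ I = S ⧸ I S`.
-/

set_option autoImplicit false
universe u

open TensorProduct

namespace Groth.Agent.H22.TorsionBaseChange

variable {R S : Type u} [CommRing R] [CommRing S] [Algebra R S] (I : Ideal R)

/-- `M → S ⊗ M`. -/
noncomputable abbrev ι (M : Type u) [AddCommGroup M] [Module R M] : M →ₗ[R] S ⊗[R] M :=
  TensorProduct.mk R S M 1

theorem bijective_of_killed_one
    (hq : Function.Bijective (algebraMap (R ⧸ I) (S ⧸ I.map (algebraMap R S))))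
    {M : Type u} [AddCommGroup M] [Module R M] (hM : ∀ a ∈ I, ∀ x : M, a • x = 0) :
    Function.Bijective (ι (R := R) (S := S) M) := by
  letI : Module (R ⧸ I) M := Module.IsTorsionBySet.module (I := I) fun x a => hM a.1 a.2 x
  haveI : IsScalarTower R (R ⧸ I) M :=
    IsScalarTower.of_algebraMap_smul fun r x => rfl
  let e := RingEquiv.ofBijective _ hq
  have he : ∀ r : R, e.symm (Ideal.Quotient.mk _ (algebraMap R S r)) = Ideal.Quotient.mk I r := fun r =>
    e.symm_apply_eq.2 rfl
  let φ : S →ₗ[R] R ⧸ I :=
    { toFun := fun s => e.symm (Ideal.Quotient.mk _ s)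
      map_add' := fun a b => by rw [map_add, map_add]
      map_smul' := fun r s => by
        rw [Algebra.smul_def, map_mul, map_mul, he, RingHom.id_apply, Algebra.smul_def]
        rfl }
  let inv : S ⊗[R] M →ₗ[R] M := TensorProduct.lift ((LinearMap.lsmul (R ⧸ I) M).restrictScalars₁₂ R R ∘ₗ φ)
  have hinv : ∀ s m, inv (s ⊗ₜ[R] m) = φ s • m := fun s m => rfl
  refine ⟨Function.LeftInverse.injective (g := inv) fun m => ?_, fun z => ?_⟩
  · change inv (1 ⊗ₜ[R] m) = m
    rw [hinv]
    have : φ 1 = 1 := by
      have := he 1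
      rwa [map_one, map_one] at this
    rw [this, one_smul]
  · induction z using TensorProduct.induction_on with
    | zero => exact ⟨0, map_zero _⟩
    | add a b ha hb =>
      obtain ⟨x, rfl⟩ := ha
      obtain ⟨y, rfl⟩ := hb
      exact ⟨x + y, map_add _ _ _⟩
    | tmul s m =>
      obtain ⟨r, hr⟩ := Ideal.Quotient.mk_surjective (φ s)
      refine ⟨r • m, ?_⟩
      have hmem : s - algebraMap R S r ∈ I.map (algebraMap R S) := by
        rw [← Ideal.Quotient.eq]
        have h1 : e (φ s) = Ideal.Quotient.mk (I.map (algebraMap R S)) s := e.apply_symm_apply _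
        rw [← h1, ← hr]
        rfl
      have hzero : ∀ t ∈ I.map (algebraMap R S), t ⊗ₜ[R] m = 0 := by
        intro t ht
        refine Submodule.span_induction (p := fun t _ => ∀ u : S, (u * t) ⊗ₜ[R] m = 0) ?_ ?_ ?_ ?_ ht 1
          |> fun h => by simpa using h
        · rintro _ ⟨a, ha, rfl⟩ u
          rw [mul_comm, ← Algebra.smul_def, TensorProduct.smul_tmul, hM a ha, TensorProduct.tmul_zero]
        · intro u; simp
        · intro x y _ _ hx hy u
          rw [mul_add, TensorProduct.add_tmul, hx, hy, add_zero]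
        · intro c x _ hx u
          rw [smul_eq_mul, ← mul_assoc]
          exact hx _
      change (1 : S) ⊗ₜ[R] (r • m) = s ⊗ₜ[R] m
      rw [← TensorProduct.smul_tmul, Algebra.smul_def, mul_one]
      conv_rhs => rw [← sub_add_cancel s (algebraMap R S r), TensorProduct.add_tmul, hzero _ hmem, zero_add]

theorem bijective_of_killed [Module.Flat R S]
    (hq : Function.Bijective (algebraMap (R ⧸ I) (S ⧸ I.map (algebraMap R S)))) :
    ∀ (n : ℕ) (M : Type u) [AddCommGroup M] [Module R M], (∀ a ∈ I ^ n, ∀ x : M, a • x = 0) →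
      Function.Bijective (ι (R := R) (S := S) M) := by
  intro n
  induction n with
  | zero =>
    intro M _ _ hM
    have : Subsingleton M := subsingleton_of_forall_eq 0 fun x => by
      have := hM 1 (by simp) x
      rwa [one_smul] at this
    exact bijective_of_killed_one I hq fun a _ x => Subsingleton.elim _ _
  | succ n ih =>
    intro M _ _ hM
    let W : Submodule R M := I • ⊤
    have hW : Function.Bijective (ι (R := R) (S := S) W) := ih W fun a ha x => by
      refine Subtype.ext ?_
      change a • (x : M) = 0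
      refine Submodule.smul_induction_on x.2 (fun i hi y _ => ?_) fun y z hy hz => by rw [smul_add, hy, hz, add_zero]
      rw [smul_smul]
      exact hM _ (by rw [pow_succ]; exact Ideal.mul_mem_mul ha hi) y
    have hQ : Function.Bijective (ι (R := R) (S := S) (M ⧸ W)) := bijective_of_killed_one I hq fun a ha x => by
      obtain ⟨x, rfl⟩ := Submodule.Quotient.mk_surjective W x
      rw [← Submodule.Quotient.mk_smul, Submodule.Quotient.mk_eq_zero]
      exact Submodule.smul_mem_smul ha Submodule.mem_top
    have hi : Function.Injective (W.subtype.lTensor S) :=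
      Module.Flat.lTensor_preserves_injective_linearMap _ W.injective_subtype
    have hex : Function.Exact (W.subtype.lTensor S) (W.mkQ.lTensor S) :=
      lTensor_exact S (LinearMap.exact_subtype_mkQ W) W.mkQ_surjective
    have h1 : ∀ x : W, W.subtype.lTensor S (ι (R := R) (S := S) W x) = ι (R := R) (S := S) M x := fun x => rfl
    have h2 : ∀ x : M, W.mkQ.lTensor S (ι (R := R) (S := S) M x) = ι (R := R) (S := S) (M ⧸ W) (W.mkQ x) := fun x => rfl
    refine ⟨(injective_iff_map_eq_zero _).2 fun x hx => ?_, fun z => ?_⟩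
    · have hxW : x ∈ W := by
        rw [← Submodule.Quotient.mk_eq_zero]
        apply hQ.1
        rw [← Submodule.mkQ_apply, ← h2, hx, map_zero, map_zero]
      have : ι (R := R) (S := S) W ⟨x, hxW⟩ = 0 := hi (by rw [h1, hx, map_zero])
      exact congrArg Subtype.val (hW.1 (this.trans (map_zero _).symm))
    · obtain ⟨q, hq'⟩ := hQ.2 (W.mkQ.lTensor S z)
      obtain ⟨y, rfl⟩ := W.mkQ_surjective q
      obtain ⟨w, hw⟩ := (hex (z - ι (R := R) (S := S) M y)).1 (by rw [map_sub, h2, hq', sub_self])
      obtain ⟨w, rfl⟩ := hW.2 w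
      exact ⟨(w : M) + y, by rw [map_add, ← h1, hw, sub_add_cancel]⟩

theorem main [Module.Flat R S] {M N : Type u} (hI : I.FG)
    (hq : Function.Bijective (algebraMap (R ⧸ I) (S ⧸ I.map (algebraMap R S))))
    [AddCommGroup M] [Module R M] [AddCommGroup N] [Module R N]
    (hMN : (∀ x : M, ∃ n : ℕ, ∀ a ∈ I ^ n, a • x = 0) ∨ (∀ y : N, ∃ n : ℕ, ∀ a ∈ I ^ n, a • y = 0)) :
    Function.Bijective (fun f : M →ₗ[R] N => LinearMap.baseChange S f) := by
  classical
  -- the torsion of `S ⊗ N` killed by `I ^ n` comes from `N`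
  have key : ∀ (n : ℕ) (z : S ⊗[R] N), (∀ a ∈ I ^ n, a • z = 0) →
      ∃! y : N, (∀ a ∈ I ^ n, a • y = 0) ∧ ι (R := R) (S := S) N y = z := by
    intro n z hz
    obtain ⟨G, hG⟩ := hI.pow (n := n)
    let W : Submodule R N :=
      LinearMap.ker (LinearMap.pi fun a : G => LinearMap.lsmul R N a.1)
    have hW : ∀ y, y ∈ W ↔ ∀ a ∈ I ^ n, a • y = 0 := by
      intro y
      rw [LinearMap.mem_ker]
      refine ⟨fun h a ha => ?_, fun h => funext fun a => h a.1 (hG ▸ Submodule.subset_span a.2)⟩
      rw [← hG] at ha
      refine Submodule.span_induction (fun a ha => congrFun h ⟨a, ha⟩) (zero_smul R y)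
        (fun a b _ _ ha hb => by rw [add_smul, ha, hb, add_zero])
        (fun c a _ ha => by rw [smul_eq_mul, mul_smul, ha, smul_zero]) ha
    have hbij := bijective_of_killed I hq n W fun a ha x => Subtype.ext ((hW x.1).1 x.2 a ha)
    have hi : Function.Injective (W.subtype.lTensor S) :=
      Module.Flat.lTensor_preserves_injective_linearMap _ W.injective_subtype
    have hz0 : (LinearMap.pi fun a : G => LinearMap.lsmul R N a.1).lTensor S z = 0 := by
      apply (TensorProduct.piRight R R S (fun _ : G => N)).injective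
      funext a
      rw [map_zero, Pi.zero_apply]
      have h3 : ∀ w : S ⊗[R] N, TensorProduct.piRight R R S (fun _ : G => N)
          ((LinearMap.pi fun a : G => LinearMap.lsmul R N a.1).lTensor S w) a = a.1 • w := by
        intro w
        induction w using TensorProduct.induction_on with
        | zero => simp
        | add x y hx hy => simp only [map_add, Pi.add_apply, hx, hy, smul_add]
        | tmul s m => simp [TensorProduct.smul_tmul', TensorProduct.tmul_smul]
      rw [h3]
      exact hz a.1 (hG ▸ Submodule.subset_span a.2)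
    obtain ⟨w, hw⟩ := (Module.Flat.lTensor_exact S (LinearMap.exact_subtype_ker_map _) z).1 hz0
    obtain ⟨w, rfl⟩ := hbij.2 w
    refine ⟨w.1, ⟨(hW _).1 w.2, hw⟩, ?_⟩
    rintro y ⟨hy, rfl⟩
    have h4 : W.subtype.lTensor S (ι (R := R) (S := S) W ⟨y, (hW y).2 hy⟩) = W.subtype.lTensor S (ι (R := R) (S := S) W w) :=
      hw.symm
    exact congrArg Subtype.val (hbij.1 (hi h4))
  -- the statement with target `S ⊗ N`
  have key' : ∀ g : M →ₗ[R] S ⊗[R] N, ∃! f : M →ₗ[R] N, ι (R := R) (S := S) N ∘ₗ f = g := by
    intro g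
    rcases hMN with hM | hN
    · choose n hn using hM
      choose f hf hf' using fun x => (key (n x) (g x) fun a ha => by rw [← map_smul, hn x a ha, map_zero]).exists
      have huniq : ∀ x y, (∃ k, ∀ a ∈ I ^ k, a • y = 0) → ι (R := R) (S := S) N y = g x → y = f x := by
        rintro x y ⟨k, hk⟩ hy
        let j := max k (n x)
        have hkill : ∀ a ∈ I ^ j, a • g x = 0 := fun a ha => by
          rw [← map_smul, hn x a (Ideal.pow_le_pow_right (le_max_right _ _) ha), map_zero]
        exact (key j (g x) hkill).unique ⟨fun a ha => hk a (Ideal.pow_le_pow_right (le_max_left _ _) ha), hy⟩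
          ⟨fun a ha => hf x a (Ideal.pow_le_pow_right (le_max_right _ _) ha), hf' x⟩
      refine ⟨{ toFun := f, map_add' := fun x y => ?_, map_smul' := fun r x => ?_ },
        LinearMap.ext fun x => hf' x, fun f' hf'' => LinearMap.ext fun x => ?_⟩
      · refine (huniq (x + y) _ ⟨max (n x) (n y), fun a ha => ?_⟩ (by rw [map_add, hf', hf', map_add])).symm
        rw [smul_add, hf x a (Ideal.pow_le_pow_right (le_max_left _ _) ha),
          hf y a (Ideal.pow_le_pow_right (le_max_right _ _) ha), add_zero]
      · refine (huniq (r • x) _ ⟨n x, fun a ha => ?_⟩ (by rw [map_smul, hf', map_smul]; rfl)).symm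
        rw [smul_comm, hf x a ha, smul_zero]
      · exact huniq x (f' x) ⟨n x, fun a ha => by rw [← map_smul, hn x a ha, map_zero]⟩ (LinearMap.congr_fun hf'' x)
    · have hb : Function.Bijective (ι (R := R) (S := S) N) := by
        refine ⟨(injective_iff_map_eq_zero _).2 fun y hy => ?_, fun z => ?_⟩
        · obtain ⟨n, hn⟩ := hN y
          exact (key n 0 fun a _ => smul_zero a).unique ⟨hn, hy⟩ ⟨fun a _ => smul_zero a, map_zero _⟩
        · induction z using TensorProduct.induction_on with
          | zero => exact ⟨0, map_zero _⟩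
          | add a b ha hb =>
            obtain ⟨x, rfl⟩ := ha
            obtain ⟨y, rfl⟩ := hb
            exact ⟨x + y, map_add _ _ _⟩
          | tmul s y =>
            obtain ⟨n, hn⟩ := hN y
            obtain ⟨w, -, hw⟩ := (key n (s ⊗ₜ y) fun a ha => by
              rw [← TensorProduct.tmul_smul, hn a ha, TensorProduct.tmul_zero]).exists
            exact ⟨w, hw⟩
      let e := LinearEquiv.ofBijective _ hb
      refine ⟨e.symm.toLinearMap ∘ₗ g, LinearMap.ext fun x => e.apply_symm_apply _, ?_⟩
      rintro f rfl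
      exact LinearMap.ext fun x => (e.symm_apply_apply _).symm
  have hadj : ∀ (f : M →ₗ[R] N) (x : M), f.baseChange S ((1 : S) ⊗ₜ[R] x) = ι (R := R) (S := S) N (f x) := fun f x => rfl
  refine ⟨fun f f' h => ?_, fun g => ?_⟩
  · refine (key' (ι (R := R) (S := S) N ∘ₗ f)).unique rfl (LinearMap.ext fun x => ?_)
    have := LinearMap.congr_fun h ((1 : S) ⊗ₜ[R] x)
    rw [hadj, hadj] at this
    exact this.symm
  · obtain ⟨f, hf⟩ := (key' (g.restrictScalars R ∘ₗ ι (R := R) (S := S) M)).exists
    refine ⟨f, TensorProduct.AlgebraTensorModule.curry_injective (LinearMap.ext_ring (LinearMap.ext fun x => ?_))⟩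
    exact (hadj f x).trans (LinearMap.congr_fun hf x)

end Groth.Agent.H22.TorsionBaseChange
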