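import Groth.Agent.H47.FlatFreeStrata
import Mathlib.RingTheory.QuasiFinite.Basic
import Mathlib.RingTheory.Localization.BaseChange
import Mathlib.RingTheory.Noetherian.Nilpotent

/-!
# A section of a flat quasi-finite algebra lies in the image of a module `F ^ r` with `F` an ideal
-/

set_option autoImplicit false
set_option maxHeartbeats 1000000

universe u

open TensorProduct

namespace Groth.Agent.H22.TorsionFreeImage

section Core

variable {A : Type u} [CommRing A] {M : Type u} [AddCommGroup M] [Module A M]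

/-- If `A/J ⊗ M` is finite free and `M` is flat, then the elements of `M` killed by `J` form the
image of an injective map from `(Ann J) ^ r`. -/
theorem exists_injective [Module.Flat A M] (J : Ideal A) (hJ : J.FG) {r : ℕ}
    (b : Module.Basis (Fin r) (A ⧸ J) ((A ⧸ J) ⊗[A] M)) (g : M) (hg : ∀ j ∈ J, j • g = 0) :
    ∃ (F : Ideal A) (φ : (Fin r → F) →ₗ[A] M),
      Function.Injective φ ∧ g ∈ LinearMap.range φ := by
  classical
  obtain ⟨k, x, hx⟩ := Submodule.fg_iff_exists_fin_generating_family.1 hJ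
  have hxJ : ∀ l, x l ∈ J := fun l ↦ hx ▸ Submodule.subset_span ⟨l, rfl⟩
  let ψ : A →ₗ[A] (Fin k → A) := LinearMap.pi fun l ↦ LinearMap.mulLeft A (x l)
  let F : Ideal A := LinearMap.ker ψ
  have hF : ∀ f : F, ∀ j ∈ J, j * (f : A) = 0 := by
    intro f
    suffices J ≤ LinearMap.ker (LinearMap.mulRight A (f : A)) from fun j hj ↦ this hj
    rw [← hx, Submodule.span_le]
    rintro _ ⟨l, rfl⟩
    exact congrFun (LinearMap.mem_ker.1 f.2) l
  -- the action of `A/J` on `F`
  let μ : (A ⧸ J) →ₗ[A] (F →ₗ[A] F) := Submodule.liftQ J (LinearMap.lsmul A F) fun j hj ↦ by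
    ext f
    simpa using hF f j hj
  have hμ : ∀ (a : A) (f : F), μ (Ideal.Quotient.mk J a) f = a • f := fun a f ↦ rfl
  let p : M →ₗ[A] (A ⧸ J) ⊗[A] M := TensorProduct.mk A (A ⧸ J) M 1
  have hp : Function.Surjective p := by
    intro t
    induction t using TensorProduct.induction_on with
    | zero => exact ⟨0, map_zero _⟩
    | tmul a m =>
      obtain ⟨a, rfl⟩ := Ideal.Quotient.mk_surjective a
      refine ⟨a • m, ?_⟩
      simp [p, ← Ideal.Quotient.algebraMap_eq, Algebra.algebraMap_eq_smul_one,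
        TensorProduct.smul_tmul]
    | add s t hs ht =>
      obtain ⟨u, rfl⟩ := hs
      obtain ⟨v, rfl⟩ := ht
      exact ⟨u + v, map_add _ _ _⟩
  choose m hm using fun i ↦ hp (b i)
  let c : M →ₗ[A] (Fin r → A ⧸ J) :=
    (b.equivFun.toLinearMap.restrictScalars A).comp p
  have hc : ∀ i l, c (m i) l = if i = l then 1 else 0 := fun i l ↦ by
    simp [c, hm, Finsupp.single_apply]
  -- coordinates
  let Φ : F ⊗[A] M →ₗ[A] (Fin r → F) := LinearMap.pi fun i ↦
    TensorProduct.lift ((μ.comp ((LinearMap.proj i).comp c)).flip)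
  have hΦ : ∀ (f : F) (v : M) i, Φ (f ⊗ₜ[A] v) i = μ (c v i) f := fun f v i ↦ rfl
  let Ψ : (Fin r → F) →ₗ[A] F ⊗[A] M :=
    ∑ i, ((TensorProduct.mk A F M).flip (m i)).comp (LinearMap.proj i)
  have hΨ : ∀ f, Ψ f = ∑ i, f i ⊗ₜ[A] m i := fun f ↦ by simp [Ψ]
  have hΦΨ : ∀ f, Φ (Ψ f) = f := by
    intro f; funext l
    rw [hΨ, map_sum, Finset.sum_apply, Finset.sum_eq_single l]
    · rw [hΦ, hc, if_pos rfl]
      exact (hμ 1 _).trans (one_smul A _)
    · intro i _ hil
      rw [hΦ, hc, if_neg hil, map_zero, LinearMap.zero_apply]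
    · simp
  have hdecomp : ∀ (f : F) (v : M), ∃ w, Ψ w = f ⊗ₜ[A] v := by
    intro f v
    choose a ha using fun i ↦ Ideal.Quotient.mk_surjective (c v i)
    refine ⟨fun i ↦ a i • f, ?_⟩
    have hrep : p (∑ i, a i • m i) = p v := by
      apply b.equivFun.injective
      funext l
      have h1 : c (∑ i, a i • m i) l = c v l := by
        simp only [map_sum, map_smul, Finset.sum_apply, Pi.smul_apply, hc, smul_ite, smul_zero,
          Finset.sum_ite_eq', Finset.mem_univ, if_true]
        rw [← ha l, ← Ideal.Quotient.algebraMap_eq, ← Algebra.algebraMap_eq_smul_one]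
      exact h1
    have hmem : v - ∑ i, a i • m i ∈ J • (⊤ : Submodule A M) := by
      have h0 : p (v - ∑ i, a i • m i) = 0 := by rw [map_sub, hrep, sub_self]
      have h1 := congrArg (TensorProduct.quotTensorEquivQuotSMul M J) h0
      have h2 : TensorProduct.quotTensorEquivQuotSMul M J ((1 : A ⧸ J) ⊗ₜ[A] (v - ∑ i, a i • m i))
          = Submodule.Quotient.mk (v - ∑ i, a i • m i) := by
        have := TensorProduct.quotTensorEquivQuotSMul_mk_tmul J (1 : A) (v - ∑ i, a i • m i)
        simpa using this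
      rw [map_zero] at h1
      exact (Submodule.Quotient.mk_eq_zero _).1 (h2.symm.trans h1)
    have hzero : f ⊗ₜ[A] (v - ∑ i, a i • m i) = 0 := by
      refine Submodule.smul_induction_on (p := fun z ↦ f ⊗ₜ[A] z = 0) hmem (fun j hj z _ ↦ ?_)
        (fun z w hz hw ↦ by rw [TensorProduct.tmul_add, hz, hw, add_zero])
      rw [← TensorProduct.smul_tmul]
      rw [show j • f = 0 from Subtype.ext (hF f j hj), TensorProduct.zero_tmul]
    rw [TensorProduct.tmul_sub, sub_eq_zero, TensorProduct.tmul_sum] at hzero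
    rw [hzero, hΨ]
    exact Finset.sum_congr rfl fun i _ ↦ TensorProduct.smul_tmul (a i) f (m i)
  have hΨs : Function.Surjective Ψ := by
    intro t
    induction t using TensorProduct.induction_on with
    | zero => exact ⟨0, map_zero _⟩
    | tmul f v => exact hdecomp f v
    | add s t hs ht =>
      obtain ⟨u, rfl⟩ := hs
      obtain ⟨v, rfl⟩ := ht
      exact ⟨u + v, map_add _ _ _⟩
  let mult : F ⊗[A] M →ₗ[A] M :=
    (TensorProduct.lid A M).toLinearMap.comp (LinearMap.rTensor M F.subtype)
  have hmult : Function.Injective mult := (TensorProduct.lid A M).injective.comp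
    (Module.Flat.rTensor_preserves_injective_linearMap _ F.injective_subtype)
  refine ⟨F, mult.comp Ψ, hmult.comp (Function.LeftInverse.injective hΦΨ), ?_⟩
  have hex : Function.Exact (LinearMap.rTensor M F.subtype) (LinearMap.rTensor M ψ) :=
    Module.Flat.rTensor_exact M (LinearMap.exact_subtype_ker_map ψ)
  have h1 : LinearMap.rTensor M ψ ((1 : A) ⊗ₜ[A] g) = 0 := by
    rw [LinearMap.rTensor_tmul, show ψ 1 = ∑ l, x l • (Pi.single l (1 : A) : Fin k → A) from by
      funext l; simp [ψ, Pi.single_apply], TensorProduct.sum_tmul]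
    refine Finset.sum_eq_zero fun l _ ↦ ?_
    rw [TensorProduct.smul_tmul, hg _ (hxJ l), TensorProduct.tmul_zero]
  obtain ⟨t, ht⟩ := (hex _).1 h1
  obtain ⟨w, rfl⟩ := hΨs t
  exact ⟨w, by simp [mult, ht]⟩

end Core

/-- The commutative algebra core. -/
theorem exists_injective_of_strata {A B A' B' : Type u} [CommRing A] [CommRing B] [CommRing A']
    [CommRing B'] [Algebra A B] [Algebra A A'] [Algebra B B'] [Algebra A' B'] [Algebra A B']
    [IsScalarTower A A' B'] [IsScalarTower A B B'] (l : List A) (i : ℕ) (hi : i < l.length)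
    (hstr : ∀ (E : Type u) [CommRing E] [Algebra A E],
        (Ideal.span {a | a ∈ l.take i}).map (algebraMap A E) = ⊥ →
          IsUnit (algebraMap A E l[i]) → Module.Free E (E ⊗[A] B))
    [IsLocalization.Away l[i] A'] [IsLocalization.Away (algebraMap A B l[i]) B']
    [Module.Flat A' B'] [Algebra.QuasiFinite A' B'] (g : B') (hg : g ≠ 0)
    (hkill : ∀ a ∈ l.take i, ∃ n : ℕ, algebraMap A B' a ^ n * g = 0) :
    ∃ (F : Ideal A') (r : ℕ), 0 < r ∧
      ∃ φ : (Fin r → F) →ₗ[A'] B', Function.Injective φ ∧ g ∈ LinearMap.range φ := by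
  classical
  have : IsLocalization (Algebra.algebraMapSubmonoid B (Submonoid.powers l[i])) B' := by
    rw [Algebra.algebraMapSubmonoid_powers]; infer_instance
  have hpush : Algebra.IsPushout A A' B B' :=
    (Algebra.isPushout_of_isLocalization (Submonoid.powers l[i]) A' B B').symm
  choose! n hn using hkill
  let J : Ideal A' := Ideal.span ((fun a ↦ algebraMap A A' a ^ n a) '' {a | a ∈ l.take i})
  have hJfg : J.FG := Submodule.fg_span ((List.finite_toSet _).image _)
  have hJg : ∀ j ∈ J, j • g = 0 := by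
    suffices J ≤ LinearMap.ker (LinearMap.toSpanSingleton A' B' g) from
      fun j hj ↦ LinearMap.mem_ker.1 (this hj)
    rw [Ideal.span_le]
    rintro _ ⟨a, ha, rfl⟩
    simp only [SetLike.mem_coe, LinearMap.mem_ker, LinearMap.toSpanSingleton_apply,
      Algebra.smul_def, map_pow, ← IsScalarTower.algebraMap_apply]
    exact hn a ha
  have hJtop : J ≠ ⊤ := fun h ↦ hg (by simpa using hJg 1 (h ▸ Submodule.mem_top))
  have : Nontrivial (A' ⧸ J) := Ideal.Quotient.nontrivial_iff.2 hJtop
  let E := A' ⧸ J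
  let N : Ideal E := Ideal.span ((algebraMap A E) '' {a | a ∈ l.take i})
  have hN : IsNilpotent N := by
    refine (Ideal.FG.isNilpotent_iff_le_nilradical
      (Submodule.fg_span ((List.finite_toSet _).image _))).2 (Ideal.span_le.2 ?_)
    rintro _ ⟨a, ha, rfl⟩
    refine ⟨n a, ?_⟩
    rw [IsScalarTower.algebraMap_apply A A' E, ← map_pow]
    exact Ideal.Quotient.eq_zero_iff_mem.2 (Ideal.subset_span ⟨a, ha, rfl⟩)
  let E' := E ⧸ N
  let M := E ⊗[A'] B'
  have hfree' : Module.Free E' (E' ⊗[E] M) := by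
    have h0 : Module.Free E' (E' ⊗[A] B) := by
      refine hstr E' ?_ ?_
      · rw [Ideal.map_span, Ideal.span_eq_bot]
        rintro _ ⟨a, ha, rfl⟩
        rw [IsScalarTower.algebraMap_apply A E E']
        exact Ideal.Quotient.eq_zero_iff_mem.2 (Ideal.subset_span ⟨a, ha, rfl⟩)
      · rw [IsScalarTower.algebraMap_apply A A' E']
        exact (IsLocalization.Away.algebraMap_isUnit l[i]).map _
    exact Module.Free.of_equiv (((AlgebraTensorModule.cancelBaseChange A A' E' E' B).symm.trans
      (LinearEquiv.baseChange A' E' _ _ (Algebra.IsPushout.equiv A A' B B').toLinearEquiv)).trans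
      (AlgebraTensorModule.cancelBaseChange A' E E' E' B').symm)
  have hfree : Module.Free E M := by
    have := hfree'
    exact H47.NilpotentFree.free_of_flat_family hN (fun _ : PUnit.{1} => E)
      (fun a h => h PUnit.unit) (fun _ => Module.Flat.of_linearEquiv (TensorProduct.lid E M))
  let b := Module.Free.chooseBasis E M
  obtain ⟨m, hm⟩ := Ideal.exists_maximal E
  let K := E ⧸ m
  letI : Field K := Ideal.Quotient.field m
  have : Module.Finite K (K ⊗[A'] B') := Module.Finite.of_quasiFinite
  have : Module.Finite K (K ⊗[E] M) :=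
    Module.Finite.equiv (AlgebraTensorModule.cancelBaseChange A' E K K B').symm
  have : Finite (Module.Free.ChooseBasisIndex E M) := Module.Finite.finite_basis (b.baseChange K)
  have : Fintype (Module.Free.ChooseBasisIndex E M) := Fintype.ofFinite _
  let b' := b.reindex (Fintype.equivFin _)
  obtain ⟨F, φ, hφ, hgφ⟩ := exists_injective J hJfg b' g hJg
  refine ⟨F, _, ?_, φ, hφ, hgφ⟩
  by_contra hr
  obtain ⟨w, rfl⟩ := hgφ
  have : IsEmpty (Fin (Fintype.card (Module.Free.ChooseBasisIndex E M))) := by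
    rw [Nat.le_zero.1 (not_lt.1 hr)]; infer_instance
  exact hg (by rw [Subsingleton.elim w 0, map_zero])

end Groth.Agent.H22.TorsionFreeImage
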