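import Mathlib

/-!
Algebra for the universal finite open: for a finite finitely presented `A`-module algebra `C` and a
finitely generated ideal `I` of `C`, a finitely presented `A`-algebra carrying a weakly universal
idempotent of `I (C ⊗ -)`.
-/

set_option maxHeartbeats 1000000
universe u

namespace Groth.Agent.H22.UnivOpen

open TensorProduct

variable {A C : Type u} [CommRing A] [CommRing C] [Algebra A C]

/-- functoriality of `C ⊗ -`. -/
noncomputable abbrev tmap {P Q : Type u} [CommRing P] [Algebra A P] [CommRing Q] [Algebra A Q]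
    (ψ : P →ₐ[A] Q) : C ⊗[A] P →ₐ[A] C ⊗[A] Q :=
  Algebra.TensorProduct.map (AlgHom.id A C) ψ

lemma tmap_comp {P Q R : Type u} [CommRing P] [Algebra A P] [CommRing Q] [Algebra A Q]
    [CommRing R] [Algebra A R] (φ : Q →ₐ[A] R) (ψ : P →ₐ[A] Q) (z : C ⊗[A] P) :
    tmap φ (tmap ψ z) = tmap (φ.comp ψ) z := by
  induction z with
  | zero => simp
  | add x y hx hy => simp only [map_add, hx, hy]
  | tmul x y => simp

lemma sum_smul_single_eq {ι : Type} [Fintype ι] [DecidableEq ι] (v : ι → A) :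
    ∑ i, v i • (Pi.single i 1 : ι → A) = v := by
  ext j
  simp [Pi.single_apply]

lemma exists_eq_sum_single {ι : Type} [Fintype ι] [DecidableEq ι] {P : Type u} [AddCommGroup P]
    [Module A P] (y : (ι → A) ⊗[A] P) :
    ∃ w : ι → P, y = ∑ i, (Pi.single i 1 : ι → A) ⊗ₜ[A] w i := by
  induction y with
  | zero => exact ⟨0, by simp⟩
  | add x y hx hy =>
    obtain ⟨a, rfl⟩ := hx
    obtain ⟨b, rfl⟩ := hy
    exact ⟨a + b, by simp [tmul_add, Finset.sum_add_distrib]⟩
  | tmul v p =>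
    refine ⟨fun i => v i • p, ?_⟩
    conv_lhs => rw [← sum_smul_single_eq v, sum_tmul]
    simp_rw [tmul_smul, smul_tmul']

/-- presentation data: vanishing criterion in `C ⊗ P`. -/
lemma exists_presentation [Module.FinitePresentation A C] :
    ∃ (m : ℕ) (c : Fin m → C) (r : ℕ) (q : Fin r → Fin m → A),
      (∀ (P : Type u) [CommRing P] [Algebra A P] (z : C ⊗[A] P),
        ∃ a : Fin m → P, z = ∑ i, c i ⊗ₜ[A] a i) ∧
      (∀ (P : Type u) [CommRing P] [Algebra A P] (a : Fin m → P),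
        ∑ i, c i ⊗ₜ[A] a i = 0 ↔ ∃ w : Fin r → P, ∀ i, a i = ∑ l, q l i • w l) := by
  obtain ⟨m, p, hp⟩ := Module.Finite.exists_fin' A C
  have hk : (LinearMap.ker p).FG := Module.FinitePresentation.fg_ker p hp
  obtain ⟨r, q, hq⟩ := Submodule.fg_iff_exists_fin_generating_family.mp hk
  let qm : (Fin r → A) →ₗ[A] (Fin m → A) := Fintype.linearCombination A q
  have hex : Function.Exact qm p := by
    rw [LinearMap.exact_iff, ← hq, ← Fintype.range_linearCombination]
  refine ⟨m, fun i => p (Pi.single i 1), r, q, fun P _ _ z => ?_, fun P _ _ a => ⟨fun h => ?_, ?_⟩⟩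
  · obtain ⟨y, hy⟩ := LinearMap.rTensor_surjective P hp z
    obtain ⟨a, rfl⟩ := exists_eq_sum_single y
    exact ⟨a, by rw [← hy, map_sum]; simp⟩
  · have hz : LinearMap.rTensor P p (∑ i, (Pi.single i 1 : Fin m → A) ⊗ₜ[A] a i) = 0 := by
      rw [map_sum]; simpa using h
    obtain ⟨y, hy⟩ := (rTensor_exact P hex hp _).mp hz
    obtain ⟨w, rfl⟩ := exists_eq_sum_single y
    refine ⟨w, fun j => ?_⟩
    let co : (Fin m → A) ⊗[A] P →ₗ[A] P :=
      TensorProduct.lift ((LinearMap.lsmul A P).comp (LinearMap.proj j))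
    have hco : ∀ (v : Fin m → A) (x : P), co (v ⊗ₜ x) = v j • x := fun v x => by simp [co]
    have := congrArg co hy
    rw [map_sum, map_sum, map_sum] at this
    simp only [LinearMap.rTensor_tmul, hco] at this
    simpa [qm, Pi.single_apply] using this.symm
  · rintro ⟨w, hw⟩
    have hz : ∀ l, ∑ i, q l i • p (Pi.single i 1) = 0 := fun l => by
      have hl : q l ∈ LinearMap.ker p := by
        rw [← hq]; exact Submodule.subset_span ⟨l, rfl⟩
      rw [← (LinearMap.mem_ker.mp hl), ← congrArg p (sum_smul_single_eq (q l)), map_sum]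
      simp
    simp only [hw, tmul_sum]
    rw [Finset.sum_comm]
    refine Finset.sum_eq_zero fun l _ => ?_
    simp_rw [← smul_tmul]
    rw [← sum_tmul, hz, zero_tmul]

/-- making an element of `C ⊗ P` vanish, weakly universally. -/
lemma exists_kill [Module.FinitePresentation A C] (P : Type u) [CommRing P] [Algebra A P]
    [Algebra.FinitePresentation A P] (z : C ⊗[A] P) :
    ∃ (Q : Type u) (_ : CommRing Q) (_ : Algebra A Q) (_ : Algebra.FinitePresentation A Q)
      (π : P →ₐ[A] Q), tmap π z = 0 ∧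
      ∀ (P' : Type u) [CommRing P'] [Algebra A P'] (ψ : P →ₐ[A] P'), tmap ψ z = 0 →
        ∃ χ : Q →ₐ[A] P', χ.comp π = ψ := by
  obtain ⟨m, c, r, q, hgen, hvan⟩ := exists_presentation (A := A) (C := C)
  obtain ⟨a, rfl⟩ := hgen P z
  let R := MvPolynomial (Fin r) P
  let J : Ideal R :=
    Ideal.span (Set.range fun i : Fin m => MvPolynomial.C (a i) - ∑ l, q l i • MvPolynomial.X l)
  have : Algebra.FinitePresentation A R := Algebra.FinitePresentation.trans A P R
  have hJ : J.FG := Submodule.fg_span (Set.finite_range _)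
  refine ⟨R ⧸ J, inferInstance, inferInstance, Algebra.FinitePresentation.quotient hJ,
    (Ideal.Quotient.mkₐ A J).comp (IsScalarTower.toAlgHom A P R), ?_, fun P' _ _ ψ h => ?_⟩
  · rw [map_sum]
    simp only [Algebra.TensorProduct.map_tmul, AlgHom.coe_id, id_eq]
    refine (hvan _ _).mpr ⟨fun l => Ideal.Quotient.mkₐ A J (MvPolynomial.X l), fun i => ?_⟩
    simp_rw [AlgHom.comp_apply, ← map_smul, ← map_sum]
    exact Ideal.Quotient.eq.mpr (Ideal.subset_span ⟨i, rfl⟩)
  · rw [map_sum] at h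
    simp only [Algebra.TensorProduct.map_tmul, AlgHom.coe_id, id_eq] at h
    obtain ⟨w, hw⟩ := (hvan _ _).mp h
    let χ₀ : R →ₐ[A] P' := MvPolynomial.aevalTower ψ w
    have hC : ∀ x : P, χ₀ (MvPolynomial.C x) = ψ x := fun x => MvPolynomial.aevalTower_C _ _ x
    have hX : ∀ l, χ₀ (MvPolynomial.X l) = w l := fun l => MvPolynomial.aevalTower_X _ _ l
    have hle : ∀ x ∈ J, χ₀ x = 0 := fun x hx => by
      refine (show J ≤ RingHom.ker χ₀ from Ideal.span_le.mpr ?_) hx
      rintro _ ⟨i, rfl⟩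
      simp [RingHom.mem_ker, map_sub, map_sum, map_smul, hC, hX, hw i]
    exact ⟨Ideal.Quotient.liftₐ J χ₀ hle, AlgHom.ext fun x => hC x⟩

/-- the weakly universal idempotent in `I (C ⊗ -)`. -/
theorem exists_universal [Module.FinitePresentation A C] (I : Ideal C) (hI : I.FG) :
    ∃ (Q : Type u) (_ : CommRing Q) (_ : Algebra A Q) (_ : Algebra.FinitePresentation A Q)
      (e : C ⊗[A] Q), IsIdempotentElem e ∧
      e ∈ I.map (Algebra.TensorProduct.includeLeftRingHom : C →+* C ⊗[A] Q) ∧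
      ∀ (P' : Type u) [CommRing P'] [Algebra A P'] (e' : C ⊗[A] P'), IsIdempotentElem e' →
        e' ∈ I.map (Algebra.TensorProduct.includeLeftRingHom : C →+* C ⊗[A] P') →
        ∃ χ : Q →ₐ[A] P', tmap χ e = e' := by
  obtain ⟨m, c, r, q, hgen, hvan⟩ := exists_presentation (A := A) (C := C)
  obtain ⟨s, h, rfl⟩ := Submodule.fg_iff_exists_fin_generating_family.mp hI
  have hmem : ∀ (P : Type u) [CommRing P] [Algebra A P] (x : C ⊗[A] P),
      x ∈ Ideal.map (Algebra.TensorProduct.includeLeftRingHom : C →+* C ⊗[A] P)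
        (Ideal.span (Set.range h)) ↔
      ∃ t : Fin s → C ⊗[A] P, ∑ j, t j * (h j ⊗ₜ[A] 1) = x := fun P _ _ x => by
    rw [Ideal.map_span, ← Set.range_comp, Ideal.mem_span_range_iff_exists_fun]
    rfl
  let P₀ := MvPolynomial (Fin m ⊕ Fin s × Fin m) A
  let e₀ : C ⊗[A] P₀ := ∑ i, c i ⊗ₜ[A] MvPolynomial.X (Sum.inl i)
  let t₀ : Fin s → C ⊗[A] P₀ := fun j => ∑ i, c i ⊗ₜ[A] MvPolynomial.X (Sum.inr (j, i))
  obtain ⟨Q₁, i₁, j₁, f₁, π₁, hπ₁, hu₁⟩ := exists_kill P₀ (e₀ * e₀ - e₀)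
  obtain ⟨Q₂, i₂, j₂, f₂, π₂, hπ₂, hu₂⟩ :=
    exists_kill Q₁ (tmap π₁ (e₀ - ∑ j, t₀ j * (h j ⊗ₜ[A] 1)))
  refine ⟨Q₂, i₂, j₂, f₂, tmap π₂ (tmap π₁ e₀), ?_, ?_, fun P' _ _ e' he' hI' => ?_⟩
  · rw [map_sub, map_mul, sub_eq_zero] at hπ₁
    exact IsIdempotentElem.map hπ₁ (tmap π₂)
  · rw [hmem]
    refine ⟨fun j => tmap π₂ (tmap π₁ (t₀ j)), ?_⟩
    rw [map_sub, map_sub, sub_eq_zero] at hπ₂
    simp only [hπ₂, map_sum, map_mul, Algebra.TensorProduct.map_tmul, AlgHom.coe_id, id_eq,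
      map_one]
  · obtain ⟨t, ht⟩ := (hmem P' e').mp hI'
    obtain ⟨a, ha⟩ := hgen P' e'
    choose b hb using fun j => hgen P' (t j)
    let ψ₀ : P₀ →ₐ[A] P' := MvPolynomial.aeval (Sum.elim a (fun ji => b ji.1 ji.2))
    have hψe : tmap ψ₀ e₀ = e' := by
      have hX : ∀ v, ψ₀ (MvPolynomial.X v) = Sum.elim a (fun ji => b ji.1 ji.2) v :=
        fun v => MvPolynomial.aeval_X _ v
      rw [ha]
      simp [e₀, hX, map_sum]
    have hψt : ∀ j, tmap ψ₀ (t₀ j) = t j := fun j => by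
      have hX : ∀ v, ψ₀ (MvPolynomial.X v) = Sum.elim a (fun ji => b ji.1 ji.2) v :=
        fun v => MvPolynomial.aeval_X _ v
      rw [hb j]
      simp [t₀, hX, map_sum]
    obtain ⟨χ₁, hχ₁⟩ := hu₁ P' ψ₀ (by rw [map_sub, map_mul, hψe, he'.eq, sub_self])
    obtain ⟨χ₂, hχ₂⟩ := hu₂ P' χ₁ (by
      rw [tmap_comp, hχ₁, map_sub, hψe, sub_eq_zero, map_sum]
      simp only [map_mul, hψt, Algebra.TensorProduct.map_tmul, AlgHom.coe_id, id_eq, map_one]
      exact ht.symm)
    refine ⟨χ₂, ?_⟩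
    rw [tmap_comp, hχ₂, tmap_comp, hχ₁, hψe]

end Groth.Agent.H22.UnivOpen
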