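import Mathlib
import Groth.Agent.H22.UnivFiniteOpenAlg

/-!
The universal finite open of a morphism of affine schemes factoring as a quasi-compact open
immersion followed by a finite finitely presented morphism.
-/

set_option maxHeartbeats 1000000
universe u

namespace Groth.Agent.H22.UnivOpen

open AlgebraicGeometry CategoryTheory Limits TensorProduct
open Algebra.TensorProduct (includeLeftRingHom includeRight)

lemma mem_of_idem {R : Type u} [CommRing R] {e : R} (he : IsIdempotentElem e) {J : Ideal R}
    (h : e ∈ J.radical) : e ∈ J := by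
  obtain ⟨n, hn⟩ := h
  have := J.mul_mem_left e hn
  rwa [← pow_succ', he.pow_succ_eq] at this

lemma away_surjective {R : Type u} [CommRing R] {e : R} (he : IsIdempotentElem e) :
    Function.Surjective (algebraMap R (Localization.Away e)) := by
  intro y
  obtain ⟨⟨x, ⟨_, n, rfl⟩⟩, hy⟩ := IsLocalization.surj (Submonoid.powers e) y
  have h1 : algebraMap R (Localization.Away e) e = 1 := by
    have hu : IsUnit (algebraMap R (Localization.Away e) e) :=
      IsLocalization.Away.algebraMap_isUnit e
    exact hu.mul_eq_left.mp (by rw [← map_mul, he.eq])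
  exact ⟨x, by simpa [map_pow, h1] using hy.symm⟩

section

variable {X Y : Scheme.{u}} {A C : Type u} [CommRing A] [CommRing C] [Algebra A C]
  {f : X ⟶ Y} {i : Y ⟶ Spec (.of A)} [IsIso i] {j : X ⟶ Spec (.of C)} [IsOpenImmersion j]
  (hf : f ≫ i = j ≫ Spec.map (CommRingCat.ofHom (algebraMap A C)))
  {Y' : Scheme.{u}} {b : Y' ⟶ Y} {A' : Type u} [CommRing A'] [Algebra A A']
  {k : Y' ⟶ Spec (.of A')} [IsIso k]
  (hk : b ≫ i = k ≫ Spec.map (CommRingCat.ofHom (algebraMap A A')))

/-- `X ×_Y Y' ⟶ Spec (C ⊗ A')`. -/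
noncomputable def m : pullback f b ⟶ Spec (.of (C ⊗[A] A')) :=
  pullback.map f b (Spec.map (CommRingCat.ofHom (algebraMap A C)))
    (Spec.map (CommRingCat.ofHom (algebraMap A A'))) j k i hf hk ≫ (pullbackSpecIso A C A').hom

instance : IsOpenImmersion (m hf hk) := by
  unfold m; infer_instance

lemma m_left : m hf hk ≫ Spec.map (CommRingCat.ofHom (includeLeftRingHom (R := A) (B := A'))) =
    pullback.fst f b ≫ j := by
  simp [m, pullback.lift_fst]

lemma m_right : m hf hk ≫ Spec.map (CommRingCat.ofHom
    (includeRight (R := A) (A := C) (B := A')).toRingHom) = pullback.snd f b ≫ k := by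
  unfold m
  rw [Category.assoc]
  erw [pullbackSpecIso_hom_snd A C A']
  simp [pullback.lift_snd]

lemma range_m {I : Ideal C} (hI : Set.range j = (PrimeSpectrum.zeroLocus (I : Set C))ᶜ) :
    Set.range (m hf hk) = (PrimeSpectrum.zeroLocus
      (I.map (includeLeftRingHom : C →+* C ⊗[A] A') : Set (C ⊗[A] A')))ᶜ := by
  rw [Ideal.map, PrimeSpectrum.zeroLocus_span, ← PrimeSpectrum.preimage_comap_zeroLocus,
    ← Set.preimage_compl, ← hI]
  ext x
  have hkk : Set.range k = Set.univ := Set.range_eq_univ.mpr k.surjective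
  have hx : x = (pullbackSpecIso A C A').hom ((pullbackSpecIso A C A').inv x) := by
    rw [← Scheme.Hom.comp_apply, Iso.inv_hom_id]; rfl
  have h1 : x ∈ Set.range (m hf hk) ↔ (pullbackSpecIso A C A').inv x ∈
      Set.range (pullback.map f b (Spec.map (CommRingCat.ofHom (algebraMap A C)))
        (Spec.map (CommRingCat.ofHom (algebraMap A A'))) j k i hf hk) := by
    constructor
    · rintro ⟨y, rfl⟩
      refine ⟨y, ?_⟩
      simp only [m, ← Scheme.Hom.comp_apply, Category.assoc, Iso.hom_inv_id, Category.comp_id]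
    · rintro ⟨y, hy⟩
      refine ⟨y, ?_⟩
      rw [hx, ← hy]
      rfl
  rw [h1, Scheme.Pullback.range_map, hkk, Set.preimage_univ, Set.inter_univ]
  show _ ∈ Set.range j ↔ _ ∈ Set.range j
  rw [← Scheme.Hom.comp_apply, pullbackSpecIso_inv_fst]
  rfl

end

/-- The core statement. -/
theorem core {X Y : Scheme.{u}} (A C : Type u) [CommRing A] [CommRing C] [Algebra A C]
    [Module.FinitePresentation A C]
    (f : X ⟶ Y) (i : Y ⟶ Spec (.of A)) [IsIso i] (j : X ⟶ Spec (.of C)) [IsOpenImmersion j]
    [QuasiCompact j] (hf : f ≫ i = j ≫ Spec.map (CommRingCat.ofHom (algebraMap A C))) :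
    ∃ (Yu : Scheme.{u}) (a : Yu ⟶ Y) (Uu : (pullback f a).Opens), LocallyOfFinitePresentation a ∧
      QuasiCompact a ∧ QuasiSeparated a ∧ IsFinite (Uu.ι ≫ pullback.snd f a) ∧
      ∀ (Y' : Scheme.{u}) (b : Y' ⟶ Y) (U' : (pullback f b).Opens), IsAffine Y' →
        IsFinite (U'.ι ≫ pullback.snd f b) →
        ∃ (c : Y' ⟶ Yu) (hc : c ≫ a = b),
          (pullback.map f b f a (𝟙 X) c (𝟙 Y) ((Category.comp_id f).trans (Category.id_comp f).symm)
            ((Category.comp_id b).trans hc.symm)) ⁻¹ᵁ Uu = U' := by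
  have hjc : IsCompact (Set.range j) ∧ IsOpen (Set.range j) := by
    have : CompactSpace X := QuasiCompact.compactSpace_of_compactSpace j
    exact ⟨isCompact_range j.continuous, j.isOpenEmbedding.isOpen_range⟩
  obtain ⟨I, hIfg, hI⟩ := PrimeSpectrum.isCompact_isOpen_iff_ideal.mp hjc
  obtain ⟨Q, _, _, _, e, he, heI, huniv⟩ := exists_universal (A := A) I hIfg
  let a : Spec (.of Q) ⟶ Y := Spec.map (CommRingCat.ofHom (algebraMap A Q)) ≫ inv i
  have hka : a ≫ i = 𝟙 _ ≫ Spec.map (CommRingCat.ofHom (algebraMap A Q)) := by simp [a]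
  let Uu : (pullback f a).Opens := m hf hka ⁻¹ᵁ (PrimeSpectrum.basicOpen e)
  have hlfp : LocallyOfFinitePresentation (Spec.map (CommRingCat.ofHom (algebraMap A Q))) := by
    rw [HasRingHomProperty.Spec_iff (P := @LocallyOfFinitePresentation)]
    exact RingHom.finitePresentation_algebraMap.mpr inferInstance
  refine ⟨Spec (.of Q), a, Uu, inferInstanceAs (LocallyOfFinitePresentation (_ ≫ inv i)),
    inferInstanceAs (QuasiCompact (_ ≫ inv i)), inferInstanceAs (QuasiSeparated (_ ≫ inv i)),
    ?_, fun Y' b U' hY' hfin => ?_⟩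
  · let u := Uu.ι ≫ m hf hka
    let g := Spec.map (CommRingCat.ofHom (algebraMap (C ⊗[A] Q) (Localization.Away e)))
    have hrg : Set.range u = Set.range g := by
      have h2 : Set.range g = (PrimeSpectrum.basicOpen e : Set (PrimeSpectrum (C ⊗[A] Q))) :=
        PrimeSpectrum.localization_away_comap_range (Localization.Away e) e
      rw [h2, Scheme.Hom.comp_base, TopCat.coe_comp, Set.range_comp, Scheme.Opens.range_ι]
      show (m hf hka) '' ((m hf hka) ⁻¹' (PrimeSpectrum.basicOpen e : Set (PrimeSpectrum (C ⊗[A] Q)))) = _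
      refine Set.image_preimage_eq_of_subset ?_
      refine Set.Subset.trans ?_ (range_m hf hka hI.symm).symm.subset
      rw [PrimeSpectrum.basicOpen_eq_zeroLocus_compl]
      exact Set.compl_subset_compl.mpr
        (PrimeSpectrum.zeroLocus_anti_mono (Set.singleton_subset_iff.mpr heI))
    have : IsOpenImmersion g :=
      IsOpenImmersion.of_isLocalization (S := Localization.Away e) e
    have hg : IsFinite g := by
      rw [IsFinite.SpecMap_iff]
      exact RingHom.Finite.of_surjective _ (away_surjective he)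
    have hu : IsFinite u := by
      rw [← IsOpenImmersion.isoOfRangeEq_hom_fac u g hrg]
      infer_instance
    have hinc : IsFinite (Spec.map (CommRingCat.ofHom
        (includeRight (R := A) (A := C) (B := Q)).toRingHom)) := by
      rw [IsFinite.SpecMap_iff]
      have h0 : (algebraMap Q (Q ⊗[A] C)).Finite := RingHom.finite_algebraMap.mpr inferInstance
      have h1 := RingHom.Finite.comp (RingHom.Finite.of_surjective
        (Algebra.TensorProduct.comm A Q C).toAlgHom.toRingHom
        (Algebra.TensorProduct.comm A Q C).surjective) h0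
      have h2 : (Algebra.TensorProduct.comm A Q C).toAlgHom.toRingHom.comp
          (algebraMap Q (Q ⊗[A] C)) = (includeRight (R := A) (A := C) (B := Q)).toRingHom :=
        RingHom.ext fun x => by simp
      rw [h2] at h1
      exact h1
    have : Uu.ι ≫ pullback.snd f a = u ≫ Spec.map (CommRingCat.ofHom
        (includeRight (R := A) (A := C) (B := Q)).toRingHom) := by
      simp only [u, Category.assoc, m_right, Category.comp_id]
    rw [this]
    infer_instance
  · let ψ := Spec.preimage (Y'.isoSpec.inv ≫ b ≫ i)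
    algebraize [ψ.hom]
    let k : Y' ⟶ Spec (.of Γ(Y', ⊤)) := Y'.isoSpec.hom
    have hk : b ≫ i = k ≫ Spec.map (CommRingCat.ofHom (algebraMap A Γ(Y', ⊤))) := by
      simp [k, RingHom.algebraMap_toAlgebra, ψ]
    let u := U'.ι ≫ m hf hk
    have hu : IsFinite u := by
      have hfac : u ≫ Spec.map (CommRingCat.ofHom
          (includeRight (R := A) (A := C) (B := Γ(Y', ⊤))).toRingHom) =
          (U'.ι ≫ pullback.snd f b) ≫ k := by
        simp only [u, Category.assoc, m_right]
      have : IsFinite (u ≫ Spec.map (CommRingCat.ofHom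
          (includeRight (R := A) (A := C) (B := Γ(Y', ⊤))).toRingHom)) := by
        rw [hfac]; infer_instance
      exact IsFinite.of_comp u (Spec.map (CommRingCat.ofHom
          (includeRight (R := A) (A := C) (B := Γ(Y', ⊤))).toRingHom))
    have hclopen : IsClopen (Set.range u) :=
      ⟨(IsClosedMap.isClosed_range u.isClosedMap), u.isOpenEmbedding.isOpen_range⟩
    obtain ⟨e', he', hr⟩ := PrimeSpectrum.exists_idempotent_basicOpen_eq_of_isClopen hclopen
    have hrm : (PrimeSpectrum.basicOpen e' : Set (PrimeSpectrum (C ⊗[A] Γ(Y', ⊤)))) ⊆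
        Set.range (m hf hk) := by
      rw [← hr]; rintro _ ⟨y, rfl⟩; exact ⟨U'.ι y, rfl⟩
    replace hrm := Set.Subset.trans hrm (range_m hf hk hI.symm).subset
    rw [PrimeSpectrum.basicOpen_eq_zeroLocus_compl,
      Set.compl_subset_compl, ← PrimeSpectrum.zeroLocus_span {e'},
      PrimeSpectrum.zeroLocus_subset_zeroLocus_iff] at hrm
    obtain ⟨χ, hχ⟩ := huniv Γ(Y', ⊤) e' he' (mem_of_idem he' (hrm (Ideal.mem_span_singleton_self e')))
    let c : Y' ⟶ Spec (.of Q) := k ≫ Spec.map (CommRingCat.ofHom χ.toRingHom)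
    have hc : c ≫ a = b := by
      simp only [c, a, Category.assoc]
      rw [← cancel_mono i]
      simp only [Category.assoc, IsIso.inv_hom_id, Category.comp_id, hk, ← Spec.map_comp]
      congr 2
      ext x
      exact χ.commutes x
    refine ⟨c, hc, ?_⟩
    have hnat : pullback.map f b f a (𝟙 X) c (𝟙 Y) ((Category.comp_id f).trans
        (Category.id_comp f).symm) ((Category.comp_id b).trans hc.symm) ≫ m hf hka =
        m hf hk ≫ Spec.map (CommRingCat.ofHom (tmap (C := C) χ).toRingHom) := by
      rw [← cancel_mono (pullbackSpecIso A C Q).inv]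
      apply pullback.hom_ext
      · have h1 : (CommRingCat.ofHom (includeLeftRingHom (R := A) (A := C) (B := Q)) ≫
            CommRingCat.ofHom (tmap (C := C) χ).toRingHom) =
            CommRingCat.ofHom (includeLeftRingHom (R := A) (A := C) (B := Γ(Y', ⊤))) := by
          ext x; simp
        simp only [Category.assoc, pullbackSpecIso_inv_fst, ← Spec.map_comp, h1, m_left]
        simp [pullback.lift_fst_assoc]
      · have h1 : (CommRingCat.ofHom (includeRight (R := A) (A := C) (B := Q)).toRingHom ≫
            CommRingCat.ofHom (tmap (C := C) χ).toRingHom) =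
            CommRingCat.ofHom χ.toRingHom ≫
            CommRingCat.ofHom (includeRight (R := A) (A := C) (B := Γ(Y', ⊤))).toRingHom := by
          ext x; simp
        simp only [Category.assoc]
        erw [pullbackSpecIso_inv_snd A C Q]
        erw [m_right hf hka, ← Spec.map_comp, h1, Spec.map_comp, ← Category.assoc (m hf hk),
          m_right hf hk]
        simp [c, pullback.lift_snd]
    show _ ⁻¹ᵁ (m hf hka ⁻¹ᵁ _) = U'
    rw [← Scheme.Hom.comp_preimage, hnat, Scheme.Hom.comp_preimage]
    ext1
    have h3 : Spec.map (CommRingCat.ofHom (tmap (C := C) χ).toRingHom) ⁻¹ᵁ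
        (PrimeSpectrum.basicOpen e) = (PrimeSpectrum.basicOpen e' : (Spec _).Opens) := by
      rw [← hχ]; rfl
    rw [h3]
    show m hf hk ⁻¹' (PrimeSpectrum.basicOpen e' : Set (PrimeSpectrum (C ⊗[A] Γ(Y', ⊤)))) = _
    rw [← hr, Scheme.Hom.comp_base, TopCat.coe_comp, Set.range_comp, Scheme.Opens.range_ι,
      Set.preimage_image_eq _ (m hf hk).isOpenEmbedding.injective]

end Groth.Agent.H22.UnivOpen
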