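import Groth.Agent.Lib.Disp.Witt
import Groth.Agent.S14864
import Mathlib.RingTheory.Idempotents
import Mathlib.RingTheory.Noetherian.Basic
import Mathlib.RingTheory.Nilpotent.Lemmas
import Groth.Agent.H22.Nil
import Mathlib.Algebra.Polynomial.AlgebraMap
import Mathlib.LinearAlgebra.Matrix.ToLin
import Mathlib.Algebra.Module.Projective
import Mathlib.RingTheory.Nakayama
import Mathlib.RingTheory.OrzechProperty
import Mathlib.LinearAlgebra.TensorProduct.Quotient
import Mathlib.Algebra.Module.Torsion.Basic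
import Mathlib.Algebra.Algebra.Tower
import Mathlib.RingTheory.TensorProduct.Finite
import Mathlib.RingTheory.FiniteStability

/-!
Lifting finite projective modules to rings of Witt vectors when `p` is nilpotent.
-/

set_option linter.unusedSectionVars false

universe u v

open Polynomial TensorProduct
open Groth.Agent.Lib.Disp.Witt (eq_teich_add IV_le_maximal eq_of_truncate_eq exists_forall_pow_mem_ker)

namespace Groth.Agent.H22.WittLift

variable {p : ℕ} [Fact p.Prime] {S : Type u} [CommRing S]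

local notation "𝕎" => WittVector p

/-- An element with nilpotent constant coefficient is nilpotent in every truncation. -/
theorem isNilpotent_truncate (hp : IsNilpotent (p : S)) (n : ℕ) {x : 𝕎 S}
    (hx : IsNilpotent (x.coeff 0)) : IsNilpotent (WittVector.truncate (p := p) n x) := by
  rw [eq_teich_add x, map_add]
  refine (Commute.all _ _).isNilpotent_add ?_ ?_
  · obtain ⟨N, hN⟩ := hx
    exact ⟨N, by rw [← map_pow, ← map_pow, hN, WittVector.teichmuller_zero, map_zero]⟩
  · obtain ⟨m, hm⟩ := exists_forall_pow_mem_ker (p := p) hp n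
    exact ⟨m, by rw [← map_pow]; exact RingHom.mem_ker.1 (hm _ m le_rfl)⟩

theorem mem_jacobson (hp : IsNilpotent (p : S)) {x : 𝕎 S} (hx : IsNilpotent (x.coeff 0)) :
    x ∈ (⊥ : Ideal (𝕎 S)).jacobson := by
  rw [Ideal.jacobson, Submodule.mem_sInf]
  rintro 𝔐 ⟨-, h𝔐⟩
  rw [eq_teich_add x]
  refine 𝔐.add_mem ?_ (IV_le_maximal hp 𝔐 (W4c1extbt610.verschiebung_mem_IV p S _))
  obtain ⟨N, hN⟩ := hx
  exact h𝔐.isPrime.mem_of_pow_mem N (by rw [← map_pow, hN, WittVector.teichmuller_zero]; exact zero_mem _)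

/-- Compatible sequences of Witt vectors have a limit. -/
theorem exists_limit (x : ℕ → 𝕎 S)
    (h : ∀ n, x (n + 1) - x n ∈ RingHom.ker (WittVector.truncate (p := p) (R := S) n)) :
    ∃ L : 𝕎 S, ∀ n, L - x n ∈ RingHom.ker (WittVector.truncate (p := p) (R := S) n) := by
  have key : ∀ n m, n ≤ m → ∀ i < n, (x m).coeff i = (x n).coeff i := by
    intro n m hnm
    induction m, hnm using Nat.le_induction with
    | base => exact fun i _ => rfl
    | succ m hnm ih =>
      intro i hi
      have h1 := h m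
      rw [RingHom.mem_ker, map_sub, sub_eq_zero] at h1
      have h2 := congrArg (TruncatedWittVector.coeff ⟨i, hi.trans_le hnm⟩) h1
      rw [WittVector.coeff_truncate, WittVector.coeff_truncate] at h2
      exact h2.trans (ih i hi)
  refine ⟨WittVector.mk p fun i => (x (i + 1)).coeff i, fun n => ?_⟩
  rw [RingHom.mem_ker, map_sub, sub_eq_zero]
  refine TruncatedWittVector.ext fun i => ?_
  rw [WittVector.coeff_truncate, WittVector.coeff_truncate]
  exact (key (i.val + 1) n i.isLt i.val i.val.lt_succ_self).symm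

/-- Newton iteration for idempotents. -/
noncomputable def newton : ℕ → ℤ[X]
  | 0 => X
  | k + 1 => 3 * newton k ^ 2 - 2 * newton k ^ 3

theorem newton_dvd : ∀ k, (X ^ 2 - X : ℤ[X]) ^ (2 ^ k) ∣ newton k ^ 2 - newton k
  | 0 => by simp [newton]
  | k + 1 => by
    have h : newton (k + 1) ^ 2 - newton (k + 1) =
        (newton k ^ 2 - newton k) ^ 2 * (4 * (newton k ^ 2 - newton k) - 3) := by
      simp only [newton]; ring
    rw [h, pow_succ 2 k, pow_mul]
    exact Dvd.dvd.mul_right (pow_dvd_pow_of_dvd (newton_dvd k) 2) _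

theorem newton_succ_sub (k : ℕ) :
    newton (k + 1) - newton k = (newton k ^ 2 - newton k) * (1 - 2 * newton k) := by
  simp only [newton]; ring

theorem newton_sub_self : ∀ k, (X ^ 2 - X : ℤ[X]) ∣ newton k - X
  | 0 => by simp [newton]
  | k + 1 => by
    have h : newton (k + 1) - X = (newton (k + 1) - newton k) + (newton k - X) := by ring
    rw [h, newton_succ_sub]
    refine dvd_add (Dvd.dvd.mul_right ?_ _) (newton_sub_self k)
    exact (dvd_pow_self _ (pow_ne_zero _ two_ne_zero)).trans (newton_dvd k)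

theorem newton_sub_of_le {k j : ℕ} (hkj : k ≤ j) :
    (X ^ 2 - X : ℤ[X]) ^ (2 ^ k) ∣ newton j - newton k := by
  induction j, hkj using Nat.le_induction with
  | base => simp
  | succ j hkj ih =>
    have h : newton (j + 1) - newton k = (newton (j + 1) - newton j) + (newton j - newton k) := by ring
    rw [h, newton_succ_sub]
    refine dvd_add (Dvd.dvd.mul_right ?_ _) ih
    exact (pow_dvd_pow _ (Nat.pow_le_pow_right two_pos hkj)).trans (newton_dvd j)

theorem isNilpotent_matrix {T : Type*} [CommRing T] {n : Type*} [Fintype n] [DecidableEq n]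
    (x : Matrix n n T) (hx : ∀ i j, IsNilpotent (x i j)) : IsNilpotent x := by
  let K : Ideal T := Ideal.span (Set.range fun ij : n × n => x ij.1 ij.2)
  have hK : IsNilpotent K := by
    refine (Ideal.FG.isNilpotent_iff_le_nilradical (I := K) (Submodule.fg_span (Set.finite_range _))).2 ?_
    refine Ideal.span_le.2 ?_
    rintro _ ⟨ij, rfl⟩
    exact hx _ _
  obtain ⟨N, hN⟩ := hK
  have key : ∀ k i j, (x ^ k) i j ∈ K ^ k := by
    intro k
    induction k with
    | zero => simp
    | succ k ih =>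
      intro i j
      rw [pow_succ x, Matrix.mul_apply, pow_succ K]
      exact sum_mem fun l _ => Ideal.mul_mem_mul (ih i l) (Ideal.subset_span ⟨(l, j), rfl⟩)
  refine ⟨N, Matrix.ext fun i j => ?_⟩
  have h := key N i j
  rw [hN, Submodule.zero_eq_bot, Ideal.mem_bot] at h
  exact h

theorem exists_newton_seq {E : Type*} [Ring E] (a : E) :
    ∃ e : ℕ → E, (∀ k, ∃ c, e k ^ 2 - e k = (a ^ 2 - a) ^ (2 ^ k) * c) ∧
      (∀ k j, k ≤ j → ∃ c, e j - e k = (a ^ 2 - a) ^ (2 ^ k) * c) ∧
      ∀ k, ∃ c, e k - a = (a ^ 2 - a) * c := by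
  have haX : aeval a (X ^ 2 - X : ℤ[X]) = a ^ 2 - a := by simp
  refine ⟨fun k => aeval a (newton k), fun k => ?_, fun k j hkj => ?_, fun k => ?_⟩
  · obtain ⟨Q, hQ⟩ := newton_dvd k
    exact ⟨aeval a Q, by rw [← haX, ← map_pow, ← map_pow, ← map_sub, hQ, map_mul]⟩
  · obtain ⟨Q, hQ⟩ := newton_sub_of_le hkj
    exact ⟨aeval a Q, by rw [← haX, ← map_pow, ← map_sub, hQ, map_mul]⟩
  · obtain ⟨Q, hQ⟩ := newton_sub_self k
    refine ⟨aeval a Q, ?_⟩
    rw [← haX, ← map_mul, ← hQ, map_sub, aeval_X]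

theorem exists_stable_seq {E : Type*} [Ring E] {F : ℕ → Type*} [∀ n, Ring (F n)]
    (τ : ∀ n, E →+* F n) {G : Type*} [Ring G] (ρ : E →+* G) (a : E)
    (hρ : ρ (a ^ 2 - a) = 0) (hτ : ∀ n, IsNilpotent (τ n (a ^ 2 - a))) :
    ∃ e : ℕ → E, (∀ n, τ n (e (n + 1)) = τ n (e n)) ∧ (∀ n, τ n (e n * e n) = τ n (e n)) ∧
      ∀ n, ρ (e n) = ρ a := by
  choose N hN using hτ
  obtain ⟨e, he1, he2, he3⟩ := exists_newton_seq a
  have hz : ∀ n k c, N n ≤ k → τ n ((a ^ 2 - a) ^ (2 ^ k) * c) = 0 := fun n k c hk => by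
    rw [map_mul, map_pow, pow_eq_zero_of_le (hk.trans Nat.lt_two_pow_self.le) (hN n), zero_mul]
  let s : ℕ → ℕ := fun n => ∑ m ∈ Finset.range (n + 1), N m
  have hs : ∀ n, N n ≤ s n := fun n =>
    Finset.single_le_sum (f := N) (fun _ _ => Nat.zero_le _) (Finset.self_mem_range_succ n)
  have hs' : ∀ n, s n ≤ s (n + 1) := fun n => by
    simp only [s]; rw [Finset.sum_range_succ _ (n + 1)]; omega
  refine ⟨fun n => e (s n), fun n => ?_, fun n => ?_, fun n => ?_⟩
  · obtain ⟨c, hc⟩ := he2 _ _ (hs' n)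
    rw [← sub_eq_zero, ← map_sub, hc, hz n _ c (hs n)]
  · obtain ⟨c, hc⟩ := he1 (s n)
    rw [← sub_eq_zero, ← map_sub, ← sq, hc, hz n _ c (hs n)]
  · obtain ⟨c, hc⟩ := he3 (s n)
    rw [← sub_eq_zero, ← map_sub, hc, map_mul, hρ, zero_mul]

/-- Idempotent matrices lift. -/
theorem exists_idem_lift (hp : IsNilpotent (p : S)) {T : Type*} [CommRing T] (f : 𝕎 S →+* T)
    (hf : Function.Surjective f) (hnil : ∀ x, f x = 0 → IsNilpotent (x.coeff 0))
    (hcl : ∀ y, (∀ n, ∃ z, f z = 0 ∧ y - z ∈ RingHom.ker (WittVector.truncate (p := p) (R := S) n)) →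
      f y = 0)
    {d : ℕ} (e₀ : Matrix (Fin d) (Fin d) T) (he : IsIdempotentElem e₀) :
    ∃ e : Matrix (Fin d) (Fin d) (𝕎 S), IsIdempotentElem e ∧ f.mapMatrix e = e₀ := by
  choose g hg using fun i j => hf (e₀ i j)
  let a : Matrix (Fin d) (Fin d) (𝕎 S) := Matrix.of g
  have ha : f.mapMatrix a = e₀ := Matrix.ext hg
  have hxf : f.mapMatrix (a ^ 2 - a) = 0 := by
    rw [map_sub, map_pow, ha, pow_two, he.eq, sub_self]
  have hgen : ∀ (n : ℕ) (x : Matrix (Fin d) (Fin d) (𝕎 S)), f.mapMatrix x = 0 →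
      IsNilpotent ((WittVector.truncate (p := p) (R := S) n).mapMatrix x) := by
    intro n x hx
    refine isNilpotent_matrix _ fun i j => ?_
    rw [RingHom.mapMatrix_apply, Matrix.map_apply]
    refine isNilpotent_truncate hp n (hnil _ ?_)
    rw [← Matrix.map_apply (M := x) (f := f), ← RingHom.mapMatrix_apply, hx, Matrix.zero_apply]
  obtain ⟨E, hE1, hE2, hE3⟩ := exists_stable_seq
    (F := fun n => Matrix (Fin d) (Fin d) (TruncatedWittVector p n S))
    (fun n => (WittVector.truncate (p := p) (R := S) n).mapMatrix (m := Fin d)) f.mapMatrix a hxf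
    (fun n => hgen n _ hxf)
  have hL : ∀ i j, ∃ L : 𝕎 S, ∀ n,
      L - E n i j ∈ RingHom.ker (WittVector.truncate (p := p) (R := S) n) := fun i j =>
    exists_limit (fun n => E n i j) fun n => by
      rw [RingHom.mem_ker, map_sub, sub_eq_zero]
      exact congrFun (congrFun (hE1 n) i) j
  choose L hL using hL
  have heτ : ∀ n, (Matrix.of L).map (WittVector.truncate (p := p) n) =
      (E n).map (WittVector.truncate (p := p) n) := fun n => Matrix.ext fun i j => by
    have h := hL i j n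
    rw [RingHom.mem_ker, map_sub, sub_eq_zero] at h
    exact h
  refine ⟨Matrix.of L, ?_, Matrix.ext fun i j => ?_⟩
  · refine Matrix.ext fun i j => eq_of_truncate_eq fun n => ?_
    have h1 := hE2 n
    rw [map_mul] at h1
    have h2 : (Matrix.of L * Matrix.of L).map (WittVector.truncate (p := p) n) =
        (Matrix.of L).map (WittVector.truncate (p := p) n) := by
      rw [Matrix.map_mul, heτ]
      exact h1
    exact congrFun (congrFun h2 i) j
  · have hij : ∀ n, f (E n i j) = f (a i j) := fun n => congrFun (congrFun (hE3 n) i) j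
    have h0 : f (L i j - a i j) = 0 := hcl _ fun n => ⟨E n i j - a i j,
      by rw [map_sub, hij, sub_self], by rw [sub_sub_sub_cancel_right]; exact hL i j n⟩
    rw [map_sub, sub_eq_zero] at h0
    exact h0.trans (hg i j)

/-- Lifting finite projective modules along a surjection out of Witt vectors. -/
theorem exists_projective_lift (hp : IsNilpotent (p : S)) {T : Type u} [CommRing T] (f : 𝕎 S →+* T)
    (hf : Function.Surjective f) (hnil : ∀ x, f x = 0 → IsNilpotent (x.coeff 0))
    (hcl : ∀ y, (∀ n, ∃ z, f z = 0 ∧ y - z ∈ RingHom.ker (WittVector.truncate (p := p) (R := S) n)) →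
      f y = 0)
    (P : Type v) [AddCommGroup P] [Module T P] [Module.Finite T P] [Module.Projective T P] :
    ∃ (d : ℕ) (Q : Submodule (𝕎 S) (Fin d → 𝕎 S)), Module.Finite (𝕎 S) Q ∧
      Module.Projective (𝕎 S) Q ∧ (∃ r : (Fin d → 𝕎 S) →ₗ[𝕎 S] Q, r ∘ₗ Q.subtype = LinearMap.id) ∧
        ∃ π : Q →ₛₗ[f] P, Function.Surjective π ∧
        LinearMap.ker π = RingHom.ker f • (⊤ : Submodule (𝕎 S) Q) := by
  classical
  obtain ⟨d, q, hq⟩ := Module.Finite.exists_fin' T P
  obtain ⟨s, hs⟩ := Module.projective_lifting_property q LinearMap.id hq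
  let E₀ : Matrix (Fin d) (Fin d) T := LinearMap.toMatrix' (s ∘ₗ q)
  have hqs : ∀ y, q (s y) = y := fun y => LinearMap.congr_fun hs y
  have hE₀ : IsIdempotentElem E₀ := by
    have h : (s ∘ₗ q) ∘ₗ (s ∘ₗ q) = s ∘ₗ q := LinearMap.ext fun y => by simp [hqs]
    rw [IsIdempotentElem, ← LinearMap.toMatrix'_comp, h]
  obtain ⟨e, he, hee⟩ := exists_idem_lift hp f hf hnil hcl E₀ hE₀
  let e' : (Fin d → 𝕎 S) →ₗ[𝕎 S] (Fin d → 𝕎 S) := Matrix.toLin' e
  have he' : ∀ x, e' (e' x) = e' x := fun x => by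
    rw [← LinearMap.comp_apply, ← Matrix.toLin'_mul, he.eq]
  let Q := LinearMap.range e'
  have hret : e'.rangeRestrict ∘ₗ Q.subtype = LinearMap.id := LinearMap.ext fun z => Subtype.ext (by
    obtain ⟨x, hx⟩ := z.2
    show e' (z : Fin d → 𝕎 S) = z
    rw [← hx, he'])
  let red : (Fin d → 𝕎 S) →ₛₗ[f] (Fin d → T) :=
    { toFun := fun x i => f (x i)
      map_add' := fun x y => funext fun i => map_add f _ _
      map_smul' := fun a x => funext fun i => map_mul f _ _ }
  have hred : ∀ x, red (e' x) = s (q (red x)) := by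
    intro x
    have h : red (e' x) = Matrix.mulVec (f.mapMatrix e) (red x) := by
      funext i
      simp [red, e', Matrix.mulVec, dotProduct]
    rw [h, hee, ← Matrix.toLin'_apply]
    simp [E₀]
  let π : Q →ₛₗ[f] P :=
    { toFun := fun z => q (red (z : Fin d → 𝕎 S))
      map_add' := fun z w => by simp
      map_smul' := fun a z => by simp }
  refine ⟨d, Q, Module.Finite.range e', Module.Projective.of_split _ _ hret, ⟨_, hret⟩, π, fun y => ?_, ?_⟩
  · choose x hx using fun i => hf (s y i)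
    refine ⟨e'.rangeRestrict x, ?_⟩
    show q (red (e' x)) = y
    rw [hred, show red x = s y from funext hx, hqs, hqs]
  · refine le_antisymm (fun z hz => ?_) (Submodule.smul_le.2 fun a ha z _ => ?_)
    · obtain ⟨w, hw⟩ := z.2
      have h0 : red (z : Fin d → 𝕎 S) = 0 := by
        have h1 : q (red (z : Fin d → 𝕎 S)) = 0 := hz
        rw [← hw, ← he', hred, hw, h1, map_zero]
      have hz' : z = ∑ i, (z : Fin d → 𝕎 S) i • e'.rangeRestrict (Pi.single i 1) := by
        conv_lhs => rw [← LinearMap.id_apply (R := 𝕎 S) z, ← hret, LinearMap.comp_apply,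
          Submodule.subtype_apply, pi_eq_sum_univ' (z : Fin d → 𝕎 S), map_sum]
        simp_rw [map_smul]
      rw [hz']
      exact sum_mem fun i _ => Submodule.smul_mem_smul (congrFun h0 i) Submodule.mem_top
    · rw [LinearMap.mem_ker, map_smulₛₗ, RingHom.mem_ker.1 ha, zero_smul]

/-- Comparing lifts. -/
theorem exists_equiv_of_lifts {W T : Type*} [CommRing W] [CommRing T] (f : W →+* T)
    (hf : Function.Surjective f) (hjac : RingHom.ker f ≤ (⊥ : Ideal W).jacobson)
    {P : Type*} [AddCommGroup P] [Module T P]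
    (P₁ : Type*) [AddCommGroup P₁] [Module W P₁] [Module.Finite W P₁] [Module.Projective W P₁]
    (P₂ : Type*) [AddCommGroup P₂] [Module W P₂] [Module.Finite W P₂] [Module.Projective W P₂]
    (π₁ : P₁ →ₛₗ[f] P) (π₂ : P₂ →ₛₗ[f] P)
    (h₁ : Function.Surjective π₁) (k₁ : LinearMap.ker π₁ = RingHom.ker f • (⊤ : Submodule W P₁))
    (h₂ : Function.Surjective π₂) (k₂ : LinearMap.ker π₂ = RingHom.ker f • (⊤ : Submodule W P₂)) :
    ∃ e : P₁ ≃ₗ[W] P₂, ∀ x : P₁, π₂ (e x) = π₁ x := by
  let _ : Module W P := Module.compHom P f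
  let l₁ : P₁ →ₗ[W] P := { toFun := π₁, map_add' := map_add π₁, map_smul' := fun a x => map_smulₛₗ π₁ a x }
  let l₂ : P₂ →ₗ[W] P := { toFun := π₂, map_add' := map_add π₂, map_smul' := fun a x => map_smulₛₗ π₂ a x }
  obtain ⟨g, hg⟩ := Module.projective_lifting_property l₂ l₁ h₂
  obtain ⟨g', hg'⟩ := Module.projective_lifting_property l₁ l₂ h₁
  have hgx : ∀ x, π₂ (g x) = π₁ x := fun x => LinearMap.congr_fun hg x
  have hg'x : ∀ x, π₁ (g' x) = π₂ x := fun x => LinearMap.congr_fun hg' x
  have hs : Function.Surjective g := by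
    rw [← LinearMap.range_eq_top]
    refine top_le_iff.1 (Submodule.le_of_le_smul_of_le_jacobson_bot Module.Finite.fg_top hjac
      fun y _ => ?_)
    obtain ⟨x, hx⟩ := h₁ (π₂ y)
    refine Submodule.mem_sup.2 ⟨g x, LinearMap.mem_range_self g x, y - g x, ?_, add_sub_cancel _ _⟩
    rw [← k₂, LinearMap.mem_ker, map_sub, hgx, hx, sub_self]
  have hs' : Function.Surjective (g' ∘ₗ g) := by
    rw [← LinearMap.range_eq_top]
    refine top_le_iff.1 (Submodule.le_of_le_smul_of_le_jacobson_bot Module.Finite.fg_top hjac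
      fun y _ => ?_)
    refine Submodule.mem_sup.2 ⟨_, LinearMap.mem_range_self (g' ∘ₗ g) y, y - g' (g y), ?_,
      add_sub_cancel _ _⟩
    rw [← k₁, LinearMap.mem_ker, map_sub, hg'x, hgx, sub_self]
  have hinj := OrzechProperty.injective_of_surjective_endomorphism (g' ∘ₗ g) hs'
  exact ⟨LinearEquiv.ofBijective g ⟨fun a b h => hinj (congrArg g' h), hs⟩, hgx⟩

theorem ker_map_le_jacobson {R : Type u} [CommRing R] (φ : S →+* R)
    (hnil : ∀ a : S, φ a = 0 → IsNilpotent a) (hp : IsNilpotent (p : S)) :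
    RingHom.ker (WittVector.map (p := p) φ) ≤ (⊥ : Ideal (𝕎 S)).jacobson := fun x hx =>
  mem_jacobson hp (hnil _ (by
    have h := congrArg (fun y => y.coeff 0) (RingHom.mem_ker.1 hx)
    simpa using h))

theorem lift_along_map {R : Type u} [CommRing R] (φ : S →+* R) (hφ : Function.Surjective φ)
    (hnil : ∀ a : S, φ a = 0 → IsNilpotent a) (hp : IsNilpotent (p : S))
    (P : Type v) [AddCommGroup P] [Module (𝕎 R) P] [Module.Finite (𝕎 R) P]
    [Module.Projective (𝕎 R) P] :
    ∃ (d : ℕ) (Q : Submodule (𝕎 S) (Fin d → 𝕎 S)), Module.Finite (𝕎 S) Q ∧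
      Module.Projective (𝕎 S) Q ∧ ∃ π : Q →ₛₗ[WittVector.map (p := p) φ] P, Function.Surjective π ∧
        LinearMap.ker π = RingHom.ker (WittVector.map (p := p) φ) • (⊤ : Submodule (𝕎 S) Q) := by
  suffices h : _ by
    obtain ⟨d, Q, h1, h2, -, h3⟩ := exists_projective_lift hp (WittVector.map (p := p) φ)
      (WittVector.map_surjective φ hφ) (fun x hx => hnil _ (by
        simpa using congrArg (fun y : 𝕎 R => y.coeff 0) hx)) h P
    exact ⟨d, Q, h1, h2, h3⟩
  intro y hy
  ext i
  obtain ⟨z, hz, hzy⟩ := hy (i + 1)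
  rw [RingHom.mem_ker, map_sub, sub_eq_zero] at hzy
  have h2 := congrArg (TruncatedWittVector.coeff ⟨i, i.lt_succ_self⟩) hzy
  rw [WittVector.coeff_truncate, WittVector.coeff_truncate] at h2
  have h3 := congrArg (fun y => y.coeff i) hz
  simp only [WittVector.map_coeff, WittVector.zero_coeff] at h3 ⊢
  rw [h2, h3]

section Criterion

variable {R : Type u} [CommRing R]

/-- The kernel of truncation. -/
noncomputable abbrev trunKer (p : ℕ) [Fact p.Prime] (R : Type u) [CommRing R] (n : ℕ) : Ideal (WittVector p R) :=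
  RingHom.ker (WittVector.truncate (p := p) (R := R) n)

local notation "In" => trunKer p R

theorem iInf_smul_top_eq_bot (P : Type v) [AddCommGroup P] [Module (𝕎 R) P]
    [Module.Projective (𝕎 R) P] :
    (⨅ n : ℕ, In n • (⊤ : Submodule (𝕎 R) P)) = ⊥ := by
  obtain ⟨s, hs⟩ := Module.projective_def'.1 ‹Module.Projective (𝕎 R) P›
  refine eq_bot_iff.2 fun x hx => ?_
  rw [Submodule.mem_bot]
  rw [Submodule.mem_iInf] at hx
  have hsx : s x = 0 := Finsupp.ext fun i => eq_of_truncate_eq fun n => by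
    have h := Submodule.mem_map_of_mem (f := Finsupp.lapply i ∘ₗ s) (hx n)
    rw [Submodule.map_smul''] at h
    have h' := Submodule.smul_mono le_rfl (le_top (a := Submodule.map (Finsupp.lapply i ∘ₗ s) ⊤)) h
    rw [smul_eq_mul, Ideal.mul_top] at h'
    rw [show s x i = (Finsupp.lapply i ∘ₗ s) x from rfl, RingHom.mem_ker.1 h', Finsupp.zero_apply,
      map_zero]
  have := LinearMap.congr_fun hs x
  rw [LinearMap.comp_apply, hsx, map_zero] at this
  exact this.symm

theorem quotient_finite_projective (P : Type v) [AddCommGroup P] [Module (𝕎 R) P]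
    [Module.Finite (𝕎 R) P] [Module.Projective (𝕎 R) P] (n : ℕ) :
    Module.Finite (𝕎 R ⧸ In n) (P ⧸ (In n • (⊤ : Submodule (𝕎 R) P))) ∧
      Module.Projective (𝕎 R ⧸ In n) (P ⧸ (In n • (⊤ : Submodule (𝕎 R) P))) := by
  let e := (TensorProduct.quotTensorEquivQuotSMul P (In n)).extendScalarsOfSurjective
    (Ideal.Quotient.mk_surjective (I := In n))
  exact ⟨Module.Finite.equiv e, Module.Projective.of_equiv e⟩

theorem finite_projective_of_truncations (hp : IsNilpotent (p : R)) (P : Type v) [AddCommGroup P]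
    [Module (𝕎 R) P]
    (hsep : (⨅ n : ℕ, In n • (⊤ : Submodule (𝕎 R) P)) = ⊥)
    (h : ∀ n, Module.Finite (𝕎 R ⧸ In n) (P ⧸ (In n • (⊤ : Submodule (𝕎 R) P))) ∧
      Module.Projective (𝕎 R ⧸ In n) (P ⧸ (In n • (⊤ : Submodule (𝕎 R) P)))) :
    Module.Finite (𝕎 R) P ∧ Module.Projective (𝕎 R) P := by
  classical
  have := (h 1).1
  have := (h 1).2
  have hmem1 : ∀ x : 𝕎 R, x ∈ In 1 ↔ x.coeff 0 = 0 := fun x => by
    rw [WittVector.mem_ker_truncate]
    exact ⟨fun h => h 0 one_pos, fun h i hi => by rw [Nat.lt_one_iff.1 hi]; exact h⟩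
  obtain ⟨d, Q, hQf, hQp, ⟨r, hr⟩, π, hπ, hπk⟩ := exists_projective_lift hp
    (Ideal.Quotient.mk (In 1)) Ideal.Quotient.mk_surjective
    (fun x hx => by rw [(hmem1 x).1 (Ideal.Quotient.eq_zero_iff_mem.1 hx)]; exact IsNilpotent.zero)
    (fun y hy => by
      obtain ⟨z, hz, hzy⟩ := hy 1
      rw [Ideal.Quotient.eq_zero_iff_mem] at hz ⊢
      have h := Ideal.add_mem _ hzy hz
      rwa [sub_add_cancel] at h)
    (P ⧸ (In 1 • (⊤ : Submodule (𝕎 R) P)))
  let π' : Q →ₗ[𝕎 R] P ⧸ (In 1 • (⊤ : Submodule (𝕎 R) P)) :=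
    { toFun := π, map_add' := map_add π, map_smul' := fun a x => map_smulₛₗ π a x }
  obtain ⟨g, hg⟩ := Module.projective_lifting_property _ π' (Submodule.mkQ_surjective
    (In 1 • (⊤ : Submodule (𝕎 R) P)))
  have hgx : ∀ x, Submodule.Quotient.mk (g x) = π x := fun x => LinearMap.congr_fun hg x
  have hpow : ∀ n, ∃ k, (In 1) ^ k ≤ In n := by
    intro n
    obtain ⟨h1, -, h3⟩ := S14864.result p R hp
    obtain ⟨m, hm⟩ := h3 n
    obtain ⟨k, hk⟩ := h1 m
    have heq : In 1 = RingHom.ker (WittVector.constantCoeff : 𝕎 R →+* R) := by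
      ext x; rw [hmem1, RingHom.mem_ker]; rfl
    exact ⟨k, by rw [heq]; exact hk.trans hm⟩
  have hsurj : ∀ n (x : P), ∃ q : Q, x - g q ∈ In n • (⊤ : Submodule (𝕎 R) P) := by
    intro n x
    obtain ⟨k, hk⟩ := hpow n
    suffices key : ∀ j, ⊤ ≤ LinearMap.range g ⊔ (In 1) ^ j • (⊤ : Submodule (𝕎 R) P) by
      obtain ⟨_, ⟨q, rfl⟩, b, hb, hab⟩ := Submodule.mem_sup.1 (key k (Submodule.mem_top (x := x)))
      exact ⟨q, by rw [← hab, add_sub_cancel_left]; exact Submodule.smul_mono hk le_rfl hb⟩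
    intro j
    induction j with
    | zero => simp
    | succ j ih =>
      refine ih.trans (sup_le le_sup_left (Submodule.smul_le.2 fun a ha y _ => ?_))
      obtain ⟨q, hq⟩ := hπ (Submodule.Quotient.mk y)
      rw [← hgx, Submodule.Quotient.eq] at hq
      refine Submodule.mem_sup.2 ⟨g (a • q), LinearMap.mem_range_self _ _, a • (y - g q), ?_, ?_⟩
      · rw [pow_succ, ← smul_eq_mul, Submodule.smul_assoc]
        refine Submodule.smul_mem_smul ha ?_
        rw [← neg_sub]
        exact neg_mem hq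
      · rw [map_smul, smul_sub, add_sub_cancel]
  have hinj : ∀ n (q : Q), g q ∈ In n • (⊤ : Submodule (𝕎 R) P) →
      q ∈ In n • (⊤ : Submodule (𝕎 R) Q) := by
    intro n q hq
    rcases Nat.eq_zero_or_pos n with rfl | hn
    · have h0 : In 0 = ⊤ := Ideal.eq_top_iff_one _ |>.2 (WittVector.mem_ker_truncate 0 _ |>.2
        fun i hi => absurd hi (Nat.not_lt_zero i))
      rw [h0, Submodule.top_smul]
      exact Submodule.mem_top
    let KQ := In n • (⊤ : Submodule (𝕎 R) Q)
    let KP := In n • (⊤ : Submodule (𝕎 R) P)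
    have hle : KQ ≤ Submodule.comap g KP := Submodule.map_le_iff_le_comap.1 (by
      rw [Submodule.map_smul'']; exact Submodule.smul_mono le_rfl le_top)
    let gb := Submodule.mapQ KQ KP g hle
    have hgb : Function.Surjective gb := by
      intro y
      obtain ⟨x, rfl⟩ := Submodule.mkQ_surjective _ y
      obtain ⟨q, hq⟩ := hsurj n x
      refine ⟨Submodule.Quotient.mk q, ?_⟩
      rw [Submodule.mapQ_apply, Submodule.mkQ_apply, Submodule.Quotient.eq, ← neg_sub]
      exact neg_mem hq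
    have := (h n).2
    obtain ⟨σ', hσ'⟩ := Module.projective_lifting_property
      (gb.extendScalarsOfSurjective (Ideal.Quotient.mk_surjective (I := In n))) LinearMap.id hgb
    let σ := σ'.restrictScalars (𝕎 R)
    have hσ : ∀ y, gb (σ y) = y := fun y => LinearMap.congr_fun hσ' y
    let τ := LinearMap.id - σ ∘ₗ gb
    have hτgb : ∀ z, gb (τ z) = 0 := fun z => by simp [τ, hσ]
    have hττ : ∀ z, τ (τ z) = τ z := fun z => by
      show τ z - σ (gb (τ z)) = τ z
      rw [hτgb, map_zero, sub_zero]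
    have h1le : In n ≤ In 1 := fun x hx =>
      (hmem1 x).2 ((WittVector.mem_ker_truncate n x).1 hx 0 hn)
    have hstep : LinearMap.range τ ≤ In 1 • LinearMap.range τ := by
      rintro _ ⟨z, rfl⟩
      obtain ⟨w, hw⟩ := Submodule.mkQ_surjective _ (τ z)
      have hw1 : g w ∈ KP := by
        have h := hτgb z
        rw [← hw, Submodule.mkQ_apply, Submodule.mapQ_apply, Submodule.Quotient.mk_eq_zero] at h
        exact h
      have hw2 : w ∈ In 1 • (⊤ : Submodule (𝕎 R) Q) := by
        have hk : w ∈ LinearMap.ker π := by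
          rw [LinearMap.mem_ker, ← hgx, Submodule.Quotient.mk_eq_zero]
          exact Submodule.smul_mono h1le le_rfl hw1
        rw [hπk, Ideal.mk_ker] at hk
        exact hk
      have h := Submodule.mem_map_of_mem (f := τ ∘ₗ KQ.mkQ) hw2
      rw [LinearMap.comp_apply, hw, hττ, Submodule.map_smul''] at h
      refine Submodule.smul_mono le_rfl ?_ h
      rw [Submodule.map_top]
      exact LinearMap.range_comp_le_range _ _
    obtain ⟨k, hk⟩ := hpow n
    have hall : ∀ j, LinearMap.range τ ≤ (In 1) ^ j • LinearMap.range τ := by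
      intro j
      induction j with
      | zero => simp
      | succ j ih =>
        refine ih.trans ((Submodule.smul_mono le_rfl hstep).trans (le_of_eq ?_))
        rw [← Submodule.smul_assoc, smul_eq_mul, ← pow_succ]
    have hbot : (In n • ⊤ : Submodule (𝕎 R) (Q ⧸ KQ)) = ⊥ := by
      rw [← KQ.range_mkQ, ← Submodule.map_top, ← Submodule.map_smul'']
      exact KQ.mkQ_map_self
    have hτ0 : τ (Submodule.Quotient.mk q) = 0 := by
      have h := Submodule.smul_mono hk le_top (hall k (LinearMap.mem_range_self τ (Submodule.Quotient.mk q)))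
      rwa [hbot, Submodule.mem_bot] at h
    have hgbq : gb (Submodule.Quotient.mk q) = 0 := by
      rw [Submodule.mapQ_apply, Submodule.Quotient.mk_eq_zero]
      exact hq
    rw [← Submodule.Quotient.mk_eq_zero]
    have h2 : τ (Submodule.Quotient.mk q) = Submodule.Quotient.mk q := by
      show Submodule.Quotient.mk q - σ (gb (Submodule.Quotient.mk q)) = _
      rw [hgbq, map_zero, sub_zero]
    rw [← h2, hτ0]
  have hsepQ := iInf_smul_top_eq_bot (p := p) (R := R) Q
  have hgi : Function.Injective g := by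
    rw [← LinearMap.ker_eq_bot, LinearMap.ker_eq_bot']
    intro q hq
    have h : q ∈ ⨅ n : ℕ, In n • (⊤ : Submodule (𝕎 R) Q) :=
      Submodule.mem_iInf _ |>.2 fun n => hinj n q (by rw [hq]; exact zero_mem _)
    rwa [hsepQ, Submodule.mem_bot] at h
  have hgs : Function.Surjective g := by
    intro x
    choose qn hqn using fun n => hsurj n x
    have hmono : ∀ n, In (n + 1) ≤ In n := fun n y hy =>
      (WittVector.mem_ker_truncate n y).2 fun i hi =>
        (WittVector.mem_ker_truncate (n + 1) y).1 hy i (hi.trans n.lt_succ_self)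
    have hc : ∀ n, qn (n + 1) - qn n ∈ In n • (⊤ : Submodule (𝕎 R) Q) := fun n => hinj n _ (by
      rw [map_sub, ← sub_sub_sub_cancel_left (g (qn n)) (g (qn (n + 1))) x]
      exact sub_mem (hqn n) (Submodule.smul_mono (hmono n) le_rfl (hqn (n + 1))))
    have hL : ∀ i, ∃ L : 𝕎 R, ∀ n, L - (qn n : Fin d → 𝕎 R) i ∈ In n := fun i =>
      exists_limit _ fun n => by
        have h := Submodule.mem_map_of_mem (f := LinearMap.proj i ∘ₗ Q.subtype) (hc n)
        rw [Submodule.map_smul''] at h
        have h' := Submodule.smul_mono le_rfl le_top h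
        rw [smul_eq_mul, Ideal.mul_top] at h'
        exact h'
    choose L hL using hL
    refine ⟨r L, ?_⟩
    rw [← sub_eq_zero]
    have h : g (r L) - x ∈ ⨅ n : ℕ, In n • (⊤ : Submodule (𝕎 R) P) := by
      refine Submodule.mem_iInf _ |>.2 fun n => ?_
      have hd : L - (qn n : Fin d → 𝕎 R) ∈ In n • (⊤ : Submodule (𝕎 R) (Fin d → 𝕎 R)) := by
        rw [pi_eq_sum_univ' (L - (qn n : Fin d → 𝕎 R))]
        exact sum_mem fun i _ => Submodule.smul_mem_smul (hL i n) Submodule.mem_top
      have h2 := Submodule.mem_map_of_mem (f := g ∘ₗ r) hd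
      rw [Submodule.map_smul''] at h2
      have h3 := Submodule.smul_mono le_rfl le_top h2
      have hrq : r (qn n : Fin d → 𝕎 R) = qn n := LinearMap.congr_fun hr (qn n)
      rw [map_sub, LinearMap.comp_apply, LinearMap.comp_apply, hrq] at h3
      have h4 := sub_mem h3 (hqn n)
      rwa [sub_sub_sub_cancel_right] at h4
    rwa [hsep, Submodule.mem_bot] at h
  let E := LinearEquiv.ofBijective g ⟨hgi, hgs⟩
  exact ⟨Module.Finite.equiv E, Module.Projective.of_equiv E⟩

end Criterion

end Groth.Agent.H22.WittLift
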